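import Mathlib

/-!
# The multiplier of the alternating groups

A stem extension of `A_n`, `n ≠ 6, 7`, has kernel of order at most two: canonical lifts of the
three-cycles satisfy the Carmichael relations modulo a central involution.
-/

set_option linter.unusedSectionVars false

namespace Cfsg.Agent.Lib.Characters.AltMultiplier

open Equiv
open scoped commutatorElement

universe u

/-! ### Carmichael's bound -/

theorem carmichael_bound {G : Type u} [Group G] [Finite G] :
    ∀ (m : ℕ) (g : Fin m → G), (∀ i, g i ^ 3 = 1) → (∀ i j, i ≠ j → (g i * g j) ^ 2 = 1) →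
      2 * Nat.card (Subgroup.closure (Set.range g)) ≤ (m + 2).factorial := by
  intro m
  induction m with
  | zero =>
    intro g _ _
    rw [Set.range_eq_empty, Subgroup.closure_empty, Subgroup.card_bot]
    rfl
  | succ m ih =>
    intro g h3 h2
    set q := g (Fin.last m) with hq
    set g' : Fin m → G := fun i => g i.castSucc with hg'
    set H := Subgroup.closure (Set.range g') with hH
    have hH' := ih g' (fun i => h3 _) fun i j hij => h2 _ _ fun h => hij (Fin.castSucc_injective m h)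
    have q3 : q ^ 3 = 1 := h3 _
    have qinv : q⁻¹ = q * q := inv_eq_of_mul_eq_one_right (by rw [← mul_assoc, ← pow_three']; exact q3)
    have g3 : ∀ i, (g' i)⁻¹ = g' i * g' i := fun i =>
      inv_eq_of_mul_eq_one_right (by rw [← mul_assoc, ← pow_three']; exact h3 _)
    have mem : ∀ i, g' i ∈ H := fun i => Subgroup.subset_closure ⟨i, rfl⟩
    have sq : ∀ i, g' i * q * (g' i * q) = 1 := fun i => by
      rw [← pow_two]
      exact h2 i.castSucc (Fin.last m) (Fin.castSucc_lt_last i).ne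
    have swapq : ∀ i, q * g' i = (g' i)⁻¹ * q⁻¹ := fun i => by
      calc q * g' i = (g' i)⁻¹ * (g' i * q * (g' i * q)) * q⁻¹ := by group
        _ = (g' i)⁻¹ * q⁻¹ := by rw [sq, mul_one]
    have swapq' : ∀ i, q⁻¹ * (g' i)⁻¹ = g' i * q := fun i => by
      calc q⁻¹ * (g' i)⁻¹ = q⁻¹ * (g' i)⁻¹ * (g' i * q * (g' i * q)) := by rw [sq, mul_one]
        _ = g' i * q := by group
    have qg : ∀ i, q * (g' i)⁻¹ = (g' i)⁻¹ * (q ^ 2 * g' i) := fun i => by
      calc q * (g' i)⁻¹ = q * g' i * g' i := by rw [g3, mul_assoc]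
        _ = (g' i)⁻¹ * q⁻¹ * g' i := by rw [swapq]
        _ = (g' i)⁻¹ * (q ^ 2 * g' i) := by rw [qinv, ← pow_two, mul_assoc]
    have swapi : ∀ i k, i ≠ k → g' i * g' k = (g' k)⁻¹ * (g' i)⁻¹ := fun i k hik => by
      rw [← mul_inv_rev]
      refine (inv_eq_of_mul_eq_one_left ?_).symm
      rw [← pow_two]
      exact h2 i.castSucc k.castSucc fun h => hik (Fin.castSucc_injective m h)
    let R : Fin 3 ⊕ Fin m → G := Sum.elim (fun j => q ^ (j : ℕ)) fun i => q ^ 2 * g' i
    have hstep : ∀ r, ∀ k, ∃ r', ∃ h ∈ H, R r * g k = h * R r' := by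
      intro r k
      induction k using Fin.lastCases with
      | last =>
        rw [← hq]
        rcases r with j | i
        · fin_cases j
          · exact ⟨Sum.inl 1, 1, one_mem _, by simp [R]⟩
          · exact ⟨Sum.inl 2, 1, one_mem _, by simp [R, pow_two]⟩
          · exact ⟨Sum.inl 0, 1, one_mem _, by simpa [R, pow_succ] using q3⟩
        · refine ⟨Sum.inr i, (g' i)⁻¹, inv_mem (mem i), ?_⟩
          show q ^ 2 * g' i * q = (g' i)⁻¹ * (q ^ 2 * g' i)
          rw [mul_assoc, ← swapq', ← mul_assoc, show q ^ 2 * q⁻¹ = q by group, qg]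
      | cast k =>
        show ∃ r', ∃ h ∈ H, R r * g' k = h * R r'
        rcases r with j | i
        · fin_cases j
          · exact ⟨Sum.inl 0, g' k, mem k, by simp [R]⟩
          · refine ⟨Sum.inl 2, (g' k)⁻¹, inv_mem (mem k), ?_⟩
            show q ^ 1 * g' k = (g' k)⁻¹ * q ^ 2
            rw [pow_one, swapq, qinv, pow_two]
          · exact ⟨Sum.inr k, 1, one_mem _, by simp [R]⟩
        · by_cases hik : i = k
          · subst hik
            refine ⟨Sum.inl 1, g' i, mem i, ?_⟩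
            show q ^ 2 * g' i * g' i = g' i * q ^ 1
            rw [pow_one, mul_assoc, ← g3, pow_two, ← qinv, swapq']
          · refine ⟨Sum.inr i, g' k * (g' i)⁻¹, mul_mem (mem k) (inv_mem (mem i)), ?_⟩
            show q ^ 2 * g' i * g' k = g' k * (g' i)⁻¹ * (q ^ 2 * g' i)
            calc q ^ 2 * g' i * g' k = q⁻¹ * (g' i * g' k) := by rw [qinv, pow_two, mul_assoc]
              _ = (q⁻¹ * (g' k)⁻¹) * (g' i)⁻¹ := by rw [swapi i k hik, mul_assoc]
              _ = g' k * (q * (g' i)⁻¹) := by rw [swapq', mul_assoc]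
              _ = g' k * (g' i)⁻¹ * (q ^ 2 * g' i) := by rw [qg, mul_assoc (g' k)]
    have hcov : ∀ x ∈ Subgroup.closure (Set.range g), ∃ r, ∃ h ∈ H, x = h * R r := by
      intro x hx
      have hone : ∀ x r k, (∃ h ∈ H, x = h * R r) → ∃ r', ∃ h ∈ H, x * g k = h * R r' := by
        rintro x r k ⟨h, hh, rfl⟩
        obtain ⟨r', h', hh', he⟩ := hstep r k
        exact ⟨r', h * h', mul_mem hh hh', by rw [mul_assoc, he, mul_assoc]⟩
      induction hx using Subgroup.closure_induction_right with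
      | one => exact ⟨Sum.inl 0, 1, one_mem _, by simp [R]⟩
      | mul_right x _ y hy ih =>
        obtain ⟨k, rfl⟩ := hy
        obtain ⟨r, hr⟩ := ih
        exact hone x r k hr
      | mul_inv_cancel x _ y hy ih =>
        obtain ⟨k, rfl⟩ := hy
        obtain ⟨r, hr⟩ := ih
        obtain ⟨r', hr'⟩ := hone x r k hr
        rw [show (g k)⁻¹ = g k * g k from inv_eq_of_mul_eq_one_right
          (by rw [← mul_assoc, ← pow_three']; exact h3 k), ← mul_assoc]
        exact hone _ r' k hr'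
    choose r h hh hx using hcov
    have hle := Nat.card_le_card_of_injective
      (fun x : Subgroup.closure (Set.range g) =>
        ((⟨h x.1 x.2, hh x.1 x.2⟩ : H), r x.1 x.2)) (fun x y hxy => by
        obtain ⟨h1, h4⟩ := Prod.mk.inj hxy
        have h5 := congrArg Subtype.val h1
        dsimp only at h5
        exact Subtype.ext (by rw [hx x.1 x.2, hx y.1 y.2, h5, h4]))
    rw [Nat.card_prod, Nat.card_sum, Nat.card_fin, Nat.card_fin] at hle
    calc 2 * Nat.card (Subgroup.closure (Set.range g))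
        ≤ 2 * (Nat.card H * (3 + m)) := Nat.mul_le_mul_left 2 hle
      _ = (m + 3) * (2 * Nat.card H) := by ring
      _ ≤ (m + 3) * (m + 2).factorial := Nat.mul_le_mul_left _ hH'
      _ = (m + 1 + 2).factorial := by exact (Nat.factorial_succ (m + 2)).symm

/-! ### Centralizing the lift of a three-cycle -/

variable {n : ℕ}

/-- The three-cycle `(a b c)`. -/
def cyc (a b c : Fin n) : Perm (Fin n) := swap a c * swap a b

theorem cyc_three {a b c : Fin n} (hab : a ≠ b) (hac : a ≠ c) (hbc : b ≠ c) :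
    (cyc a b c).IsThreeCycle :=
  Perm.isThreeCycle_swap_mul_swap_same hac hab hbc.symm

theorem cyc_mem {a b c : Fin n} (hab : a ≠ b) (hac : a ≠ c) :
    cyc a b c ∈ alternatingGroup (Fin n) := by
  rw [Perm.mem_alternatingGroup, cyc, map_mul, Perm.sign_swap hac, Perm.sign_swap hab]
  rfl

theorem cyc_apply {a b c : Fin n} (hab : a ≠ b) (hac : a ≠ c) (hbc : b ≠ c) :
    cyc a b c a = b ∧ cyc a b c b = c ∧ cyc a b c c = a := by
  refine ⟨?_, ?_, ?_⟩
  · rw [cyc, Perm.mul_apply, swap_apply_left, swap_apply_of_ne_of_ne hab.symm hbc]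
  · rw [cyc, Perm.mul_apply, swap_apply_right, swap_apply_left]
  · rw [cyc, Perm.mul_apply, swap_apply_of_ne_of_ne hac.symm hbc.symm, swap_apply_right]

theorem cyc_fix {a b c d : Fin n} (ha : d ≠ a) (hb : d ≠ b) (hc : d ≠ c) : cyc a b c d = d := by
  rw [cyc, Perm.mul_apply, swap_apply_of_ne_of_ne ha hb, swap_apply_of_ne_of_ne ha hc]

theorem commute_decomp {a b c : Fin n} (hab : a ≠ b) (hac : a ≠ c) (hbc : b ≠ c) {σ : Perm (Fin n)}
    (hσ : σ * cyc a b c = cyc a b c * σ) : ∃ k : ℕ,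
      (cyc a b c ^ k * σ) a = a ∧ (cyc a b c ^ k * σ) b = b ∧ (cyc a b c ^ k * σ) c = c := by
  obtain ⟨h1, h2, h3⟩ := cyc_apply hab hac hbc
  have hmem : σ a = a ∨ σ a = b ∨ σ a = c := by
    by_contra hno
    push Not at hno
    have h4 := congrArg (fun τ : Perm (Fin n) => τ a) hσ
    simp only [Perm.mul_apply, h1, cyc_fix hno.1 hno.2.1 hno.2.2] at h4
    exact hab (σ.injective h4).symm
  obtain ⟨k, hk⟩ : ∃ k : ℕ, (cyc a b c ^ k * σ) a = a := by
    rcases hmem with h | h | h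
    · exact ⟨0, by simpa using h⟩
    · exact ⟨2, by simp [pow_two, h, h2, h3]⟩
    · exact ⟨1, by simp [h, h3]⟩
  have hc : (cyc a b c ^ k * σ) * cyc a b c = cyc a b c * (cyc a b c ^ k * σ) := by
    rw [mul_assoc, hσ, ← mul_assoc, ← mul_assoc, ← pow_succ, pow_succ']
  have hb : (cyc a b c ^ k * σ) b = b := by
    have h4 := congrArg (fun τ : Perm (Fin n) => τ a) hc
    simp only [Perm.mul_apply] at h4 hk ⊢
    rw [h1, hk, h1] at h4
    exact h4
  refine ⟨k, hk, hb, ?_⟩
  have h4 := congrArg (fun τ : Perm (Fin n) => τ b) hc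
  simp only [Perm.mul_apply] at h4 hb ⊢
  rw [h2, hb, h2] at h4
  exact h4

variable {Γ : Type u} [Group Γ] (π : Γ →* alternatingGroup (Fin n))

theorem centralizes_lift (hn : 5 ≤ n) (h6 : n ≠ 6) (h7 : n ≠ 7) (hsurj : Function.Surjective π)
    (hker : π.ker ≤ Subgroup.center Γ) {a b c : Fin n} (hab : a ≠ b) (hac : a ≠ c) (hbc : b ≠ c)
    {X : Γ} (hX : (π X : Perm (Fin n)) = cyc a b c) {u : Γ}
    (hu : (π u : Perm (Fin n)) * cyc a b c = cyc a b c * (π u : Perm (Fin n))) :
    u * X = X * u := by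
  classical
  obtain ⟨k, hka, hkb, hkc⟩ := commute_decomp hab hac hbc hu
  suffices h : ∀ v : Γ, (π v : Perm (Fin n)) a = a → (π v : Perm (Fin n)) b = b →
      (π v : Perm (Fin n)) c = c → Commute v X by
    have h1 := h (X ^ k * u) (by rw [map_mul, map_pow, Subgroup.coe_mul, SubgroupClass.coe_pow, hX];
                                 exact hka)
      (by rw [map_mul, map_pow, Subgroup.coe_mul, SubgroupClass.coe_pow, hX]; exact hkb)
      (by rw [map_mul, map_pow, Subgroup.coe_mul, SubgroupClass.coe_pow, hX]; exact hkc)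
    have h2 : Commute ((X ^ k)⁻¹ * (X ^ k * u)) X := ((Commute.pow_self X k).inv_left).mul_left h1
    rw [inv_mul_cancel_left] at h2
    exact h2
  intro v hva hvb hvc
  set p : Fin n → Prop := fun i => i ≠ a ∧ i ≠ b ∧ i ≠ c with hp
  have hcard : Nat.card (Subtype p) = n - 3 := by
    rw [Nat.card_eq_fintype_card, Fintype.card_subtype,
      show (Finset.univ.filter p) = Finset.univ \ {a, b, c} by ext; simp [hp],
      Finset.card_sdiff_of_subset (Finset.subset_univ _), Finset.card_univ, Fintype.card_fin,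
      Finset.card_insert_of_notMem (by simp [hab, hac]), Finset.card_pair hbc]
  let ι : alternatingGroup (Subtype p) →* alternatingGroup (Fin n) :=
    ((Perm.ofSubtype).comp (alternatingGroup (Subtype p)).subtype).codRestrict _ fun x => by
      rw [Perm.mem_alternatingGroup, MonoidHom.comp_apply, Perm.sign_ofSubtype]
      exact x.2
  have hrange : ∃ y, ι y = π v := by
    have hfix : ∀ i, ¬ p i → (π v : Perm (Fin n)) i = i := by
      intro i hi
      rw [hp] at hi
      by_cases h1 : i = a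
      · rw [h1, hva]
      by_cases h2 : i = b
      · rw [h2, hvb]
      by_cases h3 : i = c
      · rw [h3, hvc]
      exact absurd ⟨h1, h2, h3⟩ hi
    have hinv : ∀ i, p ((π v : Perm (Fin n)) i) ↔ p i := by
      intro i
      refine ⟨fun h => by_contra fun hi => hi (hfix i hi ▸ h), fun h => by_contra fun hi => ?_⟩
      have h1 := hfix _ hi
      have h2 : (π v : Perm (Fin n)) i = i := (π v : Perm (Fin n)).injective h1
      exact hi (h2.symm ▸ h)
    have heq := Perm.ofSubtype_subtypePerm (f := (π v : Perm (Fin n))) hinv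
      (fun x hx => by_contra fun hi => hx (hfix x hi))
    refine ⟨⟨(π v : Perm (Fin n)).subtypePerm hinv, ?_⟩, Subtype.ext heq⟩
    rw [Perm.mem_alternatingGroup, ← Perm.sign_ofSubtype, heq]
    exact (π v).2
  obtain ⟨y, hy⟩ := hrange
  rcases Nat.lt_or_ge n 8 with h8 | h8
  · -- the complement is too small to move
    have hn5 : n = 5 := by omega
    have hsub : Subsingleton (alternatingGroup (Subtype p)) := by
      refine (Finite.card_le_one_iff_subsingleton).mp ?_
      haveI : Nontrivial (Subtype p) := by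
        rw [← Finite.one_lt_card_iff_nontrivial, hcard]; omega
      rw [nat_card_alternatingGroup, hcard, hn5]
      rfl
    have hv : v ∈ π.ker := by
      rw [MonoidHom.mem_ker, ← hy, Subsingleton.elim y 1, map_one]
    exact ((Subgroup.mem_center_iff.mp (hker hv)) X).symm
  · have hperf : commutator (alternatingGroup (Subtype p)) = ⊤ :=
      commutator_alternatingGroup_eq_top (by rw [hcard]; omega)
    set S := Subgroup.comap π ι.range with hS
    have hmap : (⁅S, S⁆ : Subgroup Γ).map π = ι.range := by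
      rw [Subgroup.map_commutator, hS, Subgroup.map_comap_eq_self_of_surjective hsurj,
        MonoidHom.range_eq_map, ← Subgroup.map_commutator, ← commutator_def, hperf]
    have hcent : ⁅S, S⁆ ≤ Subgroup.centralizer {X} := by
      have hz : ∀ s ∈ S, ∃ z ∈ π.ker, s * X * s⁻¹ = z * X := by
        rintro s ⟨t, ht⟩
        refine ⟨s * X * s⁻¹ * X⁻¹, ?_, by group⟩
        have hcomm : π s * π X = π X * π s := by
          apply Subtype.ext
          rw [Subgroup.coe_mul, Subgroup.coe_mul, hX, ← ht]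
          refine Perm.Disjoint.commute (fun i => ?_)
          by_cases hi : p i
          · exact Or.inr (cyc_fix hi.1 hi.2.1 hi.2.2)
          · exact Or.inl (Perm.ofSubtype_apply_of_not_mem _ hi)
        rw [MonoidHom.mem_ker, map_mul, map_mul, map_mul, map_inv, map_inv, hcomm]
        group
      refine Subgroup.commutator_le.mpr fun s hs t ht => ?_
      obtain ⟨z, hz1, hzs⟩ := hz s⁻¹ (inv_mem hs)
      obtain ⟨w, hw1, hwt⟩ := hz t⁻¹ (inv_mem ht)
      have hzc := Subgroup.mem_center_iff.mp (hker hz1)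
      have hwc := Subgroup.mem_center_iff.mp (hker hw1)
      refine Subgroup.mem_centralizer_iff.mpr fun x hx => ?_
      rw [Set.mem_singleton_iff] at hx
      subst hx
      generalize hs' : s⁻¹ = s' at hzs
      generalize ht' : t⁻¹ = t' at hwt
      have key : s' * t' * x * (s' * t')⁻¹ = t' * s' * x * (t' * s')⁻¹ := by
        calc s' * t' * x * (s' * t')⁻¹ = s' * (t' * x * t'⁻¹) * s'⁻¹ := by group
          _ = w * (s' * x * s'⁻¹) := by rw [hwt, ← mul_assoc, hwc s']; group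
          _ = z * (w * x) := by rw [hzs, ← mul_assoc, hzc w, mul_assoc]
          _ = z * (t' * x * t'⁻¹) := by rw [hwt]
          _ = t' * (z * x) * t'⁻¹ := by rw [← mul_assoc t' z, hzc t']; group
          _ = t' * (s' * x * s'⁻¹) * t'⁻¹ := by rw [hzs]
          _ = t' * s' * x * (t' * s')⁻¹ := by group
      subst hs'
      subst ht'
      symm
      calc ⁅s, t⁆ * x
          = (t⁻¹ * s⁻¹)⁻¹ * (s⁻¹ * t⁻¹ * x * (s⁻¹ * t⁻¹)⁻¹) * (s⁻¹ * t⁻¹) := by
            rw [commutatorElement_def]; group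
        _ = (t⁻¹ * s⁻¹)⁻¹ * (t⁻¹ * s⁻¹ * x * (t⁻¹ * s⁻¹)⁻¹) * (s⁻¹ * t⁻¹) := by rw [key]
        _ = x * ⁅s, t⁆ := by rw [commutatorElement_def]; group
    obtain ⟨s, hs, hsv⟩ : π v ∈ (⁅S, S⁆ : Subgroup Γ).map π := hmap ▸ ⟨y, hy⟩
    have hk : s⁻¹ * v ∈ π.ker := by rw [MonoidHom.mem_ker, map_mul, map_inv, hsv, inv_mul_cancel]
    have h1 : Commute s X := (Subgroup.mem_centralizer_iff.mp (hcent hs) X rfl).symm
    have h2 : Commute (s⁻¹ * v) X := ((Subgroup.mem_center_iff.mp (hker hk)) X).symm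
    have h3 := h1.mul_left h2
    rwa [mul_inv_cancel_left] at h3

/-- Equivariant lifts of the three-cycles, inverted by inversion and of order dividing three. -/
theorem exists_lifts (hn : 5 ≤ n) (h6 : n ≠ 6) (h7 : n ≠ 7) (hsurj : Function.Surjective π)
    (hker : π.ker ≤ Subgroup.center Γ) :
    ∃ M : alternatingGroup (Fin n) → Γ, ∀ y : alternatingGroup (Fin n),
      (y : Perm (Fin n)).IsThreeCycle →
        π (M y) = y ∧ M y ^ 3 = 1 ∧ M y⁻¹ = (M y)⁻¹ ∧
          ∀ g : Γ, g * M y * g⁻¹ = M (π g * y * (π g)⁻¹) := by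
  classical
  let p : Fin 3 → Fin n := fun i => Fin.castLE (by omega) i
  have hp : ∀ i j : Fin 3, i ≠ j → p i ≠ p j := fun i j h => (Fin.castLE_injective _).ne h
  have h01 := hp 0 1 (by decide)
  have h02 := hp 0 2 (by decide)
  have h12 := hp 1 2 (by decide)
  let x0 : alternatingGroup (Fin n) := ⟨cyc (p 0) (p 1) (p 2), cyc_mem h01 h02⟩
  have hx0 : (x0 : Perm (Fin n)).IsThreeCycle := cyc_three h01 h02 h12
  obtain ⟨X, hX⟩ := hsurj x0
  have hconj : ∀ y : alternatingGroup (Fin n), (y : Perm (Fin n)).IsThreeCycle →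
      ∃ s : Γ, π s * x0 * (π s)⁻¹ = y := by
    intro y hy
    obtain ⟨σ, hσ⟩ := isConj_iff.mp
      (alternatingGroup.isThreeCycle_isConj (by rw [Nat.card_fin]; exact hn) hx0 hy)
    obtain ⟨s, rfl⟩ := hsurj σ
    exact ⟨s, hσ⟩
  let L : alternatingGroup (Fin n) → Γ := fun y =>
    if hy : (y : Perm (Fin n)).IsThreeCycle then
      (hconj y hy).choose * X * ((hconj y hy).choose)⁻¹ else 1
  have hwd : ∀ s s' : Γ, π s * x0 * (π s)⁻¹ = π s' * x0 * (π s')⁻¹ →
      s * X * s⁻¹ = s' * X * s'⁻¹ := by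
    intro s s' hss
    have h1 : (s'⁻¹ * s) * X = X * (s'⁻¹ * s) := by
      refine centralizes_lift π hn h6 h7 hsurj hker h01 h02 h12 (X := X) (by rw [hX]) ?_
      have h2 : π (s'⁻¹ * s) * x0 = x0 * π (s'⁻¹ * s) := by
        rw [map_mul, map_inv]
        calc (π s')⁻¹ * π s * x0 = (π s')⁻¹ * (π s * x0 * (π s)⁻¹) * π s := by group
          _ = (π s')⁻¹ * (π s' * x0 * (π s')⁻¹) * π s := by rw [hss]
          _ = x0 * ((π s')⁻¹ * π s) := by group
      exact congrArg Subtype.val h2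
    calc s * X * s⁻¹ = s' * ((s'⁻¹ * s) * X) * s⁻¹ := by group
      _ = s' * (X * (s'⁻¹ * s)) * s⁻¹ := by rw [h1]
      _ = s' * X * s'⁻¹ := by group
  have hLrep : ∀ (y : alternatingGroup (Fin n)) (s : Γ), (y : Perm (Fin n)).IsThreeCycle →
      π s * x0 * (π s)⁻¹ = y → L y = s * X * s⁻¹ := by
    intro y s hy hs
    simp only [L, dif_pos hy]
    exact hwd _ _ ((hconj y hy).choose_spec.trans hs.symm)
  have hπL : ∀ y : alternatingGroup (Fin n), (y : Perm (Fin n)).IsThreeCycle → π (L y) = y := by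
    intro y hy
    obtain ⟨s, hs⟩ := hconj y hy
    rw [hLrep y s hy hs, map_mul, map_mul, map_inv, hX, hs]
  have hcube : ∀ y : alternatingGroup (Fin n), (y : Perm (Fin n)).IsThreeCycle → L y ^ 3 = X ^ 3 := by
    intro y hy
    obtain ⟨s, hs⟩ := hconj y hy
    have hz : X ^ 3 ∈ Subgroup.center Γ := hker (by
      rw [MonoidHom.mem_ker, map_pow, hX, ← hx0.orderOf, Subgroup.orderOf_coe, pow_orderOf_eq_one])
    rw [hLrep y s hy hs, conj_pow, Subgroup.mem_center_iff.mp hz s, mul_inv_cancel_right]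
  have hequi : ∀ (g : Γ) (y : alternatingGroup (Fin n)), (y : Perm (Fin n)).IsThreeCycle →
      (((π g * y * (π g)⁻¹ : alternatingGroup (Fin n)) : Perm (Fin n))).IsThreeCycle ∧
        g * L y * g⁻¹ = L (π g * y * (π g)⁻¹) := by
    intro g y hy
    have h1 : (((π g * y * (π g)⁻¹ : alternatingGroup (Fin n)) : Perm (Fin n))).IsThreeCycle := by
      unfold Perm.IsThreeCycle
      rw [Subgroup.coe_mul, Subgroup.coe_mul, Subgroup.coe_inv, Perm.cycleType_conj]
      exact hy
    obtain ⟨s, hs⟩ := hconj y hy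
    refine ⟨h1, ?_⟩
    rw [hLrep y s hy hs, hLrep _ (g * s) h1 (by rw [map_mul, ← hs]; group)]
    group
  refine ⟨fun y => L y⁻¹ * (L y)⁻¹, fun y hy => ?_⟩
  have hy' : ((y⁻¹ : alternatingGroup (Fin n)) : Perm (Fin n)).IsThreeCycle := by
    rw [Subgroup.coe_inv]; exact hy.inv
  have hy3 : y ^ 3 = 1 := by rw [← hy.orderOf, Subgroup.orderOf_coe, pow_orderOf_eq_one]
  have hπM : π (L y⁻¹ * (L y)⁻¹) = y := by
    rw [map_mul, map_inv, hπL y hy, hπL _ hy']
    calc y⁻¹ * y⁻¹ = y * (y ^ 3)⁻¹ := by group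
      _ = y := by rw [hy3, inv_one, mul_one]
  have hcomm : Commute (L y⁻¹) (L y) := by
    have hz : L y⁻¹ * L y ∈ π.ker := by
      rw [MonoidHom.mem_ker, map_mul, hπL y hy, hπL _ hy', inv_mul_cancel]
    show L y⁻¹ * L y = L y * L y⁻¹
    exact (mul_right_cancel ((mul_assoc _ _ _).trans
      (Subgroup.mem_center_iff.mp (hker hz) (L y)))).symm
  refine ⟨hπM, ?_, ?_, fun g => ?_⟩
  · rw [hcomm.inv_right.mul_pow, inv_pow, hcube _ hy', hcube y hy, mul_inv_cancel]
  · show L y⁻¹⁻¹ * (L y⁻¹)⁻¹ = (L y⁻¹ * (L y)⁻¹)⁻¹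
    rw [inv_inv, mul_inv_rev, inv_inv]
  · show g * (L y⁻¹ * (L y)⁻¹) * g⁻¹ = L (π g * y * (π g)⁻¹)⁻¹ * (L (π g * y * (π g)⁻¹))⁻¹
    rw [← (hequi g y hy).2, show (π g * y * (π g)⁻¹)⁻¹ = π g * y⁻¹ * (π g)⁻¹ by group,
      ← (hequi g y⁻¹ hy').2]
    group

/-! ### Generation by the three-cycles through two points -/

theorem alt_le_of_mem {e₀ e₁ : Fin n} (he : e₀ ≠ e₁) (K : Subgroup (Perm (Fin n)))
    (hK : ∀ i, i ≠ e₀ → i ≠ e₁ → cyc e₀ e₁ i ∈ K) (hKA : K ≤ alternatingGroup (Fin n)) :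
    alternatingGroup (Fin n) ≤ K := by
  set s := swap e₀ e₁ with hs
  have hss : s * s = 1 := swap_mul_self _ _
  set H := Subgroup.closure {x | ∃ i, i ≠ e₀ ∧ i ≠ e₁ ∧ x = cyc e₀ e₁ i} with hH
  have hHK : H ≤ K := (Subgroup.closure_le K).mpr (by rintro _ ⟨i, h1, h2, rfl⟩; exact hK i h1 h2)
  have hmem : ∀ i, i ≠ e₀ → i ≠ e₁ → swap e₀ i * s ∈ H := fun i h1 h2 =>
    Subgroup.subset_closure ⟨i, h1, h2, rfl⟩
  have hnorm : ∀ x ∈ H, s * x * s ∈ H := by
    intro x hx
    induction hx using Subgroup.closure_induction with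
    | mem x hx =>
      obtain ⟨i, h1, h2, rfl⟩ := hx
      rw [show s * cyc e₀ e₁ i * s = (cyc e₀ e₁ i)⁻¹ by
        rw [cyc, ← hs, mul_inv_rev, hs, swap_inv, swap_inv, mul_assoc, mul_assoc, swap_mul_self,
          mul_one]]
      exact inv_mem (hmem i h1 h2)
    | one => rw [mul_one, hss]; exact one_mem _
    | mul x y _ _ ihx ihy =>
      rw [show s * (x * y) * s = (s * x * s) * (s * y * s) by
        simp only [mul_assoc]; rw [← mul_assoc s s, hss, one_mul]]
      exact mul_mem ihx ihy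
    | inv x _ ih =>
      rw [show s * x⁻¹ * s = (s * x * s)⁻¹ by
        rw [mul_inv_rev, mul_inv_rev, hs, swap_inv, mul_assoc]]
      exact inv_mem ih
  have hswap0 : ∀ i, i ≠ e₀ → swap e₀ i * s ∈ H := by
    intro i h1
    by_cases h2 : i = e₁
    · rw [h2, ← hs, hss]; exact one_mem _
    · exact hmem i h1 h2
  have hswap : ∀ a b, a ≠ b → swap a b * s ∈ H := by
    intro a b hab
    by_cases ha : a = e₀
    · subst ha; exact hswap0 b hab.symm
    by_cases hb : b = e₀
    · subst hb; rw [swap_comm]; exact hswap0 a hab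
    have h1 : swap a b = swap e₀ a * swap e₀ b * swap e₀ a := by
      conv_rhs => arg 2; rw [← swap_inv e₀ a]
      rw [← swap_apply_apply, swap_apply_left, swap_apply_of_ne_of_ne hb hab.symm]
    have h2 : swap a b * s = (swap e₀ a * s) * (swap e₀ b * s)⁻¹ * (swap e₀ a * s) := by
      rw [h1, mul_inv_rev, hs, swap_inv, swap_inv]
      simp only [mul_assoc]
      rw [← mul_assoc (swap e₀ e₁) (swap e₀ e₁), swap_mul_self, one_mul]
    rw [h2]
    exact mul_mem (mul_mem (hswap0 a ha) (inv_mem (hswap0 b hb))) (hswap0 a ha)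
  have hall : ∀ σ : Perm (Fin n), σ ∈ H ∨ σ * s ∈ H := by
    intro σ
    induction σ using Perm.swap_induction_on with
    | one => exact Or.inl (one_mem _)
    | swap_mul f a b hab ih =>
      have h1 := hswap a b hab
      rcases ih with hf | hf
      · right
        rw [show swap a b * f * s = (swap a b * s) * (s * f * s) by
          simp only [mul_assoc]; rw [← mul_assoc s s, hss, one_mul]]
        exact mul_mem h1 (hnorm f hf)
      · left
        rw [show swap a b * f = (swap a b * s) * (s * (f * s) * s) by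
          simp only [mul_assoc]; rw [← mul_assoc s s, hss, one_mul, mul_one]]
        exact mul_mem h1 (hnorm _ hf)
  intro σ hσ
  refine hHK ((hall σ).resolve_right fun h => ?_)
  have := hKA (hHK h)
  rw [Perm.mem_alternatingGroup] at hσ this
  rw [map_mul, hσ, one_mul, hs, Perm.sign_swap he] at this
  exact absurd this (by decide)

/-- Central quotients do not change the commutator subgroup. -/
theorem commutator_le_of_sup_eq_top {K Z : Subgroup Γ} (hZ : Z ≤ Subgroup.center Γ)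
    (h : ∀ g : Γ, ∃ k ∈ K, ∃ z ∈ Z, g = k * z) : commutator Γ ≤ K := by
  rw [commutator_def, Subgroup.commutator_le]
  intro g _ g' _
  obtain ⟨k, hk, z, hz, rfl⟩ := h g
  obtain ⟨k', hk', w, hw, rfl⟩ := h g'
  have hzc := Subgroup.mem_center_iff.mp (hZ hz)
  have hwc := Subgroup.mem_center_iff.mp (hZ hw)
  have : ⁅k * z, k' * w⁆ = ⁅k, k'⁆ := by
    rw [commutatorElement_def, commutatorElement_def, mul_inv_rev, mul_inv_rev]
    calc k * z * (k' * w) * (z⁻¹ * k⁻¹) * (w⁻¹ * k'⁻¹)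
        = k * (z * (k' * w)) * z⁻¹ * k⁻¹ * w⁻¹ * k'⁻¹ := by group
      _ = k * ((k' * w) * z) * z⁻¹ * k⁻¹ * w⁻¹ * k'⁻¹ := by rw [hzc]
      _ = k * k' * (w * k⁻¹) * w⁻¹ * k'⁻¹ := by group
      _ = k * k' * (k⁻¹ * w) * w⁻¹ * k'⁻¹ := by rw [hwc]
      _ = k * k' * k⁻¹ * k'⁻¹ := by group
  rw [this, commutatorElement_def]
  exact mul_mem (mul_mem (mul_mem hk hk') (inv_mem hk)) (inv_mem hk')

/-- The multiplier bound for `n ≥ 5`. -/
theorem card_ker_le_two [Finite Γ] (hn : 5 ≤ n) (h6 : n ≠ 6) (h7 : n ≠ 7)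
    (hsurj : Function.Surjective π) (hker : π.ker ≤ Subgroup.center Γ)
    (hd : π.ker ≤ commutator Γ) : Nat.card π.ker ≤ 2 := by
  classical
  obtain ⟨M, hM⟩ := exists_lifts π hn h6 h7 hsurj hker
  obtain ⟨m, rfl⟩ : ∃ m, n = m + 2 := ⟨n - 2, by omega⟩
  let e₀ : Fin (m + 2) := 0
  let e₁ : Fin (m + 2) := 1
  have he : e₀ ≠ e₁ := by simp [e₀, e₁]
  let x : {i : Fin (m + 2) // i ≠ e₀ ∧ i ≠ e₁} → alternatingGroup (Fin (m + 2)) := fun i =>
    ⟨cyc e₀ e₁ i, cyc_mem he i.2.1.symm⟩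
  have hx : ∀ i, (x i : Perm (Fin (m + 2))).IsThreeCycle := fun i =>
    cyc_three he i.2.1.symm i.2.2.symm
  let N : {i : Fin (m + 2) // i ≠ e₀ ∧ i ≠ e₁} → Γ := fun i => M (x i)
  let b : ∀ _i _j : {i : Fin (m + 2) // i ≠ e₀ ∧ i ≠ e₁}, Γ := fun i j => (N i * N j) ^ 2
  have hbker : ∀ i j, i ≠ j → b i j ∈ π.ker := by
    intro i j hij
    rw [MonoidHom.mem_ker, map_pow, map_mul, (hM _ (hx i)).1, (hM _ (hx j)).1]
    refine Subtype.ext ?_
    have h1 : (i : Fin (m + 2)) ≠ j := fun h => hij (Subtype.ext h)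
    have h2 : swap e₀ e₁ * swap e₀ (j : Fin (m + 2)) * swap e₀ e₁ = swap e₁ (j : Fin (m + 2)) := by
      conv_lhs => arg 2; rw [← swap_inv e₀ e₁]
      rw [← swap_apply_apply, swap_apply_left, swap_apply_of_ne_of_ne j.2.1 j.2.2]
    have h3 : cyc e₀ e₁ i * cyc e₀ e₁ j = swap e₀ (i : Fin (m + 2)) * swap e₁ (j : Fin (m + 2)) := by
      rw [cyc, cyc, ← h2]
      simp only [mul_assoc]
    have hd : Perm.Disjoint (swap e₀ (i : Fin (m + 2))) (swap e₁ (j : Fin (m + 2))) := by
      intro k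
      by_cases hk : k = e₀ ∨ k = i
      · right
        rcases hk with rfl | rfl
        · exact swap_apply_of_ne_of_ne he j.2.1.symm
        · exact swap_apply_of_ne_of_ne i.2.2 h1
      · left
        push Not at hk
        exact swap_apply_of_ne_of_ne hk.1 hk.2
    show ((cyc e₀ e₁ i * cyc e₀ e₁ j) ^ 2 : Perm (Fin (m + 2))) = 1
    rw [h3, hd.commute.mul_pow, pow_two, pow_two, swap_mul_self, swap_mul_self, one_mul]
  have hbsymm : ∀ i j, i ≠ j → b i j = b j i := by
    intro i j hij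
    have hc := Subgroup.mem_center_iff.mp (hker (hbker i j hij)) (N i)⁻¹
    calc b i j = (N i)⁻¹ * b i j * N i := by rw [hc, inv_mul_cancel_right]
      _ = b j i := by simp only [b, pow_two]; group
  have hmove : ∀ (σ : alternatingGroup (Fin (m + 2))), (σ : Perm (Fin (m + 2))) e₀ = e₀ →
      (σ : Perm (Fin (m + 2))) e₁ = e₁ → ∀ i i' j j' : {i : Fin (m + 2) // i ≠ e₀ ∧ i ≠ e₁},
      (σ : Perm (Fin (m + 2))) i = i' → (σ : Perm (Fin (m + 2))) j = j' → i ≠ j →
        b i j = b i' j' := by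
    intro σ h0 h1 i i' j j' hi hj hij
    obtain ⟨g, rfl⟩ := hsurj σ
    have key : ∀ k k' : {i : Fin (m + 2) // i ≠ e₀ ∧ i ≠ e₁},
        (π g : Perm (Fin (m + 2))) k = k' → g * N k * g⁻¹ = N k' := by
      intro k k' hk
      show g * M (x k) * g⁻¹ = M (x k')
      rw [(hM _ (hx k)).2.2.2 g]
      congr 1
      refine Subtype.ext ?_
      show (π g : Perm (Fin (m + 2))) * (swap e₀ (k : Fin (m + 2)) * swap e₀ e₁) *
        (π g : Perm (Fin (m + 2)))⁻¹ = swap e₀ (k' : Fin (m + 2)) * swap e₀ e₁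
      rw [← conj_mul, ← swap_apply_apply, ← swap_apply_apply, h0, h1, hk]
    calc b i j = g * b i j * g⁻¹ := by
          rw [Subgroup.mem_center_iff.mp (hker (hbker i j hij)) g, mul_inv_cancel_right]
      _ = (g * N i * g⁻¹ * (g * N j * g⁻¹)) ^ 2 := by simp only [b]; rw [conj_mul, conj_pow]
      _ = b i' j' := by rw [key i i' hi, key j j' hj]
  have hrot : ∀ i j l, i ≠ j → j ≠ l → i ≠ l → b i j = b j l := by
    intro i j l hij hjl hil
    have hij' : (i : Fin (m + 2)) ≠ j := fun h => hij (Subtype.ext h)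
    have hjl' : (j : Fin (m + 2)) ≠ l := fun h => hjl (Subtype.ext h)
    have hil' : (i : Fin (m + 2)) ≠ l := fun h => hil (Subtype.ext h)
    obtain ⟨c1, c2, -⟩ := cyc_apply hij' hil' hjl'
    exact hmove ⟨_, cyc_mem hij' hil'⟩ (cyc_fix i.2.1.symm j.2.1.symm l.2.1.symm)
      (cyc_fix i.2.2.symm j.2.2.symm l.2.2.symm) i j j l c1 c2 hij
  have hcard2 : Fintype.card {i : Fin (m + 2) // i ≠ e₀ ∧ i ≠ e₁} = m := by
    rw [Fintype.card_subtype, show (Finset.univ.filter fun i : Fin (m + 2) => i ≠ e₀ ∧ i ≠ e₁) =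
      Finset.univ \ {e₀, e₁} by ext; simp, Finset.card_sdiff_of_subset (Finset.subset_univ _),
      Finset.card_univ, Fintype.card_fin, Finset.card_pair he]
    omega
  let E := (Fintype.equivFinOfCardEq hcard2).symm
  let i0 := E ⟨0, by omega⟩
  let j0 := E ⟨1, by omega⟩
  have hij0 : i0 ≠ j0 := E.injective.ne (by simp)
  set d := b i0 j0 with hdd
  have hconst : ∀ i j, i ≠ j → b i j = d := by
    -- move one index at a time
    have hstep : ∀ i j l, i ≠ j → i ≠ l → b i j = b i l := by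
      intro i j l hij hil
      by_cases hjl : j = l
      · rw [hjl]
      calc b i j = b j i := hbsymm i j hij
        _ = b i l := hrot j i l hij.symm hil hjl
    intro i j hij
    by_cases h1 : i = j0
    · subst h1
      calc b j0 j = b j0 i0 := hstep _ _ _ hij hij0.symm
        _ = d := hbsymm _ _ hij0.symm
    · calc b i j = b i j0 := hstep _ _ _ hij h1
        _ = b j0 i := hbsymm _ _ h1
        _ = b j0 i0 := hstep _ _ _ (Ne.symm h1) hij0.symm
        _ = d := hbsymm _ _ hij0.symm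
  have hdd2 : d * d = 1 := by
    have hij' : (i0 : Fin (m + 2)) ≠ j0 := fun h => hij0 (Subtype.ext h)
    set w : Perm (Fin (m + 2)) := swap e₀ e₁ * swap (i0 : Fin (m + 2)) j0 with hw
    have hwA : w ∈ alternatingGroup (Fin (m + 2)) := by
      rw [Perm.mem_alternatingGroup, hw, map_mul, Perm.sign_swap he, Perm.sign_swap hij']
      rfl
    obtain ⟨g, hg⟩ := hsurj ⟨w, hwA⟩
    have hw0 : w e₀ = e₁ := by
      rw [hw, Perm.mul_apply, swap_apply_of_ne_of_ne i0.2.1.symm j0.2.1.symm, swap_apply_left]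
    have hw1 : w e₁ = e₀ := by
      rw [hw, Perm.mul_apply, swap_apply_of_ne_of_ne i0.2.2.symm j0.2.2.symm, swap_apply_right]
    have key : ∀ k k' : {i : Fin (m + 2) // i ≠ e₀ ∧ i ≠ e₁}, w k = k' →
        g * N k * g⁻¹ = (N k')⁻¹ := by
      intro k k' hk
      show g * M (x k) * g⁻¹ = (M (x k'))⁻¹
      rw [(hM _ (hx k)).2.2.2 g, ← (hM _ (hx k')).2.2.1, hg]
      congr 1
      refine Subtype.ext ?_
      show w * (swap e₀ (k : Fin (m + 2)) * swap e₀ e₁) * w⁻¹ =
        (swap e₀ (k' : Fin (m + 2)) * swap e₀ e₁)⁻¹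
      rw [← conj_mul, ← swap_apply_apply, ← swap_apply_apply, hw0, hw1, hk, mul_inv_rev, swap_inv,
        swap_inv, swap_comm e₁ e₀]
      have h2 : swap e₀ e₁ * swap e₀ (k' : Fin (m + 2)) * swap e₀ e₁ =
          swap e₁ (k' : Fin (m + 2)) := by
        conv_lhs => arg 2; rw [← swap_inv e₀ e₁]
        rw [← swap_apply_apply, swap_apply_left, swap_apply_of_ne_of_ne k'.2.1 k'.2.2]
      rw [← h2, mul_assoc, swap_mul_self, mul_one]
    have hwi : w i0 = j0 := by
      rw [hw, Perm.mul_apply, swap_apply_left, swap_apply_of_ne_of_ne j0.2.1 j0.2.2]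
    have hwj : w j0 = i0 := by
      rw [hw, Perm.mul_apply, swap_apply_right, swap_apply_of_ne_of_ne i0.2.1 i0.2.2]
    have h1 : d = d⁻¹ := by
      calc d = g * d * g⁻¹ := by
            rw [Subgroup.mem_center_iff.mp (hker (hbker i0 j0 hij0)) g, mul_inv_cancel_right]
        _ = (g * N i0 * g⁻¹ * (g * N j0 * g⁻¹)) ^ 2 := by
            rw [hdd]; simp only [b]; rw [conj_mul, conj_pow]
        _ = d⁻¹ := by
            rw [key i0 j0 hwi, key j0 i0 hwj, ← mul_inv_rev, inv_pow]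
    conv_lhs => arg 1; rw [h1]
    rw [inv_mul_cancel]
  -- the group is generated by the lifts and `d`
  set D := Subgroup.zpowers d with hD
  have hDc : D ≤ π.ker := Subgroup.zpowers_le.mpr (hbker i0 j0 hij0)
  haveI hDn : D.Normal := ⟨fun z hz g => by
    rw [Subgroup.mem_center_iff.mp (hker (hDc hz)) g, mul_inv_cancel_right]; exact hz⟩
  set K := Subgroup.closure (Set.range N) with hK
  have hgen : ∀ γ : Γ, ∃ k ∈ K, ∃ z ∈ π.ker, γ = k * z := by
    intro γ
    have h1 := alt_le_of_mem he ((K.map π).map (alternatingGroup (Fin (m + 2))).subtype)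
      (fun i h0 h1 => ⟨x ⟨i, h0, h1⟩, ⟨N ⟨i, h0, h1⟩, Subgroup.subset_closure ⟨_, rfl⟩,
        (hM _ (hx _)).1⟩, rfl⟩)
      (Subgroup.map_subtype_le _) (π γ).2
    obtain ⟨y, ⟨k, hk, rfl⟩, hy⟩ := h1
    refine ⟨k, hk, k⁻¹ * γ, ?_, (mul_inv_cancel_left k γ).symm⟩
    rw [MonoidHom.mem_ker, map_mul, map_inv,
      show π k = π γ from Subtype.ext hy, inv_mul_cancel]
  have hKtop : ∀ γ : Γ, γ ∈ K := by
    intro γ
    obtain ⟨k, hk, z, hz, rfl⟩ := hgen γ
    exact mul_mem hk (commutator_le_of_sup_eq_top hker hgen (hd hz))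
  let q := QuotientGroup.mk' D
  let gq : Fin m → Γ ⧸ D := fun k => q (N (E k))
  have hbound := carmichael_bound m gq (fun k => by
      show q (N (E k)) ^ 3 = 1
      rw [← map_pow, (hM _ (hx _)).2.1, map_one]) fun k l hkl => by
    show (q (N (E k)) * q (N (E l))) ^ 2 = 1
    rw [← map_mul, ← map_pow]
    exact (QuotientGroup.eq_one_iff _).mpr (by
      rw [show (N (E k) * N (E l)) ^ 2 = d from hconst _ _ (E.injective.ne hkl)]
      exact Subgroup.mem_zpowers d)
  have hclos : Subgroup.closure (Set.range gq) = ⊤ := by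
    rw [show Set.range gq = q '' Set.range N by
      rw [← Set.range_comp]; exact E.surjective.range_comp (q ∘ N), ← MonoidHom.map_closure,
      show Subgroup.closure (Set.range N) = ⊤ from eq_top_iff.mpr fun γ _ => hKtop γ,
      Subgroup.map_top_of_surjective q (QuotientGroup.mk'_surjective D)]
  rw [hclos, Subgroup.card_top] at hbound
  have hA : 2 * Nat.card (alternatingGroup (Fin (m + 2))) = (m + 2).factorial := by
    rw [two_mul_nat_card_alternatingGroup, Nat.card_perm, Nat.card_fin]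
  have hG := Subgroup.card_eq_card_quotient_mul_card_subgroup D
  have hG2 := Subgroup.card_eq_card_quotient_mul_card_subgroup π.ker
  rw [Nat.card_congr (QuotientGroup.quotientKerEquivOfSurjective π hsurj).toEquiv] at hG2
  have hD2 : Nat.card D ≤ 2 := by
    rw [hD, Nat.card_zpowers]
    exact orderOf_le_of_pow_eq_one (by norm_num) (by rw [pow_two]; exact hdd2)
  refine Nat.le_of_mul_le_mul_left ?_
    (show 0 < Nat.card (alternatingGroup (Fin (m + 2))) from Nat.card_pos)
  rw [← hG2, hG]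
  exact Nat.mul_le_mul (by omega) hD2

/-! ### The case of four letters -/

theorem ker_eq_bot_of_commute {Γ : Type u} [Group Γ] [Finite Γ]
    (π : Γ →* alternatingGroup (Fin 4)) (hsurj : Function.Surjective π)
    (hker : π.ker ≤ Subgroup.center Γ) (hd : π.ker ≤ commutator Γ)
    {a c : alternatingGroup (Fin 4)} {x : alternatingGroup (Fin 4)}
    (hK : ∀ u v : alternatingGroup (Fin 4), (u = 1 ∨ u = a ∨ u = c ∨ u = a * c) →
      (v = 1 ∨ v = a ∨ v = c ∨ v = a * c) → (u * v⁻¹ = 1 ∨ u * v⁻¹ = a ∨ u * v⁻¹ = c ∨ u * v⁻¹ = a * c))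
    (hnor : ∀ g u : alternatingGroup (Fin 4), (u = 1 ∨ u = a ∨ u = c ∨ u = a * c) →
      (g * u * g⁻¹ = 1 ∨ g * u * g⁻¹ = a ∨ g * u * g⁻¹ = c ∨ g * u * g⁻¹ = a * c))
    (hdec : ∀ y : alternatingGroup (Fin 4), ∃ i : Fin 3,
      y * (x ^ (i : ℕ))⁻¹ = 1 ∨ y * (x ^ (i : ℕ))⁻¹ = a ∨ y * (x ^ (i : ℕ))⁻¹ = c ∨
        y * (x ^ (i : ℕ))⁻¹ = a * c)
    (hder : ∀ u : alternatingGroup (Fin 4), (u = 1 ∨ u = a ∨ u = c ∨ u = a * c) →
      ∃ g g' : alternatingGroup (Fin 4), ⁅g, g'⁆ = u)
    {A C : Γ} (hA : π A = a) (hC : π C = c) (hAC : Commute A C) : π.ker = ⊥ := by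
  obtain ⟨X, hX⟩ := hsurj x
  set P : Subgroup Γ :=
    { carrier := {g | π g = 1 ∨ π g = a ∨ π g = c ∨ π g = a * c}
      one_mem' := Or.inl (map_one π)
      mul_mem' := fun {g g'} hg hg' => by
        have h1 := hK 1 (π g') (Or.inl rfl) hg'
        have h2 := hK (π g) (1 * (π g')⁻¹) hg h1
        show π (g * g') = 1 ∨ π (g * g') = a ∨ π (g * g') = c ∨ π (g * g') = a * c
        rw [one_mul, inv_inv, ← map_mul] at h2
        exact h2
      inv_mem' := fun {g} hg => by
        have h1 := hK 1 (π g) (Or.inl rfl) hg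
        show π g⁻¹ = 1 ∨ π g⁻¹ = a ∨ π g⁻¹ = c ∨ π g⁻¹ = a * c
        rw [map_inv]
        rw [one_mul] at h1
        exact h1 } with hP
  have hmemP : ∀ g, g ∈ P ↔ (π g = 1 ∨ π g = a ∨ π g = c ∨ π g = a * c) := fun g => Iff.rfl
  have hform : ∀ g ∈ P, ∃ z ∈ π.ker, g = z ∨ g = A * z ∨ g = C * z ∨ g = A * C * z := by
    intro g hg
    rcases (hmemP g).mp hg with h | h | h | h
    · exact ⟨g, h, Or.inl rfl⟩
    · exact ⟨A⁻¹ * g, by rw [MonoidHom.mem_ker, map_mul, map_inv, hA, h, inv_mul_cancel],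
        Or.inr (Or.inl (mul_inv_cancel_left A g).symm)⟩
    · exact ⟨C⁻¹ * g, by rw [MonoidHom.mem_ker, map_mul, map_inv, hC, h, inv_mul_cancel],
        Or.inr (Or.inr (Or.inl (mul_inv_cancel_left C g).symm))⟩
    · exact ⟨(A * C)⁻¹ * g, by rw [MonoidHom.mem_ker, map_mul, map_inv, map_mul, hA, hC, h, inv_mul_cancel],
        Or.inr (Or.inr (Or.inr (mul_inv_cancel_left (A * C) g).symm))⟩
  have hzc : ∀ z ∈ π.ker, ∀ g, Commute g z := fun z hz g => Subgroup.mem_center_iff.mp (hker hz) g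
  have hPA : ∀ g ∈ P, Commute g A ∧ Commute g C := by
    intro g hg
    obtain ⟨z, hz, rfl | rfl | rfl | rfl⟩ := hform g hg
    · exact ⟨(hzc _ hz A).symm, (hzc _ hz C).symm⟩
    · exact ⟨(Commute.refl A).mul_left (hzc _ hz A).symm, hAC.mul_left (hzc _ hz C).symm⟩
    · exact ⟨hAC.symm.mul_left (hzc _ hz A).symm, (Commute.refl C).mul_left (hzc _ hz C).symm⟩
    · exact ⟨((Commute.refl A).mul_left hAC.symm).mul_left (hzc _ hz A).symm,
        (hAC.mul_left (Commute.refl C)).mul_left (hzc _ hz C).symm⟩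
  have hPcomm : ∀ g ∈ P, ∀ g' ∈ P, Commute g g' := by
    intro g hg g' hg'
    obtain ⟨hgA, hgC⟩ := hPA g hg
    obtain ⟨z, hz, rfl | rfl | rfl | rfl⟩ := hform g' hg'
    · exact hzc _ hz g
    · exact hgA.mul_right (hzc _ hz g)
    · exact hgC.mul_right (hzc _ hz g)
    · exact (hgA.mul_right hgC).mul_right (hzc _ hz g)
  have hPn : ∀ g, ∀ p ∈ P, g * p * g⁻¹ ∈ P := by
    intro g p hp
    rw [hmemP, map_mul, map_mul, map_inv]
    exact hnor _ _ hp
  let φ : P →* P := MonoidHom.mk'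
    (fun p => ⟨(p : Γ) * (X * (p : Γ)⁻¹ * X⁻¹), mul_mem p.2 (hPn X _ (inv_mem p.2))⟩) fun p q => by
      refine Subtype.ext ?_
      show (p : Γ) * q * (X * ((p : Γ) * q)⁻¹ * X⁻¹) =
        (p : Γ) * (X * (p : Γ)⁻¹ * X⁻¹) * ((q : Γ) * (X * (q : Γ)⁻¹ * X⁻¹))
      have hc := hPcomm _ (hPn X _ (inv_mem p.2)) _ (mul_mem q.2 (hPn X _ (inv_mem q.2)))
      rw [mul_assoc (p : Γ) (X * (p : Γ)⁻¹ * X⁻¹), hc.eq]
      group
  set I : Subgroup Γ := φ.range.map P.subtype with hI
  have hIP : I ≤ P := Subgroup.map_subtype_le _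
  have hgdec : ∀ g : Γ, ∃ p ∈ P, ∃ k : ℕ, g = p * X ^ k := by
    intro g
    obtain ⟨i, hi⟩ := hdec (π g)
    refine ⟨g * (X ^ (i : ℕ))⁻¹, ?_, i, (inv_mul_cancel_right g _).symm⟩
    rw [hmemP, map_mul, map_inv, map_pow, hX]
    exact hi
  have hIX : ∀ y ∈ I, X * y * X⁻¹ ∈ I := by
    rintro _ ⟨_, ⟨p, rfl⟩, rfl⟩
    refine ⟨φ ⟨X * p * X⁻¹, hPn X _ p.2⟩, ⟨_, rfl⟩, ?_⟩
    show X * (p : Γ) * X⁻¹ * (X * (X * (p : Γ) * X⁻¹)⁻¹ * X⁻¹) =
      X * ((p : Γ) * (X * (p : Γ)⁻¹ * X⁻¹)) * X⁻¹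
    group
  haveI hIn : I.Normal := ⟨fun y hy g => by
    obtain ⟨p, hp, k, rfl⟩ := hgdec g
    have h1 : ∀ k : ℕ, X ^ k * y * (X ^ k)⁻¹ ∈ I := by
      intro k
      induction k with
      | zero => simpa using hy
      | succ k ih =>
        rw [show X ^ (k + 1) * y * (X ^ (k + 1))⁻¹ = X * (X ^ k * y * (X ^ k)⁻¹) * X⁻¹ by
          rw [pow_succ']; group]
        exact hIX _ ih
    rw [show p * X ^ k * y * (p * X ^ k)⁻¹ = p * (X ^ k * y * (X ^ k)⁻¹) * p⁻¹ by group,
      (hPcomm p hp _ (hIP (h1 k))).eq, mul_inv_cancel_right]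
    exact h1 k⟩
  have hcomI : commutator Γ ≤ I := by
    have hXp : ∀ p ∈ P, Commute (QuotientGroup.mk' I p) (QuotientGroup.mk' I X) := by
      intro p hp
      have h1 : QuotientGroup.mk' I (p * (X * p⁻¹ * X⁻¹)) = 1 :=
        (QuotientGroup.eq_one_iff _).mpr ⟨φ ⟨p, hp⟩, ⟨_, rfl⟩, rfl⟩
      show QuotientGroup.mk' I p * QuotientGroup.mk' I X = QuotientGroup.mk' I X * QuotientGroup.mk' I p
      rw [map_mul, map_mul, map_mul, map_inv, map_inv] at h1
      calc QuotientGroup.mk' I p * QuotientGroup.mk' I X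
          = QuotientGroup.mk' I p * (QuotientGroup.mk' I X * (QuotientGroup.mk' I p)⁻¹ *
              (QuotientGroup.mk' I X)⁻¹) * (QuotientGroup.mk' I X * QuotientGroup.mk' I p) := by group
        _ = QuotientGroup.mk' I X * QuotientGroup.mk' I p := by rw [h1, one_mul]
    rw [commutator_def, Subgroup.commutator_le]
    intro g _ g' _
    obtain ⟨p, hp, k, rfl⟩ := hgdec g
    obtain ⟨p', hp', k', rfl⟩ := hgdec g'
    refine (QuotientGroup.eq_one_iff _).mp ?_
    show QuotientGroup.mk' I ⁅p * X ^ k, p' * X ^ k'⁆ = 1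
    rw [map_commutatorElement, commutatorElement_eq_one_iff_commute, map_mul, map_mul, map_pow,
      map_pow]
    refine ((Commute.map (hPcomm p hp p' hp') _).mul_right ((hXp p hp).pow_right k')).mul_left ?_
    exact ((hXp p' hp').symm.pow_left k).mul_right (Commute.pow_pow (Commute.refl _) k k')
  have hsurjφ : Function.Surjective φ := by
    intro p
    obtain ⟨g, g', hgg⟩ := hder (π p) p.2
    obtain ⟨s, rfl⟩ := hsurj g
    obtain ⟨s', rfl⟩ := hsurj g'
    have hz : (⁅s, s'⁆ : Γ)⁻¹ * p ∈ π.ker := by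
      rw [MonoidHom.mem_ker, map_mul, map_inv, map_commutatorElement, hgg, inv_mul_cancel]
    have hmem : (p : Γ) ∈ I := hcomI (by
      have := mul_mem (Subgroup.commutator_mem_commutator (Subgroup.mem_top s) (Subgroup.mem_top s'))
        (hd hz)
      rwa [mul_inv_cancel_left] at this)
    obtain ⟨q, ⟨r, hr⟩, hq⟩ := hmem
    exact ⟨r, hr.trans (Subtype.ext hq)⟩
  have hinj := Finite.injective_iff_surjective.mpr hsurjφ
  refine (Subgroup.eq_bot_iff_forall _).mpr fun z hz => ?_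
  have h1 : φ ⟨z, Or.inl hz⟩ = φ 1 := by
    rw [map_one]
    refine Subtype.ext ?_
    show z * (X * z⁻¹ * X⁻¹) = 1
    rw [(hzc _ (inv_mem hz) X).eq, mul_inv_cancel_right, mul_inv_cancel]
  exact congrArg Subtype.val (hinj h1)

theorem card_ker_le_two_four {Γ : Type u} [Group Γ] [Finite Γ]
    (π : Γ →* alternatingGroup (Fin 4)) (hsurj : Function.Surjective π)
    (hker : π.ker ≤ Subgroup.center Γ) (hd : π.ker ≤ commutator Γ) : Nat.card π.ker ≤ 2 := by
  let a : alternatingGroup (Fin 4) := ⟨swap 0 1 * swap 2 3, Perm.mem_alternatingGroup.mpr (by decide)⟩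
  let c : alternatingGroup (Fin 4) := ⟨swap 0 2 * swap 1 3, Perm.mem_alternatingGroup.mpr (by decide)⟩
  let x : alternatingGroup (Fin 4) := ⟨swap 0 2 * swap 0 1, Perm.mem_alternatingGroup.mpr (by decide)⟩
  obtain ⟨A, hA⟩ := hsurj a
  obtain ⟨C, hC⟩ := hsurj c
  have hac : a * c = c * a := by decide +kernel
  have haa : a * a = 1 := by decide +kernel
  set d := ⁅A, C⁆ with hdd
  have hdk : d ∈ π.ker := by
    rw [MonoidHom.mem_ker, map_commutatorElement, hA, hC, commutatorElement_eq_one_iff_mul_comm]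
    exact hac
  have hdc := Subgroup.mem_center_iff.mp (hker hdk)
  have hd2 : d ^ 2 = 1 := by
    have hAA : A * A ∈ π.ker := by rw [MonoidHom.mem_ker, map_mul, hA, haa]
    have hc := Subgroup.mem_center_iff.mp (hker hAA) C
    have h1 : A * C * A⁻¹ = d * C := by rw [hdd, commutatorElement_def]; group
    calc d ^ 2 = d * (d * C) * C⁻¹ := by rw [pow_two]; group
      _ = d * (A * C * A⁻¹) * C⁻¹ := by rw [h1]
      _ = A * d * C * A⁻¹ * C⁻¹ := by rw [← mul_assoc, ← mul_assoc, hdc A]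
      _ = A * (A * C * A⁻¹) * A⁻¹ * C⁻¹ := by rw [h1]; group
      _ = (A * A) * C * (C * (A * A))⁻¹ := by group
      _ = 1 := by rw [hc, mul_inv_cancel]
  set D := Subgroup.zpowers d with hD
  have hDk : D ≤ π.ker := Subgroup.zpowers_le.mpr hdk
  haveI hDn : D.Normal := ⟨fun z hz g => by
    rw [Subgroup.mem_center_iff.mp (hker (hDk hz)) g, mul_inv_cancel_right]; exact hz⟩
  let π' := QuotientGroup.lift D π hDk
  have hk' : ∀ y, y ∈ π'.ker → ∃ z ∈ π.ker, QuotientGroup.mk' D z = y := by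
    intro y hy
    obtain ⟨z, rfl⟩ := QuotientGroup.mk'_surjective D y
    exact ⟨z, hy, rfl⟩
  have hbot := ker_eq_bot_of_commute π'
    (fun y => by obtain ⟨g, rfl⟩ := hsurj y; exact ⟨QuotientGroup.mk' D g, rfl⟩)
    (fun y hy => by
      obtain ⟨z, hz, rfl⟩ := hk' y hy
      refine Subgroup.mem_center_iff.mpr fun g => ?_
      obtain ⟨g, rfl⟩ := QuotientGroup.mk'_surjective D g
      rw [← map_mul, ← map_mul, Subgroup.mem_center_iff.mp (hker hz) g])
    (fun y hy => by
      obtain ⟨z, hz, rfl⟩ := hk' y hy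
      have h1 : QuotientGroup.mk' D z ∈ (commutator Γ).map (QuotientGroup.mk' D) := ⟨z, hd hz, rfl⟩
      rw [commutator_def, Subgroup.map_commutator] at h1
      exact Subgroup.commutator_mono le_top le_top h1)
    (a := a) (c := c) (x := x) (by decide +kernel) (by decide +kernel) (by decide +kernel)
    (by decide +kernel)
    (A := QuotientGroup.mk' D A) (C := QuotientGroup.mk' D C) hA hC
    (commutatorElement_eq_one_iff_commute.mp (by
      rw [← map_commutatorElement]
      exact (QuotientGroup.eq_one_iff _).mpr (Subgroup.mem_zpowers d)))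
  have hle : π.ker ≤ D := fun z hz => by
    have h1 : QuotientGroup.mk' D z ∈ π'.ker := hz
    rw [hbot, Subgroup.mem_bot] at h1
    exact (QuotientGroup.eq_one_iff z).mp h1
  refine le_trans (Subgroup.card_le_of_le hle) ?_
  rw [hD, Nat.card_zpowers]
  exact orderOf_le_of_pow_eq_one (by norm_num) hd2

/-- The multiplier of `A_n` has order at most two for `n ≠ 6, 7`. -/
theorem card_le_two {Γ : Type u} [Group Γ] [Finite Γ] (hn : 4 ≤ n) (h6 : n ≠ 6) (h7 : n ≠ 7)
    (Z : Subgroup Γ) [Z.Normal] (hZc : Z ≤ Subgroup.center Γ) (hZd : Z ≤ commutator Γ)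
    (e : Γ ⧸ Z ≃* alternatingGroup (Fin n)) : Nat.card Z ≤ 2 := by
  set π : Γ →* alternatingGroup (Fin n) := e.toMonoidHom.comp (QuotientGroup.mk' Z) with hπ
  have hk : π.ker = Z := by
    ext g
    rw [MonoidHom.mem_ker, hπ, MonoidHom.comp_apply, MulEquiv.coe_toMonoidHom, map_eq_one_iff _ e.injective]
    exact QuotientGroup.eq_one_iff g
  have hs : Function.Surjective π := e.surjective.comp (QuotientGroup.mk'_surjective Z)
  rw [← hk]
  rw [← hk] at hZc hZd
  rcases Nat.lt_or_ge n 5 with h | h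
  · obtain rfl : n = 4 := by omega
    exact card_ker_le_two_four π hs hZc hZd
  · exact card_ker_le_two π h h6 h7 hs hZc hZd

end Cfsg.Agent.Lib.Characters.AltMultiplier
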