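import Cfsg.Agent.Lib.Characters.Ortho
import Mathlib.RingTheory.IntegralClosure.IntegrallyClosed
import Mathlib.RingTheory.Norm.Transitivity
import Mathlib.FieldTheory.IntermediateField.Adjoin.Basic
import Mathlib.Algebra.MonoidAlgebra.Module
import Mathlib.FieldTheory.PrimitiveElement
import Mathlib.RingTheory.Polynomial.RationalRoot
import Mathlib.RingTheory.Int.Basic

/-!
# Integrality: central characters, degree divides order, averages of roots of unity
-/

namespace Cfsg.Agent.Lib.Characters

open Module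
open scoped ComplexConjugate

set_option linter.unusedSectionVars false
set_option linter.unusedSimpArgs false
set_option linter.style.haveILetI false

universe u v

/-- A rational number integral over `ℤ` is an integer. -/
theorem exists_int_of_isIntegral_rat {q : ℚ} (h : IsIntegral ℤ (q : ℂ)) : ∃ z : ℤ, q = z := by
  have h' : IsIntegral ℤ ((algebraMap ℚ ℂ) q) := by simpa using h
  rw [isIntegral_algebraMap_iff (algebraMap ℚ ℂ).injective] at h'
  obtain ⟨z, hz⟩ := IsIntegrallyClosed.isIntegral_iff.mp h'
  exact ⟨z, by simpa using hz.symm⟩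

/-- If a quotient of naturals is an algebraic integer, it is a natural number. -/
theorem dvd_of_isIntegral_div {a b : ℕ} (hb : b ≠ 0) (h : IsIntegral ℤ ((a : ℂ) / b)) : b ∣ a := by
  obtain ⟨z, hz⟩ := exists_int_of_isIntegral_rat (q := (a : ℚ) / b) (by push_cast; exact h)
  have : (a : ℤ) = z * b := by
    have hb' : (b : ℚ) ≠ 0 := by exact_mod_cast hb
    field_simp at hz
    exact_mod_cast hz.trans (mul_comm _ _)
  exact Int.natCast_dvd_natCast.mp ⟨z, this.trans (mul_comm _ _)⟩

/-- If an average of roots of unity is an algebraic integer, it is zero or has absolute value one. -/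
theorem sum_roots_eq_zero_or_norm_eq {ι : Type*} [Fintype ι] {n : ℕ} (hn : n ≠ 0) (μ : ι → ℂ)
    (hμ : ∀ i, μ i ^ n = 1) (hint : IsIntegral ℤ ((∑ i, μ i) / (Fintype.card ι : ℂ))) :
    (∑ i, μ i) = 0 ∨ ‖∑ i, μ i‖ = (Fintype.card ι : ℝ) := by
  classical
  rcases Nat.eq_zero_or_pos (Fintype.card ι) with h0 | hpos
  · left
    haveI := Fintype.card_eq_zero_iff.mp h0
    simp
  let K := IntermediateField.adjoin ℚ (Set.range μ)
  haveI : FiniteDimensional ℚ K := by
    refine IntermediateField.finiteDimensional_adjoin ?_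
    rintro x ⟨i, rfl⟩
    exact IsIntegral.of_pow (Nat.pos_of_ne_zero hn) ((hμ i).symm ▸ isIntegral_one)
  let ν : ι → K := fun i => ⟨μ i, IntermediateField.subset_adjoin ℚ _ ⟨i, rfl⟩⟩
  let a : K := (∑ i, ν i) / (Fintype.card ι : K)
  have ha : (a : ℂ) = (∑ i, μ i) / (Fintype.card ι : ℂ) := by simp [a, ν]
  have haint : IsIntegral ℤ a :=
    (isIntegral_algHom_iff ((K.val).restrictScalars ℤ) K.val.injective).mp
      (by simpa [ha] using hint)
  have hnormint : IsIntegral ℤ (Algebra.norm ℚ a) := Algebra.isIntegral_norm ℚ haint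
  obtain ⟨z, hz⟩ := IsIntegrallyClosed.isIntegral_iff.mp hnormint
  have hprod := Algebra.norm_eq_prod_embeddings ℚ ℂ a
  by_cases hz0 : z = 0
  · left
    have ha0 : a = 0 := Algebra.norm_eq_zero_iff.mp (by rw [← hz, hz0, map_zero])
    rw [ha0, ZeroMemClass.coe_zero] at ha
    exact (div_eq_zero_iff.mp ha.symm).resolve_right (by exact_mod_cast hpos.ne')
  · right
    have hle : ∀ σ : K →ₐ[ℚ] ℂ, ‖σ a‖ ≤ 1 := by
      intro σ
      simp only [a, map_div₀, map_sum, map_natCast, norm_div, Complex.norm_natCast]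
      rw [div_le_one (by exact_mod_cast hpos)]
      refine (norm_sum_le _ _).trans ?_
      have : ∀ i, ‖σ (ν i)‖ = 1 := fun i => norm_eq_one_of_pow_eq_one' hn (by
        rw [← map_pow, show ν i ^ n = 1 from Subtype.ext (by simpa [ν] using hμ i), map_one])
      simp [this]
    have hge : 1 ≤ ∏ σ : K →ₐ[ℚ] ℂ, ‖σ a‖ := by
      rw [← norm_prod, ← hprod, ← hz]
      simpa using (by exact_mod_cast Int.one_le_abs hz0 : (1 : ℝ) ≤ |(z : ℝ)|)
    have hone : ∀ σ : K →ₐ[ℚ] ℂ, ‖σ a‖ = 1 := by
      intro σ
      refine le_antisymm (hle σ) ?_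
      rw [← Finset.mul_prod_erase _ _ (Finset.mem_univ σ)] at hge
      refine hge.trans (mul_le_of_le_one_right (norm_nonneg _) ?_)
      exact Finset.prod_le_one (fun τ _ => norm_nonneg _) fun τ _ => hle τ
    have h1 : ‖(a : ℂ)‖ = 1 := hone K.val
    rw [ha, norm_div,
      Complex.norm_natCast, div_eq_one_iff_eq (by exact_mod_cast hpos.ne')] at h1
    exact h1

variable {G : Type u} [Group G] {V : Type v} [AddCommGroup V] [Module ℂ V] [FiniteDimensional ℂ V]

open scoped Classical in
/-- The central character value `|C| χ(g) / χ(1)` is an algebraic integer. -/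
theorem isIntegral_centralChar [Fintype G] (ρ : Representation ℂ G V) [ρ.IsIrreducible] (g : G) :
    IsIntegral ℤ ((Nat.card {x : G // IsConj g x} : ℂ) * ρ.character g / (finrank ℂ V : ℂ)) := by
  let f : G → ℂ := classIndicator g
  obtain ⟨c, hc⟩ :=
    exists_smul_of_commute ρ (opSum ρ f) (opSum_comm ρ f (isClassFunction_classIndicator g))
  haveI := nontrivial_of_isIrreducible ρ
  have hint : IsIntegral ℤ (opSum ρ f) := by
    let φ : MonoidAlgebra ℤ G →ₐ[ℤ] Module.End ℂ V := MonoidAlgebra.lift ℤ _ G ρ
    have himg : opSum ρ f = φ (∑ x ∈ Finset.univ.filter (IsConj g), MonoidAlgebra.single x (1 : ℤ)) := by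
      simp only [φ, map_sum, MonoidAlgebra.lift_single, one_smul, opSum, f]
      rw [Finset.sum_filter]
      refine Finset.sum_congr rfl fun x _ => ?_
      unfold classIndicator
      split_ifs <;> simp
    rw [himg]
    exact (Algebra.IsIntegral.isIntegral _).map φ
  have htr : (Nat.card {x : G // IsConj g x} : ℂ) * ρ.character g = c * (finrank ℂ V : ℂ) := by
    have h := congrArg (LinearMap.trace ℂ V) hc
    rw [trace_opSum, map_smul, LinearMap.trace_id, smul_eq_mul] at h
    rw [← h]
    have : ∀ x : G, f x * ρ.character x = if IsConj g x then ρ.character g else 0 := by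
      intro x
      simp only [f, classIndicator]
      split_ifs with hx
      · rw [one_mul, ← IsClassFunction.eq_of_isConj
          (IsCharacter.isClassFunction (isCharacter_of_rep ρ)) hx]
      · rw [zero_mul]
    rw [Finset.sum_congr rfl fun x _ => this x, ← Finset.sum_filter, Finset.sum_const,
      nsmul_eq_mul, Nat.card_eq_fintype_card, Fintype.card_subtype]
  rw [htr, mul_div_assoc, div_self (by exact_mod_cast (finrank_pos_of_isIrreducible ρ).ne'), mul_one]
  have hc' : opSum ρ f = algebraMap ℂ (Module.End ℂ V) c := by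
    rw [hc, Algebra.algebraMap_eq_smul_one, Module.End.one_eq_id]
  rw [hc'] at hint
  exact (isIntegral_algHom_iff ((Algebra.ofId ℂ (Module.End ℂ V)).restrictScalars ℤ)
    (algebraMap ℂ (Module.End ℂ V)).injective).mp hint

theorem IsIrrCharacter.isIntegral_centralChar [Finite G] {χ : G → ℂ} (hχ : IsIrrCharacter G χ)
    (g : G) : IsIntegral ℤ ((Nat.card {x : G // IsConj g x} : ℂ) * χ g / χ 1) := by
  haveI := Fintype.ofFinite G
  obtain ⟨n, ρ, hρ, rfl⟩ := hχ
  rw [ρ.char_one]
  exact Characters.isIntegral_centralChar ρ g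

/-- The degree of an irreducible representation divides the order of the group. -/
theorem finrank_dvd_card [Finite G] (ρ : Representation ℂ G V) [ρ.IsIrreducible] :
    finrank ℂ V ∣ Nat.card G := by
  classical
  haveI := Fintype.ofFinite G
  haveI : Finite (ConjClasses G) := Finite.of_surjective _ ConjClasses.mk_surjective
  haveI := Fintype.ofFinite (ConjClasses G)
  have hd := finrank_pos_of_isIrreducible ρ
  have hn : (finrank ℂ V : ℂ) ≠ 0 := by exact_mod_cast hd.ne'
  refine dvd_of_isIntegral_div hd.ne' ?_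
  have h1 := IsIrrCharacter.classInner_self (isIrrCharacter_of_rep ρ)
  rw [classInner, inv_mul_eq_one₀ natCard_ne_zero_complex] at h1
  rw [h1, ← Finset.sum_fiberwise Finset.univ ConjClasses.mk, Finset.sum_div]
  refine IsIntegral.sum _ fun C _ => ?_
  obtain ⟨g, rfl⟩ := ConjClasses.mk_surjective C
  have hval : ∀ x ∈ Finset.univ.filter (fun x => ConjClasses.mk x = ConjClasses.mk g),
      ρ.character x * conj (ρ.character x) = ρ.character g * conj (ρ.character g) := by
    intro x hx
    have : IsConj x g := ConjClasses.mk_eq_mk_iff_isConj.mp (Finset.mem_filter.mp hx).2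
    rw [IsClassFunction.eq_of_isConj (IsCharacter.isClassFunction (isCharacter_of_rep ρ)) this]
  rw [Finset.sum_congr rfl hval, Finset.sum_const, nsmul_eq_mul, ← mul_assoc, mul_div_right_comm]
  refine IsIntegral.mul ?_ ?_
  · have : (Finset.univ.filter (fun x => ConjClasses.mk x = ConjClasses.mk g)).card =
        Nat.card {x : G // IsConj g x} := by
      rw [Nat.card_eq_fintype_card, Fintype.card_subtype]
      congr 1
      ext x
      simp only [Finset.mem_filter, Finset.mem_univ, true_and, ConjClasses.mk_eq_mk_iff_isConj,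
        isConj_comm]
    rw [this]
    exact isIntegral_centralChar ρ g
  · rw [← char_inv]
    exact char_isIntegral ρ _

theorem IsIrrCharacter.exists_degree_dvd [Finite G] {χ : G → ℂ} (hχ : IsIrrCharacter G χ) :
    ∃ n : ℕ, 0 < n ∧ χ 1 = n ∧ n ∣ Nat.card G := by
  obtain ⟨m, ρ, hρ, rfl⟩ := hχ
  exact ⟨_, finrank_pos_of_isIrreducible ρ, ρ.char_one, finrank_dvd_card ρ⟩

/-- Burnside: if the degree is coprime to the class size, the value is zero or maximal. -/
theorem char_eq_zero_or_norm_eq_of_coprime [Finite G] (ρ : Representation ℂ G V) [ρ.IsIrreducible]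
    (g : G) (hcop : Nat.Coprime (finrank ℂ V) (Nat.card {x : G // IsConj g x})) :
    ρ.character g = 0 ∨ ‖ρ.character g‖ = (finrank ℂ V : ℝ) := by
  haveI := Fintype.ofFinite G
  have hd := finrank_pos_of_isIrreducible ρ
  obtain ⟨ι, _, b, μ, hb, hμ⟩ := exists_eigenbasis (ρ g) Nat.card_pos.ne' (rep_pow_card ρ g)
  have htr : ρ.character g = ∑ i, μ i := trace_eq_sum_eigen b (ρ g) μ hb
  have hcard := finrank_eq_card_basis b
  obtain ⟨a, c, hac⟩ := Nat.isCoprime_iff_coprime.mpr hcop
  have hint : IsIntegral ℤ ((∑ i, μ i) / (Fintype.card ι : ℂ)) := by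
    rw [← htr, ← hcard]
    have hne : (finrank ℂ V : ℂ) ≠ 0 := by exact_mod_cast hd.ne'
    have e : ρ.character g / (finrank ℂ V : ℂ) = (a : ℂ) * ρ.character g +
        (c : ℂ) * ((Nat.card {x : G // IsConj g x} : ℂ) * ρ.character g / (finrank ℂ V : ℂ)) := by
      have h2 : (a : ℂ) * (finrank ℂ V : ℂ) + c * (Nat.card {x : G // IsConj g x} : ℂ) = 1 := by
        exact_mod_cast hac
      field_simp
      linear_combination (-(ρ.character g)) * h2
    rw [e]
    exact ((isIntegral_algebraMap (R := ℤ) (x := a)).mul (char_isIntegral ρ g)).add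
      ((isIntegral_algebraMap (R := ℤ) (x := c)).mul (isIntegral_centralChar ρ g))
  have := sum_roots_eq_zero_or_norm_eq Nat.card_pos.ne' μ hμ hint
  rwa [← htr, ← hcard] at this

end Cfsg.Agent.Lib.Characters
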