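import Cfsg.Agent.Lib.Characters.Ortho

/-!
# Consequences of Schur's lemma: scalar class sums, convolution of characters
-/

namespace Cfsg.Agent.Lib.Characters

open Module
open scoped ComplexConjugate

set_option linter.unusedSectionVars false
set_option linter.unusedSimpArgs false
set_option linter.style.haveILetI false

universe u v

variable {G : Type u} [Group G] [Fintype G]

section Rep

variable {V : Type v} [AddCommGroup V] [Module ℂ V] [FiniteDimensional ℂ V]

/-- The scalar by which `opSum ρ f` acts for a class function `f` and irreducible `ρ`. -/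
theorem opSum_eq_smul (ρ : Representation ℂ G V) [ρ.IsIrreducible] {f : G → ℂ}
    (hf : IsClassFunction G f) :
    opSum ρ f = ((∑ g, f g * ρ.character g) / (finrank ℂ V : ℂ)) •
      (LinearMap.id : V →ₗ[ℂ] V) := by
  obtain ⟨c, hc⟩ := exists_smul_of_commute ρ (opSum ρ f) (opSum_comm ρ f hf)
  have h := congrArg (LinearMap.trace ℂ V) hc
  rw [trace_opSum, map_smul, LinearMap.trace_id, smul_eq_mul] at h
  rw [hc, h, mul_div_assoc,
    div_self (by exact_mod_cast (finrank_pos_of_isIrreducible ρ).ne'), mul_one]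

/-- `∑ x, f x χ(a x) = χ(a) / χ(1) ∑ x, f x χ(x)` for a class function `f`. -/
theorem sum_mul_char_translate (ρ : Representation ℂ G V) [ρ.IsIrreducible] {f : G → ℂ}
    (hf : IsClassFunction G f) (a : G) :
    ∑ x, f x * ρ.character (a * x) =
      ρ.character a / (finrank ℂ V : ℂ) * ∑ x, f x * ρ.character x := by
  have h : LinearMap.trace ℂ V (ρ a * opSum ρ f) = ∑ x, f x * ρ.character (a * x) := by
    simp only [opSum, Finset.mul_sum, mul_smul_comm, map_sum, map_smul, smul_eq_mul, ← map_mul]
    rfl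
  rw [← h, opSum_eq_smul ρ hf, ← Module.End.one_eq_id, mul_smul_comm, mul_one, map_smul,
    smul_eq_mul]
  show _ * ρ.character a = _
  ring

end Rep

theorem IsIrrCharacter.sum_mul_translate {χ : G → ℂ} (hχ : IsIrrCharacter G χ) {f : G → ℂ}
    (hf : IsClassFunction G f) (a : G) :
    ∑ x, f x * χ (a * x) = χ a / χ 1 * ∑ x, f x * χ x := by
  obtain ⟨n, ρ, hρ, rfl⟩ := hχ
  rw [ρ.char_one]
  exact sum_mul_char_translate ρ hf a

theorem sum_classIndicator_mul (b : G) {φ : G → ℂ} (hφ : IsClassFunction G φ) :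
    ∑ x, classIndicator b x * φ x = (Nat.card {x : G // IsConj b x} : ℂ) * φ b := by
  classical
  have : ∀ x : G, classIndicator b x * φ x = if IsConj b x then φ b else 0 := fun x => by
    unfold classIndicator
    split_ifs with h
    · rw [one_mul, IsClassFunction.eq_of_isConj hφ h]
    · rw [zero_mul]
  rw [Finset.sum_congr rfl fun x _ => this x, ← Finset.sum_filter, Finset.sum_const,
    nsmul_eq_mul, Nat.card_eq_fintype_card, Fintype.card_subtype]

/-- The class sum identity: the central character is multiplicative. -/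
theorem IsIrrCharacter.sum_class_translate {χ : G → ℂ} (hχ : IsIrrCharacter G χ) (a b : G) :
    ∑ x, classIndicator b x * χ (a * x) =
      (Nat.card {x : G // IsConj b x} : ℂ) * χ a * χ b / χ 1 := by
  rw [IsIrrCharacter.sum_mul_translate hχ (isClassFunction_classIndicator b),
    sum_classIndicator_mul b (IsCharacter.isClassFunction (IsIrrCharacter.isCharacter hχ))]
  ring

/-- Averaging `χ(a g b g⁻¹)` over the group. -/
theorem IsIrrCharacter.sum_conj_translate {χ : G → ℂ} (hχ : IsIrrCharacter G χ) (a b : G) :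
    ∑ g : G, χ (a * (g * b * g⁻¹)) = (Nat.card G : ℂ) / χ 1 * (χ a * χ b) := by
  classical
  have hfib : ∀ y : G, ((Finset.univ.filter fun g : G => g * b * g⁻¹ = y).card : ℂ) =
      (Nat.card (Subgroup.centralizer ({b} : Set G)) : ℂ) * classIndicator b y := by
    intro y
    unfold classIndicator
    split_ifs with h
    · obtain ⟨c, rfl⟩ := isConj_iff.mp h
      rw [mul_one, Nat.card_eq_fintype_card, Nat.cast_inj, ← Fintype.card_subtype]
      refine Fintype.card_congr ((Equiv.mulLeft c⁻¹).subtypeEquiv fun g => ?_)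
      simp only [Equiv.coe_mulLeft, Subgroup.mem_centralizer_singleton_iff]
      constructor
      · intro hg
        calc c⁻¹ * g * b = c⁻¹ * (g * b * g⁻¹) * g := by group
          _ = c⁻¹ * (c * b * c⁻¹) * g := by rw [hg]
          _ = b * (c⁻¹ * g) := by group
      · intro hg
        calc g * b * g⁻¹ = c * (c⁻¹ * g * b) * g⁻¹ := by group
          _ = c * (b * (c⁻¹ * g)) * g⁻¹ := by rw [hg]
          _ = c * b * c⁻¹ := by group
    · rw [mul_zero, Nat.cast_eq_zero, Finset.card_eq_zero, Finset.filter_eq_empty_iff]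
      exact fun g _ hg => h (isConj_iff.mpr ⟨g, hg⟩)
  rw [← Finset.sum_fiberwise_of_maps_to (g := fun g : G => g * b * g⁻¹)
    (fun g _ => Finset.mem_univ _) (fun g => χ (a * (g * b * g⁻¹)))]
  have hconst : ∀ y : G, ∑ g ∈ Finset.univ.filter (fun g : G => g * b * g⁻¹ = y),
      χ (a * (g * b * g⁻¹)) = (Nat.card (Subgroup.centralizer ({b} : Set G)) : ℂ) *
        (classIndicator b y * χ (a * y)) := fun y => by
    rw [Finset.sum_congr rfl fun g hg => by rw [(Finset.mem_filter.mp hg).2], Finset.sum_const,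
      nsmul_eq_mul, hfib]
    ring
  rw [Finset.sum_congr rfl fun y _ => hconst y, ← Finset.mul_sum,
    IsIrrCharacter.sum_class_translate hχ]
  have hc : (Nat.card {x : G // IsConj b x} : ℂ) *
      Nat.card (Subgroup.centralizer ({b} : Set G)) = Nat.card G := by
    exact_mod_cast card_conj_mul_card_centralizer b
  rw [← hc]
  ring

open scoped Classical in
/-- Generalised orthogonality: the convolution of two irreducible characters. -/
theorem IsIrrCharacter.sum_mul_convolution {χ ψ : G → ℂ} (hχ : IsIrrCharacter G χ)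
    (hψ : IsIrrCharacter G ψ) (g : G) :
    ∑ h : G, χ h * ψ (h⁻¹ * g) = if χ = ψ then (Nat.card G : ℂ) / χ 1 * χ g else 0 := by
  have hcl : IsClassFunction G (fun h => χ h⁻¹) := fun x y => by
    show χ (y * x * y⁻¹)⁻¹ = χ x⁻¹
    rw [← IsCharacter.conj_apply (IsIrrCharacter.isCharacter hχ) x⁻¹ y]
    group
  have h1 : ∑ h : G, χ h * ψ (h⁻¹ * g) = ∑ h : G, χ h⁻¹ * ψ (g * h) := by
    refine Fintype.sum_equiv (Equiv.inv G) _ _ fun h => ?_
    simp only [Equiv.inv_apply, inv_inv]
    rw [← IsCharacter.conj_apply (IsIrrCharacter.isCharacter hψ) (g * h⁻¹) h⁻¹]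
    congr 2
    group
  rw [h1, IsIrrCharacter.sum_mul_translate hψ hcl g]
  have h2 : ∑ x : G, χ x⁻¹ * ψ x = (Nat.card G : ℂ) * classInner χ ψ := by
    rw [classInner_eq_sum_inv (IsIrrCharacter.isCharacter hψ), ← mul_assoc,
      mul_inv_cancel₀ natCard_ne_zero_complex, one_mul]
    exact Fintype.sum_equiv (Equiv.inv G) _ _ fun x => by simp
  rw [h2]
  split_ifs with h
  · subst h
    rw [IsIrrCharacter.classInner_self hχ]
    ring
  · rw [IsIrrCharacter.classInner_ne hχ hψ h]
    ring

theorem classIndicator_eq_sum [Fintype (IrrCharacter G)] (b y : G) :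
    classIndicator b y = ∑ χ : IrrCharacter G,
      (Nat.card {x : G // IsConj b x} : ℂ) / (Nat.card G : ℂ) *
        ((χ : G → ℂ) b * conj ((χ : G → ℂ) y)) := by
  have h := congrFun (eq_sum_classInner (isClassFunction_classIndicator b)) y
  simp only [Finset.sum_apply, Pi.smul_apply, smul_eq_mul,
    classInner_classIndicator b (irr_isClassFunction _)] at h
  have hreal : conj (classIndicator b y) = classIndicator b y := by
    unfold classIndicator
    split_ifs <;> simp
  rw [← hreal, h, map_sum]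
  refine Finset.sum_congr rfl fun χ _ => ?_
  rw [map_mul, map_mul, map_div₀, map_natCast, map_natCast, Complex.conj_conj]
  ring

/-- The class multiplication constants. -/
theorem card_class_mul [Fintype (IrrCharacter G)] (a b c : G) :
    (Nat.card {p : G × G // IsConj a p.1 ∧ IsConj b p.2 ∧ p.1 * p.2 = c} : ℂ) =
      (Nat.card {x : G // IsConj a x} : ℂ) * (Nat.card {x : G // IsConj b x} : ℂ) /
        (Nat.card G : ℂ) *
      ∑ χ : IrrCharacter G,
        (χ : G → ℂ) a * (χ : G → ℂ) b * conj ((χ : G → ℂ) c) / (χ : G → ℂ) 1 := by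
  classical
  have hp : ∀ p : {p : G × G // IsConj a p.1 ∧ IsConj b p.2 ∧ p.1 * p.2 = c},
      p.1.1⁻¹ * c = p.1.2 := fun p => inv_mul_eq_iff_eq_mul.mpr p.2.2.2.symm
  have e : {p : G × G // IsConj a p.1 ∧ IsConj b p.2 ∧ p.1 * p.2 = c} ≃
      {x : G // IsConj a x ∧ IsConj b (x⁻¹ * c)} :=
    { toFun := fun p => ⟨p.1.1, p.2.1, (hp p).symm ▸ p.2.2.1⟩
      invFun := fun x => ⟨(x.1, x.1⁻¹ * c), x.2.1, x.2.2, mul_inv_cancel_left _ _⟩
      left_inv := fun p => Subtype.ext (Prod.ext rfl (hp p))
      right_inv := fun x => rfl }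
  have h1 : (Nat.card {x : G // IsConj a x ∧ IsConj b (x⁻¹ * c)} : ℂ) =
      ∑ x, classIndicator a x * classIndicator b (x⁻¹ * c) := by
    rw [Nat.card_eq_fintype_card, Fintype.card_subtype, ← Finset.sum_boole]
    refine Finset.sum_congr rfl fun x _ => ?_
    by_cases ha : IsConj a x <;> by_cases hb : IsConj b (x⁻¹ * c) <;>
      simp only [classIndicator, ha, hb, and_true, and_false, if_true, if_false, mul_one, mul_zero]
  rw [Nat.card_congr e, h1]
  simp only [classIndicator_eq_sum b, Finset.mul_sum]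
  rw [Finset.sum_comm]
  refine Finset.sum_congr rfl fun χ _ => ?_
  have hχ := irr_isCharacter χ
  have h3 : ∀ x : G, conj ((χ : G → ℂ) (x⁻¹ * c)) = (χ : G → ℂ) (c⁻¹ * x) := fun x => by
    rw [← IsCharacter.apply_inv hχ]
    congr 1
    group
  have h4 : ∀ x : G, classIndicator a x * ((Nat.card {x : G // IsConj b x} : ℂ) /
      (Nat.card G : ℂ) * ((χ : G → ℂ) b * conj ((χ : G → ℂ) (x⁻¹ * c)))) =
      (Nat.card {x : G // IsConj b x} : ℂ) / (Nat.card G : ℂ) * (χ : G → ℂ) b *
        (classIndicator a x * (χ : G → ℂ) (c⁻¹ * x)) := fun x => by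
    rw [h3]; ring
  rw [Finset.sum_congr rfl fun x _ => h4 x, ← Finset.mul_sum,
    IsIrrCharacter.sum_class_translate χ.2, IsCharacter.apply_inv hχ c]
  ring

end Cfsg.Agent.Lib.Characters
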