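import Cfsg.Agent.Lib.Characters.Integrality
import Cfsg.Agent.Lib.Characters.Convolution
import Mathlib.GroupTheory.Abelianization.Defs
import Mathlib.GroupTheory.QuotientGroup.Basic

/-!
# Kernels of characters, inflation, linear characters, Brauer's permutation lemma, Burnside
-/

namespace Cfsg.Agent.Lib.Characters

open Module
open scoped ComplexConjugate

set_option linter.unusedSectionVars false
set_option linter.unusedSimpArgs false
set_option linter.style.haveILetI false

universe u v w

variable {G : Type u} [Group G]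

/-- The kernel of a character. -/
def charKernel {χ : G → ℂ} [Finite G] (hχ : IsCharacter G χ) : Subgroup G where
  carrier := {g | χ g = χ 1}
  one_mem' := rfl
  mul_mem' := by
    obtain ⟨n, ρ, rfl⟩ := hχ
    intro a b ha hb
    rw [Set.mem_ofPred_eq, ρ.char_one, char_eq_finrank_iff] at ha hb ⊢
    rw [map_mul, ha, hb]
    rfl
  inv_mem' := by
    intro a ha
    simp only [Set.mem_ofPred_eq] at ha ⊢
    obtain ⟨n, hn⟩ := IsCharacter.exists_apply_one hχ
    rw [IsCharacter.apply_inv hχ, ha, hn, map_natCast]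

theorem mem_charKernel [Finite G] {χ : G → ℂ} (hχ : IsCharacter G χ) {g : G} :
    g ∈ charKernel hχ ↔ χ g = χ 1 :=
  Iff.rfl

instance charKernel_normal [Finite G] {χ : G → ℂ} (hχ : IsCharacter G χ) :
    (charKernel hχ).Normal :=
  ⟨fun n hn g => by rw [mem_charKernel] at hn ⊢; rw [IsCharacter.conj_apply hχ, hn]⟩

theorem IsCharacter.apply_mul_of_mem_kernel [Finite G] {χ : G → ℂ} (hχ : IsCharacter G χ)
    {k : G} (hk : χ k = χ 1) (g : G) : χ (g * k) = χ g := by
  obtain ⟨n, ρ, rfl⟩ := hχ
  rw [ρ.char_one, char_eq_finrank_iff] at hk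
  simp only [Representation.character, map_mul, hk]
  rfl

/-- A character trivial on a normal subgroup comes from the quotient. -/
theorem IsCharacter.exists_quotient [Finite G] {χ : G → ℂ} (hχ : IsCharacter G χ)
    (N : Subgroup G) [N.Normal] (hN : ∀ n ∈ N, χ n = χ 1) :
    ∃ ψ : G ⧸ N → ℂ, IsCharacter (G ⧸ N) ψ ∧ χ = ψ ∘ QuotientGroup.mk' N := by
  obtain ⟨n, ρ, rfl⟩ := hχ
  have hker : N ≤ ρ.ker := fun k hk => by
    have h1 := hN k hk
    rw [ρ.char_one, char_eq_finrank_iff] at h1
    exact MonoidHom.mem_ker.mpr h1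
  exact ⟨_, ⟨n, QuotientGroup.lift N ρ hker, rfl⟩, funext fun g => rfl⟩

/-- An irreducible character trivial on a normal subgroup comes from an irreducible character
of the quotient. -/
theorem IsIrrCharacter.exists_quotient [Finite G] {χ : G → ℂ} (hχ : IsIrrCharacter G χ)
    (N : Subgroup G) [N.Normal] (hN : ∀ n ∈ N, χ n = χ 1) :
    ∃ ψ : G ⧸ N → ℂ, IsIrrCharacter (G ⧸ N) ψ ∧ χ = ψ ∘ QuotientGroup.mk' N := by
  obtain ⟨n, ρ, hρ, rfl⟩ := hχ
  have hker : N ≤ ρ.ker := fun k hk => by
    have h1 := hN k hk
    rw [ρ.char_one, char_eq_finrank_iff] at h1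
    exact MonoidHom.mem_ker.mpr h1
  refine ⟨_, ⟨n, QuotientGroup.lift N ρ hker, ?_, rfl⟩, funext fun g => rfl⟩
  rw [isIrreducible_iff_forall] at hρ ⊢
  exact ⟨hρ.1, fun S hS => hρ.2 S fun g x hx => hS (QuotientGroup.mk g) x hx⟩

/-- The values at `1` of nontrivial irreducible characters are not attained everywhere. -/
theorem IsIrrCharacter.exists_ne_apply_one [Finite G] {χ : G → ℂ} (hχ : IsIrrCharacter G χ)
    (hne : χ ≠ fun _ => 1) : ∃ g, χ g ≠ χ 1 := by
  haveI := Fintype.ofFinite G
  by_contra h
  push Not at h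
  have hc : χ = χ 1 • fun _ : G => (1 : ℂ) := by funext g; simp [h g]
  have h0 := IsIrrCharacter.classInner_ne hχ isIrrCharacter_one hne
  rw [hc, classInner_smul_left, IsIrrCharacter.classInner_self isIrrCharacter_one, mul_one] at h0
  exact IsIrrCharacter.apply_one_ne_zero hχ h0

theorem IsCharacter.eq_one_of_isSimpleGroup [Finite G] [IsSimpleGroup G] {χ : G → ℂ}
    (hχ : IsCharacter G χ) (hne : ∃ g, χ g ≠ χ 1) {g : G} (hg : χ g = χ 1) : g = 1 := by
  rcases IsSimpleGroup.eq_bot_or_eq_top_of_normal (charKernel hχ) (charKernel_normal hχ) with h | h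
  · exact (Subgroup.eq_bot_iff_forall _).mp h g hg
  · obtain ⟨x, hx⟩ := hne
    exact absurd (show x ∈ charKernel hχ from h ▸ Subgroup.mem_top x) hx

/-- Nontrivial irreducible representations of simple groups are faithful. -/
theorem rep_injective_of_isSimpleGroup [Finite G] [IsSimpleGroup G] {V : Type v} [AddCommGroup V]
    [Module ℂ V] [FiniteDimensional ℂ V] (ρ : Representation ℂ G V) [ρ.IsIrreducible]
    (hne : ρ.character ≠ fun _ => 1) : Function.Injective ρ := by
  rw [injective_iff_map_eq_one]
  intro g hg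
  refine IsCharacter.eq_one_of_isSimpleGroup (isCharacter_of_rep ρ)
    (IsIrrCharacter.exists_ne_apply_one (isIrrCharacter_of_rep ρ) hne) ?_
  rw [ρ.char_one, char_eq_finrank_iff]
  exact hg

theorem IsIrrCharacter.apply_one_of_comm [Finite G] (h : ∀ a b : G, a * b = b * a) {χ : G → ℂ}
    (hχ : IsIrrCharacter G χ) : χ 1 = 1 := by
  obtain ⟨n, ρ, hρ, rfl⟩ := hχ
  haveI : IsMulCommutative G := ⟨⟨h⟩⟩
  rw [ρ.char_one, Representation.IsIrreducible.finrank_eq_one_of_isMulCommutative ρ, Nat.cast_one]

/-- Linear characters are trivial on commutators. -/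
theorem IsCharacter.apply_of_mem_commutator [Finite G] {χ : G → ℂ} (hχ : IsCharacter G χ)
    (h1 : χ 1 = 1) {g : G} (hg : g ∈ commutator G) : χ g = 1 := by
  obtain ⟨lam, rfl⟩ := IsCharacter.exists_hom_of_apply_one hχ h1
  have : lam g = 1 := MonoidHom.mem_ker.mp (Abelianization.commutator_subset_ker lam hg)
  simp [this]

/-- Irreducible characters separate elements from the identity. -/
theorem exists_irr_ne_apply_one [Finite G] {g : G} (hg : g ≠ 1) :
    ∃ χ : IrrCharacter G, (χ : G → ℂ) g ≠ (χ : G → ℂ) 1 := by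
  by_contra h
  push Not at h
  exact hg (isConj_one_left.mp ((isConj_iff_forall_irr g 1).mpr h))

/-- A group is abelian iff all irreducible characters are linear. -/
theorem comm_iff_forall_irr_one [Finite G] :
    (∀ a b : G, a * b = b * a) ↔ ∀ χ : IrrCharacter G, (χ : G → ℂ) 1 = 1 := by
  refine ⟨fun h χ => IsIrrCharacter.apply_one_of_comm h χ.2, fun h a b => ?_⟩
  by_contra hne
  have hc : a * b * a⁻¹ * b⁻¹ ≠ 1 := by
    rw [Ne, mul_inv_eq_one, mul_inv_eq_iff_eq_mul]
    exact hne
  obtain ⟨χ, hχ⟩ := exists_irr_ne_apply_one hc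
  apply hχ
  rw [h χ]
  exact IsCharacter.apply_of_mem_commutator (irr_isCharacter χ) (h χ)
    (Subgroup.commutator_mem_commutator (Subgroup.mem_top a) (Subgroup.mem_top b))

/-- The number of linear characters is the index of the commutator subgroup. -/
theorem card_linear_irr [Finite G] :
    Nat.card {χ : IrrCharacter G // (χ : G → ℂ) 1 = 1} = (commutator G).index := by
  haveI := Fintype.ofFinite G
  haveI : Finite (Abelianization G) := Finite.of_surjective _ (QuotientGroup.mk_surjective (s := commutator G))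
  have hcomm : ∀ a b : Abelianization G, a * b = b * a := mul_comm
  let f : IrrCharacter (Abelianization G) → {χ : IrrCharacter G // (χ : G → ℂ) 1 = 1} := fun ψ =>
    ⟨⟨_, IsIrrCharacter.comp_surjective ψ.2 Abelianization.of QuotientGroup.mk_surjective⟩, by
      show (ψ : Abelianization G → ℂ) (Abelianization.of 1) = 1
      rw [map_one]
      exact IsIrrCharacter.apply_one_of_comm hcomm ψ.2⟩
  have hf : Function.Bijective f := by
    constructor
    · intro ψ ψ' h
      apply Subtype.ext
      funext q
      obtain ⟨g, rfl⟩ : ∃ g, Abelianization.of g = q := QuotientGroup.mk_surjective q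
      exact congrFun (congrArg (fun x => (x.1 : G → ℂ)) h) g
    · rintro ⟨χ, h1⟩
      obtain ⟨lam, hlam⟩ := IsCharacter.exists_hom_of_apply_one (irr_isCharacter χ) h1
      refine ⟨⟨_, isIrrCharacter_unitsHom (Abelianization.lift lam)⟩, ?_⟩
      apply Subtype.ext
      apply Subtype.ext
      funext g
      show ((Abelianization.lift lam (Abelianization.of g) : ℂˣ) : ℂ) = (χ : G → ℂ) g
      rw [Abelianization.lift_apply_of, hlam]
  rw [← Nat.card_eq_of_bijective f hf, card_irrCharacter, Subgroup.index_eq_card]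
  refine (Nat.card_eq_of_bijective (ConjClasses.mk : Abelianization G → _)
    ⟨fun a b h => ?_, ConjClasses.mk_surjective⟩).symm
  obtain ⟨c, hc⟩ := isConj_iff.mp (ConjClasses.mk_eq_mk_iff_isConj.mp h)
  rw [← hc, hcomm c a, mul_inv_cancel_right]

/-- Counting classes with a class-invariant property through centralizer orders. -/
theorem sum_card_centralizer_eq [Fintype G] (P : G → Prop) [DecidablePred P]
    (hP : ∀ g h : G, IsConj g h → (P g ↔ P h)) :
    ∑ g : G, (if P g then (Nat.card (Subgroup.centralizer ({g} : Set G)) : ℂ) else 0) =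
      (Nat.card G : ℂ) * (Nat.card {C : ConjClasses G // ∀ g, ConjClasses.mk g = C → P g} : ℂ) := by
  classical
  haveI : Finite (ConjClasses G) := Finite.of_surjective _ ConjClasses.mk_surjective
  haveI := Fintype.ofFinite (ConjClasses G)
  rw [← Finset.sum_fiberwise Finset.univ ConjClasses.mk, Nat.card_eq_fintype_card (α := Subtype _),
    Fintype.card_subtype, ← Finset.sum_boole, Finset.mul_sum]
  refine Finset.sum_congr rfl fun C _ => ?_
  obtain ⟨a, rfl⟩ := ConjClasses.mk_surjective C
  have hiff : (∀ g, ConjClasses.mk g = ConjClasses.mk a → P g) ↔ P a :=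
    ⟨fun h => h a rfl, fun h g hg => (hP g a (ConjClasses.mk_eq_mk_iff_isConj.mp hg)).mpr h⟩
  have hval : ∀ x ∈ Finset.univ.filter (fun x => ConjClasses.mk x = ConjClasses.mk a),
      (if P x then (Nat.card (Subgroup.centralizer ({x} : Set G)) : ℂ) else 0) =
      if P a then (Nat.card (Subgroup.centralizer ({a} : Set G)) : ℂ) else 0 := by
    intro x hx
    have hxa : IsConj x a := ConjClasses.mk_eq_mk_iff_isConj.mp (Finset.mem_filter.mp hx).2
    have hcard : Nat.card (Subgroup.centralizer ({x} : Set G)) =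
        Nat.card (Subgroup.centralizer ({a} : Set G)) := by
      have h1 := card_conj_mul_card_centralizer x
      rw [← card_conj_mul_card_centralizer a,
        Nat.card_congr (Equiv.subtypeEquivRight fun y => ⟨hxa.symm.trans, hxa.trans⟩ :
          {y : G // IsConj x y} ≃ {y : G // IsConj a y})] at h1
      haveI : Nonempty {y : G // IsConj a y} := ⟨⟨a, IsConj.refl a⟩⟩
      exact Nat.eq_of_mul_eq_mul_left Nat.card_pos h1
    simp only [hcard, hP x a hxa]
  rw [Finset.sum_congr rfl hval, Finset.sum_const, nsmul_eq_mul]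
  simp only [hiff]
  split_ifs with ha
  · have : (Finset.univ.filter (fun x => ConjClasses.mk x = ConjClasses.mk a)).card =
        Nat.card {x : G // IsConj a x} := by
      rw [Nat.card_eq_fintype_card, Fintype.card_subtype]
      congr 1
      ext x
      simp only [Finset.mem_filter, Finset.mem_univ, true_and, ConjClasses.mk_eq_mk_iff_isConj,
        isConj_comm]
    rw [this, mul_one, ← Nat.cast_mul, card_conj_mul_card_centralizer]
  · simp

/-- Brauer's permutation lemma, in the form of compatible maps `σ` of characters and `τ` of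
elements. -/
theorem card_fixed_irr [Finite G] (σ : IrrCharacter G → IrrCharacter G) (τ : G → G)
    (h : ∀ (χ : IrrCharacter G) (g : G), (σ χ : G → ℂ) g = (χ : G → ℂ) (τ g)) :
    Nat.card {χ : IrrCharacter G // σ χ = χ} =
      Nat.card {C : ConjClasses G // ∀ g, ConjClasses.mk g = C → IsConj (τ g) g} := by
  classical
  haveI := Fintype.ofFinite G
  haveI := Fintype.ofFinite (IrrCharacter G)
  have hP : ∀ g g' : G, IsConj g g' → (IsConj (τ g) g ↔ IsConj (τ g') g') := by
    intro g g' hg
    have hτ : IsConj (τ g) (τ g') := (isConj_iff_forall_irr _ _).mpr fun χ => by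
      rw [← h, ← h, IsClassFunction.eq_of_isConj (irr_isClassFunction _) hg]
    exact ⟨fun h1 => hτ.symm.trans (h1.trans hg), fun h1 => hτ.trans (h1.trans hg.symm)⟩
  have key : (Nat.card G : ℂ) * (Nat.card {χ : IrrCharacter G // σ χ = χ} : ℂ) =
      (Nat.card G : ℂ) *
        (Nat.card {C : ConjClasses G // ∀ g, ConjClasses.mk g = C → IsConj (τ g) g} : ℂ) := by
    rw [← sum_card_centralizer_eq _ hP, Nat.card_eq_fintype_card (α := Subtype _),
      Fintype.card_subtype, ← Finset.sum_boole, Finset.mul_sum]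
    have hterm : ∀ χ : IrrCharacter G,
        (Nat.card G : ℂ) * (if σ χ = χ then (1 : ℂ) else 0) =
          ∑ g, (χ : G → ℂ) (τ g) * conj ((χ : G → ℂ) g) := by
      intro χ
      rw [← classInner_irr (σ χ) χ, classInner, ← mul_assoc,
        mul_inv_cancel₀ natCard_ne_zero_complex, one_mul]
      simp only [h]
    rw [Finset.sum_congr rfl fun χ _ => hterm χ, Finset.sum_comm]
    refine Finset.sum_congr rfl fun g _ => ?_
    rw [sum_irr_mul_conj]
    split_ifs with hc
    · obtain ⟨c, hc'⟩ := isConj_iff.mp hc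
      have h1 := card_conj_mul_card_centralizer (τ g)
      rw [← card_conj_mul_card_centralizer g,
        Nat.card_congr (Equiv.subtypeEquivRight fun y => ⟨hc.symm.trans, hc.trans⟩ :
          {y : G // IsConj (τ g) y} ≃ {y : G // IsConj g y})] at h1
      haveI : Nonempty {y : G // IsConj g y} := ⟨⟨g, IsConj.refl g⟩⟩
      rw [Nat.eq_of_mul_eq_mul_left Nat.card_pos h1]
    · rfl
  exact_mod_cast mul_left_cancel₀ natCard_ne_zero_complex key

/-- The complex conjugate of an irreducible character is irreducible. -/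
theorem IsIrrCharacter.conjugate [Finite G] {χ : G → ℂ} (hχ : IsIrrCharacter G χ) :
    IsIrrCharacter G (fun g => conj (χ g)) := by
  haveI := Fintype.ofFinite G
  rw [IsCharacter.isIrr_iff (IsCharacter.conjugate (IsIrrCharacter.isCharacter hχ)),
    classInner_conj_conj, IsIrrCharacter.classInner_self hχ]

/-- Real irreducible characters correspond in number to real classes. -/
theorem card_real_irr [Finite G] :
    Nat.card {χ : IrrCharacter G // ∀ g : G, ((χ : G → ℂ) g).im = 0} =
      Nat.card {C : ConjClasses G // ∀ g : G, ConjClasses.mk g = C → IsConj g g⁻¹} := by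
  let σ : IrrCharacter G → IrrCharacter G := fun χ => ⟨_, IsIrrCharacter.conjugate χ.2⟩
  have hσ : ∀ (χ : IrrCharacter G) (g : G), (σ χ : G → ℂ) g = (χ : G → ℂ) g⁻¹ := fun χ g =>
    (IsCharacter.apply_inv (irr_isCharacter χ) g).symm
  have h := card_fixed_irr σ (fun g => g⁻¹) hσ
  have h2 : Nat.card {C : ConjClasses G // ∀ g : G, ConjClasses.mk g = C → IsConj g g⁻¹} =
      Nat.card {C : ConjClasses G // ∀ g : G, ConjClasses.mk g = C → IsConj g⁻¹ g} :=
    Nat.card_congr (Equiv.subtypeEquivRight fun C => forall₂_congr fun g _ => isConj_comm)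
  rw [h2, ← h]
  refine Nat.card_congr (Equiv.subtypeEquivRight fun χ => ?_)
  rw [Subtype.ext_iff, funext_iff]
  exact forall_congr' fun g => Complex.conj_eq_iff_im.symm

/-- Burnside: a finite simple group with a class of prime power size is cyclic of prime order. -/
theorem card_prime_of_class_primePow [Finite G] [IsSimpleGroup G] {p k : ℕ} (hp : p.Prime) {g : G}
    (hg : g ≠ 1) (hclass : (Subgroup.centralizer ({g} : Set G)).index = p ^ k) :
    (Nat.card G).Prime := by
  classical
  haveI := Fintype.ofFinite G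
  haveI := Fintype.ofFinite (IrrCharacter G)
  have hcentral : (∀ x : G, x * g = g * x) → (Nat.card G).Prime := by
    intro hall
    rcases IsSimpleGroup.eq_bot_or_eq_top_of_normal (Subgroup.center G) inferInstance with h | h
    · exact absurd ((Subgroup.eq_bot_iff_forall _).mp h g (Subgroup.mem_center_iff.mpr hall)) hg
    · letI : CommGroup G :=
        { (inferInstance : Group G) with
          mul_comm := fun a b => Subgroup.mem_center_iff.mp (h ▸ Subgroup.mem_top b) a }
      exact IsSimpleGroup.prime_card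
  rcases Nat.eq_zero_or_pos k with rfl | hk
  · refine hcentral fun x => ?_
    rw [pow_zero, Subgroup.index_eq_one] at hclass
    exact Subgroup.mem_centralizer_singleton_iff.mp (hclass ▸ Subgroup.mem_top x)
  by_contra hnp
  rw [← card_conj_eq_index] at hclass
  have hzero : ∀ χ : IrrCharacter G, χ ≠ trivIrr G →
      IsIntegral ℤ ((χ : G → ℂ) 1 * (χ : G → ℂ) g / (p : ℂ)) := by
    rintro ⟨χ, n, ρ, hρ, rfl⟩ hne
    have hne' : ρ.character ≠ fun _ => 1 := fun h => hne (Subtype.ext h)
    show IsIntegral ℤ (ρ.character 1 * ρ.character g / (p : ℂ))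
    rw [ρ.char_one]
    by_cases hpd : p ∣ finrank ℂ (Fin n → ℂ)
    · obtain ⟨d, hd⟩ := hpd
      have hp0 : (p : ℂ) ≠ 0 := by exact_mod_cast hp.ne_zero
      have e : ((p * d : ℕ) : ℂ) * ρ.character g / (p : ℂ) = (d : ℂ) * ρ.character g := by
        push_cast
        field_simp
      rw [hd, e]
      exact (isIntegral_algebraMap (R := ℤ) (A := ℂ) (x := (d : ℤ))).mul (char_isIntegral ρ g)
    · have hcop : Nat.Coprime (finrank ℂ (Fin n → ℂ)) (Nat.card {x : G // IsConj g x}) := by
        rw [hclass]
        exact ((hp.coprime_iff_not_dvd.mpr hpd).pow_left k).symm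
      rcases char_eq_zero_or_norm_eq_of_coprime ρ g hcop with h0 | h0
      · rw [h0, mul_zero, zero_div]
        exact isIntegral_zero
      · exfalso
        obtain ⟨ω, hω⟩ := (norm_char_eq_iff ρ g).mp h0
        refine hnp (hcentral fun x => rep_injective_of_isSimpleGroup ρ hne' ?_)
        rw [map_mul, map_mul, hω, ← Module.End.one_eq_id, mul_smul_comm, smul_mul_assoc, mul_one,
          one_mul]
  have hsum := sum_degree_mul (G := G) g
  rw [if_neg hg, ← Finset.add_sum_erase _ _ (Finset.mem_univ (trivIrr G))] at hsum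
  simp only [trivIrr_apply, one_mul] at hsum
  have hint : IsIntegral ℤ ((-1 : ℂ) / p) := by
    have h1 : (-1 : ℂ) / p =
        ∑ χ ∈ Finset.univ.erase (trivIrr G), (χ : G → ℂ) 1 * (χ : G → ℂ) g / (p : ℂ) := by
      rw [← Finset.sum_div, eq_neg_of_add_eq_zero_right hsum]
    rw [h1]
    exact IsIntegral.sum _ fun χ hχ => hzero χ (Finset.mem_erase.mp hχ).1
  have h2 : IsIntegral ℤ ((1 : ℕ) / (p : ℂ)) := by simpa [neg_div] using hint.neg
  exact hp.ne_one (Nat.dvd_one.mp (dvd_of_isIntegral_div hp.ne_zero h2))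

end Cfsg.Agent.Lib.Characters
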