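import Cfsg.Agent.Lib.Characters.Clifford
import Cfsg.Agent.Lib.Characters.Kernel
import Cfsg.Agent.Lib.Characters.Integrality

/-!
# Degrees divide the index of the centre and of abelian normal subgroups
-/

namespace Cfsg.Agent.Lib.Characters

open Module
open scoped ComplexConjugate

set_option linter.unusedSectionVars false
set_option linter.unusedSimpArgs false
set_option linter.style.haveILetI false

universe u v

variable {G : Type u} [Group G]

/-- For a faithful irreducible representation the degree divides the index of the centre. -/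
theorem finrank_dvd_index_center_of_faithful [Finite G] {V : Type v} [AddCommGroup V] [Module ℂ V]
    [FiniteDimensional ℂ V] (ρ : Representation ℂ G V) [ρ.IsIrreducible]
    (hinj : Function.Injective ρ) : finrank ℂ V ∣ (Subgroup.center G).index := by
  classical
  haveI := Fintype.ofFinite G
  have hd := finrank_pos_of_isIrreducible ρ
  have hn : (finrank ℂ V : ℂ) ≠ 0 := by exact_mod_cast hd.ne'
  haveI := nontrivial_of_isIrreducible ρ
  set Z := Subgroup.center G with hZ
  have hχcl := IsCharacter.isClassFunction (isCharacter_of_rep ρ)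
  -- central elements act by scalars
  have hscal : ∀ z : Z, ∃ c : ℂ, ρ (z : G) = c • (LinearMap.id : V →ₗ[ℂ] V) := fun z =>
    exists_smul_of_commute ρ _ fun g => by
      rw [← map_mul, ← map_mul, Subgroup.mem_center_iff.mp z.2 g]
  choose c hc using hscal
  have hmul : ∀ (z : Z) (g : G), ρ.character ((z : G) * g) = c z * ρ.character g := by
    intro z g
    simp only [Representation.character, map_mul, hc z, ← Module.End.one_eq_id, smul_mul_assoc,
      one_mul, map_smul, smul_eq_mul]
  have hc1 : ∀ z : Z, c z = 1 → z = 1 := by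
    intro z hz
    have := hc z
    rw [hz, one_smul] at this
    exact Subtype.ext (hinj (this.trans (map_one ρ).symm))
  have hcn : ∀ z : Z, c z * conj (c z) = 1 := by
    intro z
    have h1 := hmul z 1
    rw [mul_one, ρ.char_one] at h1
    obtain ⟨ω, hω⟩ : ∃ ω : ℂ, ρ (z : G) = ω • (LinearMap.id : V →ₗ[ℂ] V) := ⟨_, hc z⟩
    have h2 := (norm_char_eq_iff ρ (z : G)).mpr ⟨ω, hω⟩
    rw [h1, norm_mul, Complex.norm_natCast] at h2
    have h3 : ‖c z‖ = 1 := mul_right_cancel₀ (by exact_mod_cast hd.ne') (h2.trans (one_mul _).symm)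
    rw [Complex.mul_conj, Complex.normSq_eq_norm_sq, h3]
    simp
  let r : Setoid G :=
    { r := fun g h => ∃ z : Z, IsConj ((z : G) * g) h
      iseqv :=
        { refl := fun g => ⟨1, by simpa using IsConj.refl g⟩
          symm := fun {g h} ⟨z, hz⟩ => ⟨z⁻¹, by
            obtain ⟨x, hx⟩ := isConj_iff.mp hz
            refine isConj_iff.mpr ⟨x⁻¹, ?_⟩
            have hzc : ∀ y : G, y * ((z : G))⁻¹ = ((z : G))⁻¹ * y :=
              fun y => Subgroup.mem_center_iff.mp (Z.inv_mem z.2) y
            rw [inv_inv, Subgroup.coe_inv, ← hx, ← mul_assoc x⁻¹, hzc x⁻¹]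
            group⟩
          trans := fun {a b d} ⟨z, hz⟩ ⟨w, hw⟩ => ⟨w * z, by
            obtain ⟨x, hx⟩ := isConj_iff.mp hz
            refine IsConj.trans (isConj_iff.mpr ⟨x, ?_⟩) hw
            have hwc := Subgroup.mem_center_iff.mp w.2 x
            rw [← hx, Subgroup.coe_mul]
            calc x * ((w : G) * z * a) * x⁻¹ = (x * w) * ((z : G) * a) * x⁻¹ := by group
              _ = ((w : G) * x) * ((z : G) * a) * x⁻¹ := by rw [hwc]
              _ = (w : G) * (x * ((z : G) * a) * x⁻¹) := by group⟩ } }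
  let F : G → ℂ := fun g => ρ.character g * conj (ρ.character g)
  have hFinv : ∀ g h, r g h → F h = F g := by
    rintro g h ⟨z, hz⟩
    simp only [F]
    rw [← IsClassFunction.eq_of_isConj hχcl hz, hmul, map_mul]
    linear_combination (ρ.character g * conj (ρ.character g)) * hcn z
  -- orbits where the character does not vanish have size `|Z| |C|`
  have hfib : ∀ a : G, ρ.character a ≠ 0 →
      Nat.card {x : G // r a x} = Nat.card Z * Nat.card {x : G // IsConj a x} := by
    intro a ha
    rw [← Nat.card_prod]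
    refine (Nat.card_eq_of_bijective
      (fun q : Z × {x : G // IsConj a x} => (⟨(q.1 : G) * q.2.1, q.1, by
        obtain ⟨x, hx⟩ := isConj_iff.mp q.2.2
        refine isConj_iff.mpr ⟨x, ?_⟩
        have hwc := Subgroup.mem_center_iff.mp q.1.2 x
        calc x * ((q.1 : G) * a) * x⁻¹ = (x * q.1) * a * x⁻¹ := by group
          _ = ((q.1 : G) * x) * a * x⁻¹ := by rw [hwc]
          _ = (q.1 : G) * (x * a * x⁻¹) := by group
          _ = _ := by rw [hx]⟩ : {x : G // r a x})) ⟨?_, ?_⟩).symm
    · rintro ⟨z, x⟩ ⟨w, y⟩ h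
      have h' : (z : G) * x.1 = (w : G) * y.1 := congrArg Subtype.val h
      have h1 := congrArg ρ.character h'
      rw [hmul, hmul, ← IsClassFunction.eq_of_isConj hχcl x.2,
        ← IsClassFunction.eq_of_isConj hχcl y.2] at h1
      have hzw : c z = c w := mul_right_cancel₀ ha h1
      have hzw' : z = w := Subtype.ext (hinj (by rw [hc, hc, hzw]))
      subst hzw'
      exact Prod.ext rfl (Subtype.ext (mul_left_cancel h'))
    · rintro ⟨x, z, hz⟩
      obtain ⟨y, hy⟩ := isConj_iff.mp hz
      refine ⟨(z, ⟨y * a * y⁻¹, isConj_iff.mpr ⟨y, rfl⟩⟩), Subtype.ext ?_⟩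
      have hwc := Subgroup.mem_center_iff.mp z.2 y
      show (z : G) * (y * a * y⁻¹) = x
      rw [← hy]
      calc (z : G) * (y * a * y⁻¹) = ((z : G) * y) * a * y⁻¹ := by group
        _ = (y * z) * a * y⁻¹ := by rw [hwc]
        _ = y * ((z : G) * a) * y⁻¹ := by group
  refine dvd_of_isIntegral_div hd.ne' ?_
  haveI := Fintype.ofFinite (Quotient r)
  have hsum : ((Nat.card Z * Z.index : ℕ) : ℂ) = ∑ g, F g := by
    rw [Z.card_mul_index]
    have h1 := IsIrrCharacter.classInner_self (isIrrCharacter_of_rep ρ)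
    rw [classInner, inv_mul_eq_one₀ natCard_ne_zero_complex] at h1
    exact h1
  have hZ0 : (Nat.card Z : ℂ) ≠ 0 := natCard_ne_zero_complex
  have key : IsIntegral ℤ ((∑ g, F g) / ((Nat.card Z : ℂ) * (finrank ℂ V : ℂ))) := by
    rw [← Finset.sum_fiberwise Finset.univ (Quotient.mk r), Finset.sum_div]
    refine IsIntegral.sum _ fun q _ => ?_
    obtain ⟨a, rfl⟩ := Quotient.exists_rep q
    have hval : ∀ x ∈ Finset.univ.filter (fun x => Quotient.mk r x = Quotient.mk r a), F x = F a :=
      fun x hx => hFinv a x (Quotient.exact (Finset.mem_filter.mp hx).2.symm)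
    rw [Finset.sum_congr rfl hval, Finset.sum_const, nsmul_eq_mul]
    by_cases ha : ρ.character a = 0
    · simp [F, ha, isIntegral_zero]
    have hcard : (Finset.univ.filter (fun x => Quotient.mk r x = Quotient.mk r a)).card =
        Nat.card {x : G // r a x} := by
      rw [Nat.card_eq_fintype_card, Fintype.card_subtype]
      congr 1
      ext x
      simp only [Finset.mem_filter, Finset.mem_univ, true_and]
      exact ⟨fun h => Quotient.exact h.symm, fun h => (Quotient.sound h).symm⟩
    rw [hcard, hfib a ha, Nat.cast_mul]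
    have : (Nat.card Z : ℂ) * (Nat.card {x : G // IsConj a x} : ℂ) * F a /
        ((Nat.card Z : ℂ) * (finrank ℂ V : ℂ)) =
        ((Nat.card {x : G // IsConj a x} : ℂ) * ρ.character a / (finrank ℂ V : ℂ)) *
          ρ.character a⁻¹ := by
      rw [char_inv]
      simp only [F]
      field_simp
    rw [this]
    exact (isIntegral_centralChar ρ a).mul (char_isIntegral ρ _)
  rw [← hsum, Nat.cast_mul, mul_div_mul_left _ _ hZ0] at key
  exact key

/-- The degree divides the index of a subgroup whose image is central. -/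
theorem finrank_dvd_index_of_central_image [Finite G] {V : Type v} [AddCommGroup V] [Module ℂ V]
    [FiniteDimensional ℂ V] (ρ : Representation ℂ G V) [ρ.IsIrreducible] (A : Subgroup G)
    (hA : ∀ a ∈ A, ∀ g : G, ρ (g * a) = ρ (a * g)) : finrank ℂ V ∣ A.index := by
  let K : Subgroup G := ρ.ker
  haveI hK : K.Normal := MonoidHom.normal_ker ρ
  let ρ' : Representation ℂ (G ⧸ K) V := QuotientGroup.lift K ρ le_rfl
  haveI : ρ'.IsIrreducible := by
    have hi := (isIrreducible_iff_forall ρ).mp inferInstance
    exact (isIrreducible_iff_forall ρ').mpr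
      ⟨hi.1, fun S hS => hi.2 S fun g x hx => hS (QuotientGroup.mk g) x hx⟩
  have hinj : Function.Injective ρ' := by
    intro a b h
    obtain ⟨a, rfl⟩ := QuotientGroup.mk_surjective a
    obtain ⟨b, rfl⟩ := QuotientGroup.mk_surjective b
    have h' : ρ a = ρ b := h
    refine QuotientGroup.eq.mpr ?_
    show ρ (a⁻¹ * b) = 1
    rw [map_mul, ← h', ← map_mul, inv_mul_cancel, map_one]
  refine (finrank_dvd_index_center_of_faithful ρ' hinj).trans ?_
  refine (Subgroup.index_dvd_of_le ?_).trans
    (Subgroup.index_map_dvd A (QuotientGroup.mk'_surjective K))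
  rintro _ ⟨a, ha, rfl⟩
  refine Subgroup.mem_center_iff.mpr fun q => ?_
  obtain ⟨g, rfl⟩ := QuotientGroup.mk_surjective q
  apply hinj
  show ρ' (QuotientGroup.mk g * QuotientGroup.mk a) = ρ' (QuotientGroup.mk a * QuotientGroup.mk g)
  rw [← QuotientGroup.mk_mul, ← QuotientGroup.mk_mul]
  exact hA a ha g

theorem finrank_dvd_index_center [Finite G] {V : Type v} [AddCommGroup V] [Module ℂ V]
    [FiniteDimensional ℂ V] (ρ : Representation ℂ G V) [ρ.IsIrreducible] :
    finrank ℂ V ∣ (Subgroup.center G).index :=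
  finrank_dvd_index_of_central_image ρ _ fun a ha g => by rw [Subgroup.mem_center_iff.mp ha g]

/-- Ito: the degree divides the index of an abelian normal subgroup. -/
theorem IsIrrCharacter.degree_dvd_index_of_abelian [Finite G] {χ : G → ℂ}
    (hχ : IsIrrCharacter G χ) (A : Subgroup G) [A.Normal]
    (hA : ∀ a ∈ A, ∀ b ∈ A, a * b = b * a) {d : ℕ} (hd : χ 1 = d) : d ∣ A.index := by
  classical
  haveI := Fintype.ofFinite G
  haveI := Fintype.ofFinite A
  obtain ⟨θ, hθ⟩ := IsCharacter.exists_constituent
    (IsCharacter.restrict (IsIrrCharacter.isCharacter hχ) A)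
    (fun h => IsIrrCharacter.apply_one_ne_zero hχ (congrFun h 1))
  let T := inertia A (θ : A → ℂ)
  haveI := Fintype.ofFinite T
  have hAT : A ≤ T := le_inertia A (irr_isClassFunction θ)
  obtain ⟨ψ, hψ, hind, hmult⟩ := exists_clifford_correspondent A hχ θ.2 hθ T rfl hAT
  let A' : Subgroup T := A.subgroupOf T
  haveI := Fintype.ofFinite A'
  let e : A' ≃* A := Subgroup.subgroupOfEquivOfLe hAT
  have hinv : ∀ t : T, Characters.conjFun A' t ((θ : A → ℂ) ∘ e) = (θ : A → ℂ) ∘ e := fun t =>
    funext fun x => congrFun ((mem_inertia_iff A).mp t.2) (e x)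
  have hψθ : classInner (fun x : A' => ψ x) ((θ : A → ℂ) ∘ e) ≠ 0 := by
    have h1 : classInner (fun x : A' => ψ x) ((θ : A → ℂ) ∘ e) =
        classInner (fun n : A => ψ ⟨n, hAT n.2⟩) (θ : A → ℂ) := by
      rw [← classInner_comp_equiv e]
      congr 1
    rw [h1, hmult]
    exact hθ
  have hrestr := restrict_eq_smul_of_invariant A' hψ (IsIrrCharacter.comp_equiv θ.2 e) hinv hψθ
  have hθ1 : (θ : A → ℂ) 1 = 1 :=
    IsIrrCharacter.apply_one_of_comm (fun a b => Subtype.ext (hA a a.2 b b.2)) θ.2
  obtain ⟨lam, hlam⟩ := IsCharacter.exists_hom_of_apply_one (irr_isCharacter θ) hθ1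
  obtain ⟨m, σ, hσ, rfl⟩ := hψ
  set f := classInner (fun x : A' => σ.character x) ((θ : A → ℂ) ∘ e) with hf
  have hdiv : finrank ℂ (Fin m → ℂ) ∣ A'.index := by
    refine finrank_dvd_index_of_central_image σ A' fun a ha g => ?_
    have hnorm : ‖σ.character a‖ = (finrank ℂ (Fin m → ℂ) : ℝ) := by
      have h1 := congrFun hrestr ⟨a, ha⟩
      have h2 := congrFun hrestr 1
      simp only [OneMemClass.coe_one, Pi.smul_apply, Function.comp_apply, map_one, smul_eq_mul,
        σ.char_one, hθ1, mul_one] at h1 h2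
      rw [h1, ← h2, norm_mul, Complex.norm_natCast, hlam,
        norm_eq_one_of_pow_eq_one' (n := Nat.card A) Nat.card_pos.ne' (by
          rw [← Units.val_pow_eq_pow_val, ← map_pow, pow_card_eq_one', map_one, Units.val_one]),
        mul_one]
    obtain ⟨ω, hω⟩ := (norm_char_eq_iff σ a).mp hnorm
    rw [map_mul, map_mul, hω, ← Module.End.one_eq_id, mul_smul_comm, smul_mul_assoc, mul_one,
      one_mul]
  have hdeg : d = T.index * finrank ℂ (Fin m → ℂ) := by
    have h := congrFun hind 1
    rw [indFun_one, σ.char_one, hd] at h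
    exact_mod_cast h.symm
  have hidx : A'.index * T.index = A.index := Subgroup.relIndex_mul_index hAT
  rw [hdeg, ← hidx, mul_comm A'.index]
  exact Nat.mul_dvd_mul_left _ hdiv

end Cfsg.Agent.Lib.Characters
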