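import Cfsg.Agent.Lib.BlockHeights.RegInd
import Cfsg.Agent.Lib.BlockHeights.GaloisZero
import Cfsg.Agent.Lib.Characters.Ito

/-!
# Character values: nonvanishing at `p`-elements, mean squares, defect zero, rationality
-/

namespace Cfsg.Agent.Lib.Characters

open Cfsg.Agent.Lib.BlockHeights
open scoped ComplexConjugate

set_option linter.unusedSectionVars false
set_option linter.unusedSimpArgs false
set_option linter.style.haveILetI false

universe u

variable {G : Type u} [Group G]

/-- `(1/χ(1)) ∑ f χ` is an algebraic integer for integral class functions `f`. -/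
theorem isIntegral_sum_classFun [Fintype G] {χ f : G → ℂ} (hχ : IsIrrCharacter G χ)
    (hf : IsClassFunction G f) (hfi : ∀ g, IsIntegral ℤ (f g)) :
    IsIntegral ℤ ((∑ g, f g * χ g) / χ 1) := by
  classical
  haveI : Finite (ConjClasses G) := Finite.of_surjective _ ConjClasses.mk_surjective
  haveI := Fintype.ofFinite (ConjClasses G)
  rw [← Finset.sum_fiberwise Finset.univ ConjClasses.mk, Finset.sum_div]
  refine IsIntegral.sum _ fun q _ => ?_
  obtain ⟨a, rfl⟩ := ConjClasses.mk_surjective q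
  have hval : ∀ x ∈ Finset.univ.filter (fun x : G => ConjClasses.mk x = ConjClasses.mk a),
      f x * χ x = f a * χ a := fun x hx => by
    have h := ConjClasses.mk_eq_mk_iff_isConj.mp (Finset.mem_filter.mp hx).2
    rw [IsClassFunction.eq_of_isConj hf h,
      IsClassFunction.eq_of_isConj (IsCharacter.isClassFunction (IsIrrCharacter.isCharacter hχ)) h]
  have hcard : (Finset.univ.filter (fun x : G => ConjClasses.mk x = ConjClasses.mk a)).card =
      Nat.card {x : G // IsConj a x} := by
    rw [Nat.card_eq_fintype_card, Fintype.card_subtype]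
    congr 1
    ext x
    simp only [Finset.mem_filter, Finset.mem_univ, true_and]
    rw [ConjClasses.mk_eq_mk_iff_isConj]
    exact isConj_comm
  rw [Finset.sum_congr rfl hval, Finset.sum_const, nsmul_eq_mul, hcard,
    show (Nat.card {x : G // IsConj a x} : ℂ) * (f a * χ a) / χ 1 =
      f a * ((Nat.card {x : G // IsConj a x} : ℂ) * χ a / χ 1) by ring]
  exact (hfi a).mul (IsIrrCharacter.isIntegral_centralChar hχ a)

/-- A character of degree prime to `p` does not vanish at a `p`-element. -/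
theorem IsCharacter.ne_zero_of_pPower [Finite G] {χ : G → ℂ} (hχ : IsCharacter G χ) {p d : ℕ}
    (hp : p.Prime) (hd : χ 1 = d) (hpd : ¬ p ∣ d) {g : G} {k : ℕ} (hg : g ^ p ^ k = 1) :
    χ g ≠ 0 := by
  intro h0
  obtain ⟨ι, hι, μ, hμ, h⟩ := exists_eigen_sum hχ g
  have hμq : ∀ i, μ i ^ p ^ k = 1 := fun i => by
    obtain ⟨c, hc⟩ := orderOf_dvd_of_pow_eq_one hg
    rw [hc, pow_mul, hμ i, one_pow]
  let R := integralClosure ℤ ℂ
  let ν : ι → R := fun i => ⟨μ i, isIntegral_of_pow_eq_one (pow_ne_zero k hp.ne_zero) (hμq i)⟩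
  obtain ⟨r, hr⟩ := exists_sum_pow_prime_pow hp (Finset.univ : Finset ι) ν k
  have hr' := congrArg Subtype.val hr
  simp only [SubmonoidClass.coe_pow, AddSubmonoidClass.coe_finsetSum, MulMemClass.coe_mul,
    AddMemClass.coe_add, SubringClass.coe_natCast, ν, hμq, Finset.sum_const, Finset.card_univ,
    nsmul_eq_mul, mul_one] at hr'
  have h1 := h 1
  simp only [pow_one] at h1
  rw [← h1, h0, zero_pow (pow_ne_zero k hp.ne_zero)] at hr'
  have hcard : (Fintype.card ι : ℂ) = d := by
    have h2 := h 0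
    simp only [pow_zero, hd, Finset.sum_const, Finset.card_univ, nsmul_eq_mul, mul_one] at h2
    exact h2.symm
  have hdiv : ((d : ℂ) / p) = -(r : ℂ) := by
    rw [div_eq_iff (Nat.cast_ne_zero.mpr hp.ne_zero)]
    linear_combination -hr' - hcard
  exact hpd (dvd_of_isIntegral_div hp.ne_zero (hdiv ▸ r.2.neg))

/-- `p`-defect zero characters vanish on `p`-singular elements. -/
theorem vanish_of_defect_zero [Finite G] {χ : G → ℂ} (hχ : IsIrrCharacter G χ) {p d : ℕ}
    (hp : p.Prime) (hd : χ 1 = d) (hdeg : p ^ (Nat.card G).factorization p ∣ d) {x : G}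
    (hx : p ∣ orderOf x) : χ x = 0 := by
  classical
  haveI := Fintype.ofFinite G
  have hχc := IsIrrCharacter.isCharacter hχ
  set α : ℂ := (Nat.card G : ℂ)⁻¹ * ∑ g, regInd p g * (χ g * conj (χ g)) with hα
  obtain ⟨d', hd0, hd'⟩ := IsIrrCharacter.exists_apply_one hχ
  obtain rfl : d' = d := by exact_mod_cast hd'.symm.trans hd
  set e := (Nat.card G).factorization p with he
  obtain ⟨z, hz⟩ := IsGeneralizedCharacter.exists_classInner_int
    (IsGeneralizedCharacter.mul (isGeneralizedCharacter_pPowReg hp)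
      (IsCharacter.isGeneralizedCharacter hχc)) (IsCharacter.isGeneralizedCharacter hχc)
  have hzα : (z : ℂ) = (p : ℂ) ^ e * α := by
    rw [← hz, hα, classInner, Finset.mul_sum, Finset.mul_sum, Finset.mul_sum]
    refine Finset.sum_congr rfl fun g _ => ?_
    rw [Pi.mul_apply, pPowReg_apply]
    ring
  obtain ⟨m, hm⟩ : d' ∣ Nat.card G := by
    obtain ⟨n, -, hn, hdvd⟩ := IsIrrCharacter.exists_degree_dvd hχ
    obtain rfl : n = d' := by exact_mod_cast hn.symm.trans hd
    exact hdvd
  have hpm : ¬ p ∣ m := by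
    rintro ⟨c, rfl⟩
    obtain ⟨d₀, rfl⟩ := hdeg
    have : p ^ (e + 1) ∣ Nat.card G := ⟨d₀ * c, by rw [hm, pow_succ]; ring⟩
    exact Nat.pow_succ_factorization_not_dvd Nat.card_pos.ne' hp this
  have hd0' : (d' : ℂ) ≠ 0 := Nat.cast_ne_zero.mpr hd0.ne'
  have hmα : IsIntegral ℤ ((m : ℂ) * α) := by
    have h := isIntegral_sum_classFun hχ (f := fun g => regInd p g * conj (χ g)) (fun g h => by
        simp only [isClassFunction_regInd p g h, (IsCharacter.isClassFunction hχc) g h]) (fun g => by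
      refine IsIntegral.mul ?_ (by rw [← IsCharacter.apply_inv hχc]; exact IsCharacter.isIntegral hχc _)
      unfold regInd
      split_ifs
      exacts [isIntegral_one, isIntegral_zero])
    have hG : (Nat.card G : ℂ) = (d' : ℂ) * m := by rw [hm]; push_cast; ring
    convert h using 1
    rw [hα, hG, hd, Finset.sum_div, Finset.mul_sum, Finset.mul_sum]
    have hm0 : (m : ℂ) ≠ 0 := by
      intro h0
      rw [h0, mul_zero] at hG
      exact natCard_ne_zero_complex hG
    refine Finset.sum_congr rfl fun g _ => ?_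
    field_simp
  have hαint : IsIntegral ℤ α := by
    obtain ⟨a, b, hab⟩ := (hp.coprime_iff_not_dvd.mpr hpm).pow_left e |>.isCoprime
    have : α = (a : ℂ) * ((p : ℂ) ^ e * α) + (b : ℂ) * ((m : ℂ) * α) := by
      have h2 : (a : ℂ) * (p : ℂ) ^ e + (b : ℂ) * m = 1 := by exact_mod_cast hab
      linear_combination (-α) * h2
    rw [this, ← hzα]
    exact (isIntegral_algebraMap.mul isIntegral_algebraMap).add (isIntegral_algebraMap.mul hmα)
  -- the real number behind `α`
  set A : ℝ := ∑ g ∈ Finset.univ.filter (fun g : G => IsPRegular p g), Complex.normSq (χ g)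
    with hA
  have hαA : α = ((A / Nat.card G : ℝ) : ℂ) := by
    rw [hα, hA]
    push_cast
    rw [div_eq_inv_mul, Finset.sum_filter]
    congr 1
    refine Finset.sum_congr rfl fun g _ => ?_
    unfold regInd
    split_ifs <;> simp [Complex.mul_conj]
  have hpe : (p : ℚ) ^ e ≠ 0 := pow_ne_zero _ (Nat.cast_ne_zero.mpr hp.ne_zero)
  have hαq : α = (((z : ℚ) / (p : ℚ) ^ e : ℚ) : ℂ) := by
    push_cast
    rw [hzα, mul_div_cancel_left₀ _ (by exact_mod_cast hpe)]
  obtain ⟨w, hw⟩ := exists_int_of_isIntegral_rat (hαq ▸ hαint)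
  have hwA : A = (w : ℝ) * Nat.card G := by
    have h : ((A / Nat.card G : ℝ) : ℂ) = ((w : ℝ) : ℂ) := by
      rw [← hαA, hαq, hw]; simp
    rw [← Complex.ofReal_injective h, div_mul_cancel₀ _ (Nat.cast_ne_zero.mpr Nat.card_pos.ne')]
  have htot : A + ∑ g ∈ Finset.univ.filter (fun g : G => ¬ IsPRegular p g), Complex.normSq (χ g) =
      Nat.card G := by
    rw [hA, Finset.sum_filter_add_sum_filter_not]
    have h := IsIrrCharacter.classInner_self hχ
    rw [classInner, inv_mul_eq_one₀ natCard_ne_zero_complex] at h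
    simp only [Complex.mul_conj] at h
    exact_mod_cast h.symm
  have hApos : 0 < A := by
    refine lt_of_lt_of_le (Complex.normSq_pos.mpr (IsIrrCharacter.apply_one_ne_zero hχ))
      (Finset.single_le_sum (fun g _ => Complex.normSq_nonneg (χ g)) ?_)
    simp [isPRegular_one hp]
  have hw1 : (1 : ℤ) ≤ w := by
    by_contra hcon
    have : (w : ℝ) ≤ 0 := by exact_mod_cast (by omega : w ≤ 0)
    have hn : (0 : ℝ) ≤ Nat.card G := Nat.cast_nonneg _
    nlinarith
  have hrest : ∑ g ∈ Finset.univ.filter (fun g : G => ¬ IsPRegular p g), Complex.normSq (χ g) = 0 := by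
    refine le_antisymm ?_ (Finset.sum_nonneg fun g _ => Complex.normSq_nonneg _)
    have : (Nat.card G : ℝ) ≤ A := by
      rw [hwA]
      exact le_mul_of_one_le_left (Nat.cast_nonneg _) (by exact_mod_cast hw1)
    linarith
  exact Complex.normSq_eq_zero.mp ((Finset.sum_eq_zero_iff_of_nonneg
    fun g _ => Complex.normSq_nonneg _).mp hrest x (by simp [IsPRegular, hx]))

/-- A nonlinear irreducible character has a zero. -/
theorem exists_zero_of_nonlinear [Finite G] {χ : G → ℂ} (hχ : IsIrrCharacter G χ) {d : ℕ}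
    (hd : χ 1 = d) (h1 : 1 < d) : ∃ g, χ g = 0 := by
  classical
  haveI := Fintype.ofFinite G
  by_contra hne
  push Not at hne
  have hS : PowClosed ((Finset.univ : Finset G).erase 1) := fun g hg k hk => by
    refine Finset.mem_erase.mpr ⟨fun h => (Finset.mem_erase.mp hg).1 ?_, Finset.mem_univ _⟩
    exact pow_coprime_injective hk (h.trans (one_pow k).symm)
  have h2 := card_le_sum_normSq (IsIrrCharacter.isCharacter hχ) _ hS fun g _ => hne g
  have h3 := IsIrrCharacter.classInner_self hχ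
  rw [classInner, inv_mul_eq_one₀ natCard_ne_zero_complex] at h3
  simp only [Complex.mul_conj'] at h3
  have h4 : (Nat.card G : ℝ) = ∑ g, ‖χ g‖ ^ 2 := by exact_mod_cast h3
  rw [← Finset.add_sum_erase _ _ (Finset.mem_univ (1 : G)), hd, Complex.norm_natCast] at h4
  rw [Finset.card_erase_of_mem (Finset.mem_univ _), Finset.card_univ, ← Nat.card_eq_fintype_card,
    Nat.cast_sub Nat.card_pos, Nat.cast_one] at h2
  have : (2 : ℝ) ≤ d := by exact_mod_cast h1
  nlinarith

/-- All values are rational iff every element is conjugate to its coprime powers. -/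
theorem rational_iff_conj_powers [Finite G] :
    (∀ χ : IrrCharacter G, ∀ g : G, ∃ q : ℚ, (χ : G → ℂ) g = (q : ℂ)) ↔
      ∀ m : ℕ, m.Coprime (Nat.card G) → ∀ g : G, IsConj g (g ^ m) := by
  classical
  haveI := Fintype.ofFinite G
  haveI : NeZero (Nat.card G) := ⟨Nat.card_pos.ne'⟩
  constructor
  · intro hq m hm g
    refine (isConj_iff_forall_irr g (g ^ m)).mpr fun χ => ?_
    obtain ⟨q, hgq⟩ := hq χ g
    obtain ⟨P, hP⟩ := exists_poly_eval (irr_isCharacter χ) g
    have h := aeval_zeta_eq_zero_iff (n := Nat.card G) (P - Polynomial.C q) hm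
    have h1 := hP 1
    simp only [pow_one] at h1
    simp only [map_sub, Polynomial.aeval_C, eq_ratCast, h1, hP m, hgq, sub_self, iff_true,
      sub_eq_zero] at h
    rw [hgq, h]
  · intro hconj χ g
    have hv := irr_isCharacter χ
    obtain ⟨q, hq⟩ := exists_rat_of_fixed (n := Nat.card G)
      (x := ⟨(χ : G → ℂ) g, apply_mem_cycField hv g⟩) (fun σ => by
        obtain ⟨k, hk, hσ⟩ := exists_galPow (G := G) σ
        rw [hσ _ hv g]
        exact Subtype.ext (IsClassFunction.eq_of_isConj (irr_isClassFunction χ) (hconj k hk g)).symm)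
    exact ⟨q, hq⟩

/-- `k(G) ≤ |P|` for an abelian normal Sylow subgroup containing a self-centralising element. -/
theorem card_irr_le_card_sylow [Finite G] {p : ℕ} [Fact p.Prime] (P : Sylow p G)
    [(P : Subgroup G).Normal] (hab : ∀ a ∈ P, ∀ b ∈ P, a * b = b * a) {g : G} (hg : g ∈ P)
    (hC : Subgroup.centralizer ({g} : Set G) = P) :
    Nat.card (IrrCharacter G) ≤ Nat.card P ∧
      (Nat.card (IrrCharacter G) = Nat.card P → commutator G ≤ P) := by
  classical
  haveI := Fintype.ofFinite G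
  haveI := Fintype.ofFinite (IrrCharacter G)
  have hp := (Fact.out : p.Prime)
  let S : Finset G := Finset.univ.filter fun h : G => ∃ k : ℕ, k.Coprime (Nat.card G) ∧ h = g ^ k
  have hgS : g ∈ S := by
    simp only [S, Finset.mem_filter, Finset.mem_univ, true_and]
    exact ⟨1, Nat.coprime_one_left _, (pow_one g).symm⟩
  have hS : PowClosed S := by
    intro h hh k hk
    simp only [S, Finset.mem_filter, Finset.mem_univ, true_and] at hh ⊢
    obtain ⟨j, hj, rfl⟩ := hh
    exact ⟨j * k, hj.mul_left hk, (pow_mul g j k).symm⟩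
  have hSP : ∀ h ∈ S, h ∈ P ∧ Subgroup.centralizer ({h} : Set G) = P := by
    intro h hh
    simp only [S, Finset.mem_filter, Finset.mem_univ, true_and] at hh
    obtain ⟨k, hk, rfl⟩ := hh
    refine ⟨(P : Subgroup G).pow_mem hg k, le_antisymm ?_ ?_⟩
    · rw [← hC]
      intro x hx
      obtain ⟨m, hm⟩ := exists_pow_inverse hk g
      rw [Subgroup.mem_centralizer_singleton_iff] at hx ⊢
      rw [← hm]
      exact Commute.pow_right hx m
    · intro x hx
      rw [Subgroup.mem_centralizer_singleton_iff]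
      exact hab x hx _ ((P : Subgroup G).pow_mem hg k)
  have hdeg : ∀ χ : IrrCharacter G, ∀ h ∈ S, (χ : G → ℂ) h ≠ 0 := by
    intro χ h hh
    obtain ⟨d, -, hd⟩ := IsIrrCharacter.exists_apply_one χ.2
    obtain ⟨k, hk⟩ := P.2 ⟨h, (hSP h hh).1⟩
    refine IsCharacter.ne_zero_of_pPower (irr_isCharacter χ) hp hd (fun hdvd => ?_)
      (k := k) (congrArg Subtype.val hk)
    exact P.not_dvd_index (hdvd.trans (IsIrrCharacter.degree_dvd_index_of_abelian χ.2 P hab hd))
  have hrow : ∀ h ∈ S, ∑ χ : IrrCharacter G, ‖(χ : G → ℂ) h‖ ^ 2 = (Nat.card P : ℝ) := by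
    intro h hh
    have e := sum_irr_mul_conj h h
    rw [if_pos (IsConj.refl h), (hSP h hh).2] at e
    simp only [Complex.mul_conj'] at e
    exact_mod_cast e
  have hlow : ∀ χ : IrrCharacter G, (S.card : ℝ) ≤ ∑ h ∈ S, ‖(χ : G → ℂ) h‖ ^ 2 := fun χ =>
    card_le_sum_normSq (irr_isCharacter χ) S hS (hdeg χ)
  have htot : ∑ χ : IrrCharacter G, ∑ h ∈ S, ‖(χ : G → ℂ) h‖ ^ 2 = S.card * Nat.card P := by
    rw [Finset.sum_comm, Finset.sum_congr rfl hrow, Finset.sum_const, nsmul_eq_mul]
  have hsum : (Nat.card (IrrCharacter G) : ℝ) * S.card ≤ S.card * Nat.card P := by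
    rw [← htot, Nat.card_eq_fintype_card, ← Finset.card_univ, ← nsmul_eq_mul, ← Finset.sum_const]
    exact Finset.sum_le_sum fun χ _ => hlow χ
  have hS0 : (0 : ℝ) < S.card := by exact_mod_cast Finset.card_pos.mpr ⟨g, hgS⟩
  have hle : (Nat.card (IrrCharacter G) : ℝ) ≤ (Nat.card P : ℝ) :=
    le_of_mul_le_mul_left ((mul_comm _ _).trans_le hsum) hS0
  refine ⟨by exact_mod_cast hle, fun heq => ?_⟩
  have hE : ∀ χ : IrrCharacter G, ∑ h ∈ S, ‖(χ : G → ℂ) h‖ ^ 2 = (S.card : ℝ) := fun χ => by
    refine ((Finset.sum_eq_sum_iff_of_le fun χ _ => hlow χ).mp ?_ χ (Finset.mem_univ χ)).symm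
    rw [htot, Finset.sum_const, Finset.card_univ, nsmul_eq_mul, ← Nat.card_eq_fintype_card, heq]
    ring
  rw [← Subgroup.Normal.quotient_commutative_iff_commutator_le]
  refine ⟨⟨fun a b => (comm_iff_forall_irr_one (G := G ⧸ (P : Subgroup G))).mpr (fun ψ => ?_) a b⟩⟩
  let χ : IrrCharacter G := ⟨_, IsIrrCharacter.comp_surjective ψ.2
    (QuotientGroup.mk' (P : Subgroup G)) (QuotientGroup.mk'_surjective _)⟩
  obtain ⟨d, hd0, hd⟩ := IsIrrCharacter.exists_apply_one ψ.2
  have hval : ∀ h ∈ S, ‖(χ : G → ℂ) h‖ ^ 2 = (d : ℝ) ^ 2 := by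
    intro h hh
    show ‖(ψ : G ⧸ (P : Subgroup G) → ℂ) (h : G ⧸ (P : Subgroup G))‖ ^ 2 = _
    rw [(QuotientGroup.eq_one_iff h).mpr (hSP h hh).1, hd, Complex.norm_natCast]
  have h := hE χ
  rw [Finset.sum_congr rfl hval, Finset.sum_const, nsmul_eq_mul] at h
  have h1 : (d : ℝ) ^ 2 = 1 := by nlinarith
  have h2 : d ^ 2 = 1 := by exact_mod_cast h1
  rw [hd, (Nat.pow_eq_one.mp h2).resolve_right two_ne_zero, Nat.cast_one]

end Cfsg.Agent.Lib.Characters
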