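import Cfsg.Agent.Lib.Characters.Induced
import Mathlib.GroupTheory.GroupAction.MultipleTransitivity
import Mathlib.GroupTheory.GroupAction.Quotient

/-!
# Permutation characters
-/

namespace Cfsg.Agent.Lib.Characters

open scoped ComplexConjugate

set_option linter.unusedSectionVars false
set_option linter.unusedSimpArgs false
set_option linter.style.haveILetI false

universe u v

variable {G : Type u} [Group G] (X : Type v) [MulAction G X]

theorem card_fiber_orbitMap [MulAction.IsPretransitive G X] (x₀ : X) (P : X → Prop) :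
    Nat.card {t : G // P (t • x₀)} =
      Nat.card {y : X // P y} * Nat.card (MulAction.stabilizer G x₀) := by
  choose r hr using fun y : X => MulAction.exists_smul_eq G x₀ y
  rw [← Nat.card_prod]
  refine Nat.card_congr
    { toFun := fun t => (⟨t.1 • x₀, t.2⟩, ⟨(r (t.1 • x₀))⁻¹ * t.1, ?_⟩)
      invFun := fun q => ⟨r q.1.1 * q.2.1, ?_⟩
      left_inv := fun t => Subtype.ext (mul_inv_cancel_left _ _)
      right_inv := ?_ }
  · rw [MulAction.mem_stabilizer_iff, mul_smul, inv_smul_eq_iff, hr]
  · rw [mul_smul, MulAction.mem_stabilizer_iff.mp q.2.2, hr]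
    exact q.1.2
  · rintro ⟨⟨y, hy⟩, ⟨s, hs⟩⟩
    have h1 : (r y * s) • x₀ = y := by
      rw [mul_smul, MulAction.mem_stabilizer_iff.mp hs, hr]
    refine Prod.ext (Subtype.ext h1) (Subtype.ext ?_)
    show (r ((r y * s) • x₀))⁻¹ * (r y * s) = s
    rw [h1, inv_mul_cancel_left]

theorem permChar_eq_indFun [Fintype G] [MulAction.IsPretransitive G X] (x₀ : X) :
    (fun g : G => (Nat.card (MulAction.fixedBy X g) : ℂ)) =
      indFun (MulAction.stabilizer G x₀) (fun _ => 1) := by
  classical
  funext g
  have h1 : ∀ x : G,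
      extendByZero (MulAction.stabilizer G x₀) (fun _ => (1 : ℂ)) (x⁻¹ * g * x) =
        if g • (x • x₀) = x • x₀ then 1 else 0 := by
    intro x
    by_cases hm : x⁻¹ * g * x ∈ MulAction.stabilizer G x₀
    · rw [extendByZero_of_mem _ _ hm, if_pos]
      rw [MulAction.mem_stabilizer_iff, mul_smul, mul_smul, inv_smul_eq_iff] at hm
      exact hm
    · rw [extendByZero_of_not_mem _ _ hm, if_neg]
      intro h
      exact hm (by rw [MulAction.mem_stabilizer_iff, mul_smul, mul_smul, inv_smul_eq_iff]; exact h)
  rw [indFun_apply, Finset.sum_congr rfl fun x _ => h1 x, Finset.sum_boole,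
    ← Fintype.card_subtype, ← Nat.card_eq_fintype_card,
    card_fiber_orbitMap X x₀ (fun y => g • y = y), Nat.cast_mul]
  have : (Nat.card (MulAction.stabilizer G x₀) : ℂ) ≠ 0 := natCard_ne_zero_complex
  rw [show Nat.card {y : X // g • y = y} = Nat.card (MulAction.fixedBy X g) from rfl]
  field_simp

/-- The number-of-fixed-points function is a character. -/
theorem isCharacter_permChar [Fintype G] [Finite X] :
    IsCharacter G (fun g : G => (Nat.card (MulAction.fixedBy X g) : ℂ)) := by
  classical
  haveI := Fintype.ofFinite X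
  refine ⟨Fintype.card X,
    { toFun := fun g => LinearMap.funLeft ℂ ℂ fun i =>
        Fintype.equivFin X (g⁻¹ • (Fintype.equivFin X).symm i)
      map_one' := by ext f i; simp [LinearMap.funLeft]
      map_mul' := fun a b => by ext f i; simp [LinearMap.funLeft, mul_smul] }, ?_⟩
  funext g
  rw [Representation.character, LinearMap.trace_eq_matrix_trace ℂ (Pi.basisFun ℂ (Fin _)),
    Matrix.trace]
  simp only [Matrix.diag_apply, LinearMap.toMatrix_apply, Pi.basisFun_repr, Pi.basisFun_apply,
    MonoidHom.coe_mk, OneHom.coe_mk, LinearMap.funLeft_apply, Pi.single_apply]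
  rw [Finset.sum_boole, Nat.cast_inj, ← Fintype.card_subtype, ← Nat.card_eq_fintype_card]
  refine Nat.card_congr ((Fintype.equivFin X).symm.subtypeEquiv fun i => ?_)
  rw [MulAction.mem_fixedBy, ← eq_inv_smul_iff, Equiv.apply_eq_iff_eq_symm_apply]
  exact ⟨Eq.symm, Eq.symm⟩

theorem classInner_permChar_one [Fintype G] [Finite X] :
    classInner (fun g : G => (Nat.card (MulAction.fixedBy X g) : ℂ)) (fun _ => 1) =
      (Nat.card (Quotient (MulAction.orbitRel G X)) : ℂ) := by
  classical
  haveI := Fintype.ofFinite X
  have h := MulAction.sum_card_fixedBy_eq_card_orbits_mul_card_group G X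
  simp only [← Nat.card_eq_fintype_card] at h
  unfold classInner
  simp only [map_one, mul_one]
  rw [← Nat.cast_sum, h, Nat.cast_mul, mul_left_comm, inv_mul_cancel₀ natCard_ne_zero_complex,
    mul_one]

theorem classInner_permChar_self [Fintype G] [Finite X] :
    classInner (fun g : G => (Nat.card (MulAction.fixedBy X g) : ℂ))
      (fun g : G => (Nat.card (MulAction.fixedBy X g) : ℂ)) =
      (Nat.card (Quotient (MulAction.orbitRel G (X × X))) : ℂ) := by
  rw [← classInner_permChar_one (X × X)]
  have : ∀ g : G, Nat.card (MulAction.fixedBy (X × X) g) =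
      Nat.card (MulAction.fixedBy X g) * Nat.card (MulAction.fixedBy X g) := by
    intro g
    rw [← Nat.card_prod]
    exact Nat.card_congr
      { toFun := fun q => (⟨q.1.1, congrArg Prod.fst q.2⟩, ⟨q.1.2, congrArg Prod.snd q.2⟩)
        invFun := fun q => ⟨(q.1.1, q.2.1), Prod.ext q.1.2 q.2.2⟩
        left_inv := fun q => rfl
        right_inv := fun q => rfl }
  unfold classInner
  simp [this, map_natCast]

theorem card_orbits_prod_eq_two_iff [MulAction.IsPretransitive G X] [Finite X]
    (hX : 2 ≤ Nat.card X) :
    Nat.card (Quotient (MulAction.orbitRel G (X × X))) = 2 ↔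
      MulAction.IsMultiplyPretransitive G X 2 := by
  haveI : Nontrivial X := Finite.one_lt_card_iff_nontrivial.mp hX
  obtain ⟨a, b, hab⟩ := exists_pair_ne X
  let q : X × X → Quotient (MulAction.orbitRel G (X × X)) := Quotient.mk _
  have hq : ∀ y z : X × X, q y = q z ↔ ∃ g : G, g • z = y := fun y z => Quotient.eq
  have hne : q (a, a) ≠ q (a, b) := fun h => by
    obtain ⟨g, hg⟩ := (hq _ _).mp h
    obtain ⟨h1, h2⟩ := Prod.mk.injEq .. ▸ hg
    exact hab (MulAction.injective g (h1.trans h2.symm))
  rw [MulAction.is_two_pretransitive_iff]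
  constructor
  · intro h c d c' d' hcd hcd'
    have key : ∀ e f : X, e ≠ f → q (e, f) = q (a, b) := by
      intro e f hef
      by_contra hne'
      obtain ⟨u, v, -, huv⟩ := Nat.card_eq_two_iff.mp h
      have hd : q (e, f) ≠ q (a, a) := fun h' => by
        obtain ⟨g, hg⟩ := (hq _ _).mp h'
        obtain ⟨h1, h2⟩ := Prod.mk.injEq .. ▸ hg
        exact hef (h1.symm.trans h2)
      have m : ∀ z, z = u ∨ z = v := fun z => by
        have := huv.ge (Set.mem_univ z)
        simpa using this
      rcases m (q (e, f)) with h1 | h1 <;> rcases m (q (a, b)) with h2 | h2 <;>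
        rcases m (q (a, a)) with h3 | h3 <;> simp_all
    obtain ⟨g, hg⟩ := (hq _ _).mp ((key c' d' hcd').trans (key c d hcd).symm)
    exact ⟨g, congrArg Prod.fst hg, congrArg Prod.snd hg⟩
  · intro h
    rw [Nat.card_eq_two_iff]
    refine ⟨q (a, a), q (a, b), hne, Set.eq_univ_of_forall fun z => ?_⟩
    induction z using Quotient.inductionOn with
    | _ y =>
      obtain ⟨c, d⟩ := y
      by_cases hcd : c = d
      · subst hcd
        obtain ⟨g, hg⟩ := MulAction.exists_smul_eq G a c
        exact Or.inl ((hq _ _).mpr ⟨g, Prod.ext hg hg⟩)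
      · obtain ⟨g, h1, h2⟩ := h hab hcd
        exact Or.inr ((hq _ _).mpr ⟨g, Prod.ext h1 h2⟩)

/-- A transitive action is doubly transitive iff `permChar - 1` is irreducible. -/
theorem isIrr_permChar_sub_one_iff [Fintype G] [Finite X] [MulAction.IsPretransitive G X]
    (hX : 2 ≤ Nat.card X) :
    IsIrrCharacter G (fun g => (Nat.card (MulAction.fixedBy X g) : ℂ) - 1) ↔
      MulAction.IsMultiplyPretransitive G X 2 := by
  classical
  rw [← card_orbits_prod_eq_two_iff X hX]
  set π : G → ℂ := fun g => (Nat.card (MulAction.fixedBy X g) : ℂ) with hπ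
  have hone : classInner π (fun _ => 1) = 1 := by
    rw [hπ, classInner_permChar_one]
    haveI : Nonempty X := (Nat.card_pos_iff.mp (by omega)).1
    have : Subsingleton (Quotient (MulAction.orbitRel G X)) :=
      MulAction.pretransitive_iff_subsingleton_quotient G X |>.mp inferInstance
    haveI : Nonempty (Quotient (MulAction.orbitRel G X)) :=
      ⟨Quotient.mk _ (Classical.arbitrary X)⟩
    rw [Nat.card_of_subsingleton (Classical.arbitrary _), Nat.cast_one]
  have hchar : IsCharacter G (fun g => π g - 1) := by
    rw [isCharacter_iff_classInner_nat]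
    have hπc := isCharacter_permChar (G := G) X
    refine ⟨fun g h => by
      have := IsCharacter.isClassFunction hπc g h
      show π (h * g * h⁻¹) - 1 = π g - 1
      rw [hπ]
      beta_reduce
      rw [this], fun χ => ?_⟩
    obtain ⟨k, hk⟩ := IsCharacter.exists_classInner_nat hπc (irr_isCharacter χ)
    have he : (fun g => π g - 1) = π - fun _ => (1 : ℂ) := rfl
    rw [he, classInner_sub_left, show classInner π (χ : G → ℂ) = k from hk]
    by_cases hχ : χ = trivIrr G
    · have : k = 1 := by
        have : (k : ℂ) = 1 := by rw [← hk, hχ]; exact hone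
        exact_mod_cast this
      refine ⟨0, ?_⟩
      rw [hχ, show (trivIrr G : G → ℂ) = fun _ => 1 from rfl,
        IsIrrCharacter.classInner_self isIrrCharacter_one, this]
      simp
    · refine ⟨k, ?_⟩
      rw [IsIrrCharacter.classInner_ne isIrrCharacter_one χ.2
        (fun h => hχ (Subtype.ext h.symm)), sub_zero]
  have hone' : classInner (fun _ : G => (1 : ℂ)) π = 1 := by
    rw [← classInner_conj_symm, hone, map_one]
  rw [IsCharacter.isIrr_iff hchar, show (fun g => π g - 1) = π - fun _ => (1 : ℂ) from rfl,
    classInner_sub_left, classInner_sub_right, classInner_sub_right, hone, hone',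
    IsIrrCharacter.classInner_self isIrrCharacter_one, hπ, classInner_permChar_self, sub_self,
    sub_zero, sub_eq_iff_eq_add, show (1 : ℂ) + 1 = ((2 : ℕ) : ℂ) by norm_num, Nat.cast_inj]

end Cfsg.Agent.Lib.Characters
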