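import Cfsg.Agent.Lib.Characters.Basic
import Mathlib.GroupTheory.Rank
import Mathlib.Algebra.BigOperators.Finprod
import Mathlib.GroupTheory.GroupAction.ConjAct
import Mathlib.Algebra.Group.Conj
import Mathlib.LinearAlgebra.LinearIndependent.Lemmas
import Mathlib.LinearAlgebra.FiniteDimensional.Lemmas

/-!
# Orthogonality, completeness and decomposition of class functions

Sums over `IrrCharacter G` use an arbitrary `[Fintype (IrrCharacter G)]`; convert with
`finsum_eq_sum_of_fintype` and `Fintype.ofFinite`.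
-/

namespace Cfsg.Agent.Lib.Characters

open Module
open scoped ComplexConjugate

set_option linter.unusedSectionVars false
set_option linter.unusedSimpArgs false
set_option linter.style.haveILetI false

universe u v w

variable {G : Type u} [Group G]

section Inner

variable [Fintype G]

theorem classInner_add_left (φ ψ θ : G → ℂ) :
    classInner (φ + ψ) θ = classInner φ θ + classInner ψ θ := by
  simp only [classInner, Pi.add_apply, add_mul, Finset.sum_add_distrib, mul_add]

theorem classInner_sub_left (φ ψ θ : G → ℂ) :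
    classInner (φ - ψ) θ = classInner φ θ - classInner ψ θ := by
  simp only [classInner, Pi.sub_apply, sub_mul, Finset.sum_sub_distrib, mul_sub]

theorem classInner_add_right (θ φ ψ : G → ℂ) :
    classInner θ (φ + ψ) = classInner θ φ + classInner θ ψ := by
  simp only [classInner, Pi.add_apply, map_add, mul_add, Finset.sum_add_distrib]

theorem classInner_sub_right (θ φ ψ : G → ℂ) :
    classInner θ (φ - ψ) = classInner θ φ - classInner θ ψ := by
  simp only [classInner, Pi.sub_apply, map_sub, mul_sub, Finset.sum_sub_distrib]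

theorem classInner_smul_left (c : ℂ) (φ ψ : G → ℂ) :
    classInner (c • φ) ψ = c * classInner φ ψ := by
  simp only [classInner, Pi.smul_apply, smul_eq_mul, Finset.mul_sum]
  exact Finset.sum_congr rfl fun g _ => by ring

theorem classInner_smul_right (c : ℂ) (φ ψ : G → ℂ) :
    classInner φ (c • ψ) = conj c * classInner φ ψ := by
  simp only [classInner, Pi.smul_apply, smul_eq_mul, map_mul, Finset.mul_sum]
  exact Finset.sum_congr rfl fun g _ => by ring

theorem classInner_natCast_smul_right (k : ℕ) (φ ψ : G → ℂ) :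
    classInner φ ((k : ℂ) • ψ) = k * classInner φ ψ := by
  rw [classInner_smul_right, map_natCast]

theorem classInner_intCast_smul_right (k : ℤ) (φ ψ : G → ℂ) :
    classInner φ ((k : ℂ) • ψ) = k * classInner φ ψ := by
  rw [classInner_smul_right, map_intCast]

theorem classInner_neg_left (φ ψ : G → ℂ) : classInner (-φ) ψ = -classInner φ ψ := by
  simp [classInner]

theorem classInner_neg_right (φ ψ : G → ℂ) : classInner φ (-ψ) = -classInner φ ψ := by
  simp [classInner]

@[simp] theorem classInner_zero_left (ψ : G → ℂ) : classInner 0 ψ = 0 := by simp [classInner]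

@[simp] theorem classInner_zero_right (ψ : G → ℂ) : classInner ψ 0 = 0 := by simp [classInner]

theorem classInner_sum_left {ι : Type*} (s : Finset ι) (f : ι → G → ℂ) (ψ : G → ℂ) :
    classInner (∑ i ∈ s, f i) ψ = ∑ i ∈ s, classInner (f i) ψ := by
  classical
  induction s using Finset.induction with
  | empty => simp
  | insert i s hi ih => rw [Finset.sum_insert hi, Finset.sum_insert hi, classInner_add_left, ih]

theorem classInner_sum_right {ι : Type*} (s : Finset ι) (φ : G → ℂ) (f : ι → G → ℂ) :
    classInner φ (∑ i ∈ s, f i) = ∑ i ∈ s, classInner φ (f i) := by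
  classical
  induction s using Finset.induction with
  | empty => simp
  | insert i s hi ih => rw [Finset.sum_insert hi, Finset.sum_insert hi, classInner_add_right, ih]

theorem classInner_conj_symm (φ ψ : G → ℂ) : conj (classInner φ ψ) = classInner ψ φ := by
  simp only [classInner, map_mul, map_inv₀, map_natCast, map_sum, Complex.conj_conj]
  exact congrArg _ (Finset.sum_congr rfl fun g _ => mul_comm _ _)

theorem classInner_conj_conj (φ ψ : G → ℂ) :
    classInner (fun g => conj (φ g)) (fun g => conj (ψ g)) = classInner ψ φ := by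
  simp only [classInner, Complex.conj_conj]
  exact congrArg _ (Finset.sum_congr rfl fun g _ => mul_comm _ _)

theorem classInner_comp_equiv {H : Type w} [Group H] [Fintype H] (e : H ≃* G) (φ ψ : G → ℂ) :
    classInner (φ ∘ e) (ψ ∘ e) = classInner φ ψ := by
  unfold classInner
  rw [Nat.card_congr e.toEquiv]
  exact congrArg _ (Fintype.sum_equiv e.toEquiv _ _ fun x => rfl)

theorem natCard_ne_zero_complex : (Nat.card G : ℂ) ≠ 0 := by
  exact_mod_cast Nat.card_pos.ne'

theorem classInner_self_re_nonneg (φ : G → ℂ) : 0 ≤ (classInner φ φ).re := by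
  have : classInner φ φ = (((Nat.card G : ℝ)⁻¹ * ∑ g, ‖φ g‖ ^ 2 : ℝ) : ℂ) := by
    simp [classInner, Complex.mul_conj, Complex.normSq_eq_norm_sq]
  rw [this, Complex.ofReal_re]
  positivity

theorem classInner_self_eq_zero {φ : G → ℂ} (h : classInner φ φ = 0) : φ = 0 := by
  have he : classInner φ φ = (((Nat.card G : ℝ)⁻¹ * ∑ g, ‖φ g‖ ^ 2 : ℝ) : ℂ) := by
    simp [classInner, Complex.mul_conj, Complex.normSq_eq_norm_sq]
  rw [he, Complex.ofReal_eq_zero] at h
  have hne : (Nat.card G : ℝ)⁻¹ ≠ 0 := by
    simp [Nat.card_pos.ne']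
  have h2 := (Finset.sum_eq_zero_iff_of_nonneg fun g _ => sq_nonneg ‖φ g‖).mp
    ((mul_eq_zero.mp h).resolve_left hne)
  funext g
  simpa using h2 g (Finset.mem_univ g)

/-- For a character in the second slot, `classInner` is the unconjugated average with `g⁻¹`. -/
theorem classInner_eq_sum_inv {ψ : G → ℂ} (hψ : IsCharacter G ψ) (φ : G → ℂ) :
    classInner φ ψ = (Nat.card G : ℂ)⁻¹ * ∑ g, φ g * ψ g⁻¹ := by
  simp only [classInner, IsCharacter.apply_inv hψ]

theorem classInner_char_eq_finrank {V : Type v} [AddCommGroup V] [Module ℂ V]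
    [FiniteDimensional ℂ V] {W : Type w} [AddCommGroup W] [Module ℂ W] [FiniteDimensional ℂ W]
    (ρ : Representation ℂ G V) (σ : Representation ℂ G W) :
    classInner σ.character ρ.character = (finrank ℂ (ρ.IntertwiningMap σ) : ℂ) := by
  haveI : Invertible (Nat.card G : ℂ) := invertibleOfNonzero natCard_ne_zero_complex
  rw [classInner_eq_sum_inv (isCharacter_of_rep ρ)]
  exact Representation.card_inv_mul_sum_char_mul_char_eq_finrank ρ σ

open scoped Classical in
theorem classInner_char_irr {V : Type v} [AddCommGroup V] [Module ℂ V] [FiniteDimensional ℂ V]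
    {W : Type w} [AddCommGroup W] [Module ℂ W] [FiniteDimensional ℂ W]
    (ρ : Representation ℂ G V) (σ : Representation ℂ G W) [ρ.IsIrreducible] [σ.IsIrreducible] :
    classInner ρ.character σ.character = if Nonempty (σ.Equiv ρ) then 1 else 0 := by
  haveI : Invertible (Nat.card G : ℂ) := invertibleOfNonzero natCard_ne_zero_complex
  rw [classInner_eq_sum_inv (isCharacter_of_rep σ)]
  simpa using Representation.char_orthonormal ρ σ

theorem IsIrrCharacter.classInner_self {χ : G → ℂ} (hχ : IsIrrCharacter G χ) :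
    classInner χ χ = 1 := by
  obtain ⟨n, ρ, hρ, rfl⟩ := hχ
  rw [classInner_char_irr, if_pos ⟨Representation.Equiv.refl ρ⟩]

theorem IsIrrCharacter.classInner_ne {χ ψ : G → ℂ} (hχ : IsIrrCharacter G χ)
    (hψ : IsIrrCharacter G ψ) (hne : χ ≠ ψ) : classInner χ ψ = 0 := by
  obtain ⟨n, ρ, hρ, rfl⟩ := hχ
  obtain ⟨m, σ, hσ, rfl⟩ := hψ
  rw [classInner_char_irr, if_neg]
  rintro ⟨e⟩
  exact hne (Representation.char_iso e).symm

open scoped Classical in
/-- First orthogonality relation. -/
theorem classInner_irr (χ ψ : IrrCharacter G) :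
    classInner (χ : G → ℂ) (ψ : G → ℂ) = if χ = ψ then 1 else 0 := by
  split_ifs with h
  · subst h; exact IsIrrCharacter.classInner_self χ.2
  · exact IsIrrCharacter.classInner_ne χ.2 ψ.2 fun h' => h (Subtype.ext h')

theorem IsCharacter.exists_classInner_nat {φ ψ : G → ℂ} (hφ : IsCharacter G φ)
    (hψ : IsCharacter G ψ) : ∃ k : ℕ, classInner φ ψ = (k : ℂ) := by
  obtain ⟨n, ρ, rfl⟩ := hφ
  obtain ⟨m, σ, rfl⟩ := hψ
  exact ⟨_, classInner_char_eq_finrank σ ρ⟩

theorem IsCharacter.classInner_comm {φ ψ : G → ℂ} (hφ : IsCharacter G φ) (hψ : IsCharacter G ψ) :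
    classInner φ ψ = classInner ψ φ := by
  obtain ⟨k, hk⟩ := IsCharacter.exists_classInner_nat hφ hψ
  rw [← classInner_conj_symm φ ψ, hk, map_natCast]

end Inner

theorem irr_linearIndependent [Finite G] :
    LinearIndependent ℂ (fun χ : IrrCharacter G => (χ : G → ℂ)) := by
  classical
  haveI := Fintype.ofFinite G
  rw [linearIndependent_iff']
  intro s c hc i hi
  have h := congrArg (fun f => classInner f (i : G → ℂ)) hc
  simpa [classInner_sum_left, classInner_smul_left, classInner_irr, hi] using h

instance finite_irrCharacter [Finite G] : Finite (IrrCharacter G) :=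
  haveI := Fintype.ofFinite G
  irr_linearIndependent.finite

theorem IsClassFunction.add {φ ψ : G → ℂ} (hφ : IsClassFunction G φ) (hψ : IsClassFunction G ψ) :
    IsClassFunction G (φ + ψ) := fun g h => by simp [hφ g h, hψ g h]

theorem IsClassFunction.sub {φ ψ : G → ℂ} (hφ : IsClassFunction G φ) (hψ : IsClassFunction G ψ) :
    IsClassFunction G (φ - ψ) := fun g h => by simp [hφ g h, hψ g h]

theorem IsClassFunction.smul {φ : G → ℂ} (hφ : IsClassFunction G φ) (c : ℂ) :
    IsClassFunction G (c • φ) := fun g h => by simp [hφ g h]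

theorem IsClassFunction.sum {ι : Type*} (s : Finset ι) {f : ι → G → ℂ}
    (h : ∀ i ∈ s, IsClassFunction G (f i)) : IsClassFunction G (∑ i ∈ s, f i) := fun g x => by
  simp only [Finset.sum_apply]
  exact Finset.sum_congr rfl fun i hi => h i hi g x

section Decomposition

variable [Fintype G] [Fintype (IrrCharacter G)]

/-- The inner product of a combination of irreducible characters with one of them. -/
theorem classInner_irr_sum (c : IrrCharacter G → ℂ) (ψ : IrrCharacter G) :
    classInner (∑ χ : IrrCharacter G, c χ • (χ : G → ℂ)) (ψ : G → ℂ) = c ψ := by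
  classical
  simp [classInner_sum_left, classInner_smul_left, classInner_irr]

theorem classInner_sum_sum (a b : IrrCharacter G → ℂ) :
    classInner (∑ χ : IrrCharacter G, a χ • (χ : G → ℂ)) (∑ χ : IrrCharacter G, b χ • (χ : G → ℂ))
      = ∑ χ, a χ * conj (b χ) := by
  classical
  rw [classInner_sum_right]
  simp only [classInner_smul_right, classInner_irr_sum, mul_comm]

theorem isClassFunction_irr_sum (c : IrrCharacter G → ℂ) :
    IsClassFunction G (∑ χ : IrrCharacter G, c χ • (χ : G → ℂ)) :=
  IsClassFunction.sum _ fun χ _ => IsClassFunction.smul (irr_isClassFunction χ) _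

/-- Every class function is the combination of irreducible characters given by inner products. -/
theorem eq_sum_classInner {θ : G → ℂ} (hθ : IsClassFunction G θ) :
    θ = ∑ χ : IrrCharacter G, classInner θ (χ : G → ℂ) • (χ : G → ℂ) := by
  set d := θ - ∑ χ : IrrCharacter G, classInner θ (χ : G → ℂ) • (χ : G → ℂ) with hd
  have hcl : IsClassFunction G d := IsClassFunction.sub hθ (isClassFunction_irr_sum _)
  have horth : ∀ ψ : IrrCharacter G, classInner d (ψ : G → ℂ) = 0 := fun ψ => by
    rw [hd, classInner_sub_left, classInner_irr_sum, sub_self]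
  have hzero : (fun g => d g⁻¹) = 0 := by
    refine eq_zero_of_forall_irr _ (fun g h => ?_) ?_
    · show d (h * g * h⁻¹)⁻¹ = d g⁻¹
      rw [← hcl g⁻¹ h]
      group
    · intro V _ _ _ ρ hρ
      have h0 := horth ⟨ρ.character, isIrrCharacter_of_rep ρ⟩
      rw [classInner_eq_sum_inv (isCharacter_of_rep ρ), mul_eq_zero] at h0
      have h1 := h0.resolve_left (inv_ne_zero natCard_ne_zero_complex)
      rw [← h1]
      exact Fintype.sum_equiv (Equiv.inv G) _ _ fun g => by simp
  have : d = 0 := funext fun g => by simpa using congrFun hzero g⁻¹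
  exact sub_eq_zero.mp this

theorem ext_classInner {θ φ : G → ℂ} (hθ : IsClassFunction G θ) (hφ : IsClassFunction G φ)
    (h : ∀ χ : IrrCharacter G, classInner θ (χ : G → ℂ) = classInner φ (χ : G → ℂ)) : θ = φ := by
  rw [eq_sum_classInner hθ, eq_sum_classInner hφ]
  simp only [h]

theorem classInner_eq_sum_irr {θ φ : G → ℂ} (hθ : IsClassFunction G θ)
    (hφ : IsClassFunction G φ) :
    classInner θ φ = ∑ χ : IrrCharacter G,
      classInner θ (χ : G → ℂ) * conj (classInner φ (χ : G → ℂ)) := by
  conv_lhs => rw [eq_sum_classInner hθ, eq_sum_classInner hφ]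
  exact classInner_sum_sum _ _

/-- A character is a natural combination of irreducible characters. -/
theorem IsCharacter.exists_nat_decomp {φ : G → ℂ} (hφ : IsCharacter G φ) :
    ∃ m : IrrCharacter G → ℕ, φ = ∑ χ : IrrCharacter G, (m χ : ℂ) • (χ : G → ℂ) ∧
      ∀ χ : IrrCharacter G, classInner φ (χ : G → ℂ) = (m χ : ℂ) := by
  choose m hm using fun χ : IrrCharacter G =>
    IsCharacter.exists_classInner_nat hφ (irr_isCharacter χ)
  refine ⟨m, ?_, hm⟩
  conv_lhs => rw [eq_sum_classInner (IsCharacter.isClassFunction hφ)]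
  simp only [hm]

theorem isCharacter_nat_sum (m : IrrCharacter G → ℕ) :
    IsCharacter G (∑ χ : IrrCharacter G, (m χ : ℂ) • (χ : G → ℂ)) :=
  IsCharacter.sum _ fun χ _ => IsCharacter.natCast_smul (irr_isCharacter χ) _

theorem isGeneralizedCharacter_int_sum (c : IrrCharacter G → ℤ) :
    IsGeneralizedCharacter G (∑ χ : IrrCharacter G, (c χ : ℂ) • (χ : G → ℂ)) := by
  refine ⟨_, _, isCharacter_nat_sum fun χ => (c χ).toNat,
    isCharacter_nat_sum fun χ => (-c χ).toNat, ?_⟩
  rw [← Finset.sum_sub_distrib]
  refine Finset.sum_congr rfl fun χ _ => ?_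
  rw [← sub_smul]
  congr 1
  exact_mod_cast (Int.toNat_sub_toNat_neg (c χ)).symm

end Decomposition

theorem isCharacter_iff_classInner_nat [Fintype G] {θ : G → ℂ} :
    IsCharacter G θ ↔
      IsClassFunction G θ ∧ ∀ χ : IrrCharacter G, ∃ k : ℕ, classInner θ (χ : G → ℂ) = k := by
  haveI := Fintype.ofFinite (IrrCharacter G)
  refine ⟨fun h => ⟨IsCharacter.isClassFunction h,
    fun χ => IsCharacter.exists_classInner_nat h (irr_isCharacter χ)⟩, fun ⟨hc, hk⟩ => ?_⟩
  choose m hm using hk
  rw [eq_sum_classInner hc]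
  simp only [hm]
  exact isCharacter_nat_sum m

theorem IsCharacter.isGeneralizedCharacter {χ : G → ℂ} (h : IsCharacter G χ) :
    IsGeneralizedCharacter G χ :=
  ⟨χ, 0, h, isCharacter_zero, (sub_zero χ).symm⟩

theorem IsGeneralizedCharacter.isClassFunction {θ : G → ℂ} (h : IsGeneralizedCharacter G θ) :
    IsClassFunction G θ := by
  obtain ⟨χ, ψ, hχ, hψ, rfl⟩ := h
  exact fun g x => by
    simp [IsCharacter.isClassFunction hχ g x, IsCharacter.isClassFunction hψ g x]

theorem IsGeneralizedCharacter.add {θ φ : G → ℂ} (hθ : IsGeneralizedCharacter G θ)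
    (hφ : IsGeneralizedCharacter G φ) : IsGeneralizedCharacter G (θ + φ) := by
  obtain ⟨a, b, ha, hb, rfl⟩ := hθ
  obtain ⟨c, d, hc, hd, rfl⟩ := hφ
  exact ⟨a + c, b + d, IsCharacter.add ha hc, IsCharacter.add hb hd, sub_add_sub_comm a b c d⟩

theorem IsGeneralizedCharacter.neg {θ : G → ℂ} (hθ : IsGeneralizedCharacter G θ) :
    IsGeneralizedCharacter G (-θ) := by
  obtain ⟨a, b, ha, hb, rfl⟩ := hθ
  exact ⟨b, a, hb, ha, neg_sub a b⟩

theorem IsGeneralizedCharacter.sub {θ φ : G → ℂ} (hθ : IsGeneralizedCharacter G θ)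
    (hφ : IsGeneralizedCharacter G φ) : IsGeneralizedCharacter G (θ - φ) := by
  rw [sub_eq_add_neg]
  exact IsGeneralizedCharacter.add hθ (IsGeneralizedCharacter.neg hφ)

theorem IsGeneralizedCharacter.intCast_smul {θ : G → ℂ} (hθ : IsGeneralizedCharacter G θ) (k : ℤ) :
    IsGeneralizedCharacter G ((k : ℂ) • θ) := by
  obtain ⟨a, b, ha, hb, rfl⟩ := hθ
  obtain ⟨m, rfl | rfl⟩ := Int.eq_nat_or_neg k
  · exact ⟨(m : ℂ) • a, (m : ℂ) • b, IsCharacter.natCast_smul ha m, IsCharacter.natCast_smul hb m,
      by rw [Int.cast_natCast, smul_sub]⟩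
  · exact ⟨(m : ℂ) • b, (m : ℂ) • a, IsCharacter.natCast_smul hb m, IsCharacter.natCast_smul ha m,
      by rw [Int.cast_neg, Int.cast_natCast, neg_smul, smul_sub, neg_sub]⟩

theorem IsGeneralizedCharacter.sum {ι : Type*} (s : Finset ι) {f : ι → G → ℂ}
    (h : ∀ i ∈ s, IsGeneralizedCharacter G (f i)) : IsGeneralizedCharacter G (∑ i ∈ s, f i) :=
  Finset.sum_induction _ _ (fun _ _ => IsGeneralizedCharacter.add)
    (IsCharacter.isGeneralizedCharacter isCharacter_zero) h

theorem IsGeneralizedCharacter.mul {θ φ : G → ℂ} (hθ : IsGeneralizedCharacter G θ)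
    (hφ : IsGeneralizedCharacter G φ) : IsGeneralizedCharacter G (θ * φ) := by
  obtain ⟨a, b, ha, hb, rfl⟩ := hθ
  obtain ⟨c, d, hc, hd, rfl⟩ := hφ
  exact ⟨a * c + b * d, a * d + b * c,
    IsCharacter.add (IsCharacter.mul ha hc) (IsCharacter.mul hb hd),
    IsCharacter.add (IsCharacter.mul ha hd) (IsCharacter.mul hb hc), by ring⟩

theorem IsGeneralizedCharacter.comp {H : Type w} [Group H] {θ : G → ℂ}
    (h : IsGeneralizedCharacter G θ) (f : H →* G) : IsGeneralizedCharacter H (θ ∘ f) := by
  obtain ⟨a, b, ha, hb, rfl⟩ := h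
  exact ⟨a ∘ f, b ∘ f, IsCharacter.comp ha f, IsCharacter.comp hb f, rfl⟩

theorem IsGeneralizedCharacter.apply_inv [Finite G] {θ : G → ℂ}
    (h : IsGeneralizedCharacter G θ) (g : G) : θ g⁻¹ = conj (θ g) := by
  obtain ⟨a, b, ha, hb, rfl⟩ := h
  simp [IsCharacter.apply_inv ha, IsCharacter.apply_inv hb]

theorem IsGeneralizedCharacter.exists_apply_one {θ : G → ℂ}
    (h : IsGeneralizedCharacter G θ) : ∃ k : ℤ, θ 1 = k := by
  obtain ⟨a, b, ha, hb, rfl⟩ := h
  obtain ⟨m, hm⟩ := IsCharacter.exists_apply_one ha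
  obtain ⟨n, hn⟩ := IsCharacter.exists_apply_one hb
  exact ⟨(m : ℤ) - n, by simp [hm, hn]⟩

theorem IsGeneralizedCharacter.exists_classInner_int [Fintype G] {θ φ : G → ℂ}
    (hθ : IsGeneralizedCharacter G θ) (hφ : IsGeneralizedCharacter G φ) :
    ∃ k : ℤ, classInner θ φ = k := by
  obtain ⟨a, b, ha, hb, rfl⟩ := hθ
  obtain ⟨c, d, hc, hd, rfl⟩ := hφ
  obtain ⟨k₁, h₁⟩ := IsCharacter.exists_classInner_nat ha hc
  obtain ⟨k₂, h₂⟩ := IsCharacter.exists_classInner_nat ha hd
  obtain ⟨k₃, h₃⟩ := IsCharacter.exists_classInner_nat hb hc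
  obtain ⟨k₄, h₄⟩ := IsCharacter.exists_classInner_nat hb hd
  exact ⟨((k₁ : ℤ) - k₂) - ((k₃ : ℤ) - k₄), by
    simp [classInner_sub_left, classInner_sub_right, h₁, h₂, h₃, h₄]; ring⟩

theorem IsGeneralizedCharacter.exists_int_decomp [Fintype G] [Fintype (IrrCharacter G)] {θ : G → ℂ}
    (hθ : IsGeneralizedCharacter G θ) :
    ∃ c : IrrCharacter G → ℤ, θ = ∑ χ : IrrCharacter G, (c χ : ℂ) • (χ : G → ℂ) ∧
      ∀ χ : IrrCharacter G, classInner θ (χ : G → ℂ) = (c χ : ℂ) := by
  choose c hc using fun χ : IrrCharacter G => IsGeneralizedCharacter.exists_classInner_int hθ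
    (IsCharacter.isGeneralizedCharacter (irr_isCharacter χ))
  refine ⟨c, ?_, hc⟩
  conv_lhs => rw [eq_sum_classInner (IsGeneralizedCharacter.isClassFunction hθ)]
  simp only [hc]

theorem isGeneralizedCharacter_iff_classInner_int [Fintype G] {θ : G → ℂ} :
    IsGeneralizedCharacter G θ ↔
      IsClassFunction G θ ∧ ∀ χ : IrrCharacter G, ∃ k : ℤ, classInner θ (χ : G → ℂ) = k := by
  haveI := Fintype.ofFinite (IrrCharacter G)
  refine ⟨fun h => ⟨IsGeneralizedCharacter.isClassFunction h, fun χ =>
    IsGeneralizedCharacter.exists_classInner_int h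
      (IsCharacter.isGeneralizedCharacter (irr_isCharacter χ))⟩, fun ⟨hc, hk⟩ => ?_⟩
  choose c hc' using hk
  rw [eq_sum_classInner hc]
  simp only [hc']
  exact isGeneralizedCharacter_int_sum c

/-- A generalized character of norm one is an irreducible character up to sign. -/
theorem IsGeneralizedCharacter.eq_pm_irr [Fintype G] {θ : G → ℂ}
    (hθ : IsGeneralizedCharacter G θ) (h1 : classInner θ θ = 1) :
    ∃ χ : IrrCharacter G, θ = (χ : G → ℂ) ∨ θ = -(χ : G → ℂ) := by
  classical
  haveI := Fintype.ofFinite (IrrCharacter G)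
  obtain ⟨c, hc, -⟩ := IsGeneralizedCharacter.exists_int_decomp hθ
  have hsq : ∑ χ : IrrCharacter G, c χ ^ 2 = 1 := by
    rw [hc, classInner_sum_sum] at h1
    simp only [map_intCast] at h1
    exact_mod_cast (by simpa [sq] using h1 :
      ((∑ χ : IrrCharacter G, c χ ^ 2 : ℤ) : ℂ) = ((1 : ℤ) : ℂ))
  obtain ⟨χ, hχ⟩ : ∃ χ, c χ ≠ 0 := by
    by_contra h
    push Not at h
    simp [h] at hsq
  have hsplit := Finset.add_sum_erase Finset.univ (fun ψ => c ψ ^ 2) (Finset.mem_univ χ)
  have hpos : 1 ≤ c χ ^ 2 := by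
    have : 0 < c χ ^ 2 := by positivity
    omega
  have hrest : ∑ ψ ∈ Finset.univ.erase χ, c ψ ^ 2 = 0 := by
    have : 0 ≤ ∑ ψ ∈ Finset.univ.erase χ, c ψ ^ 2 := Finset.sum_nonneg fun ψ _ => sq_nonneg _
    linarith
  have hz : ∀ ψ, ψ ≠ χ → c ψ = 0 := fun ψ hψ => by
    have := (Finset.sum_eq_zero_iff_of_nonneg fun ψ _ => sq_nonneg (c ψ)).mp hrest ψ
      (Finset.mem_erase.mpr ⟨hψ, Finset.mem_univ _⟩)
    simpa using this
  have hθ' : θ = (c χ : ℂ) • (χ : G → ℂ) := by
    rw [hc, Finset.sum_eq_single χ]
    · intro ψ _ hψ; simp [hz ψ hψ]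
    · simp
  have hc1 : c χ ^ 2 = 1 := by linarith
  refine ⟨χ, ?_⟩
  rcases sq_eq_one_iff.mp hc1 with h | h
  · exact Or.inl (by simp [hθ', h])
  · exact Or.inr (by simp [hθ', h])

/-- A character of norm one is irreducible. -/
theorem IsCharacter.isIrr_iff [Fintype G] {φ : G → ℂ} (hφ : IsCharacter G φ) :
    IsIrrCharacter G φ ↔ classInner φ φ = 1 := by
  refine ⟨IsIrrCharacter.classInner_self, fun h => ?_⟩
  obtain ⟨χ, hχ | hχ⟩ :=
    IsGeneralizedCharacter.eq_pm_irr (IsCharacter.isGeneralizedCharacter hφ) h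
  · exact hχ ▸ χ.2
  · exfalso
    obtain ⟨a, ha⟩ := IsCharacter.exists_apply_one hφ
    obtain ⟨b, hb, hb'⟩ := IsIrrCharacter.exists_apply_one χ.2
    rw [hχ, Pi.neg_apply, hb'] at ha
    have : (a : ℂ) + b = 0 := by rw [← ha]; ring
    have : a + b = 0 := by exact_mod_cast this
    omega

section Classes

theorem IsClassFunction.eq_of_isConj {θ : G → ℂ} (hθ : IsClassFunction G θ) {g h : G}
    (hgh : IsConj g h) : θ g = θ h := by
  obtain ⟨x, rfl⟩ := isConj_iff.mp hgh
  exact (hθ g x).symm

/-- The indicator function of a conjugacy class. -/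
noncomputable def classIndicator (g : G) : G → ℂ := fun x =>
  haveI := Classical.propDecidable (IsConj g x)
  if IsConj g x then 1 else 0

theorem isClassFunction_classIndicator (g : G) : IsClassFunction G (classIndicator g) := by
  intro x h
  have : IsConj g (h * x * h⁻¹) ↔ IsConj g x :=
    ⟨fun hh => hh.trans (isConj_iff.mpr ⟨h, rfl⟩).symm,
      fun hh => hh.trans (isConj_iff.mpr ⟨h, rfl⟩)⟩
  show classIndicator g (h * x * h⁻¹) = classIndicator g x
  unfold classIndicator
  split_ifs <;> simp_all only [not_true, iff_true, iff_false, true_iff, false_iff]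

theorem card_conj_mul_card_centralizer (g : G) :
    Nat.card {x : G // IsConj g x} * Nat.card (Subgroup.centralizer ({g} : Set G)) =
      Nat.card G := by
  have e : Nat.card {x : G // IsConj g x} = Nat.card (MulAction.orbit (ConjAct G) g) :=
    Nat.card_congr (Equiv.subtypeEquivRight fun x => by
      rw [ConjAct.mem_orbit_conjAct, isConj_comm])
  rw [e, Subgroup.nat_card_centralizer_nat_card_stabilizer, ← Nat.card_prod]
  exact (Nat.card_congr (MulAction.orbitProdStabilizerEquivGroup (ConjAct G) g)).trans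
    (Nat.card_congr ConjAct.ofConjAct.toEquiv)

theorem card_conj_eq_index [Finite G] (g : G) :
    Nat.card {x : G // IsConj g x} = (Subgroup.centralizer ({g} : Set G)).index := by
  have h1 := card_conj_mul_card_centralizer g
  rw [← Subgroup.index_mul_card (Subgroup.centralizer ({g} : Set G))] at h1
  exact Nat.eq_of_mul_eq_mul_right Nat.card_pos h1

theorem classInner_classIndicator [Fintype G] (g : G) {φ : G → ℂ} (hφ : IsClassFunction G φ) :
    classInner (classIndicator g) φ =
      (Nat.card {x : G // IsConj g x} : ℂ) / (Nat.card G : ℂ) * conj (φ g) := by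
  classical
  have : ∀ x : G, classIndicator g x * conj (φ x) = if IsConj g x then conj (φ g) else 0 := by
    intro x
    by_cases h : IsConj g x
    · rw [classIndicator, if_pos h, if_pos h, IsClassFunction.eq_of_isConj hφ h, one_mul]
    · rw [classIndicator, if_neg h, if_neg h, zero_mul]
  rw [classInner, Finset.sum_congr rfl fun x _ => this x, ← Finset.sum_filter, Finset.sum_const,
    nsmul_eq_mul, Nat.card_eq_fintype_card (α := {x : G // IsConj g x}), Fintype.card_subtype]
  ring

open scoped Classical in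
/-- Second orthogonality relation. -/
theorem sum_irr_mul_conj [Finite G] [Fintype (IrrCharacter G)] (g h : G) :
    ∑ χ : IrrCharacter G, (χ : G → ℂ) g * conj ((χ : G → ℂ) h) =
      if IsConj g h then (Nat.card (Subgroup.centralizer ({g} : Set G)) : ℂ) else 0 := by
  haveI := Fintype.ofFinite G
  have hd := congrFun (eq_sum_classInner (isClassFunction_classIndicator h)) g
  simp only [Finset.sum_apply, Pi.smul_apply, smul_eq_mul,
    classInner_classIndicator h (irr_isClassFunction _)] at hd
  set S := ∑ χ : IrrCharacter G, (χ : G → ℂ) g * conj ((χ : G → ℂ) h) with hS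
  have h2 : classIndicator h g =
      (Nat.card {x : G // IsConj h x} : ℂ) / (Nat.card G : ℂ) * S := by
    rw [hd, hS, Finset.mul_sum]
    exact Finset.sum_congr rfl fun χ _ => by ring
  have hcard : (Nat.card {x : G // IsConj h x} : ℂ) *
      Nat.card (Subgroup.centralizer ({h} : Set G)) = Nat.card G := by
    exact_mod_cast card_conj_mul_card_centralizer h
  have hG : (Nat.card G : ℂ) ≠ 0 := natCard_ne_zero_complex
  have hk : (Nat.card {x : G // IsConj h x} : ℂ) ≠ 0 := fun h0 => hG (by rw [← hcard, h0, zero_mul])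
  split_ifs with hc
  · have hcl : classIndicator h g = 1 := by simp only [classIndicator, hc.symm, if_true]
    rw [hcl] at h2
    have he : Nat.card {x : G // IsConj h x} = Nat.card {x : G // IsConj g x} :=
      Nat.card_congr (Equiv.subtypeEquivRight fun x => ⟨hc.trans, hc.symm.trans⟩)
    have hg := card_conj_mul_card_centralizer g
    rw [← he] at hg
    have hg' : (Nat.card {x : G // IsConj h x} : ℂ) *
        Nat.card (Subgroup.centralizer ({g} : Set G)) = Nat.card G := by exact_mod_cast hg
    field_simp at h2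
    exact mul_left_cancel₀ hk (h2.symm.trans hg'.symm)
  · have hcl : classIndicator h g = 0 := by
      have : ¬ IsConj h g := fun h' => hc h'.symm
      simp only [classIndicator, this, if_false]
    rw [hcl] at h2
    exact (mul_eq_zero.mp h2.symm).resolve_left (div_ne_zero hk hG)

theorem sum_degree_sq [Finite G] [Fintype (IrrCharacter G)] :
    ∑ χ : IrrCharacter G, (χ : G → ℂ) 1 ^ 2 = (Nat.card G : ℂ) := by
  classical
  have h := sum_irr_mul_conj (1 : G) 1
  have hc : Subgroup.centralizer ({(1 : G)} : Set G) = ⊤ := by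
    ext x; simp [Subgroup.mem_centralizer_singleton_iff]
  rw [if_pos (IsConj.refl 1), hc, Subgroup.card_top] at h
  rw [← h]
  refine Finset.sum_congr rfl fun χ _ => ?_
  obtain ⟨n, -, hn⟩ := IsIrrCharacter.exists_apply_one χ.2
  rw [hn, map_natCast]; ring

/-- Sums over the irreducible characters of degree times value give the regular character. -/
theorem sum_degree_mul [Finite G] [DecidableEq G] [Fintype (IrrCharacter G)] (g : G) :
    ∑ χ : IrrCharacter G, (χ : G → ℂ) 1 * (χ : G → ℂ) g =
      if g = 1 then (Nat.card G : ℂ) else 0 := by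
  classical
  split_ifs with hg
  · subst hg
    rw [← sum_degree_sq (G := G)]
    exact Finset.sum_congr rfl fun χ _ => (sq _).symm
  · have h := sum_irr_mul_conj g (1 : G)
    rw [if_neg (fun h' => hg (isConj_one_left.mp h'))] at h
    rw [← h]
    refine Finset.sum_congr rfl fun χ _ => ?_
    obtain ⟨n, -, hn⟩ := IsIrrCharacter.exists_apply_one χ.2
    rw [hn, map_natCast, mul_comm]

theorem isConj_iff_forall_irr [Finite G] (g h : G) :
    IsConj g h ↔ ∀ χ : IrrCharacter G, (χ : G → ℂ) g = (χ : G → ℂ) h := by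
  classical
  haveI := Fintype.ofFinite (IrrCharacter G)
  refine ⟨fun hc χ => IsClassFunction.eq_of_isConj (irr_isClassFunction χ) hc, fun hall => ?_⟩
  by_contra hc
  have h1 := sum_irr_mul_conj g h
  rw [if_neg hc] at h1
  simp only [hall] at h1
  have h2 := sum_irr_mul_conj h h
  rw [if_pos (IsConj.refl h), h1] at h2
  exact (Nat.cast_ne_zero.mpr Nat.card_pos.ne') h2.symm

/-- The number of irreducible characters is the number of conjugacy classes. -/
theorem card_irrCharacter [Finite G] :
    Nat.card (IrrCharacter G) = Nat.card (ConjClasses G) := by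
  classical
  haveI := Fintype.ofFinite G
  haveI := Fintype.ofFinite (IrrCharacter G)
  haveI : Finite (ConjClasses G) := Finite.of_surjective _ ConjClasses.mk_surjective
  haveI := Fintype.ofFinite (ConjClasses G)
  let ev : IrrCharacter G → ConjClasses G → ℂ := fun χ =>
    Quotient.lift (χ : G → ℂ) fun a b hab => IsClassFunction.eq_of_isConj (irr_isClassFunction χ) hab
  have hev : ∀ (χ : IrrCharacter G) (g : G), ev χ (ConjClasses.mk g) = (χ : G → ℂ) g :=
    fun χ g => rfl
  have hli : LinearIndependent ℂ ev := by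
    rw [Fintype.linearIndependent_iff]
    intro c hc
    refine Fintype.linearIndependent_iff.mp irr_linearIndependent c ?_
    funext g
    simpa [hev] using congrFun hc (ConjClasses.mk g)
  have hspan : ⊤ ≤ Submodule.span ℂ (Set.range ev) := by
    intro f _
    have hf : IsClassFunction G (fun g => f (ConjClasses.mk g)) := fun g h => by
      have : ConjClasses.mk (h * g * h⁻¹) = ConjClasses.mk g :=
        ConjClasses.mk_eq_mk_iff_isConj.mpr (isConj_iff.mpr ⟨h, rfl⟩).symm
      simp [this]
    rw [Submodule.mem_span_range_iff_exists_fun]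
    refine ⟨fun χ => classInner (fun g => f (ConjClasses.mk g)) (χ : G → ℂ), ?_⟩
    funext C
    obtain ⟨g, rfl⟩ := ConjClasses.mk_surjective C
    have := congrFun (eq_sum_classInner hf) g
    simp only [Finset.sum_apply, Pi.smul_apply, hev] at this ⊢
    exact this.symm
  have h1 := Module.finrank_eq_card_basis (Module.Basis.mk hli hspan)
  rw [Module.finrank_fintype_fun_eq_card] at h1
  rw [Nat.card_eq_fintype_card, Nat.card_eq_fintype_card, h1]

end Classes

/-- A representation with a given irreducible character is irreducible. -/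
theorem isIrreducible_of_isIrrCharacter [Finite G] {V : Type v} [AddCommGroup V] [Module ℂ V]
    [FiniteDimensional ℂ V] (ρ : Representation ℂ G V) (h : IsIrrCharacter G ρ.character) :
    ρ.IsIrreducible := by
  haveI := Fintype.ofFinite G
  rw [isIrreducible_iff_forall]
  obtain ⟨n, hn, hn'⟩ := IsIrrCharacter.exists_apply_one h
  refine ⟨Module.nontrivial_of_finrank_pos (R := ℂ) ?_, fun S hS => ?_⟩
  · rw [ρ.char_one] at hn'
    exact_mod_cast (show finrank ℂ V = n by exact_mod_cast hn') ▸ hn
  let S' : Subrepresentation ρ := ⟨S, fun g x hx => hS g x hx⟩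
  obtain ⟨T, hT⟩ := exists_isCompl_toSubmodule ρ S'
  have hadd := char_eq_add_of_isCompl ρ S' T hT
  have hs := isCharacter_of_rep S'.toRepresentation
  have ht := isCharacter_of_rep T.toRepresentation
  obtain ⟨a, ha⟩ := IsCharacter.exists_classInner_nat hs hs
  obtain ⟨b, hb⟩ := IsCharacter.exists_classInner_nat ht ht
  obtain ⟨c, hc⟩ := IsCharacter.exists_classInner_nat hs ht
  have h1 := IsIrrCharacter.classInner_self h
  rw [hadd, classInner_add_left, classInner_add_right, classInner_add_right, ha, hb, hc,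
    IsCharacter.classInner_comm ht hs, hc] at h1
  have h1' : a + c + (c + b) = 1 := by exact_mod_cast h1
  have hab : a = 0 ∨ b = 0 := by omega
  have key : ∀ (U : Subrepresentation ρ),
      classInner U.toRepresentation.character U.toRepresentation.character = 0 →
      U.toSubmodule = ⊥ := by
    intro U hU
    have h0 := congrFun (classInner_self_eq_zero hU) 1
    rw [U.toRepresentation.char_one, Pi.zero_apply, Nat.cast_eq_zero] at h0
    exact Submodule.finrank_eq_zero.mp h0
  rcases hab with rfl | rfl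
  · exact Or.inl (key S' (by rw [ha, Nat.cast_zero]))
  · right
    have hTbot := key T (by rw [hb, Nat.cast_zero])
    have := hT.sup_eq_top
    rw [hTbot, sup_bot_eq] at this
    exact this

end Cfsg.Agent.Lib.Characters
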