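import Cfsg.Agent.S0144
import Mathlib.GroupTheory.Solvable
import Mathlib.Data.Nat.Factorization.Basic

/-!
# Burnside's `p^a q^b` theorem, in library form
-/

namespace Cfsg.Agent.Lib.Characters

/-- Burnside's theorem: a group of order `p ^ a * q ^ b` is solvable. -/
theorem isSolvable_of_card_eq_pow_mul_pow {G : Type*} [Group G] [Finite G] {p q a b : ℕ}
    (hp : p.Prime) (hq : q.Prime) (hcard : Nat.card G = p ^ a * q ^ b) : Group.IsSolvable G :=
  Cfsg.Agent.S0144.result p q a b hp hq hcard

end Cfsg.Agent.Lib.Characters
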