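import Cfsg.Agent.Lib.Characters.Brauer

/-!
# Brauer's theorems: global span, characterisation of generalized characters, integral form
-/

namespace Cfsg.Agent.Lib.Characters

open scoped ComplexConjugate

set_option linter.unusedSectionVars false
set_option linter.unusedSimpArgs false
set_option linter.style.haveILetI false

universe u

variable {G : Type u} [Group G]

/-- Characters induced from elementary subgroups, for any prime. -/
def elemInducedAll (G : Type u) [Group G] [Fintype G] : Set (G → ℂ) :=
  {f | ∃ (p : ℕ), p.Prime ∧ f ∈ elemInduced G p}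

theorem one_mem_span_elemInducedAll [Fintype G] :
    (fun _ : G => (1 : ℂ)) ∈ Submodule.span AInt (elemInducedAll G) := by
  set J := Submodule.span AInt (elemInducedAll G) with hJ
  let I : Ideal ℤ :=
    { carrier := {m : ℤ | (fun _ : G => (m : ℂ)) ∈ J}
      zero_mem' := by
        show (fun _ : G => ((0 : ℤ) : ℂ)) ∈ J
        simp only [Int.cast_zero]
        exact J.zero_mem
      add_mem' := fun {a b} ha hb => by
        show (fun _ : G => (((a + b : ℤ)) : ℂ)) ∈ J
        simp only [Int.cast_add]
        exact J.add_mem ha hb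
      smul_mem' := fun k m hm => by
        show (fun _ : G => ((k • m : ℤ) : ℂ)) ∈ J
        simp only [smul_eq_mul, Int.cast_mul]
        exact J.smul_mem (⟨(k : ℂ), isIntegral_algebraMap⟩ : AInt) hm }
  suffices hI : I = ⊤ by
    have h1 : (1 : ℤ) ∈ I := hI ▸ Submodule.mem_top
    have h2 : (fun _ : G => ((1 : ℤ) : ℂ)) ∈ J := h1
    simpa using h2
  by_contra hne
  have hmem : ∀ (p : ℕ), p.Prime → ∀ e m : ℕ, Nat.card G = p ^ e * m → (m : ℤ) ∈ I := by
    intro p hp e m hN
    show (fun _ : G => ((m : ℤ) : ℂ)) ∈ J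
    simp only [Int.cast_natCast]
    exact Submodule.span_mono (fun f hf => (⟨p, hp, hf⟩ : f ∈ elemInducedAll G))
      (natCast_mem_brauerSpan hp hN)
  obtain ⟨g, hg⟩ := (IsPrincipalIdealRing.principal I).principal
  have hdvd : ∀ m : ℤ, m ∈ I ↔ g ∣ m := fun m => by
    rw [hg]; exact Ideal.mem_span_singleton
  have hg1 : g.natAbs ≠ 1 := fun h => hne (by
    rw [hg, Ideal.submodule_span_eq, Ideal.span_singleton_eq_top]
    exact Int.isUnit_iff_natAbs_eq.mpr h)
  obtain ⟨q, hq, hqg⟩ := Nat.exists_prime_and_dvd hg1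
  obtain ⟨e, m, hm, hN⟩ := Nat.exists_eq_pow_mul_and_not_dvd
    (Nat.card_pos (α := G)).ne' q hq.ne_one
  exact hm (hqg.trans (Int.natAbs_dvd_natAbs.mpr ((hdvd _).mp (hmem q hq e m hN))))

theorem sum_zpowers_mem_int [Fintype G] {R : Subring ℂ} (φ : G → ℂ)
    (h : ∀ x : G, ∑ᶠ y : Subgroup.zpowers x, φ y ∈ R) : ∑ g, φ g ∈ R := by
  classical
  let gen : Subgroup G → ℂ := fun C => ∑ g ∈ Finset.univ.filter (fun g => Subgroup.zpowers g = C), φ g
  have hgen : ∀ (n : ℕ) (C : Subgroup G), Nat.card C = n → gen C ∈ R := by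
    intro n
    induction n using Nat.strong_induction_on with
    | _ n ih =>
      intro C hC
      by_cases hcyc : ∃ x, Subgroup.zpowers x = C
      · obtain ⟨x, rfl⟩ := hcyc
        have h1 : ∑ᶠ y : Subgroup.zpowers x, φ y =
            ∑ g ∈ Finset.univ.filter (fun g => g ∈ Subgroup.zpowers x), φ g := by
          rw [finsum_eq_sum_of_fintype]
          exact (Finset.sum_subtype (p := fun g => g ∈ Subgroup.zpowers x) _ (fun g => by simp) φ).symm
        have h2 : ∑ g ∈ Finset.univ.filter (fun g => g ∈ Subgroup.zpowers x), φ g =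
            ∑ D ∈ Finset.univ.filter (fun D => D ≤ Subgroup.zpowers x), gen D := by
          rw [← Finset.sum_fiberwise_of_maps_to (g := fun g : G => Subgroup.zpowers g)
            (s := Finset.univ.filter (fun g => g ∈ Subgroup.zpowers x))
            (t := Finset.univ.filter (fun D => D ≤ Subgroup.zpowers x))
            (fun g hg => Finset.mem_filter.mpr ⟨Finset.mem_univ _,
              Subgroup.zpowers_le.mpr (Finset.mem_filter.mp hg).2⟩) φ]
          refine Finset.sum_congr rfl fun D hD => ?_
          refine Finset.sum_congr ?_ fun g _ => rfl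
          ext g
          simp only [Finset.mem_filter, Finset.mem_univ, true_and, and_iff_right_iff_imp]
          intro hgD
          exact (Finset.mem_filter.mp hD).2 (hgD ▸ Subgroup.mem_zpowers g)
        have hxmem : Subgroup.zpowers x ∈ Finset.univ.filter (fun D => D ≤ Subgroup.zpowers x) := by
          simp
        rw [← Finset.add_sum_erase _ _ hxmem, ← h1] at h2
        have h3 : gen (Subgroup.zpowers x) = ∑ᶠ y : Subgroup.zpowers x, φ y -
            ∑ D ∈ (Finset.univ.filter (fun D => D ≤ Subgroup.zpowers x)).erase (Subgroup.zpowers x),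
              gen D := by
          rw [h2]; ring
        rw [h3]
        refine R.sub_mem (h x) (R.sum_mem fun D hD => ?_)
        obtain ⟨hne, hmem⟩ := Finset.mem_erase.mp hD
        have hlt : D < Subgroup.zpowers x := lt_of_le_of_ne (Finset.mem_filter.mp hmem).2 hne
        refine ih (Nat.card D) (hC ▸ ?_) D rfl
        exact Set.ncard_lt_ncard hlt (Set.toFinite _)
      · have : gen C = 0 := by
          refine Finset.sum_eq_zero fun g hg => ?_
          exact absurd ⟨g, (Finset.mem_filter.mp hg).2⟩ hcyc
        rw [this]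
        exact R.zero_mem
  rw [← Finset.sum_fiberwise Finset.univ (fun g : G => Subgroup.zpowers g) φ]
  exact R.sum_mem fun C _ => hgen _ C rfl

/-- Brauer's characterisation of generalized characters. -/
theorem isGeneralizedCharacter_of_elementary [Finite G] {θ : G → ℂ} (hθ : IsClassFunction G θ)
    (hE : ∀ (E : Subgroup G) (p : ℕ), p.Prime → IsElementary p E →
      IsGeneralizedCharacter E (fun e : E => θ e)) : IsGeneralizedCharacter G θ := by
  classical
  haveI := Fintype.ofFinite G
  refine isGeneralizedCharacter_iff_classInner_int.mpr ⟨hθ, fun χ => ?_⟩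
  have hχ := irr_isCharacter χ
  -- integrality
  have hint : ∀ f ∈ Submodule.span AInt (elemInducedAll G),
      IsIntegral ℤ (classInner (θ * f) (χ : G → ℂ)) := by
    intro f hf
    induction hf using Submodule.span_induction with
    | mem x hx =>
      obtain ⟨p, hp, E, ψ, hE', hψ, rfl⟩ := hx
      rw [mul_comm θ, ← indFun_mul_restrict E ψ hθ, classInner_indFun E _ (irr_isClassFunction χ)]
      obtain ⟨k, hk⟩ := IsGeneralizedCharacter.exists_classInner_int
        (IsGeneralizedCharacter.mul (IsCharacter.isGeneralizedCharacter hψ) (hE E p hp hE'))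
        (IsCharacter.isGeneralizedCharacter (IsCharacter.restrict hχ E))
      rw [hk]
      exact isIntegral_algebraMap
    | zero => rw [mul_zero, classInner_zero_left]; exact isIntegral_zero
    | add x y _ _ hx hy => rw [mul_add, classInner_add_left]; exact hx.add hy
    | smul a x _ hx =>
      have : θ * (a • x) = (a : ℂ) • (θ * x) := by rw [mul_smul_comm]; rfl
      rw [this, classInner_smul_left]
      exact a.2.mul hx
  have h1 := hint _ one_mem_span_elemInducedAll
  rw [show θ * (fun _ : G => (1 : ℂ)) = θ from mul_one θ] at h1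
  -- rationality
  have h2 : ∑ g, θ g * conj ((χ : G → ℂ) g) ∈ (Int.castRingHom ℂ).range := by
    refine sum_zpowers_mem_int _ fun x => ?_
    rw [finsum_eq_sum_of_fintype]
    obtain ⟨k, hk⟩ := IsGeneralizedCharacter.exists_classInner_int
      (hE (Subgroup.zpowers x) 2 Nat.prime_two (isElementary_zpowers Nat.prime_two x))
      (IsCharacter.isGeneralizedCharacter (IsCharacter.restrict hχ (Subgroup.zpowers x)))
    rw [classInner, inv_mul_eq_iff_eq_mul₀ natCard_ne_zero_complex] at hk
    rw [hk]
    exact ⟨(Nat.card (Subgroup.zpowers x) : ℤ) * k, by simp⟩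
  obtain ⟨k, hk⟩ := h2
  have h3 : classInner θ (χ : G → ℂ) = (((k : ℚ) / (Nat.card G : ℚ) : ℚ) : ℂ) := by
    rw [classInner, ← hk]
    simp only [eq_intCast]
    push_cast
    ring
  rw [h3] at h1 ⊢
  obtain ⟨z, hz⟩ := exists_int_of_isIntegral_rat h1
  exact ⟨z, by rw [hz, Rat.cast_intCast]⟩

/-! ### Descent from algebraic-integer to integer coefficients -/

theorem exists_intLinear_of_isIntegral {ι : Type*} [Finite ι] (a : ι → ℂ)
    (ha : ∀ i, IsIntegral ℤ (a i)) :
    ∃ (M : Submodule ℤ ℂ) (φ : M →ₗ[ℤ] ℤ) (h1 : (1 : ℂ) ∈ M),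
      φ ⟨1, h1⟩ = 1 ∧ ∀ i, a i ∈ M := by
  let M : Submodule ℤ ℂ := Submodule.span ℤ (insert (1 : ℂ) (Set.range a))
  have hfg : M.FG := Submodule.fg_span ((Set.finite_range a).insert 1)
  haveI : Module.Finite ℤ M := Module.Finite.of_fg hfg
  have h1 : (1 : ℂ) ∈ M := Submodule.subset_span (Set.mem_insert _ _)
  have hMint : ∀ x ∈ M, IsIntegral ℤ x := by
    intro x hx
    induction hx using Submodule.span_induction with
    | mem y hy =>
      rcases hy with rfl | ⟨i, rfl⟩
      · exact isIntegral_one
      · exact ha i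
    | zero => exact isIntegral_zero
    | add y z _ _ hy hz => exact hy.add hz
    | smul k y _ hy => exact hy.smul k
  let one : M := ⟨1, h1⟩
  let N : Submodule ℤ M := Submodule.span ℤ {one}
  haveI : Module.IsTorsionFree ℤ (M ⧸ N) := by
    rw [Module.isTorsionFree_iff_smul_eq_zero]
    intro n q hq
    refine (or_iff_not_imp_left).mpr fun hn => ?_
    obtain ⟨x, rfl⟩ := Submodule.Quotient.mk_surjective N q
    rw [← Submodule.Quotient.mk_smul, Submodule.Quotient.mk_eq_zero,
      Submodule.mem_span_singleton] at hq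
    obtain ⟨j, hj⟩ := hq
    have hj' : (j : ℂ) = (n : ℂ) * (x : ℂ) := by
      simpa [one] using congrArg Subtype.val hj
    have hn' : (n : ℂ) ≠ 0 := by exact_mod_cast hn
    have hx : (x : ℂ) = (((j : ℚ) / (n : ℚ) : ℚ) : ℂ) := by
      push_cast
      rw [hj']
      field_simp
    obtain ⟨z, hz⟩ := exists_int_of_isIntegral_rat (hx ▸ hMint _ x.2)
    rw [Submodule.Quotient.mk_eq_zero, Submodule.mem_span_singleton]
    refine ⟨z, Subtype.ext ?_⟩
    rw [hx, hz]
    simp [one]
  haveI : Module.Free ℤ (M ⧸ N) := Module.free_of_finite_type_torsion_free'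
  obtain ⟨s, hs⟩ := Module.projective_lifting_property N.mkQ LinearMap.id N.mkQ_surjective
  let e : ℤ →ₗ[ℤ] M := LinearMap.toSpanSingleton ℤ M one
  have heinj : Function.Injective e := by
    intro i j hij
    have : (i : ℂ) = (j : ℂ) := by simpa [e, one] using congrArg Subtype.val hij
    exact_mod_cast this
  have hrange : ∀ x : M, x - s (N.mkQ x) ∈ LinearMap.range e := by
    intro x
    have : x - s (N.mkQ x) ∈ N := by
      rw [← Submodule.Quotient.mk_eq_zero, Submodule.Quotient.mk_sub, sub_eq_zero]
      exact (LinearMap.congr_fun hs (N.mkQ x)).symm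
    rwa [LinearMap.range_toSpanSingleton]
  let φ : M →ₗ[ℤ] ℤ := (LinearEquiv.ofInjective e heinj).symm.toLinearMap.comp
    ((LinearMap.id - s.comp N.mkQ).codRestrict (LinearMap.range e) hrange)
  refine ⟨M, φ, h1, ?_, fun i => Submodule.subset_span (Set.mem_insert_of_mem _ ⟨i, rfl⟩)⟩
  show (LinearEquiv.ofInjective e heinj).symm _ = 1
  rw [LinearEquiv.symm_apply_eq]
  apply Subtype.ext
  have hz : N.mkQ one = 0 := (Submodule.Quotient.mk_eq_zero N).mpr (Submodule.mem_span_singleton_self one)
  simp only [LinearMap.codRestrict_apply, LinearEquiv.ofInjective_apply, LinearMap.sub_apply,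
    LinearMap.id_apply, LinearMap.comp_apply, e, LinearMap.toSpanSingleton_apply, one_smul]
  change one - s (N.mkQ one) = one
  rw [hz, map_zero, sub_zero]

/-- An integer constant in the algebraic-integer span of a set of generalized characters is an
integral combination of them. -/
theorem exists_int_combination [Fintype G] {S : Set (G → ℂ)}
    (hS : ∀ f ∈ S, IsGeneralizedCharacter G f) (n : ℤ)
    (h : (fun _ : G => (n : ℂ)) ∈ Submodule.span AInt S) :
    ∃ (k : ℕ) (c : Fin k → ℤ) (v : Fin k → S),
      (fun _ : G => (n : ℂ)) = ∑ i, (c i : ℂ) • (v i : G → ℂ) := by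
  classical
  haveI := Fintype.ofFinite (IrrCharacter G)
  obtain ⟨k, a, v, hv⟩ := Submodule.mem_span_set'.mp h
  obtain ⟨M, φ, h1, hφ1, haM⟩ :=
    exists_intLinear_of_isIntegral (fun i => (a i : ℂ)) fun i => (a i).2
  refine ⟨k, fun i => φ ⟨(a i : ℂ), haM i⟩, v, ?_⟩
  have hcl : ∀ i, IsClassFunction G (v i : G → ℂ) := fun i =>
    IsGeneralizedCharacter.isClassFunction (hS _ (v i).2)
  refine ext_classInner (fun _ _ => rfl)
    (IsClassFunction.sum _ fun i _ => IsClassFunction.smul (hcl i) _) fun χ => ?_
  choose m hm using fun i : Fin k => IsGeneralizedCharacter.exists_classInner_int (hS _ (v i).2)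
    (IsCharacter.isGeneralizedCharacter (irr_isCharacter χ))
  have hn : (fun _ : G => (n : ℂ)) = (n : ℂ) • fun _ : G => (1 : ℂ) := by
    funext g; simp
  obtain ⟨r, hr⟩ := IsCharacter.exists_classInner_nat isCharacter_one (irr_isCharacter χ)
  have hL : classInner (fun _ : G => (n : ℂ)) (χ : G → ℂ) = ((n * r : ℤ) : ℂ) := by
    rw [hn, classInner_smul_left, hr]; push_cast; ring
  have hR : classInner (∑ i, (a i : ℂ) • (v i : G → ℂ)) (χ : G → ℂ) =
      ∑ i, (a i : ℂ) * (m i : ℂ) := by
    simp only [classInner_sum_left, classInner_smul_left, hm]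
  rw [classInner_sum_left]
  simp only [classInner_smul_left, hm]
  rw [hL]
  have hv' : (fun _ : G => (n : ℂ)) = ∑ i, (a i : ℂ) • (v i : G → ℂ) := hv.symm
  have key : (n * r : ℤ) • (⟨1, h1⟩ : M) = ∑ i, (m i) • (⟨(a i : ℂ), haM i⟩ : M) := by
    apply Subtype.ext
    simp only [SetLike.val_smul, AddSubmonoidClass.coe_finsetSum, zsmul_eq_mul, mul_one]
    rw [← hL, hv', hR]
    exact Finset.sum_congr rfl fun i _ => mul_comm _ _
  have := congrArg φ key
  rw [map_zsmul, map_sum, hφ1] at this
  simp only [map_zsmul, smul_eq_mul, mul_one] at this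
  rw [this]
  push_cast
  exact Finset.sum_congr rfl fun i _ => mul_comm _ _

end Cfsg.Agent.Lib.Characters
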