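import Cfsg.Agent.Lib.Characters.InducedMore
import Cfsg.Agent.Lib.Characters.Ito
import Cfsg.Agent.Lib.Characters.BrauerMain
import Mathlib.GroupTheory.Nilpotent

/-!
# Monomial characters of nilpotent groups and Brauer's induction theorem
-/

namespace Cfsg.Agent.Lib.Characters

open scoped ComplexConjugate

set_option linter.unusedSectionVars false
set_option linter.unusedSimpArgs false
set_option linter.style.haveILetI false

universe u

variable {G : Type u} [Group G]

/-- A nonabelian nilpotent group has a noncentral abelian normal subgroup. -/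
theorem exists_abelian_normal_noncentral [Group.IsNilpotent G]
    (hG : ¬ ∀ a b : G, a * b = b * a) :
    ∃ A : Subgroup G, A.Normal ∧ (∀ a ∈ A, ∀ b ∈ A, a * b = b * a) ∧
      ∃ a ∈ A, a ∉ Subgroup.center G := by
  set Z := Subgroup.center G with hZ
  haveI : Nontrivial (G ⧸ Z) := QuotientGroup.nontrivial_iff.mpr fun h => hG fun a b =>
    (Subgroup.mem_center_iff.mp (by rw [← hZ, h]; exact Subgroup.mem_top a) b).symm
  haveI := Group.nilpotent_of_surjective (QuotientGroup.mk' Z) (QuotientGroup.mk'_surjective Z)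
  obtain ⟨q, hq, hq1⟩ := (Subgroup.nontrivial_iff_exists_ne_one _).mp
    ((Subgroup.nontrivial_iff_ne_bot _).mpr (Group.IsNilpotent.center_ne_bot (G := G ⧸ Z)))
  obtain ⟨x, rfl⟩ := QuotientGroup.mk_surjective q
  have hx : x ∉ Z := fun h => hq1 ((QuotientGroup.eq_one_iff x).mpr h)
  let A : Subgroup G := Z ⊔ Subgroup.zpowers x
  have hcomm : ∀ g : G, g * x * g⁻¹ * x⁻¹ ∈ Z := fun g => by
    rw [← QuotientGroup.eq_one_iff]
    simp only [QuotientGroup.mk_mul, QuotientGroup.mk_inv]
    rw [Subgroup.mem_center_iff.mp hq (g : G ⧸ Z), mul_inv_cancel_right, mul_inv_cancel]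
  refine ⟨A, ⟨fun a ha g => ?_⟩, ?_, x, Subgroup.mem_sup_right (Subgroup.mem_zpowers x), hx⟩
  · obtain ⟨z, hz, w, hw, rfl⟩ := Subgroup.mem_sup_of_normal_left.mp ha
    obtain ⟨k, rfl⟩ := Subgroup.mem_zpowers_iff.mp hw
    have h1 : g * (z * x ^ k) * g⁻¹ = (g * z * g⁻¹) * (g * x * g⁻¹) ^ k := by
      rw [conj_zpow]; group
    rw [h1, Subgroup.mem_center_iff.mp hz g, mul_inv_cancel_right]
    refine A.mul_mem (Subgroup.mem_sup_left hz) (A.zpow_mem ?_ k)
    have : g * x * g⁻¹ = (g * x * g⁻¹ * x⁻¹) * x := by group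
    rw [this]
    exact A.mul_mem (Subgroup.mem_sup_left (hcomm g))
      (Subgroup.mem_sup_right (Subgroup.mem_zpowers x))
  · intro a ha b hb
    obtain ⟨z, hz, w, hw, rfl⟩ := Subgroup.mem_sup_of_normal_left.mp ha
    obtain ⟨z', hz', w', hw', rfl⟩ := Subgroup.mem_sup_of_normal_left.mp hb
    obtain ⟨k, rfl⟩ := Subgroup.mem_zpowers_iff.mp hw
    obtain ⟨l, rfl⟩ := Subgroup.mem_zpowers_iff.mp hw'
    have h1 : Commute (z * x ^ k) (z' * x ^ l) := by
      have hzc : ∀ y, Commute z y := fun y => (Subgroup.mem_center_iff.mp hz y).symm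
      have hzc' : ∀ y, Commute z' y := fun y => (Subgroup.mem_center_iff.mp hz' y).symm
      exact Commute.mul_left (hzc _)
        (Commute.mul_right ((hzc' _).symm) ((Commute.refl x).zpow_zpow k l))
    exact h1

/-- Every irreducible character of a nilpotent group is induced from a linear character. -/
theorem exists_monomial [Fintype G] [hN : Group.IsNilpotent G] {χ : G → ℂ}
    (hχ : IsIrrCharacter G χ) :
    ∃ (H : Subgroup G) (lam : H →* ℂˣ), χ = indFun H (fun h => (lam h : ℂ)) := by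
  classical
  suffices key : ∀ (n : ℕ) (K : Type u) [Group K] [Fintype K], Group.IsNilpotent K →
      Nat.card K = n → ∀ {φ : K → ℂ}, IsIrrCharacter K φ →
        ∃ (H : Subgroup K) (lam : H →* ℂˣ), φ = indFun H (fun h => (lam h : ℂ)) from
    key _ G hN rfl hχ
  intro n
  induction n using Nat.strong_induction_on with
  | _ n IH =>
  intro K _ _ hnil hn φ hφ
  haveI := hnil
  have hφc := IsIrrCharacter.isCharacter hφ
  by_cases hker : charKernel hφc = ⊥
  swap
  · obtain ⟨φ', hφ', hφeq⟩ := IsIrrCharacter.exists_quotient hφ (charKernel hφc) fun k hk => hk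
    set f := QuotientGroup.mk' (charKernel hφc) with hf
    haveI := Fintype.ofFinite (K ⧸ charKernel hφc)
    have hsurj : Function.Surjective f := QuotientGroup.mk'_surjective _
    have hlt : Nat.card (K ⧸ charKernel hφc) < n := by
      rw [← hn, Subgroup.card_eq_card_quotient_mul_card_subgroup (charKernel hφc)]
      exact lt_mul_of_one_lt_right Nat.card_pos ((Subgroup.one_lt_card_iff_ne_bot _).mpr hker)
    obtain ⟨U, lam, hU⟩ := IH _ hlt (K ⧸ charKernel hφc)
      (Group.nilpotent_of_surjective f hsurj) rfl hφ'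
    refine ⟨U.comap f, lam.comp ((f.comp (U.comap f).subtype).codRestrict U fun x => x.2), ?_⟩
    refine hφeq.trans ?_
    rw [hU]
    exact (indFun_comap f hsurj U fun h => (lam h : ℂ)).symm
  by_cases hab : ∀ a b : K, a * b = b * a
  · obtain ⟨lam, hlam⟩ := IsCharacter.exists_hom_of_apply_one hφc
      (IsIrrCharacter.apply_one_of_comm hab hφ)
    refine ⟨⊤, lam.comp (⊤ : Subgroup K).subtype, ?_⟩
    have h := indFun_top (IsCharacter.isClassFunction hφc)
    refine h.symm.trans (congrArg _ (funext fun x => ?_))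
    exact congrFun hlam x
  obtain ⟨A, hAn, hAc, a, haA, haZ⟩ := exists_abelian_normal_noncentral hab
  haveI := hAn
  haveI := Fintype.ofFinite A
  obtain ⟨θ, hθ⟩ := IsCharacter.exists_constituent (IsCharacter.restrict hφc A)
    (fun h => IsIrrCharacter.apply_one_ne_zero hφ (congrFun h 1))
  haveI := Fintype.ofFinite (inertia A (θ : A → ℂ))
  obtain ⟨ψ, hψ, hind, -⟩ := exists_clifford_correspondent A hφ θ.2 hθ
    (inertia A (θ : A → ℂ)) rfl (le_inertia A (irr_isClassFunction θ))
  have hproper : inertia A (θ : A → ℂ) ≠ ⊤ := by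
    intro htop
    have hinv : ∀ g : K, Characters.conjFun A g (θ : A → ℂ) = θ := fun g =>
      (mem_inertia_iff A).mp (htop ▸ Subgroup.mem_top g)
    have hr := restrict_eq_smul_of_invariant A hφ θ.2 hinv hθ
    have hθ1 : (θ : A → ℂ) 1 = 1 :=
      IsIrrCharacter.apply_one_of_comm (fun a b => Subtype.ext (hAc a a.2 b b.2)) θ.2
    obtain ⟨lam, hlam⟩ := IsCharacter.exists_hom_of_apply_one (irr_isCharacter θ) hθ1
    obtain ⟨m, ρ, hρ, rfl⟩ := hφ
    have hnorm : ‖ρ.character a‖ = (Module.finrank ℂ (Fin m → ℂ) : ℝ) := by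
      have h1 := congrFun hr ⟨a, haA⟩
      have h2 := congrFun hr 1
      simp only [OneMemClass.coe_one, Pi.smul_apply, smul_eq_mul, ρ.char_one, hθ1, mul_one]
        at h1 h2
      rw [h1, ← h2, norm_mul, Complex.norm_natCast, hlam,
        norm_eq_one_of_pow_eq_one' (n := Nat.card A) Nat.card_pos.ne' (by
          rw [← Units.val_pow_eq_pow_val, ← map_pow, pow_card_eq_one', map_one, Units.val_one]),
        mul_one]
    obtain ⟨ω, hω⟩ := (norm_char_eq_iff ρ a).mp hnorm
    refine haZ (Subgroup.mem_center_iff.mpr fun g => ?_)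
    have h3 : g * a * g⁻¹ * a⁻¹ ∈ charKernel hφc := by
      have h4 : ρ (g * a) = ρ (a * g) := by
        rw [map_mul, map_mul, hω, ← Module.End.one_eq_id, mul_smul_comm, smul_mul_assoc, mul_one,
          one_mul]
      rw [mem_charKernel, ρ.char_one, char_eq_finrank_iff, map_mul, map_mul, h4, ← map_mul,
        ← map_mul, show a * g * g⁻¹ * a⁻¹ = (1 : K) by group, map_one]
      rfl
    rw [hker, Subgroup.mem_bot] at h3
    calc g * a = (g * a * g⁻¹ * a⁻¹) * (a * g) := by group
      _ = a * g := by rw [h3, one_mul]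
  have hlt : Nat.card (inertia A (θ : A → ℂ)) < n := by
    rw [← hn, ← (inertia A (θ : A → ℂ)).card_mul_index]
    exact lt_mul_of_one_lt_right Nat.card_pos (Subgroup.one_lt_index_of_ne_top hproper)
  obtain ⟨U, lam, hU⟩ := IH _ hlt (inertia A (θ : A → ℂ)) inferInstance rfl hψ
  refine ⟨U.map (inertia A (θ : A → ℂ)).subtype,
    lam.comp (U.equivMapOfInjective _ (Subgroup.subtype_injective _)).symm.toMonoidHom, ?_⟩
  rw [← hind, hU, indFun_indFun]
  rfl

theorem IsElementary.isNilpotent [Finite G] {p : ℕ} (hp : p.Prime) (h : IsElementary p G) :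
    Group.IsNilpotent G := by
  obtain ⟨x, hx, -, k, hk⟩ := h
  haveI := Fact.mk hp
  have hle : Subgroup.zpowers x ≤ Subgroup.center G := Subgroup.zpowers_le.mpr hx
  obtain ⟨j, -, hj⟩ := (Nat.dvd_prime_pow hp).mp (hk ▸ Subgroup.index_dvd_of_le hle)
  haveI : Group.IsNilpotent (G ⧸ Subgroup.center G) :=
    (IsPGroup.of_card (n := j) hj).isNilpotent
  exact Group.of_quotient_center_nilpotent inferInstance

theorem isElementary_of_mulEquiv {H : Type*} [Group H] {p : ℕ} (e : G ≃* H)
    (h : IsElementary p G) : IsElementary p H := by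
  obtain ⟨x, hx, hcop, k, hk⟩ := h
  refine ⟨e x, ?_, by rwa [e.orderOf_eq], k, ?_⟩
  · refine Subgroup.mem_center_iff.mpr fun y => ?_
    obtain ⟨y, rfl⟩ := e.surjective y
    rw [← map_mul, ← map_mul, Subgroup.mem_center_iff.mp hx y]
  · have := Subgroup.index_map_equiv (Subgroup.zpowers x) e
    rw [show (e x) = e.toMonoidHom x from rfl, ← MonoidHom.map_zpowers, ← hk]
    exact this

theorem IsElementary.subgroup [Finite G] {p : ℕ} (hp : p.Prime) (h : IsElementary p G)
    (U : Subgroup G) : IsElementary p U := by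
  obtain ⟨x, hx, hcop, k, hk⟩ := h
  haveI : (Subgroup.zpowers x).Normal :=
    ⟨fun n hn g => by
      rw [Subgroup.mem_center_iff.mp (Subgroup.zpowers_le.mpr hx hn) g, mul_inv_cancel_right]
      exact hn⟩
  obtain ⟨w, hw⟩ := (Subgroup.isCyclic_iff_exists_zpowers_eq_top _).mp
    (Subgroup.isCyclic_of_le (inf_le_left : Subgroup.zpowers x ⊓ U ≤ Subgroup.zpowers x))
  have hwx : w ∈ Subgroup.zpowers x ⊓ U := hw ▸ Subgroup.mem_zpowers w
  refine ⟨⟨w, hwx.2⟩, ?_, ?_, ?_⟩
  · exact Subgroup.mem_center_iff.mpr fun u => Subtype.ext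
      (Subgroup.mem_center_iff.mp (Subgroup.zpowers_le.mpr hx hwx.1) u)
  · rw [Subgroup.orderOf_mk]
    exact Nat.Coprime.coprime_dvd_left (orderOf_dvd_of_mem_zpowers hwx.1) hcop
  · have h1 : Subgroup.zpowers (⟨w, hwx.2⟩ : U) = (Subgroup.zpowers x).subgroupOf U := by
      apply Subgroup.map_injective U.subtype_injective
      rw [MonoidHom.map_zpowers, Subgroup.subgroupOf_map_subtype, ← hw]
      rfl
    rw [h1]
    obtain ⟨j, -, hj⟩ := (Nat.dvd_prime_pow hp).mp
      (hk ▸ Subgroup.relIndex_dvd_index_of_normal (Subgroup.zpowers x) U)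
    exact ⟨j, hj⟩

/-- Brauer's induction theorem in monomial form. -/
theorem brauer_induction [Fintype G] {χ : G → ℂ} (hχ : IsCharacter G χ) :
    ∃ l : List ((E : Subgroup G) × ((E →* ℂˣ) × ℤ)),
      (∀ t ∈ l, ∃ p : ℕ, p.Prime ∧ IsElementary p t.1) ∧
        χ = (l.map fun t => (t.2.2 : ℂ) • Cfsg.indFun t.1 (fun e => (t.2.1 e : ℂ))).sum := by
  classical
  let P : (G → ℂ) → Prop := fun f => ∃ l : List ((E : Subgroup G) × ((E →* ℂˣ) × ℤ)),
      (∀ t ∈ l, ∃ p : ℕ, p.Prime ∧ IsElementary p t.1) ∧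
        f = (l.map fun t => (t.2.2 : ℂ) • Cfsg.indFun t.1 (fun e => (t.2.1 e : ℂ))).sum
  have hP0 : P 0 := ⟨[], by simp, by simp⟩
  have hPadd : ∀ f g, P f → P g → P (f + g) := by
    rintro f g ⟨l, hl, rfl⟩ ⟨l', hl', rfl⟩
    refine ⟨l ++ l', fun t ht => ?_, by simp⟩
    rcases List.mem_append.mp ht with h | h
    exacts [hl t h, hl' t h]
  have hPsum : ∀ {ι : Type u} (s : Finset ι) (f : ι → G → ℂ), (∀ i ∈ s, P (f i)) →
      P (∑ i ∈ s, f i) := fun s f h => Finset.sum_induction f P hPadd hP0 h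
  have hPsmul : ∀ (c : ℤ) f, P f → P ((c : ℂ) • f) := by
    rintro c f ⟨l, hl, rfl⟩
    refine ⟨l.map fun t => ⟨t.1, t.2.1, c * t.2.2⟩, fun t ht => ?_, ?_⟩
    · obtain ⟨s, hs, rfl⟩ := List.mem_map.mp ht
      exact hl s hs
    · rw [List.map_map, List.smul_sum, List.map_map]
      exact congrArg _ (List.map_congr_left fun t _ => by simp [smul_smul])
  have hirr : ∀ (E : Subgroup G) (p : ℕ), p.Prime → IsElementary p E → ∀ φ : E → ℂ,
      IsIrrCharacter E φ → P (indFun E φ) := by
    intro E p hp hE φ hφ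
    haveI := Fintype.ofFinite E
    haveI := IsElementary.isNilpotent hp hE
    obtain ⟨U, lam, rfl⟩ := exists_monomial hφ
    refine ⟨[⟨U.map E.subtype,
      lam.comp (U.equivMapOfInjective E.subtype E.subtype_injective).symm.toMonoidHom, 1⟩],
      ?_, ?_⟩
    · intro t ht
      rw [List.mem_singleton] at ht
      subst ht
      refine ⟨p, hp, ?_⟩
      exact isElementary_of_mulEquiv (U.equivMapOfInjective E.subtype E.subtype_injective)
        (IsElementary.subgroup hp hE U)
    · rw [indFun_indFun]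
      simp only [List.map_cons, List.map_nil, List.sum_cons, List.sum_nil, add_zero, Int.cast_one,
        one_smul]
      rfl
  obtain ⟨k, c, v, hv⟩ := exists_int_combination (S := elemInducedAll G) (fun f hf => by
    obtain ⟨p, hp, E, ψ, hE, hψ, rfl⟩ := hf
    exact IsGeneralizedCharacter.indFun E (IsCharacter.isGeneralizedCharacter hψ)) 1
    (by simpa using one_mem_span_elemInducedAll (G := G))
  have hterm : ∀ i, P (χ * (v i : G → ℂ)) := by
    intro i
    obtain ⟨p, hp, E, ψ, hE, hψ, hvi⟩ := (v i).2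
    haveI := Fintype.ofFinite E
    haveI := Fintype.ofFinite (IrrCharacter E)
    rw [hvi, mul_comm, ← indFun_mul_restrict E ψ (IsCharacter.isClassFunction hχ)]
    have hφ := IsCharacter.mul hψ (IsCharacter.restrict hχ E)
    rw [eq_sum_classInner (IsCharacter.isClassFunction hφ), indFun_sum]
    refine hPsum _ _ fun θ _ => ?_
    obtain ⟨m, hm⟩ := IsCharacter.exists_classInner_nat hφ (irr_isCharacter θ)
    rw [hm, indFun_smul, show (m : ℂ) = ((m : ℤ) : ℂ) by simp]
    exact hPsmul _ _ (hirr E p hp hE θ θ.2)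
  have hχ1 : χ = ∑ i, (c i : ℂ) • (χ * (v i : G → ℂ)) := by
    funext g
    have hvg := congrFun hv g
    simp only [Finset.sum_apply, Pi.smul_apply, Pi.mul_apply, smul_eq_mul, Int.cast_one] at hvg ⊢
    conv_lhs => rw [← mul_one (χ g), hvg, Finset.mul_sum]
    exact Finset.sum_congr rfl fun i _ => by ring
  show P χ
  rw [hχ1]
  exact Finset.sum_induction _ P hPadd hP0 fun i _ => hPsmul _ _ (hterm i)

end Cfsg.Agent.Lib.Characters
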