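import Cfsg.Agent.Lib.Characters.Induced
import Mathlib.GroupTheory.GroupAction.Quotient

/-!
# Clifford theory: conjugate characters, inertia groups, Clifford correspondence
-/

namespace Cfsg.Agent.Lib.Characters

open scoped ComplexConjugate

set_option linter.unusedSectionVars false
set_option linter.unusedSimpArgs false
set_option linter.style.haveILetI false

universe u

variable {G : Type u} [Group G] (N : Subgroup G) [hN : N.Normal]

/-- The conjugate of a function on a normal subgroup. -/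
def conjFun (g : G) (θ : N → ℂ) : N → ℂ :=
  fun n => θ ⟨g * n * g⁻¹, hN.conj_mem n n.2 g⟩

theorem conjFun_eq_comp (g : G) (θ : N → ℂ) :
    conjFun N g θ = θ ∘ (MulAut.conjNormal g : MulAut N) :=
  rfl

theorem conjFun_apply_one (g : G) (θ : N → ℂ) : conjFun N g θ 1 = θ 1 :=
  congrArg θ (Subtype.ext (by simp))

theorem conjFun_one (θ : N → ℂ) : conjFun N 1 θ = θ :=
  funext fun n => congrArg θ (Subtype.ext (by simp))

theorem conjFun_mul (g h : G) (θ : N → ℂ) :
    conjFun N (g * h) θ = conjFun N h (conjFun N g θ) :=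
  funext fun n => congrArg θ (Subtype.ext (by simp [mul_assoc]))

theorem conjFun_inv_cancel (g : G) (θ : N → ℂ) : conjFun N g⁻¹ (conjFun N g θ) = θ := by
  rw [← conjFun_mul, mul_inv_cancel, conjFun_one]

theorem conjFun_of_mem {θ : N → ℂ} (hθ : IsClassFunction N θ) {g : G} (hg : g ∈ N) :
    conjFun N g θ = θ :=
  funext fun n => (congrArg θ (Subtype.ext (by simp))).trans (hθ n ⟨g, hg⟩)

theorem conjFun_restrict {χ : G → ℂ} (hχ : IsClassFunction G χ) (g : G) :
    conjFun N g (fun n : N => χ n) = fun n : N => χ n :=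
  funext fun n => hχ n g

theorem IsIrrCharacter.conjFun {θ : N → ℂ} (hθ : IsIrrCharacter N θ) (g : G) :
    IsIrrCharacter N (conjFun N g θ) :=
  conjFun_eq_comp N g θ ▸ IsIrrCharacter.comp_equiv hθ (MulAut.conjNormal g : MulAut N)

theorem IsCharacter.conjFun {θ : N → ℂ} (hθ : IsCharacter N θ) (g : G) :
    IsCharacter N (conjFun N g θ) :=
  IsCharacter.comp hθ (MulAut.conjNormal g : MulAut N).toMonoidHom

theorem classInner_conjFun [Fintype N] (g : G) (θ φ : N → ℂ) :
    classInner (conjFun N g θ) (conjFun N g φ) = classInner θ φ :=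
  by rw [conjFun_eq_comp, conjFun_eq_comp]; exact classInner_comp_equiv (MulAut.conjNormal g : MulAut N) θ φ

/-- The inertia group of a function on a normal subgroup. -/
def inertia (θ : N → ℂ) : Subgroup G where
  carrier := {g | conjFun N g θ = θ}
  one_mem' := conjFun_one N θ
  mul_mem' := fun {a b} ha hb => by
    show conjFun N (a * b) θ = θ
    rw [conjFun_mul, show conjFun N a θ = θ from ha, show conjFun N b θ = θ from hb]
  inv_mem' := fun {a} ha => by
    show conjFun N a⁻¹ θ = θ
    conv_lhs => rw [← show conjFun N a θ = θ from ha]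
    exact conjFun_inv_cancel N a θ

theorem mem_inertia_iff {θ : N → ℂ} {g : G} : g ∈ inertia N θ ↔ conjFun N g θ = θ := Iff.rfl

theorem le_inertia {θ : N → ℂ} (hθ : IsClassFunction N θ) : N ≤ inertia N θ :=
  fun _ hg => conjFun_of_mem N hθ hg

theorem conjFun_eq_iff {θ : N → ℂ} {g h : G} :
    conjFun N g θ = conjFun N h θ ↔ g * h⁻¹ ∈ inertia N θ := by
  constructor
  · intro he
    rw [mem_inertia_iff, conjFun_mul, he, conjFun_inv_cancel]
  · intro he
    rw [mem_inertia_iff] at he
    calc conjFun N g θ = conjFun N (g * h⁻¹ * h) θ := by rw [inv_mul_cancel_right]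
      _ = conjFun N h θ := by rw [conjFun_mul, he]

/-- The number of conjugates of `θ` is the index of its inertia group. -/
theorem card_conjugates (θ : N → ℂ) :
    Nat.card (Set.range fun g : G => conjFun N g θ) = (inertia N θ).index := by
  rw [Subgroup.index_eq_card]
  let f : G ⧸ inertia N θ → Set.range fun g : G => conjFun N g θ :=
    Quotient.lift (fun g : G => ⟨conjFun N g⁻¹ θ, ⟨g⁻¹, rfl⟩⟩) fun a b hab => Subtype.ext (by
      have h : a⁻¹ * b ∈ inertia N θ := QuotientGroup.leftRel_apply.mp hab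
      exact (conjFun_eq_iff N).mpr (by simpa using h))
  refine (Nat.card_eq_of_bijective f ⟨?_, ?_⟩).symm
  · intro a b h
    obtain ⟨a, rfl⟩ := QuotientGroup.mk_surjective a
    obtain ⟨b, rfl⟩ := QuotientGroup.mk_surjective b
    have h' : conjFun N a⁻¹ θ = conjFun N b⁻¹ θ := congrArg Subtype.val h
    refine QuotientGroup.eq.mpr ?_
    simpa using (conjFun_eq_iff N).mp h'
  · rintro ⟨_, g, rfl⟩
    exact ⟨QuotientGroup.mk g⁻¹, Subtype.ext (by simp [f])⟩

/-- The restriction of an induced function to the normal subgroup. -/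
theorem indFun_restrict [Fintype G] (θ : N → ℂ) :
    (fun n : N => indFun N θ n) = (Nat.card N : ℂ)⁻¹ • ∑ x : G, conjFun N x θ := by
  funext n
  rw [indFun_apply, Pi.smul_apply, Finset.sum_apply, smul_eq_mul]
  refine congrArg _ (Fintype.sum_equiv (Equiv.inv G) _ _ fun x => ?_)
  rw [extendByZero_of_mem N θ (by simpa using hN.conj_mem n n.2 x⁻¹ : x⁻¹ * (n : G) * x ∈ N)]
  exact congrArg θ (Subtype.ext (by simp))

theorem indFun_vanish [Fintype G] (θ : N → ℂ) {g : G} (hg : g ∉ N) : indFun N θ g = 0 :=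
  indFun_eq_zero N θ fun x h => hg (by simpa [mul_assoc] using hN.conj_mem _ h x)

open scoped Classical in
theorem classInner_indFun_restrict [Fintype G] [Fintype N] {θ φ : N → ℂ}
    (hθ : IsIrrCharacter N θ) (hφ : IsIrrCharacter N φ) :
    classInner (fun n : N => indFun N θ n) φ =
      (Nat.card {x : G // conjFun N x θ = φ} : ℂ) / (Nat.card N : ℂ) := by
  rw [indFun_restrict, classInner_smul_left, classInner_sum_left]
  have : ∀ x : G, classInner (conjFun N x θ) φ = if conjFun N x θ = φ then 1 else 0 := fun x => by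
    split_ifs with h
    · rw [h]; exact IsIrrCharacter.classInner_self hφ
    · exact IsIrrCharacter.classInner_ne (IsIrrCharacter.conjFun N hθ x) hφ h
  rw [Finset.sum_congr rfl fun x _ => this x, Finset.sum_boole, ← Fintype.card_subtype,
    ← Nat.card_eq_fintype_card, div_eq_inv_mul]

theorem classInner_indFun_self [Fintype G] [Fintype N] {θ : N → ℂ} (hθ : IsIrrCharacter N θ) :
    (Nat.card N : ℂ) * classInner (indFun N θ) (indFun N θ) = (Nat.card (inertia N θ) : ℂ) := by
  rw [classInner_indFun_right N θ (isClassFunction_indFun N θ),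
    classInner_indFun_restrict N hθ hθ, mul_div_assoc', mul_div_cancel_left₀ _ natCard_ne_zero_complex]
  rfl

theorem isIrrCharacter_indFun_of_inertia [Fintype G] [Fintype N] {θ : N → ℂ}
    (hθ : IsIrrCharacter N θ) (h : ∀ g : G, conjFun N g θ = θ → g ∈ N) :
    IsIrrCharacter G (indFun N θ) := by
  rw [IsCharacter.isIrr_iff (IsCharacter.indFun N (IsIrrCharacter.isCharacter hθ))]
  have h1 := classInner_indFun_self N hθ
  rw [show inertia N θ = N from le_antisymm (fun g hg => h g hg)
    (le_inertia N (IsCharacter.isClassFunction (IsIrrCharacter.isCharacter hθ)))] at h1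
  exact mul_left_cancel₀ natCard_ne_zero_complex (h1.trans (mul_one _).symm)

theorem IsCharacter.classInner_ne_zero_of_add [Fintype G] {χ ψ φ : G → ℂ} (hχ : IsCharacter G χ)
    (hψ : IsCharacter G ψ) (hφ : IsCharacter G φ) (h : classInner χ φ ≠ 0) :
    classInner (χ + ψ) φ ≠ 0 := by
  obtain ⟨a, ha⟩ := IsCharacter.exists_classInner_nat hχ hφ
  obtain ⟨b, hb⟩ := IsCharacter.exists_classInner_nat hψ hφ
  rw [classInner_add_left, ha, hb, ← Nat.cast_add, Nat.cast_ne_zero]
  rw [ha, Nat.cast_ne_zero] at h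
  omega

/-- An irreducible constituent splits off a character. -/
theorem IsCharacter.exists_add_of_classInner_ne_zero [Fintype G] {φ χ : G → ℂ}
    (hφ : IsCharacter G φ) (hχ : IsIrrCharacter G χ) (h : classInner φ χ ≠ 0) :
    ∃ ψ, IsCharacter G ψ ∧ φ = χ + ψ := by
  refine ⟨φ - χ, isCharacter_iff_classInner_nat.mpr ⟨?_, fun η => ?_⟩, (add_sub_cancel χ φ).symm⟩
  · exact fun g x => by
      simp [IsCharacter.isClassFunction hφ g x,
        IsCharacter.isClassFunction (IsIrrCharacter.isCharacter hχ) g x]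
  · obtain ⟨k, hk⟩ := IsCharacter.exists_classInner_nat hφ (irr_isCharacter η)
    rw [classInner_sub_left, hk]
    by_cases he : χ = (η : G → ℂ)
    · refine ⟨k - 1, ?_⟩
      have hk1 : 1 ≤ k := by
        rcases Nat.eq_zero_or_pos k with h0 | h0
        · exact absurd (by rw [he, hk, h0, Nat.cast_zero]) h
        · exact h0
      rw [he, IsIrrCharacter.classInner_self η.2, Nat.cast_sub hk1, Nat.cast_one]
    · exact ⟨k, by rw [IsIrrCharacter.classInner_ne hχ η.2 he, sub_zero]⟩

theorem classInner_restrict_conjFun [Fintype G] [Fintype N] {χ : G → ℂ} (hχ : IsClassFunction G χ)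
    (g : G) (θ : N → ℂ) :
    classInner (fun n : N => χ n) (conjFun N g θ) = classInner (fun n : N => χ n) θ := by
  conv_lhs => rw [← conjFun_restrict N hχ g]
  exact classInner_conjFun N g _ _

/-- Clifford: all constituents of the restriction are conjugate. -/
theorem exists_conjFun_eq [Fintype G] [Fintype N] {χ : G → ℂ} (hχ : IsIrrCharacter G χ)
    {θ φ : N → ℂ} (hθ : IsIrrCharacter N θ) (hφ : IsIrrCharacter N φ)
    (hcθ : classInner (fun n : N => χ n) θ ≠ 0) (hcφ : classInner (fun n : N => χ n) φ ≠ 0) :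
    ∃ g : G, conjFun N g θ = φ := by
  have hχc := IsIrrCharacter.isCharacter hχ
  have h1 : classInner (indFun N θ) χ ≠ 0 := by
    rw [classInner_indFun N θ (IsCharacter.isClassFunction hχc), ← classInner_conj_symm]
    exact fun h => hcθ (by simpa using h)
  obtain ⟨ψ, hψ, hdec⟩ := IsCharacter.exists_add_of_classInner_ne_zero
    (IsCharacter.indFun N (IsIrrCharacter.isCharacter hθ)) hχ h1
  have h2 : classInner (fun n : N => indFun N θ n) φ ≠ 0 := by
    rw [hdec]
    exact IsCharacter.classInner_ne_zero_of_add (IsCharacter.restrict hχc N)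
      (IsCharacter.restrict hψ N) (IsIrrCharacter.isCharacter hφ) hcφ
  rw [classInner_indFun_restrict N hθ hφ] at h2
  by_contra h
  push Not at h
  haveI : IsEmpty {x : G // conjFun N x θ = φ} := ⟨fun x => h x.1 x.2⟩
  exact h2 (by rw [Nat.card_of_isEmpty, Nat.cast_zero, zero_div])

/-- Clifford's theorem. -/
theorem restrict_eq_smul_sum [Fintype G] [Fintype N] {χ : G → ℂ} (hχ : IsIrrCharacter G χ)
    {θ : N → ℂ} (hθ : IsIrrCharacter N θ) (hcθ : classInner (fun n : N => χ n) θ ≠ 0) :
    (fun n : N => χ n) = classInner (fun n : N => χ n) θ •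
      ∑ φ ∈ (Set.finite_range fun g : G => conjFun N g θ).toFinset, φ := by
  classical
  haveI := Fintype.ofFinite (IrrCharacter N)
  have hχc := IsCharacter.restrict (IsIrrCharacter.isCharacter hχ) N
  refine ext_classInner (IsCharacter.isClassFunction hχc) (IsClassFunction.smul
    (IsClassFunction.sum _ fun φ hφ => ?_) _) fun η => ?_
  · rw [Set.Finite.mem_toFinset] at hφ
    obtain ⟨g, rfl⟩ := hφ
    exact IsCharacter.isClassFunction
      (IsIrrCharacter.isCharacter (IsIrrCharacter.conjFun N hθ g))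
  rw [classInner_smul_left, classInner_sum_left]
  by_cases hη : (η : N → ℂ) ∈ (Set.finite_range fun g : G => conjFun N g θ).toFinset
  · rw [Finset.sum_eq_single (η : N → ℂ)]
    · obtain ⟨g, hg⟩ := (Set.Finite.mem_toFinset _).mp hη
      rw [IsIrrCharacter.classInner_self η.2, mul_one, ← hg]
      exact classInner_restrict_conjFun N
        (IsCharacter.isClassFunction (IsIrrCharacter.isCharacter hχ)) g θ
    · intro φ hφ hne
      obtain ⟨g, rfl⟩ := (Set.Finite.mem_toFinset _).mp hφ
      exact IsIrrCharacter.classInner_ne (IsIrrCharacter.conjFun N hθ g) η.2 hne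
    · exact fun h => absurd hη h
  · rw [Finset.sum_eq_zero, mul_zero]
    · by_contra h
      obtain ⟨g, hg⟩ := exists_conjFun_eq N hχ hθ η.2 hcθ h
      exact hη ((Set.Finite.mem_toFinset _).mpr ⟨g, hg⟩)
    · intro φ hφ
      obtain ⟨g, rfl⟩ := (Set.Finite.mem_toFinset _).mp hφ
      exact IsIrrCharacter.classInner_ne (IsIrrCharacter.conjFun N hθ g) η.2 fun he =>
        hη (he ▸ hφ)

/-- `χ(1) = e t θ(1)`. -/
theorem degree_eq [Fintype G] [Fintype N] {χ : G → ℂ} (hχ : IsIrrCharacter G χ)
    {θ : N → ℂ} (hθ : IsIrrCharacter N θ) (hcθ : classInner (fun n : N => χ n) θ ≠ 0) :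
    χ 1 = classInner (fun n : N => χ n) θ * ((inertia N θ).index : ℂ) * θ 1 := by
  have h := congrFun (restrict_eq_smul_sum N hχ hθ hcθ) 1
  simp only [OneMemClass.coe_one, Pi.smul_apply, Finset.sum_apply, smul_eq_mul] at h
  rw [h, mul_assoc, ← card_conjugates N θ, Nat.card_eq_card_toFinset, ← nsmul_eq_mul,
    ← Finset.sum_const]
  congr 1
  refine Finset.sum_congr (by ext; simp) fun φ hφ => ?_
  obtain ⟨g, rfl⟩ := Set.mem_toFinset.mp hφ
  exact conjFun_apply_one N g θ

/-- An invariant constituent gives `χ_N = e θ`. -/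
theorem restrict_eq_smul_of_invariant [Fintype G] [Fintype N] {χ : G → ℂ}
    (hχ : IsIrrCharacter G χ) {θ : N → ℂ} (hθ : IsIrrCharacter N θ)
    (hinv : ∀ g : G, conjFun N g θ = θ) (hcθ : classInner (fun n : N => χ n) θ ≠ 0) :
    (fun n : N => χ n) = classInner (fun n : N => χ n) θ • θ := by
  have h := restrict_eq_smul_sum N hχ hθ hcθ
  rwa [show (Set.finite_range fun g : G => conjFun N g θ).toFinset = {θ} by
    ext φ; simp [hinv, eq_comm], Finset.sum_singleton] at h

/-- Every irreducible character has a constituent on a normal subgroup. -/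
theorem IsCharacter.exists_constituent [Fintype G] {χ : G → ℂ} (hχ : IsCharacter G χ)
    (hne : χ ≠ 0) : ∃ θ : IrrCharacter G, classInner χ (θ : G → ℂ) ≠ 0 := by
  haveI := Fintype.ofFinite (IrrCharacter G)
  by_contra h
  push Not at h
  apply hne
  rw [eq_sum_classInner (IsCharacter.isClassFunction hχ)]
  simp [h]

/-- Clifford correspondence. -/
theorem exists_clifford_correspondent [Fintype G] [Fintype N] {χ : G → ℂ}
    (hχ : IsIrrCharacter G χ) {θ : N → ℂ} (hθ : IsIrrCharacter N θ)
    (hcθ : classInner (fun n : N => χ n) θ ≠ 0) (T : Subgroup G) [Fintype T]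
    (hT : inertia N θ = T) (hNT : N ≤ T) :
    ∃ ψ : T → ℂ, IsIrrCharacter T ψ ∧ indFun T ψ = χ ∧
      classInner (fun n : N => ψ ⟨n, hNT n.2⟩) θ = classInner (fun n : N => χ n) θ := by
  classical
  haveI := Fintype.ofFinite (IrrCharacter T)
  have hχc := IsIrrCharacter.isCharacter hχ
  obtain ⟨m, hm, hm'⟩ := IsCharacter.exists_nat_decomp (IsCharacter.restrict hχc T)
  have hexp : classInner (fun n : N => χ n) θ = ∑ ψ : IrrCharacter T,
      (m ψ : ℂ) * classInner (fun n : N => (ψ : T → ℂ) ⟨n, hNT n.2⟩) θ := by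
    have : (fun n : N => χ n) =
        ∑ ψ : IrrCharacter T, (m ψ : ℂ) • fun n : N => (ψ : T → ℂ) ⟨n, hNT n.2⟩ := by
      funext n
      have := congrFun hm ⟨n, hNT n.2⟩
      simpa using this
    rw [this, classInner_sum_left]
    simp only [classInner_smul_left]
  obtain ⟨ψ, -, hψ⟩ := Finset.exists_ne_zero_of_sum_ne_zero (hexp ▸ hcθ)
  obtain ⟨hmψ, hfψ⟩ := ne_zero_and_ne_zero_of_mul hψ
  choose f hf using fun φ : IrrCharacter T =>
    IsCharacter.exists_classInner_nat
      (IsCharacter.comp (irr_isCharacter φ) (Subgroup.inclusion hNT))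
      (IsIrrCharacter.isCharacter hθ)
  have hf' : ∀ φ : IrrCharacter T,
      classInner (fun n : N => (φ : T → ℂ) ⟨n, hNT n.2⟩) θ = f φ := hf
  obtain ⟨e, he⟩ := IsCharacter.exists_classInner_nat (IsCharacter.restrict hχc N)
    (IsIrrCharacter.isCharacter hθ)
  have hfe : f ψ ≤ e := by
    have h1 : (e : ℂ) = ((∑ φ, m φ * f φ : ℕ) : ℂ) := by
      rw [← he, hexp]; push_cast; simp only [hf']
    have h1' : e = ∑ φ, m φ * f φ := by exact_mod_cast h1
    have h2 : 1 ≤ m ψ := by
      have : m ψ ≠ 0 := by exact_mod_cast hmψ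
      omega
    rw [h1']
    exact le_trans (Nat.le_mul_of_pos_left _ h2)
      (Finset.single_le_sum (f := fun φ => m φ * f φ) (fun _ _ => Nat.zero_le _)
        (Finset.mem_univ ψ))
  -- the degree of `ψ`
  let N' : Subgroup T := N.subgroupOf T
  let eN : N' ≃* N := Subgroup.subgroupOfEquivOfLe hNT
  haveI : Fintype N' := Fintype.ofFinite _
  have hψθ : classInner (fun x : N' => (ψ : T → ℂ) x) (θ ∘ eN) = f ψ := by
    rw [← hf' ψ, ← classInner_comp_equiv eN]
    congr 1
  have hinv : ∀ t : T, conjFun N' t (θ ∘ eN) = θ ∘ eN := by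
    intro t
    have h1 : (t : G) ∈ inertia N θ := hT.symm ▸ t.2
    funext x
    have := congrFun ((mem_inertia_iff N).mp h1) (eN x)
    exact this
  have hψ1 : (ψ : T → ℂ) 1 = (f ψ : ℂ) * θ 1 := by
    have h := congrFun (restrict_eq_smul_of_invariant N' ψ.2 (IsIrrCharacter.comp_equiv hθ eN)
      hinv (by rw [hψθ, ← hf' ψ]; exact hfψ)) 1
    rw [hψθ] at h
    simpa using h
  -- `χ` is a constituent of `Ind ψ`
  have h1 : classInner (indFun T (ψ : T → ℂ)) χ ≠ 0 := by
    rw [classInner_indFun T _ (IsCharacter.isClassFunction hχc), ← classInner_conj_symm, hm' ψ,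
      map_natCast]
    exact hmψ
  obtain ⟨ζ, hζ, hdec⟩ := IsCharacter.exists_add_of_classInner_ne_zero
    (IsCharacter.indFun T (irr_isCharacter ψ)) hχ h1
  obtain ⟨z, hz⟩ := IsCharacter.exists_apply_one hζ
  obtain ⟨d, hd, hd'⟩ := IsIrrCharacter.exists_apply_one hθ
  have hdeg := congrFun hdec 1
  rw [indFun_one, hψ1, Pi.add_apply, degree_eq N hχ hθ hcθ, he, hT, hd', hz] at hdeg
  have hdeg' : T.index * (f ψ * d) = e * T.index * d + z := by exact_mod_cast hdeg
  have hidx : 0 < T.index := Nat.pos_of_ne_zero Subgroup.index_ne_zero_of_finite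
  have hle : T.index * (f ψ * d) ≤ T.index * (e * d) :=
    Nat.mul_le_mul_left _ (Nat.mul_le_mul_right _ hfe)
  have hz0 : z = 0 := by nlinarith
  have hfe' : f ψ = e := by
    rw [hz0, add_zero] at hdeg'
    have : T.index * (f ψ * d) = T.index * (e * d) := by rw [hdeg']; ring
    exact Nat.eq_of_mul_eq_mul_right hd (Nat.eq_of_mul_eq_mul_left hidx this)
  refine ⟨ψ, ψ.2, ?_, by rw [hf' ψ, hfe', he]⟩
  rw [hdec]
  have : ζ = 0 := by
    obtain ⟨n, ρ, rfl⟩ := hζ
    rw [ρ.char_one, hz0, Nat.cast_zero, Nat.cast_eq_zero] at hz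
    haveI : Subsingleton (Fin n → ℂ) := Module.finrank_zero_iff.mp hz
    funext g
    simp [Representation.character, Subsingleton.elim (ρ g) 0]
  rw [this, add_zero]

end Cfsg.Agent.Lib.Characters
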