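import Cfsg.Agent.Lib.Characters.ExtensionChar
import Cfsg.Agent.Lib.Characters.Ito

/-!
# `χ(1)/θ(1)` divides the index of the normal subgroup
-/

namespace Cfsg.Agent.Lib.Characters

open Module

set_option linter.unusedSectionVars false
set_option linter.unusedSimpArgs false
set_option linter.unusedVariables false
set_option linter.style.haveILetI false

universe u

variable {G : Type u} [Group G]

/-- Irreducibility of a space of maps spanning an irreducible representation. -/
theorem isIrreducible_of_span {V W U : Type*} [AddCommGroup V] [Module ℂ V] [FiniteDimensional ℂ V]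
    [AddCommGroup W] [Module ℂ W] [FiniteDimensional ℂ W] [AddCommGroup U] [Module ℂ U] [FiniteDimensional ℂ U]
    {S : Type*} [Group S] (π : Representation ℂ S U) (σ : Representation ℂ G W) [σ.IsIrreducible]
    (p : S → G) (hp : Function.Surjective p) (T : S → V → V) (ι : U →ₗ[ℂ] V →ₗ[ℂ] W)
    (hι : Function.Injective ι) (heq : ∀ m f x, ι (π m f) (T m x) = σ (p m) (ι f x))
    (hdim : finrank ℂ W = finrank ℂ U * finrank ℂ V) : π.IsIrreducible := by
  haveI := nontrivial_of_isIrreducible σ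
  refine (isIrreducible_iff_forall π).mpr ⟨?_, fun U' hU' => ?_⟩
  · by_contra h
    rw [not_nontrivial_iff_subsingleton] at h
    have h0 : finrank ℂ W = 0 := by rw [hdim, Module.finrank_zero_of_subsingleton, zero_mul]
    obtain ⟨w, hw⟩ := exists_ne (0 : W)
    haveI := Module.finrank_zero_iff.mp h0
    exact hw (Subsingleton.elim _ _)
  by_cases hbot : U' = ⊥
  · exact Or.inl hbot
  right
  let W' : Submodule ℂ W := ⨆ f : U', LinearMap.range (ι f)
  have hW'inv : ∀ g, ∀ x ∈ W', σ g x ∈ W' := by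
    intro g x hx
    obtain ⟨m, rfl⟩ := hp g
    refine Submodule.iSup_induction _ (motive := fun x => σ (p m) x ∈ W') hx ?_ ?_ ?_
    · rintro f _ ⟨y, rfl⟩
      exact Submodule.mem_iSup_of_mem (⟨π m f, hU' m f f.2⟩ : U') ⟨T m y, heq m f y⟩
    · rw [map_zero]; exact W'.zero_mem
    · intro a b ha hb; rw [map_add]; exact W'.add_mem ha hb
  have hW'ne : W' ≠ ⊥ := by
    intro h
    obtain ⟨f, hf, hf0⟩ := (Submodule.ne_bot_iff U').mp hbot
    refine hf0 (hι (LinearMap.ext fun x => ?_))
    have hx : ι f x ∈ W' := Submodule.mem_iSup_of_mem (⟨f, hf⟩ : U') ⟨x, rfl⟩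
    rw [h, Submodule.mem_bot] at hx
    rw [hx, map_zero, LinearMap.zero_apply]
  have hW' : W' = ⊤ :=
    (((isIrreducible_iff_forall σ).mp inferInstance).2 W' hW'inv).resolve_left hW'ne
  let b := Module.finBasis ℂ U'
  let Φ : (Fin (finrank ℂ U') → V) →ₗ[ℂ] W :=
    ∑ i, (ι (b i : U)).comp (LinearMap.proj i)
  have hΦ : Function.Surjective Φ := by
    rw [← LinearMap.range_eq_top, eq_top_iff, ← hW', iSup_le_iff]
    rintro f _ ⟨x, rfl⟩
    refine ⟨fun i => b.repr f i • x, ?_⟩
    have hf : (f : U) = ∑ i, b.repr f i • (b i : U) := by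
      have := congrArg U'.subtype (b.sum_repr f)
      simp only [map_sum, map_smul, Submodule.subtype_apply] at this
      exact this.symm
    rw [hf]
    simp [Φ, map_sum]
  have hle := LinearMap.finrank_range_le Φ
  rw [LinearMap.range_eq_top.mpr hΦ, finrank_top, hdim] at hle
  have hV : 0 < finrank ℂ V := by
    by_contra h
    have h0 : finrank ℂ V = 0 := by omega
    haveI := Module.finrank_zero_iff.mp h0
    refine hbot (eq_bot_iff.mpr fun f hf => ?_)
    exact (Submodule.mem_bot ℂ).mpr (hι (LinearMap.ext fun x => by simp [Subsingleton.elim x 0]))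
  have h4 : finrank ℂ U * finrank ℂ V ≤ finrank ℂ U' * finrank ℂ V := by
    simpa [Module.finrank_pi_fintype] using hle
  exact Submodule.eq_top_of_finrank_eq
    (le_antisymm U'.finrank_le (Nat.le_of_mul_le_mul_right h4 hV))

/-- The invariant case: `χ_N = e θ` with `e ∣ |G : N|`. -/
theorem exists_ratio_dvd_index_of_invariant [Finite G] (N : Subgroup G) [N.Normal] {χ : G → ℂ}
    (hχ : IsIrrCharacter G χ) {θ : N → ℂ} (hθ : IsIrrCharacter N θ)
    (hinv : ∀ g : G, Characters.conjFun N g θ = θ) [Fintype N]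
    (hcθ : classInner (fun n : N => χ n) θ ≠ 0) :
    ∃ e : ℕ, χ 1 = (e : ℂ) * θ 1 ∧ e ∣ N.index := by
  classical
  haveI := Fintype.ofFinite G
  obtain ⟨c, σ, hσ, rfl⟩ := hχ
  obtain ⟨d, ρ, hρ, rfl⟩ := hθ
  haveI := nontrivial_of_isIrreducible ρ
  let σN : Representation ℂ N (Fin c → ℂ) := σ.comp N.subtype
  let U : Submodule ℂ ((Fin d → ℂ) →ₗ[ℂ] (Fin c → ℂ)) :=
    { toAddSubmonoid := (Representation.linHom ρ σN).invariants.toAddSubmonoid
      smul_mem' := fun r f hf => (Representation.linHom ρ σN).invariants.smul_mem r hf }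
  set e := finrank ℂ U with he
  have hU : ∀ {f : (Fin d → ℂ) →ₗ[ℂ] (Fin c → ℂ)}, f ∈ U →
      ∀ (n : N) (x : Fin d → ℂ), σ n (f x) = f (ρ n x) := by
    intro f hf n x
    have h := LinearMap.congr_fun (hf n) (ρ n x)
    simp only [Representation.linHom_apply, LinearMap.coe_comp, Function.comp_apply] at h
    rw [← Module.End.mul_apply, ← map_mul, inv_mul_cancel, map_one] at h
    exact h
  have hinner : classInner (fun n : N => σ.character n) ρ.character = (e : ℂ) := by
    rw [he, show finrank ℂ U = finrank ℂ (Representation.linHom ρ σN).invariants from rfl,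
      (Representation.invariantsEquivIntertwiningMap (ρ := ρ) (σ := σN)).finrank_eq]
    exact classInner_char_eq_finrank ρ σN
  have hr := congrFun (restrict_eq_smul_of_invariant N (isIrrCharacter_of_rep σ)
    (isIrrCharacter_of_rep ρ) hinv hcθ) 1
  simp only [OneMemClass.coe_one, Pi.smul_apply, smul_eq_mul, hinner] at hr
  refine ⟨e, hr, ?_⟩
  have hce : c = e * d := by
    rw [σ.char_one, ρ.char_one, finrank_fin_fun, finrank_fin_fun] at hr
    exact_mod_cast hr
  -- the finite cover
  let S : Subgroup (intertwiners N ρ) := ((powMonoidHom (Nat.card N)).comp (detLift N ρ)).ker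
  have hinv' : ∀ (g : G) (n : N), ρ.character (MulAut.conjNormal g n) = ρ.character n := fun g n => by
    have := congrFun (hinv g) n
    rw [conjFun_eq_comp] at this
    exact this
  let p : S →* G := (projLift N ρ).comp S.subtype
  have hp : Function.Surjective p := fun g => by
    obtain ⟨m, h1, h2⟩ := exists_lift_det N ρ hinv' g 1
    exact ⟨⟨m, show detLift N ρ m ^ Nat.card N = 1 by rw [h2, one_pow]⟩, h1⟩
  haveI : Finite p.ker := by
    let k := finrank ℂ (Fin d → ℂ) * Nat.card N
    haveI : NeZero k :=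
      ⟨(Nat.mul_pos (finrank_pos_of_isIrreducible ρ) Nat.card_pos).ne'⟩
    choose f hf using fun m : p.ker => exists_scalar_of_proj_eq_one N ρ (m := m.1.1) m.2
    have hfk : ∀ m, f m ∈ rootsOfUnity k ℂ := fun m => by
      rw [mem_rootsOfUnity, pow_mul, ← detLift_scalarLift N ρ, hf]
      exact m.1.2
    refine Finite.of_injective (fun m => (⟨f m, hfk m⟩ : rootsOfUnity k ℂ)) fun a b h => ?_
    exact Subtype.ext (Subtype.ext (by rw [← hf a, ← hf b]; exact congrArg _ (congrArg Subtype.val h)))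
  haveI : Finite S :=
    haveI : Finite (S ⧸ p.ker) :=
      Finite.of_equiv _ (QuotientGroup.quotientKerEquivOfSurjective p hp).toEquiv.symm
    Finite.of_subgroup_quotient p.ker
  -- the action on the intertwining space
  let A : S → End ℂ ((Fin d → ℂ) →ₗ[ℂ] (Fin c → ℂ)) := fun m =>
    (LinearMap.llcomp ℂ _ _ _ (σ (p m))).comp
      (LinearMap.lcomp ℂ _ (((m.1.1.2)⁻¹ : (End ℂ (Fin d → ℂ))ˣ) : End ℂ (Fin d → ℂ)))
  have hA : ∀ m f x, A m f x = σ (p m) (f (((m.1.1.2)⁻¹ : (End ℂ (Fin d → ℂ))ˣ).1 x)) :=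
    fun m f x => rfl
  have hAU : ∀ m, ∀ f ∈ U, A m f ∈ U := by
    intro m f hf n
    refine LinearMap.ext fun x => ?_
    show σ n (A m f (ρ n⁻¹ x)) = A m f x
    rw [hA, hA]
    set g : G := p m with hg
    set n' : N := (MulAut.conjNormal g)⁻¹ n with hn'
    have h1 : ∀ y, ((m.1.1.2)⁻¹ : (End ℂ (Fin d → ℂ))ˣ).1 (ρ n⁻¹ y) =
        ρ n'⁻¹ (((m.1.1.2)⁻¹ : (End ℂ (Fin d → ℂ))ˣ).1 y) := by
      have h := (m.1⁻¹).2 n⁻¹
      intro y
      have h' := LinearMap.congr_fun h y
      simp only [Module.End.mul_apply, Subgroup.coe_inv, Prod.fst_inv, Prod.snd_inv, map_inv] at h'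
      exact h'
    rw [h1, ← hU hf, ← Module.End.mul_apply, ← Module.End.mul_apply, ← map_mul, ← map_mul]
    congr 2
    have : (n' : G) = g⁻¹ * n * g := by simp [hn']
    rw [Subgroup.coe_inv, this]
    group
  haveI : Module.Free ℂ U := Module.Free.of_divisionRing ℂ U
  let φ : (Fin e → ℂ) ≃ₗ[ℂ] U := (Module.finBasis ℂ U).equivFun.symm
  let π : Representation ℂ S (Fin e → ℂ) :=
    { toFun := fun m => φ.symm.toLinearMap.comp (((A m).restrict (hAU m)).comp φ.toLinearMap)
      map_one' := LinearMap.ext fun f => φ.injective (Subtype.ext (LinearMap.ext fun x => by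
        show (φ (φ.symm ((A 1).restrict (hAU 1) (φ f)))).1 x = _
        rw [φ.apply_symm_apply]
        show A 1 _ x = _
        simp [hA]))
      map_mul' := fun a b => LinearMap.ext fun f => φ.injective (Subtype.ext (LinearMap.ext fun x => by
        show (φ (φ.symm ((A (a * b)).restrict (hAU _) (φ f)))).1 x =
          (φ (φ.symm ((A a).restrict (hAU a) (φ (φ.symm ((A b).restrict (hAU b) (φ f))))))).1 x
        rw [φ.apply_symm_apply, φ.apply_symm_apply, φ.apply_symm_apply]
        show A (a * b) _ x = A a (A b _) x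
        simp [hA, mul_inv_rev, Module.End.mul_apply])) }
  have hπ : ∀ m f, (φ (π m f) : (Fin d → ℂ) →ₗ[ℂ] (Fin c → ℂ)) = A m (φ f) := fun m f =>
    congrArg Subtype.val (φ.apply_symm_apply _)
  haveI : π.IsIrreducible := by
    refine isIrreducible_of_span π σ p hp (fun m x => m.1.1.2.1 x)
      (U.subtype.comp φ.toLinearMap) (Subtype.val_injective.comp φ.injective) (fun m f x => ?_)
      (by rw [finrank_fin_fun, finrank_fin_fun, finrank_fin_fun, hce])
    show (φ (π m f) : (Fin d → ℂ) →ₗ[ℂ] (Fin c → ℂ)) _ = _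
    rw [hπ, hA, ← Module.End.mul_apply, Units.inv_mul, Module.End.one_apply]
    rfl
  have hdvd := finrank_dvd_index_of_central_image π (N.comap p) fun a ha g => by
    obtain ⟨z, hz⟩ := exists_scalar_of_proj_eq_one N ρ
      (m := a.1 * (nLift N ρ ⟨p a, ha⟩)⁻¹) (by rw [map_mul, map_inv, projLift_nLift]; simp [p])
    have ha' : a.1 = scalarLift N ρ z * nLift N ρ ⟨p a, ha⟩ := by rw [hz, inv_mul_cancel_right]
    have hscal : π a = ((z⁻¹ : ℂˣ) : ℂ) • 1 := by
      refine LinearMap.ext fun f => φ.injective (Subtype.ext (LinearMap.ext fun x => ?_))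
      rw [hπ, LinearMap.smul_apply, Module.End.one_apply, map_smul, Submodule.coe_smul,
        LinearMap.smul_apply, hA]
      have hT : (((a.1.1.2)⁻¹ : (End ℂ (Fin d → ℂ))ˣ) : End ℂ (Fin d → ℂ)) =
          ((z⁻¹ : ℂˣ) : ℂ) • ρ (⟨p a, ha⟩ : N)⁻¹ := by
        rw [Units.inv_eq_of_mul_eq_one_right]
        rw [ha']
        show (algebraMap ℂ (End ℂ (Fin d → ℂ)) z * ρ ⟨p a, ha⟩) * _ = 1
        rw [Algebra.algebraMap_eq_smul_one, smul_one_mul, smul_mul_smul_comm, ← map_mul,
          mul_inv_cancel, map_one, Units.mul_inv, one_smul]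
      rw [hT, LinearMap.smul_apply, map_smul, map_smul, ← hU (φ f).2, ← Module.End.mul_apply, ← map_mul]
      simp
    rw [map_mul, map_mul, hscal, mul_smul_comm, smul_mul_assoc, mul_one, one_mul]
  rwa [N.index_comap_of_surjective hp, finrank_fin_fun] at hdvd

/-- The degree ratio divides the index. -/
theorem degree_ratio_dvd_index [Finite G] (N : Subgroup G) [N.Normal] {χ : G → ℂ}
    (hχ : IsIrrCharacter G χ) {θ : N → ℂ} (hθ : IsIrrCharacter N θ) [Fintype N]
    (hcθ : classInner (fun n : N => χ n) θ ≠ 0) :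
    ∃ e : ℕ, χ 1 = (e : ℂ) * θ 1 ∧ e ∣ N.index := by
  classical
  haveI := Fintype.ofFinite G
  let T := inertia N θ
  haveI := Fintype.ofFinite T
  have hNT : N ≤ T := le_inertia N (IsCharacter.isClassFunction (IsIrrCharacter.isCharacter hθ))
  obtain ⟨ψ, hψ, hind, hmult⟩ := exists_clifford_correspondent N hχ hθ hcθ T rfl hNT
  let N' : Subgroup T := N.subgroupOf T
  haveI := Fintype.ofFinite N'
  let e : N' ≃* N := Subgroup.subgroupOfEquivOfLe hNT
  have hinv : ∀ t : T, Characters.conjFun N' t (θ ∘ e) = θ ∘ e := fun t =>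
    funext fun x => congrFun ((mem_inertia_iff N).mp t.2) (e x)
  have hψθ : classInner (fun x : N' => ψ x) (θ ∘ e) ≠ 0 := by
    have h1 : classInner (fun x : N' => ψ x) (θ ∘ e) =
        classInner (fun n : N => ψ ⟨n, hNT n.2⟩) θ := by
      rw [← classInner_comp_equiv e]
      congr 1
    rw [h1, hmult]
    exact hcθ
  obtain ⟨k, hk1, hk2⟩ := exists_ratio_dvd_index_of_invariant N' hψ
    (IsIrrCharacter.comp_equiv hθ e) hinv hψθ
  refine ⟨T.index * k, ?_, ?_⟩
  · rw [← hind, indFun_one, hk1, Function.comp_apply, map_one]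
    push_cast
    ring
  · rw [mul_comm, ← Subgroup.relIndex_mul_index hNT]
    exact Nat.mul_dvd_mul_right hk2 _

end Cfsg.Agent.Lib.Characters
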