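import Cfsg.Agent.Lib.Characters.Extension
import Cfsg.Agent.Lib.Characters.Integrality
import Cfsg.Agent.Lib.Characters.Kernel
import Cfsg.Prelude.Def_CharExt

/-!
# Determinantal characters and extension theorems for characters
-/

namespace Cfsg.Agent.Lib.Characters

open Module

set_option linter.unusedSectionVars false
set_option linter.unusedSimpArgs false
set_option linter.unusedVariables false
set_option linter.style.haveILetI false

universe u v

variable {G : Type u} [Group G]
variable {V : Type v} [AddCommGroup V] [Module ℂ V] [FiniteDimensional ℂ V]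

/-- `detChar` is computed by any representation affording the character. -/
theorem detChar_eq [Finite G] (ρ : Representation ℂ G V) :
    detChar ρ.character = fun g => LinearMap.det (ρ g) := by
  have h : IsCharacter G ρ.character := isCharacter_of_rep ρ
  rw [detChar, dif_pos h]
  obtain ⟨e⟩ := nonempty_equiv_of_character_eq ρ (Classical.choose (Classical.choose_spec h))
    (Classical.choose_spec (Classical.choose_spec h)).symm
  funext g
  rw [← LinearMap.det_conj (ρ g) e.toLinearEquiv]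
  congr 1
  refine LinearMap.ext fun x => ?_
  simp only [LinearMap.coe_comp, LinearEquiv.coe_coe, Function.comp_apply]
  have h2 := LinearMap.congr_fun (e.isIntertwining' g) (e.toLinearEquiv.symm x)
  simp only [LinearMap.coe_comp, Function.comp_apply] at h2
  exact (congrArg _ (e.toLinearEquiv.apply_symm_apply x).symm).trans h2.symm

/-- The determinant of a representation as a unit-valued homomorphism. -/
noncomputable def detHom (ρ : Representation ℂ G V) : G →* ℂˣ :=
  ((LinearMap.det : End ℂ V →* ℂ).comp ρ).toHomUnits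

theorem detHom_coe (ρ : Representation ℂ G V) (g : G) :
    (detHom ρ g : ℂ) = LinearMap.det (ρ g) := rfl

theorem isCharacter_detChar [Finite G] {χ : G → ℂ} (hχ : IsCharacter G χ) :
    IsCharacter G (detChar χ) ∧ detChar χ 1 = 1 := by
  obtain ⟨n, ρ, rfl⟩ := hχ
  rw [detChar_eq ρ]
  exact ⟨IsIrrCharacter.isCharacter (isIrrCharacter_unitsHom (detHom ρ)), by simp⟩

theorem detChar_comp {H : Type*} [Group H] [Finite G] [Finite H] (f : H →* G) {χ : G → ℂ}
    (hχ : IsCharacter G χ) : detChar (χ ∘ f) = detChar χ ∘ f := by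
  obtain ⟨n, ρ, rfl⟩ := hχ
  rw [detChar_eq ρ, show ρ.character ∘ f = Representation.character (ρ.comp f) from rfl,
    detChar_eq]
  rfl

/-- Twist of a representation by a linear character. -/
noncomputable def twistRep (lam : G →* ℂˣ) (ρ : Representation ℂ G V) : Representation ℂ G V where
  toFun g := (lam g : ℂ) • ρ g
  map_one' := by simp
  map_mul' a b := by rw [map_mul, map_mul, Units.val_mul, smul_mul_smul_comm]

theorem isIrrCharacter_twist {χ : G → ℂ} (lam : G →* ℂˣ) (hχ : IsIrrCharacter G χ) :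
    IsIrrCharacter G (fun g => (lam g : ℂ) * χ g) := by
  obtain ⟨n, ρ, hρ, rfl⟩ := hχ
  refine ⟨n, twistRep lam ρ, ?_, ?_⟩
  · rw [isIrreducible_iff_forall] at hρ ⊢
    refine ⟨hρ.1, fun S hS => hρ.2 S fun g x hx => ?_⟩
    have h := S.smul_mem ((lam g)⁻¹ : ℂˣ).1 (hS g x hx)
    simpa [twistRep, smul_smul] using h
  · funext g
    simp [twistRep, Representation.character]

theorem detChar_twist [Finite G] {χ : G → ℂ} (lam : G →* ℂˣ) (hχ : IsCharacter G χ) {d : ℕ}
    (hd : χ 1 = d) :
    detChar (fun g => (lam g : ℂ) * χ g) = fun g => (lam g : ℂ) ^ d * detChar χ g := by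
  obtain ⟨n, ρ, rfl⟩ := hχ
  have hn : finrank ℂ (Fin n → ℂ) = d := by
    rw [ρ.char_one] at hd
    exact_mod_cast hd
  have h : (fun g => (lam g : ℂ) * ρ.character g) = (twistRep lam ρ).character := by
    funext g
    simp [twistRep, Representation.character]
  rw [h, detChar_eq, detChar_eq]
  funext g
  simp [twistRep, hn]

variable {N : Subgroup G} [hN : N.Normal]

/-- A representation with prescribed character on `N` restricts to `ρ` after transport. -/
theorem exists_rep_restrict_eq [Finite G] {P : Subgroup G} (hNP : N ≤ P)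
    (ρ : Representation ℂ N V) {η : P → ℂ} (hη : IsCharacter P η)
    (hres : ∀ n : N, η ⟨n, hNP n.2⟩ = ρ.character n) :
    ∃ σ : Representation ℂ P V, ∀ n : N, σ ⟨n, hNP n.2⟩ = ρ n := by
  obtain ⟨m, σ, rfl⟩ := hη
  obtain ⟨e⟩ := nonempty_equiv_of_character_eq ρ
    (σ.comp (Subgroup.inclusion hNP) : Representation ℂ N _) (funext fun n => (hres n).symm)
  refine ⟨transportRep σ e.toLinearEquiv.symm, fun n => ?_⟩
  ext x
  have h := LinearMap.congr_fun (e.isIntertwining' n) x
  simp only [LinearMap.coe_comp, Function.comp_apply] at h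
  simp only [transportRep, MonoidHom.coe_mk, OneHom.coe_mk, LinearEquiv.conj_apply,
    LinearMap.coe_comp, LinearEquiv.coe_coe, Function.comp_apply, LinearEquiv.symm_symm]
  rw [LinearEquiv.symm_apply_eq]
  exact h.symm

theorem exists_pow_eq_units {d : ℕ} (hd : 0 < d) (z : ℂˣ) : ∃ c : ℂˣ, c ^ d = z := by
  obtain ⟨c, hc⟩ := IsAlgClosed.exists_pow_nat_eq (z : ℂ) hd
  have hc0 : c ≠ 0 := by
    rintro rfl
    rw [zero_pow hd.ne'] at hc
    exact z.ne_zero hc.symm
  exact ⟨Units.mk0 c hc0, Units.ext hc⟩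

section RepLevel

variable (N) (ρ : Representation ℂ N V) [ρ.IsIrreducible]

/-- The determinant on the intertwiners. -/
noncomputable def detLift : intertwiners N ρ →* ℂˣ :=
  (Units.map (LinearMap.det : End ℂ V →* ℂ)).comp
    ((MonoidHom.snd G (End ℂ V)ˣ).comp (intertwiners N ρ).subtype)

theorem detLift_nLift (n : N) : detLift N ρ (nLift N ρ n) = detHom ρ n := Units.ext rfl

theorem detLift_scalarLift (c : ℂˣ) : detLift N ρ (scalarLift N ρ c) = c ^ finrank ℂ V :=
  Units.ext (by
    show LinearMap.det (algebraMap ℂ (End ℂ V) c) = _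
    simp [Algebra.algebraMap_eq_smul_one])

/-- Every element of `G` lifts with any prescribed determinant. -/
theorem exists_lift_det [Finite N]
    (hinv : ∀ (g : G) (n : N), ρ.character (MulAut.conjNormal g n) = ρ.character n)
    (g : G) (z : ℂˣ) : ∃ m, projLift N ρ m = g ∧ detLift N ρ m = z := by
  obtain ⟨m, hm⟩ := projLift_surjective N ρ hinv g
  obtain ⟨c, hc⟩ := exists_pow_eq_units (finrank_pos_of_isIrreducible ρ) (z * (detLift N ρ m)⁻¹)
  refine ⟨scalarLift N ρ c * m, by simp [hm], ?_⟩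
  rw [map_mul, detLift_scalarLift, hc, inv_mul_cancel_right]

/-- Extension from Sylow-wise extensions, with the determinant order controlling the primes. -/
theorem exists_extension_of_prime_extensions [Finite G]
    (hinv : ∀ (g : G) (n : N), ρ.character (MulAut.conjNormal g n) = ρ.character n)
    (o : ℕ) (ho : ∀ n, detHom ρ n ^ o = 1)
    (hp : ∀ p : ℕ, p.Prime → p ∣ finrank ℂ V * o → ∃ (P : Subgroup G) (hNP : N ≤ P)
      (η : P → ℂ), ¬ p ∣ P.index ∧ IsCharacter P η ∧ ∀ n : N, η ⟨n, hNP n.2⟩ = ρ.character n) :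
    ∃ σ : Representation ℂ G V, σ.IsIrreducible ∧ ∀ n : N, σ n = ρ n := by
  let S : Subgroup (intertwiners N ρ) := ((powMonoidHom o).comp (detLift N ρ)).ker
  have hNS : ∀ n, nLift N ρ n ∈ S := fun n => by
    show detLift N ρ (nLift N ρ n) ^ o = 1
    rw [detLift_nLift, ho]
  have hsurj : ∀ g : G, ∃ m ∈ S, projLift N ρ m = g := fun g => by
    obtain ⟨m, h1, h2⟩ := exists_lift_det N ρ hinv g 1
    exact ⟨m, show detLift N ρ m ^ o = 1 by rw [h2, one_pow], h1⟩
  refine exists_extension_of_one_mem N ρ S hNS hsurj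
    (one_mem_of_forall_prime _ fun p hpp => ?_)
  by_cases hdo : p ∣ finrank ℂ V * o
  · obtain ⟨P, hNP, η, hi, hη, hres⟩ := hp p hpp hdo
    obtain ⟨σ, hσ⟩ := exists_rep_restrict_eq hNP ρ hη hres
    exact ⟨_, index_mem_scalarExponents N ρ S hNS hsurj P hNP σ hσ,
      fun h => hi (Int.natCast_dvd_natCast.mp h)⟩
  · refine ⟨((finrank ℂ V * o : ℕ) : ℤ), ⟨1, fun n => rfl, fun c hc => ?_⟩,
      fun h => hdo (Int.natCast_dvd_natCast.mp h)⟩
    have h1 : detLift N ρ (scalarLift N ρ c) ^ o = 1 := hc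
    rw [detLift_scalarLift, ← pow_mul] at h1
    rw [zpow_natCast, h1]
    rfl

/-- Gallagher's criterion. -/
theorem exists_extension_of_det_extension [Finite G]
    (hinv : ∀ (g : G) (n : N), ρ.character (MulAut.conjNormal g n) = ρ.character n)
    (hcop : Nat.Coprime N.index (finrank ℂ V)) (μ : G →* ℂˣ) (hμ : ∀ n : N, μ n = detHom ρ n) :
    ∃ σ : Representation ℂ G V, σ.IsIrreducible ∧ ∀ n : N, σ n = ρ n := by
  let S : Subgroup (intertwiners N ρ) := (detLift N ρ).eqLocus (μ.comp (projLift N ρ))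
  have hNS : ∀ n, nLift N ρ n ∈ S := fun n => by
    show detLift N ρ (nLift N ρ n) = μ (projLift N ρ (nLift N ρ n))
    rw [detLift_nLift, projLift_nLift, hμ]
  have hsurj : ∀ g : G, ∃ m ∈ S, projLift N ρ m = g := fun g => by
    obtain ⟨m, h1, h2⟩ := exists_lift_det N ρ hinv g (μ g)
    exact ⟨m, show detLift N ρ m = μ (projLift N ρ m) by rw [h2, h1], h1⟩
  refine exists_extension_of_one_mem N ρ S hNS hsurj
    (one_mem_of_forall_prime _ fun p hpp => ?_)
  by_cases hd : p ∣ finrank ℂ V
  · exact ⟨_, index_mem_scalarExponents N ρ S hNS hsurj N le_rfl ρ fun n => rfl,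
      fun h => hpp.ne_one (Nat.eq_one_of_dvd_coprimes hcop (Int.natCast_dvd_natCast.mp h) hd)⟩
  · refine ⟨((finrank ℂ V : ℕ) : ℤ), ⟨1, fun n => rfl, fun c hc => ?_⟩,
      fun h => hd (Int.natCast_dvd_natCast.mp h)⟩
    have h1 : detLift N ρ (scalarLift N ρ c) = μ (projLift N ρ (scalarLift N ρ c)) := hc
    rw [detLift_scalarLift, projLift_scalarLift, map_one] at h1
    rw [zpow_natCast, h1]
    rfl

end RepLevel

/-- Invariance in the form used by the statements. -/
theorem conjNormal_invariant {θ : N → ℂ}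
    (hinv : ∀ (g : G) (n : N), θ ⟨g * n * g⁻¹, hN.conj_mem (n : G) n.2 g⟩ = θ n) :
    ∀ (g : G) (n : N), θ (MulAut.conjNormal g n) = θ n := fun g n => by
  rw [← hinv g n]
  exact congrArg θ (Subtype.ext (MulAut.conjNormal_apply g n))

theorem exists_irr_extension_of_sylow [Finite G] {θ : N → ℂ} (hθ : IsIrrCharacter N θ)
    (hinv : ∀ (g : G) (n : N), θ ⟨g * n * g⁻¹, hN.conj_mem (n : G) n.2 g⟩ = θ n)
    (hsyl : ∀ p : ℕ, p.Prime → ∃ (P : Subgroup G) (hNP : N ≤ P) (η : P → ℂ),
      ¬ p ∣ P.index ∧ IsCharacter P η ∧ ∀ n : N, η ⟨n, hNP n.2⟩ = θ n) :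
    ∃ χ : G → ℂ, IsIrrCharacter G χ ∧ ∀ n : N, χ n = θ n := by
  obtain ⟨d, ρ, hρ, rfl⟩ := hθ
  obtain ⟨σ, hσ, hres⟩ := exists_extension_of_prime_extensions N ρ (conjNormal_invariant hinv)
    (Nat.card N) (fun n => by rw [← map_pow, pow_card_eq_one', map_one]) fun p hp _ => hsyl p hp
  exact ⟨σ.character, isIrrCharacter_of_rep σ, fun n => by simp [Representation.character, hres]⟩

theorem exists_irr_extension_of_det [Finite G] {θ : N → ℂ} (hθ : IsIrrCharacter N θ)
    (hinv : ∀ (g : G) (n : N), θ ⟨g * n * g⁻¹, hN.conj_mem (n : G) n.2 g⟩ = θ n)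
    {d : ℕ} (hd : θ 1 = d) (hcop : Nat.Coprime N.index d)
    {μ : G → ℂ} (hμ : IsCharacter G μ) (hμ1 : μ 1 = 1) (hμN : ∀ n : N, μ n = detChar θ n) :
    ∃ χ : G → ℂ, IsIrrCharacter G χ ∧ ∀ n : N, χ n = θ n := by
  obtain ⟨m, ρ, hρ, rfl⟩ := hθ
  obtain ⟨lam, rfl⟩ := IsCharacter.exists_hom_of_apply_one hμ hμ1
  have hm : finrank ℂ (Fin m → ℂ) = d := by
    rw [ρ.char_one] at hd
    exact_mod_cast hd
  obtain ⟨σ, hσ, hres⟩ := exists_extension_of_det_extension N ρ (conjNormal_invariant hinv)
    (hm ▸ hcop) lam fun n => Units.ext (by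
      have := hμN n
      rwa [detChar_eq] at this)
  exact ⟨σ.character, isIrrCharacter_of_rep σ, fun n => by simp [Representation.character, hres]⟩

/-- A linear character of `N` extends if it does so over suitable subgroups for the primes
dividing its order. -/
theorem exists_linear_extension [Finite G] {lam : N → ℂ} (hlam : IsCharacter N lam)
    (h1 : lam 1 = 1)
    (hinv : ∀ (g : G) (n : N), lam ⟨g * n * g⁻¹, hN.conj_mem (n : G) n.2 g⟩ = lam n)
    (hp : ∀ p : ℕ, p.Prime → p ∣ orderOf lam → ∃ (P : Subgroup G) (hNP : N ≤ P)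
      (η : P → ℂ), ¬ p ∣ P.index ∧ IsCharacter P η ∧ ∀ n : N, η ⟨n, hNP n.2⟩ = lam n) :
    ∃ μ : G → ℂ, IsCharacter G μ ∧ μ 1 = 1 ∧ ∀ n : N, μ n = lam n := by
  obtain ⟨d, ρ, hρ, hlam'⟩ := IsCharacter.isIrr_of_apply_one hlam h1
  subst hlam'
  have hd : finrank ℂ (Fin d → ℂ) = 1 := by
    rw [ρ.char_one] at h1
    exact_mod_cast h1
  have hdet : detChar ρ.character = ρ.character := by
    rw [detChar_eq]
    funext n
    obtain ⟨c, hc⟩ := (Module.Free.bijective_algebraMap_of_finrank_eq_one (R := ℂ)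
      (by rw [Module.finrank_linearMap, hd])).2 (ρ n)
    simp [Representation.character, ← hc, Algebra.algebraMap_eq_smul_one, Module.End.one_eq_id, hd]
  obtain ⟨σ, hσ, hres⟩ := exists_extension_of_prime_extensions N ρ (conjNormal_invariant hinv)
    (orderOf ρ.character) (fun n => Units.ext (by
      have h := congrFun (pow_orderOf_eq_one ρ.character) n
      have h' := congrFun hdet n
      rw [detChar_eq] at h'
      simp only [Pi.pow_apply, Pi.one_apply] at h
      simp only [] at h'
      rw [Units.val_pow_eq_pow_val, Units.val_one, detHom_coe, h', h]))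
    fun p hpp hdvd => hp p hpp (by rwa [hd, one_mul] at hdvd)
  exact ⟨σ.character, isCharacter_of_rep σ, by rw [σ.char_one, hd]; simp,
    fun n => by simp [Representation.character, hres]⟩

/-- Two extensions differ by a linear character of the quotient. -/
theorem exists_linear_mul_of_restrict_eq [Finite G] {χ₁ χ₂ : G → ℂ} (h₁ : IsCharacter G χ₁)
    (h₂ : IsCharacter G χ₂) (hirr : IsIrrCharacter N (fun n : N => χ₁ n))
    (hres : ∀ n : N, χ₂ n = χ₁ n) :
    ∃ lam : G →* ℂˣ, (∀ n : N, lam n = 1) ∧ χ₂ = fun g => (lam g : ℂ) * χ₁ g := by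
  obtain ⟨d, ρ, hρ, hθ⟩ := hirr
  haveI := nontrivial_of_isIrreducible ρ
  have key : ∀ {χ : G → ℂ}, IsCharacter G χ → (∀ n : N, χ n = ρ.character n) →
      ∃ s : G →* intertwiners N ρ, (∀ g, projLift N ρ (s g) = g) ∧
        (∀ n : N, s n = nLift N ρ n) ∧
        χ = fun g => LinearMap.trace ℂ _ ((s g).1.2 : End ℂ (Fin d → ℂ)) := by
    intro χ hχ hχN
    obtain ⟨m, σ, rfl⟩ := hχ
    obtain ⟨e⟩ := nonempty_equiv_of_character_eq ρ (σ.comp N.subtype : Representation ℂ N _)
      (funext fun n => (hχN n).symm)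
    let τ := transportRep σ e.toLinearEquiv.symm
    have hτ : ∀ n : N, τ n = ρ n := fun n => by
      refine LinearMap.ext fun x => ?_
      have h := LinearMap.congr_fun (e.isIntertwining' n) x
      simp only [LinearMap.coe_comp, Function.comp_apply] at h
      simp only [τ, transportRep, MonoidHom.coe_mk, OneHom.coe_mk, LinearEquiv.conj_apply,
        LinearMap.coe_comp, LinearEquiv.coe_coe, Function.comp_apply, LinearEquiv.symm_symm]
      rw [LinearEquiv.symm_apply_eq]
      exact h.symm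
    refine ⟨((MonoidHom.id G).prod τ.toHomUnits).codRestrict _ fun g =>
      mem_intertwiners.mpr fun n => ?_, fun g => rfl,
      fun n => intertwiners_ext N ρ rfl (hτ n), ?_⟩
    · show τ g * ρ n = ρ (MulAut.conjNormal g n) * τ g
      rw [← hτ, ← hτ, ← map_mul, ← map_mul, MulAut.conjNormal_apply, inv_mul_cancel_right]
    · funext g
      exact (LinearMap.trace_conj' (σ g) e.toLinearEquiv.symm).symm
  obtain ⟨s₁, hp₁, hn₁, hc₁⟩ := key h₁ fun n => (congrFun hθ n).symm
  obtain ⟨s₂, hp₂, hn₂, hc₂⟩ := key h₂ fun n => (hres n).trans (congrFun hθ n).symm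
  have hc : ∀ g, ∃ c : ℂˣ, scalarLift N ρ c = s₂ g * (s₁ g)⁻¹ := fun g =>
    exists_scalar_of_proj_eq_one N ρ (by rw [map_mul, map_inv, hp₁, hp₂, mul_inv_cancel])
  choose c hc using hc
  refine ⟨{ toFun := c, map_one' := ?_, map_mul' := fun a b => ?_ }, fun n => ?_, ?_⟩
  · exact scalarLift_injective N ρ (by rw [hc, map_one, map_one, map_one, inv_one, one_mul])
  · apply scalarLift_injective N ρ
    rw [map_mul (scalarLift N ρ), hc a, hc b, hc, map_mul, map_mul, mul_inv_rev]
    have hb := scalarLift_comm N ρ (c b) (s₁ a)⁻¹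
    rw [hc] at hb
    simp only [mul_assoc] at hb ⊢
    rw [hb]
  · exact scalarLift_injective N ρ (by
      show scalarLift N ρ (c n) = _
      rw [hc, hn₁, hn₂, mul_inv_cancel, map_one])
  · rw [hc₁, hc₂]
    funext g
    have h2 : s₂ g = scalarLift N ρ (c g) * s₁ g := by rw [hc, inv_mul_cancel_right]
    show _ = (c g : ℂ) * _
    rw [h2]
    simp [scalarLift_coe_snd, Algebra.algebraMap_eq_smul_one]

end Cfsg.Agent.Lib.Characters
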