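import Cfsg.Agent.Lib.Characters.Convolution
import Cfsg.Agent.Lib.Characters.Clifford

/-!
# Averaging over a normal subgroup and Gallagher's theorem
-/

namespace Cfsg.Agent.Lib.Characters

open scoped ComplexConjugate

set_option linter.unusedSectionVars false
set_option linter.unusedSimpArgs false
set_option linter.style.haveILetI false

universe u

variable {G : Type u} [Group G] (N : Subgroup G) [hN : N.Normal] [Fintype N]

/-- The average of `F` over the coset of `g`. -/
noncomputable def avgN (F : G → ℂ) (g : G) : ℂ :=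
  (Nat.card N : ℂ)⁻¹ * ∑ n : N, F ((n : G) * g)

theorem avgN_apply_mul (F : G → ℂ) (m : N) (g : G) : avgN N F ((m : G) * g) = avgN N F g := by
  simp only [avgN]
  congr 1
  exact Fintype.sum_equiv (Equiv.mulRight m) _ _ fun n => by simp [mul_assoc]

theorem avgN_apply_coe (F : G → ℂ) (m : N) : avgN N F m = avgN N F 1 := by
  simpa using avgN_apply_mul N F m 1

theorem avgN_of_const {F : G → ℂ} (h : ∀ (n : N) (g : G), F ((n : G) * g) = F g) :
    avgN N F = F := by
  funext g
  rw [avgN, Finset.sum_congr rfl fun n _ => h n g, Finset.sum_const, Finset.card_univ,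
    nsmul_eq_mul, ← Nat.card_eq_fintype_card, inv_mul_cancel_left₀ natCard_ne_zero_complex]

theorem avgN_one (F : G → ℂ) :
    avgN N F 1 = classInner (fun n : N => F n) (fun _ => 1) := by
  simp [avgN, classInner]

theorem avgN_smul_sum {ι : Type*} (s : Finset ι) (c : ι → ℂ) (f : ι → G → ℂ) :
    avgN N (∑ i ∈ s, c i • f i) = ∑ i ∈ s, c i • avgN N (f i) := by
  funext g
  simp only [avgN, Finset.sum_apply, Pi.smul_apply, smul_eq_mul, Finset.mul_sum]
  rw [Finset.sum_comm]
  exact Finset.sum_congr rfl fun i _ => Finset.sum_congr rfl fun n _ => by ring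

variable [Fintype G]

/-- An irreducible character averages to itself or to zero. -/
theorem IsIrrCharacter.avgN_eq {χ : G → ℂ} (hχ : IsIrrCharacter G χ) :
    avgN N χ = 0 ∨ avgN N χ = χ := by
  classical
  have hcl := IsCharacter.isClassFunction (IsIrrCharacter.isCharacter hχ)
  let f : G → ℂ := fun x => if x ∈ N then (Nat.card N : ℂ)⁻¹ else 0
  have hf : IsClassFunction G f := fun g h => by
    simp only [f]
    rw [if_congr ⟨fun hh => by simpa [mul_assoc] using hN.conj_mem _ hh h⁻¹,
      fun hh => hN.conj_mem _ hh h⟩ rfl rfl]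
  have hav : ∀ g, avgN N χ g = ∑ x, f x * χ (g * x) := fun g => by
    simp only [f, ite_mul, zero_mul]
    rw [← Finset.sum_filter, avgN, Finset.mul_sum]
    refine Finset.sum_bij (fun n _ => (n : G)) (fun n _ => by simp) (fun a _ b _ h => Subtype.ext h)
      (fun b hb => ⟨⟨b, (Finset.mem_filter.mp hb).2⟩, Finset.mem_univ _, rfl⟩) fun n _ => ?_
    rw [← hcl _ g, show g * ((n : G) * g) * g⁻¹ = g * n by simp [mul_assoc]]
  obtain ⟨c, hc⟩ : ∃ c : ℂ, avgN N χ = c • χ := ⟨(∑ x, f x * χ x) / χ 1, funext fun g => by
    rw [hav, IsIrrCharacter.sum_mul_translate hχ hf, Pi.smul_apply, smul_eq_mul]; ring⟩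
  have h2 : avgN N (avgN N χ) = avgN N χ := avgN_of_const N (avgN_apply_mul N χ)
  have h3 : c * c = c := by
    have h4 : avgN N (avgN N χ) 1 = c * avgN N χ 1 := by
      conv_lhs => rw [hc]
      simp only [avgN, Pi.smul_apply, smul_eq_mul, ← Finset.mul_sum]
      ring
    rw [h2, hc] at h4
    simp only [Pi.smul_apply, smul_eq_mul] at h4
    exact mul_right_cancel₀ (IsIrrCharacter.apply_one_ne_zero hχ) (by linear_combination -h4)
  rcases mul_eq_zero.mp (show c * (c - 1) = 0 by linear_combination h3) with h | h
  · left; rw [hc, h, zero_smul]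
  · right; rw [hc, sub_eq_zero.mp h, one_smul]

theorem IsCharacter.avgN {F : G → ℂ} (hF : IsCharacter G F) :
    IsCharacter G (Characters.avgN N F) := by
  haveI := Fintype.ofFinite (IrrCharacter G)
  obtain ⟨m, hm, -⟩ := IsCharacter.exists_nat_decomp hF
  rw [hm, avgN_smul_sum]
  refine IsCharacter.sum _ fun χ _ => IsCharacter.natCast_smul ?_ _
  rcases IsIrrCharacter.avgN_eq N χ.2 with h | h <;> rw [h]
  exacts [isCharacter_zero, irr_isCharacter χ]

theorem classInner_avgN (F φ : G → ℂ) :
    classInner (Characters.avgN N F) φ = classInner F (Characters.avgN N φ) := by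
  simp only [classInner, Characters.avgN, map_mul, map_sum, map_inv₀, map_natCast, Finset.mul_sum,
    Finset.sum_mul]
  rw [Finset.sum_comm]
  conv_rhs => rw [Finset.sum_comm]
  refine Fintype.sum_equiv (Equiv.inv N) _ _ fun n => ?_
  refine Fintype.sum_equiv (Equiv.mulLeft (n : G)) _ _ fun g => ?_
  simp
  ring

theorem classInner_avgN_of_const (F : G → ℂ) {φ : G → ℂ}
    (h : ∀ (n : N) (g : G), φ ((n : G) * g) = φ g) :
    classInner (Characters.avgN N F) φ = classInner F φ := by
  rw [classInner_avgN, avgN_of_const N h]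

/-- A constituent of a character constant on cosets is constant on cosets. -/
theorem const_of_classInner_ne_zero {η β : G → ℂ} (hη : ∀ (n : N) (g : G), η ((n : G) * g) = η g)
    (hβ : IsIrrCharacter G β) (h : classInner η β ≠ 0) :
    ∀ (n : N) (g : G), β ((n : G) * g) = β g := by
  rcases IsIrrCharacter.avgN_eq N hβ with h0 | h0
  · exact absurd (by rw [← avgN_of_const N hη, classInner_avgN, h0, classInner_zero_right]) h
  · intro n g
    rw [← h0]
    exact avgN_apply_mul N β n g

/-- The product of a character with its conjugate averages to `1` if it is irreducible on `N`. -/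
theorem avgN_mul_conj_self {χ : G → ℂ} (hχ : IsIrrCharacter G χ)
    (hχN : IsIrrCharacter N (fun n : N => χ n)) :
    Characters.avgN N (χ * fun g => conj (χ g)) = fun _ => 1 := by
  have hF := IsCharacter.mul (IsIrrCharacter.isCharacter hχ)
    (IsCharacter.conjugate (IsIrrCharacter.isCharacter hχ))
  have hη := IsCharacter.avgN N hF
  have h1 : Characters.avgN N (χ * fun g => conj (χ g)) 1 = 1 := by
    refine (avgN_one N _).trans (Eq.trans ?_ (IsIrrCharacter.classInner_self hχN))
    simp [classInner]
  have hirr := IsCharacter.isIrr_of_apply_one hη h1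
  by_contra hne
  have h0 := IsIrrCharacter.classInner_ne hirr isIrrCharacter_one hne
  rw [classInner_avgN_of_const N _ (fun _ _ => rfl)] at h0
  have h2 := IsIrrCharacter.classInner_self hχ
  simp only [classInner, Pi.mul_apply, map_one, mul_one] at h0 h2
  exact one_ne_zero (h2.symm.trans h0)

/-- Gallagher: characters over an extendible character are products. -/
theorem gallagher_avg {χ ψ : G → ℂ} (hχ : IsIrrCharacter G χ)
    (hχN : IsIrrCharacter N (fun n : N => χ n)) (hψ : IsIrrCharacter G ψ) :
    (classInner (fun n : N => ψ n) (fun n : N => χ n) ≠ 0 →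
      IsIrrCharacter G (Characters.avgN N (ψ * fun g => conj (χ g))) ∧
        ψ = Characters.avgN N (ψ * fun g => conj (χ g)) * χ) ∧
    (classInner (fun n : N => ψ n) (fun n : N => χ n) = 0 →
      Characters.avgN N (ψ * fun g => conj (χ g)) = 0) := by
  haveI := Fintype.ofFinite (IrrCharacter G)
  set η := Characters.avgN N (ψ * fun g => conj (χ g)) with hη_def
  have hη : IsCharacter G η := IsCharacter.avgN N (IsCharacter.mul
    (IsIrrCharacter.isCharacter hψ) (IsCharacter.conjugate (IsIrrCharacter.isCharacter hχ)))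
  have hη1 : η 1 = classInner (fun n : N => ψ n) (fun n : N => χ n) := by
    rw [hη_def, avgN_one]
    simp [classInner]
  refine ⟨fun hne => ?_, fun h0 => ?_⟩
  · obtain ⟨β, hβ⟩ := IsCharacter.exists_constituent hη
      (fun h => hne (hη1.symm.trans (congrFun h 1)))
    have hβc : ∀ (n : N) (g : G), (β : G → ℂ) ((n : G) * g) = (β : G → ℂ) g :=
      const_of_classInner_ne_zero N (avgN_apply_mul N _) β.2 hβ
    have hprod : IsCharacter G ((β : G → ℂ) * χ) :=
      IsCharacter.mul (irr_isCharacter β) (IsIrrCharacter.isCharacter hχ)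
    have hinner : classInner ((β : G → ℂ) * χ) ((β : G → ℂ) * χ) = 1 := by
      have h1 := classInner_avgN_of_const N (χ * fun g => conj (χ g))
        (φ := fun g => (β : G → ℂ) g * conj ((β : G → ℂ) g)) fun n g => by simp only [hβc]
      rw [avgN_mul_conj_self N hχ hχN] at h1
      rw [← IsIrrCharacter.classInner_self β.2]
      simp only [classInner, Pi.mul_apply, map_mul, Complex.conj_conj, one_mul] at h1 ⊢
      rw [Finset.sum_congr rfl fun g _ => mul_comm ((conj : ℂ →+* ℂ) ((β : G → ℂ) g)) _] at h1
      rw [h1]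
      congr 1
      exact Finset.sum_congr rfl fun g _ => by ring
    have hirr := (IsCharacter.isIrr_iff hprod).mpr hinner
    have hpair : ∀ γ : IrrCharacter G, (∀ (n : N) (g : G), (γ : G → ℂ) ((n : G) * g) =
        (γ : G → ℂ) g) → classInner η (γ : G → ℂ) = classInner ψ ((γ : G → ℂ) * χ) := by
      intro γ hγ
      rw [hη_def, classInner_avgN_of_const N _ hγ]
      simp only [classInner, Pi.mul_apply, map_mul]
      congr 1
      exact Finset.sum_congr rfl fun g _ => by ring
    have hψeq : ψ = (β : G → ℂ) * χ := by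
      by_contra h
      exact hβ (by rw [hpair β hβc, IsIrrCharacter.classInner_ne hψ hirr h])
    have hηβ : η = β := by
      funext g
      rw [hη_def]
      simp only [Characters.avgN, hψeq, Pi.mul_apply]
      have h := congrFun (avgN_mul_conj_self N hχ hχN) g
      simp only [Characters.avgN, Pi.mul_apply] at h
      rw [Finset.sum_congr rfl fun (n : N) _ => show (β : G → ℂ) ((n : G) * g) * χ ((n : G) * g) *
        conj (χ ((n : G) * g)) = (β : G → ℂ) g * (χ ((n : G) * g) * conj (χ ((n : G) * g))) by
          rw [hβc]; ring, ← Finset.mul_sum, mul_left_comm, h, mul_one]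
    exact ⟨hηβ ▸ β.2, by rw [hηβ]; exact hψeq⟩
  · by_contra hne
    obtain ⟨β, hβ⟩ := IsCharacter.exists_constituent hη hne
    have hβc := const_of_classInner_ne_zero N (avgN_apply_mul N _) β.2 hβ
    obtain ⟨m, hm, hm'⟩ := IsCharacter.exists_nat_decomp hη
    have h1 : η 1 = 0 := hη1.trans h0
    obtain ⟨d, hd0, hd⟩ := IsIrrCharacter.exists_apply_one β.2
    rw [hm, Finset.sum_apply] at h1
    choose dd hdd0 hdd using fun γ : IrrCharacter G => IsIrrCharacter.exists_apply_one γ.2
    simp only [Pi.smul_apply, smul_eq_mul, hdd] at h1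
    have h2 : ∑ γ : IrrCharacter G, m γ * dd γ = 0 := by exact_mod_cast h1
    have h3 := Finset.sum_eq_zero_iff.mp h2 β (Finset.mem_univ _)
    refine hβ ?_
    rw [hm' β, show m β = 0 from (Nat.mul_eq_zero.mp h3).resolve_right (hdd0 β).ne', Nat.cast_zero]

end Cfsg.Agent.Lib.Characters
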