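import Cfsg.Agent.Lib.Characters.Induced

/-!
# Induction along quotients and nested subgroups
-/

namespace Cfsg.Agent.Lib.Characters

open scoped ComplexConjugate

set_option linter.unusedSectionVars false
set_option linter.unusedSimpArgs false
set_option linter.style.haveILetI false

universe u v

variable {G : Type u} [Group G] [Fintype G]

/-- Inducing from a subgroup of a subgroup. -/
theorem indFun_indFun (T : Subgroup G) [Fintype T] (U : Subgroup T) (θ : U → ℂ) :
    indFun T (indFun U θ) =
      indFun (U.map T.subtype)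
        (θ ∘ (U.equivMapOfInjective T.subtype T.subtype_injective).symm) := by
  set e := U.equivMapOfInjective T.subtype T.subtype_injective with he
  have hle : U.map T.subtype ≤ T := Subgroup.map_subtype_le U
  have hsub : (U.map T.subtype).subgroupOf T = U :=
    Subgroup.comap_map_eq_self_of_injective T.subtype_injective U
  rw [← indFun_trans (U.map T.subtype) T hle]
  congr 1
  funext t
  have hcard : Nat.card ((U.map T.subtype).subgroupOf T) = Nat.card U := by rw [hsub]
  rw [indFun_apply, indFun_apply, hcard]
  refine congrArg _ (Finset.sum_congr rfl fun x _ => ?_)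
  by_cases hx : x⁻¹ * t * x ∈ U
  · have hx' : x⁻¹ * t * x ∈ (U.map T.subtype).subgroupOf T := by rwa [hsub]
    rw [extendByZero_of_mem _ _ hx, extendByZero_of_mem _ _ hx']
    show θ _ = θ (e.symm _)
    congr 1
    rw [eq_comm, MulEquiv.symm_apply_eq]
    exact Subtype.ext rfl
  · have hx' : x⁻¹ * t * x ∉ (U.map T.subtype).subgroupOf T := by rwa [hsub]
    rw [extendByZero_of_not_mem _ _ hx, extendByZero_of_not_mem _ _ hx']

/-- Induction commutes with inflation. -/
theorem indFun_comap {Q : Type v} [Group Q] [Fintype Q] (f : G →* Q) (hf : Function.Surjective f)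
    (U : Subgroup Q) (θ : U → ℂ) :
    indFun (U.comap f) (fun x => θ ⟨f x, x.2⟩) = indFun U θ ∘ f := by
  classical
  funext g
  rw [indFun_apply, Function.comp_apply, indFun_apply]
  have h1 : ∀ x : G, extendByZero (U.comap f) (fun x => θ ⟨f x, x.2⟩) (x⁻¹ * g * x) =
      extendByZero U θ ((f x)⁻¹ * f g * f x) := by
    intro x
    have hm : f (x⁻¹ * g * x) = (f x)⁻¹ * f g * f x := by simp
    by_cases h : (f x)⁻¹ * f g * f x ∈ U
    · rw [extendByZero_of_mem _ _ (show x⁻¹ * g * x ∈ U.comap f by
        rw [Subgroup.mem_comap, hm]; exact h), extendByZero_of_mem _ _ h]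
      exact congrArg θ (Subtype.ext hm)
    · rw [extendByZero_of_not_mem _ _ h, extendByZero_of_not_mem]
      rw [Subgroup.mem_comap, hm]; exact h
  have hfib : ∀ q : Q, (Finset.univ.filter fun x : G => f x = q).card = Nat.card f.ker := by
    intro q
    obtain ⟨a, rfl⟩ := hf q
    rw [← Fintype.card_subtype, Nat.card_eq_fintype_card]
    exact Fintype.card_congr
      { toFun := fun x => ⟨a⁻¹ * x.1, by
          rw [MonoidHom.mem_ker, map_mul, x.2, map_inv, inv_mul_cancel]⟩
        invFun := fun k => ⟨a * k.1, by rw [map_mul, MonoidHom.mem_ker.mp k.2, mul_one]⟩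
        left_inv := fun x => Subtype.ext (mul_inv_cancel_left _ _)
        right_inv := fun k => Subtype.ext (inv_mul_cancel_left _ _) }
  have hcard : Nat.card (U.comap f) = Nat.card f.ker * Nat.card U := by
    have h2 := (U.comap f).index_mul_card
    rw [U.index_comap_of_surjective hf] at h2
    have h3 := f.ker.index_mul_card
    rw [Subgroup.index_ker, MonoidHom.range_eq_top.mpr hf, Subgroup.card_top,
      ← U.index_mul_card] at h3
    exact Nat.eq_of_mul_eq_mul_left (Nat.pos_of_ne_zero Subgroup.index_ne_zero_of_finite)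
      (by rw [h2, ← h3]; ring)
  rw [Finset.sum_congr rfl fun x _ => h1 x,
    ← Finset.sum_fiberwise_of_maps_to (g := f) (fun x _ => Finset.mem_univ _)]
  have h4 : ∀ q : Q, ∑ x ∈ Finset.univ.filter (fun x => f x = q),
      extendByZero U θ ((f x)⁻¹ * f g * f x) =
        (Nat.card f.ker : ℂ) * extendByZero U θ (q⁻¹ * f g * q) := by
    intro q
    rw [Finset.sum_congr rfl fun x hx => by rw [(Finset.mem_filter.mp hx).2],
      Finset.sum_const, nsmul_eq_mul, hfib]
  rw [Finset.sum_congr rfl fun q _ => h4 q, ← Finset.mul_sum, hcard, Nat.cast_mul]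
  have hk : (Nat.card f.ker : ℂ) ≠ 0 := natCard_ne_zero_complex
  have hU : (Nat.card U : ℂ) ≠ 0 := natCard_ne_zero_complex
  field_simp

end Cfsg.Agent.Lib.Characters
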