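import Mathlib.LinearAlgebra.Eigenspace.Semisimple
import Mathlib.LinearAlgebra.Eigenspace.Triangularizable
import Mathlib.LinearAlgebra.Trace
import Mathlib.FieldTheory.Separable
import Mathlib.FieldTheory.IsAlgClosed.Basic
import Mathlib.Analysis.Complex.Polynomial.Basic

/-!
# Endomorphisms of finite order of a complex vector space

An endomorphism `f` with `f ^ n = 1` has an eigenbasis with `n`-th roots of unity as eigenvalues.
-/

namespace Cfsg.Agent.Lib.Characters

set_option linter.unusedSectionVars false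
set_option linter.style.haveILetI false

open Module Polynomial

open scoped ComplexConjugate

variable {V : Type*} [AddCommGroup V] [Module ℂ V] [FiniteDimensional ℂ V]

theorem iSup_eigenspace_eq_top_of_pow_eq_one (f : End ℂ V) {n : ℕ} (hn : n ≠ 0) (hf : f ^ n = 1) :
    ⨆ μ : ℂ, f.eigenspace μ = ⊤ := by
  have hsq : Squarefree ((X : ℂ[X]) ^ n - 1) :=
    (X_pow_sub_one_separable_iff.mpr (by exact_mod_cast hn)).squarefree
  have hae : aeval f ((X : ℂ[X]) ^ n - 1) = 0 := by simp [hf]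
  exact (End.isSemisimple_of_squarefree_aeval_eq_zero hsq hae).iSup_eigenspace_eq_top

/-- An endomorphism of finite order has an eigenbasis, with roots of unity as eigenvalues. -/
theorem exists_eigenbasis (f : End ℂ V) {n : ℕ} (hn : n ≠ 0) (hf : f ^ n = 1) :
    ∃ (ι : Type) (_ : Fintype ι) (b : Basis ι ℂ V) (μ : ι → ℂ),
      (∀ i, f (b i) = μ i • b i) ∧ ∀ i, μ i ^ n = 1 := by
  classical
  have hint : DirectSum.IsInternal (fun μ : ℂ => f.eigenspace μ) :=
    DirectSum.isInternal_submodule_of_iSupIndep_of_iSup_eq_top f.eigenspaces_iSupIndep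
      (iSup_eigenspace_eq_top_of_pow_eq_one f hn hf)
  let b0 := hint.collectedBasis fun μ => Module.finBasis ℂ (f.eigenspace μ)
  haveI := FiniteDimensional.fintypeBasisIndex b0
  let e := Fintype.equivFin (Σ μ : ℂ, Fin (finrank ℂ (f.eigenspace μ)))
  refine ⟨_, inferInstance, b0.reindex e, fun i => (e.symm i).1, fun i => ?_, fun i => ?_⟩
  · rw [Basis.reindex_apply]
    exact End.mem_eigenspace_iff.mp (hint.collectedBasis_mem _ _)
  · have hmem : b0 (e.symm i) ∈ f.eigenspace (e.symm i).1 := hint.collectedBasis_mem _ _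
    have hpow : ∀ k : ℕ, (f ^ k) (b0 (e.symm i)) = (e.symm i).1 ^ k • b0 (e.symm i) := by
      intro k
      induction k with
      | zero => simp
      | succ k ih =>
        rw [pow_succ', End.mul_apply, ih, map_smul, End.mem_eigenspace_iff.mp hmem, smul_smul,
          pow_succ]
    have h := hpow n
    rw [hf, End.one_apply] at h
    have h2 : ((e.symm i).1 ^ n - 1) • b0 (e.symm i) = 0 := by
      rw [sub_smul, one_smul, ← h, sub_self]
    exact sub_eq_zero.mp ((smul_eq_zero.mp h2).resolve_right (b0.ne_zero _))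

/-- The trace in an eigenbasis is the sum of the eigenvalues. -/
theorem trace_eq_sum_eigen {ι : Type*} [Fintype ι] (b : Basis ι ℂ V) (f : End ℂ V) (μ : ι → ℂ)
    (h : ∀ i, f (b i) = μ i • b i) : LinearMap.trace ℂ V f = ∑ i, μ i := by
  classical
  rw [LinearMap.trace_eq_matrix_trace ℂ b f, Matrix.trace]
  refine Finset.sum_congr rfl fun i _ => ?_
  simp [LinearMap.toMatrix_apply, h]

theorem pow_apply_eigen {ι : Type*} (b : Basis ι ℂ V) (f : End ℂ V) (μ : ι → ℂ)
    (h : ∀ i, f (b i) = μ i • b i) (k : ℕ) (i : ι) : (f ^ k) (b i) = μ i ^ k • b i := by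
  induction k with
  | zero => simp
  | succ k ih => rw [pow_succ', End.mul_apply, ih, map_smul, h, smul_smul, pow_succ]

theorem trace_pow_eq_sum_eigen {ι : Type*} [Fintype ι] (b : Basis ι ℂ V) (f : End ℂ V)
    (μ : ι → ℂ) (h : ∀ i, f (b i) = μ i • b i) (k : ℕ) :
    LinearMap.trace ℂ V (f ^ k) = ∑ i, μ i ^ k :=
  trace_eq_sum_eigen b _ _ (pow_apply_eigen b f μ h k)

theorem norm_eq_one_of_pow_eq_one' {z : ℂ} {n : ℕ} (hn : n ≠ 0) (h : z ^ n = 1) : ‖z‖ = 1 :=
  Complex.norm_eq_one_of_pow_eq_one h hn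

theorem isIntegral_of_pow_eq_one {z : ℂ} {n : ℕ} (hn : n ≠ 0) (h : z ^ n = 1) :
    IsIntegral ℤ z :=
  IsIntegral.of_pow (Nat.pos_of_ne_zero hn) (h ▸ isIntegral_one)

theorem isIntegral_trace_of_pow_eq_one (f : End ℂ V) {n : ℕ} (hn : n ≠ 0) (hf : f ^ n = 1) :
    IsIntegral ℤ (LinearMap.trace ℂ V f) := by
  obtain ⟨ι, _, b, μ, hb, hμ⟩ := exists_eigenbasis f hn hf
  rw [trace_eq_sum_eigen b f μ hb]
  exact IsIntegral.sum _ fun i _ => isIntegral_of_pow_eq_one hn (hμ i)

theorem norm_trace_le_finrank (f : End ℂ V) {n : ℕ} (hn : n ≠ 0) (hf : f ^ n = 1) :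
    ‖LinearMap.trace ℂ V f‖ ≤ (finrank ℂ V : ℝ) := by
  obtain ⟨ι, _, b, μ, hb, hμ⟩ := exists_eigenbasis f hn hf
  rw [trace_eq_sum_eigen b f μ hb, finrank_eq_card_basis b]
  refine (norm_sum_le _ _).trans ?_
  simp [norm_eq_one_of_pow_eq_one' hn (hμ _)]

/-- If the trace has maximal absolute value then `f` is a scalar. -/
theorem eq_smul_of_norm_trace_eq_finrank (f : End ℂ V) {n : ℕ} (hn : n ≠ 0) (hf : f ^ n = 1)
    (h : ‖LinearMap.trace ℂ V f‖ = (finrank ℂ V : ℝ)) :
    ∃ ω : ℂ, f = ω • (LinearMap.id : V →ₗ[ℂ] V) := by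
  obtain ⟨ι, _, b, μ, hb, hμ⟩ := exists_eigenbasis f hn hf
  rw [trace_eq_sum_eigen b f μ hb, finrank_eq_card_basis b] at h
  rcases eq_or_ne (∑ i, μ i) 0 with h0 | h0
  · refine ⟨1, b.ext fun i => absurd h ?_⟩
    rw [h0]
    have : 0 < Fintype.card ι := Fintype.card_pos_iff.mpr ⟨i⟩
    simp only [norm_zero, ne_eq]
    exact_mod_cast this.ne
  · -- rotate so that the sum is a positive real, then compare real parts
    set ω := (∑ i, μ i) / (Fintype.card ι : ℂ) with hω
    refine ⟨ω, b.ext fun i => ?_⟩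
    have hc : (Fintype.card ι : ℂ) ≠ 0 := by
      have : 0 < Fintype.card ι := Fintype.card_pos_iff.mpr ⟨i⟩
      exact_mod_cast this.ne'
    have hω1 : ‖ω‖ = 1 := by
      rw [hω, norm_div, h, Complex.norm_natCast]
      exact div_self (by exact_mod_cast hc)
    have hsum : ∑ j, (μ j * conj ω).re = ∑ _j : ι, (1 : ℝ) := by
      rw [← Complex.re_sum, ← Finset.sum_mul]
      have : (∑ j, μ j) = ω * (Fintype.card ι : ℂ) := by rw [hω]; field_simp
      rw [this, mul_right_comm, Complex.mul_conj, Complex.normSq_eq_norm_sq, hω1]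
      simp
    have hle : ∀ j ∈ (Finset.univ : Finset ι), (μ j * conj ω).re ≤ (1 : ℝ) := fun j _ => by
      refine (Complex.re_le_norm _).trans ?_
      rw [norm_mul, Complex.norm_conj, norm_eq_one_of_pow_eq_one' hn (hμ j), hω1, one_mul]
    have hre := (Finset.sum_eq_sum_iff_of_le hle).mp hsum i (Finset.mem_univ i)
    have hnorm : ‖μ i * conj ω‖ = 1 := by
      rw [norm_mul, Complex.norm_conj, norm_eq_one_of_pow_eq_one' hn (hμ i), hω1, one_mul]
    have hone : μ i * conj ω = 1 := by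
      have him : (μ i * conj ω).im = 0 := by
        have h2 := Complex.sq_norm (μ i * conj ω)
        rw [hnorm, Complex.normSq_apply, hre] at h2
        nlinarith
      exact Complex.ext hre him
    have : μ i = ω := by
      have h3 : μ i * (conj ω * ω) = ω := by rw [← mul_assoc, hone, one_mul]
      rw [mul_comm (conj ω), Complex.mul_conj, Complex.normSq_eq_norm_sq, hω1] at h3
      simpa using h3
    rw [hb, this, LinearMap.smul_apply, LinearMap.id_apply]

/-- The trace of the inverse is the complex conjugate of the trace. -/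
theorem trace_eq_conj_of_mul_eq_one (f g : End ℂ V) {n : ℕ} (hn : n ≠ 0) (hf : f ^ n = 1)
    (hfg : f * g = 1) : LinearMap.trace ℂ V g = conj (LinearMap.trace ℂ V f) := by
  obtain ⟨ι, _, b, μ, hb, hμ⟩ := exists_eigenbasis f hn hf
  have hg : g = f ^ (n - 1) := by
    have h1 : f ^ (n - 1) * f = 1 := by
      rw [← pow_succ, Nat.sub_add_cancel (Nat.pos_of_ne_zero hn), hf]
    calc g = f ^ (n - 1) * f * g := by rw [h1, one_mul]
      _ = f ^ (n - 1) := by rw [mul_assoc, hfg, mul_one]
  rw [hg, trace_pow_eq_sum_eigen b f μ hb, trace_eq_sum_eigen b f μ hb, map_sum]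
  refine Finset.sum_congr rfl fun i _ => ?_
  have h1 : μ i ^ (n - 1) * μ i = 1 := by
    rw [← pow_succ, Nat.sub_add_cancel (Nat.pos_of_ne_zero hn), hμ]
  rw [eq_inv_of_mul_eq_one_left h1]
  exact Complex.inv_eq_conj (norm_eq_one_of_pow_eq_one' hn (hμ i))

end Cfsg.Agent.Lib.Characters
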