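import Mathlib.RepresentationTheory.Character
import Mathlib.RepresentationTheory.Maschke
import Mathlib.RepresentationTheory.Semisimple
import Cfsg.Agent.Lib.Characters.Eigen

/-!
# Complex representations of finite groups: transport, decomposition, Schur, completeness
-/

namespace Cfsg.Agent.Lib.Characters

open Module
open scoped ComplexConjugate

set_option linter.unusedSectionVars false
set_option linter.unusedSimpArgs false
set_option linter.style.haveILetI false

universe u v w

variable {G : Type u} [Group G] {V : Type v} [AddCommGroup V] [Module ℂ V]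
  {W : Type w} [AddCommGroup W] [Module ℂ W]

/-- Transport of a representation along a linear equivalence. -/
noncomputable def transportRep (ρ : Representation ℂ G V) (e : V ≃ₗ[ℂ] W) :
    Representation ℂ G W where
  toFun g := e.conj (ρ g)
  map_one' := by ext x; simp [LinearEquiv.conj_apply]
  map_mul' g h := by ext x; simp [LinearEquiv.conj_apply]

/-- A representation is equivalent to its transport. -/
noncomputable def transportRepEquiv (ρ : Representation ℂ G V) (e : V ≃ₗ[ℂ] W) :
    ρ.Equiv (transportRep ρ e) :=
  Representation.Equiv.mk e fun g => by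
    ext x; simp [transportRep, LinearEquiv.conj_apply]

theorem isIrreducible_of_equiv {ρ : Representation ℂ G V} {σ : Representation ℂ G W}
    (φ : ρ.Equiv σ) [ρ.IsIrreducible] : σ.IsIrreducible := by
  rw [Representation.irreducible_iff_isSimpleModule_asModule]
  have hb : Function.Bijective
      (Representation.IntertwiningMap.equivLinearMapAsModule ρ σ φ.toIntertwiningMap) :=
    φ.toLinearEquiv.bijective
  exact IsSimpleModule.congr (LinearEquiv.ofBijective _ hb).symm

theorem nontrivial_of_isIrreducible (ρ : Representation ℂ G V) [ρ.IsIrreducible] :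
    Nontrivial V := by
  by_contra h
  rw [not_nontrivial_iff_subsingleton] at h
  exact bot_ne_top (α := Subrepresentation ρ)
    (Subrepresentation.toSubmodule_injective (Subsingleton.elim _ _))

theorem finrank_pos_of_isIrreducible [FiniteDimensional ℂ V] (ρ : Representation ℂ G V)
    [ρ.IsIrreducible] : 0 < finrank ℂ V := by
  haveI := nontrivial_of_isIrreducible ρ
  exact Module.finrank_pos

theorem isIrreducible_iff_forall (ρ : Representation ℂ G V) :
    ρ.IsIrreducible ↔ Nontrivial V ∧
      ∀ S : Submodule ℂ V, (∀ g : G, ∀ x ∈ S, ρ g x ∈ S) → S = ⊥ ∨ S = ⊤ := by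
  constructor
  · intro h
    refine ⟨nontrivial_of_isIrreducible ρ, fun S hS => ?_⟩
    rcases eq_bot_or_eq_top (⟨S, fun g x hx => hS g x hx⟩ : Subrepresentation ρ) with h1 | h1
    · exact Or.inl (congrArg Subrepresentation.toSubmodule h1)
    · exact Or.inr (congrArg Subrepresentation.toSubmodule h1)
  · rintro ⟨hn, h⟩
    haveI : Nontrivial (Subrepresentation ρ) :=
      ⟨⊥, ⊤, fun h1 => bot_ne_top (α := Submodule ℂ V) (congrArg Subrepresentation.toSubmodule h1)⟩
    refine ⟨fun S => ?_⟩
    rcases h S.toSubmodule (fun g x hx => S.apply_mem_toSubmodule g hx) with h1 | h1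
    · exact Or.inl (Subrepresentation.toSubmodule_injective h1)
    · exact Or.inr (Subrepresentation.toSubmodule_injective h1)

theorem isIrreducible_of_finrank_eq_one (ρ : Representation ℂ G V)
    (h : finrank ℂ V = 1) : ρ.IsIrreducible := by
  haveI : FiniteDimensional ℂ V := Module.finite_of_finrank_eq_succ h
  refine (isIrreducible_iff_forall ρ).mpr ⟨Module.nontrivial_of_finrank_eq_succ h, fun S _ => ?_⟩
  rcases Nat.le_one_iff_eq_zero_or_eq_one.mp (h ▸ S.finrank_le) with h1 | h1
  · exact Or.inl (Submodule.finrank_eq_zero.mp h1)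
  · exact Or.inr (Submodule.eq_top_of_finrank_eq (h1.trans h.symm))

/-- Maschke: every invariant subspace has an invariant complement. -/
theorem exists_isCompl_toSubmodule [Finite G] (ρ : Representation ℂ G V) (S : Subrepresentation ρ) :
    ∃ T : Subrepresentation ρ, IsCompl S.toSubmodule T.toSubmodule := by
  haveI : NeZero (Nat.card G : ℂ) := ⟨by exact_mod_cast Nat.card_pos.ne'⟩
  obtain ⟨T, hT⟩ := exists_isCompl S
  refine ⟨T, ⟨disjoint_iff.mpr ?_, codisjoint_iff.mpr ?_⟩⟩
  · exact congrArg Subrepresentation.toSubmodule hT.inf_eq_bot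
  · exact congrArg Subrepresentation.toSubmodule hT.sup_eq_top

/-- A representation is equivalent to the product of two complementary subrepresentations. -/
noncomputable def prodEquivRep (ρ : Representation ℂ G V) (S T : Subrepresentation ρ)
    (h : IsCompl S.toSubmodule T.toSubmodule) :
    (S.toRepresentation.prod T.toRepresentation).Equiv ρ :=
  Representation.Equiv.mk (Submodule.prodEquivOfIsCompl _ _ h) fun g => by
    apply LinearMap.ext
    rintro ⟨x, y⟩
    simp [Subrepresentation.toRepresentation, Submodule.coe_prodEquivOfIsCompl']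

theorem char_prod_eq_add [FiniteDimensional ℂ V] [FiniteDimensional ℂ W]
    (ρ : Representation ℂ G V) (σ : Representation ℂ G W) :
    (ρ.prod σ).character = ρ.character + σ.character := by
  ext g
  exact LinearMap.trace_prodMap' (ρ g) (σ g)

theorem char_eq_add_of_isCompl [FiniteDimensional ℂ V] (ρ : Representation ℂ G V)
    (S T : Subrepresentation ρ) (h : IsCompl S.toSubmodule T.toSubmodule) :
    ρ.character = S.toRepresentation.character + T.toRepresentation.character := by
  rw [← char_prod_eq_add]
  exact (Representation.char_iso (prodEquivRep ρ S T h)).symm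

/-- Induction principle: prove a property for the zero space, for irreducible representations
and for a direct sum of two proper invariant subspaces. -/
theorem rep_induction [Finite G]
    {motive : ∀ (V : Type v) [AddCommGroup V] [Module ℂ V] [FiniteDimensional ℂ V],
      Representation ℂ G V → Prop}
    (hzero : ∀ (V : Type v) [AddCommGroup V] [Module ℂ V] [FiniteDimensional ℂ V]
      (ρ : Representation ℂ G V), Subsingleton V → motive V ρ)
    (hirr : ∀ (V : Type v) [AddCommGroup V] [Module ℂ V] [FiniteDimensional ℂ V]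
      (ρ : Representation ℂ G V), ρ.IsIrreducible → motive V ρ)
    (hsplit : ∀ (V : Type v) [AddCommGroup V] [Module ℂ V] [FiniteDimensional ℂ V]
      (ρ : Representation ℂ G V) (S T : Subrepresentation ρ),
      IsCompl S.toSubmodule T.toSubmodule →
      motive S.toSubmodule S.toRepresentation → motive T.toSubmodule T.toRepresentation →
      motive V ρ)
    {V : Type v} [AddCommGroup V] [Module ℂ V] [FiniteDimensional ℂ V]
    (ρ : Representation ℂ G V) : motive V ρ := by
  suffices h : ∀ (n : ℕ) (V : Type v) [AddCommGroup V] [Module ℂ V] [FiniteDimensional ℂ V]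
      (ρ : Representation ℂ G V), finrank ℂ V = n → motive V ρ from h _ V ρ rfl
  intro n
  induction n using Nat.strong_induction_on with
  | _ n ih =>
    intro V _ _ _ ρ hn
    rcases subsingleton_or_nontrivial V with hV | hV
    · exact hzero V ρ hV
    by_cases hi : ρ.IsIrreducible
    · exact hirr V ρ hi
    · rw [isIrreducible_iff_forall] at hi
      push Not at hi
      obtain ⟨S, hS, hSb, hSt⟩ := hi hV
      let S' : Subrepresentation ρ := ⟨S, fun g x hx => hS g x hx⟩
      obtain ⟨T, hT⟩ := exists_isCompl_toSubmodule ρ S'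
      have hsum := Submodule.finrank_add_eq_of_isCompl hT
      have hS1 : 0 < finrank ℂ S := by
        rw [pos_iff_ne_zero]
        exact fun h0 => hSb (Submodule.finrank_eq_zero.mp h0)
      have hS2 : finrank ℂ S < finrank ℂ V := Submodule.finrank_lt hSt
      have hT' : finrank ℂ T.toSubmodule < finrank ℂ V := by
        have : finrank ℂ S'.toSubmodule = finrank ℂ S := rfl
        omega
      exact hsplit V ρ S' T hT (ih _ (hn ▸ hS2) _ _ rfl) (ih _ (hn ▸ hT') _ _ rfl)

/-- The operator `∑ g, f g • ρ g`. -/
noncomputable def opSum [Fintype G] (ρ : Representation ℂ G V) (f : G → ℂ) : End ℂ V :=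
  ∑ g, f g • ρ g

theorem opSum_apply [Fintype G] (ρ : Representation ℂ G V) (f : G → ℂ) (x : V) :
    opSum ρ f x = ∑ g, f g • ρ g x := by
  simp [opSum]

theorem trace_opSum [Fintype G] (ρ : Representation ℂ G V) (f : G → ℂ) :
    LinearMap.trace ℂ V (opSum ρ f) = ∑ g, f g * ρ.character g := by
  simp [opSum, Representation.character]

theorem opSum_comm [Fintype G] (ρ : Representation ℂ G V) (f : G → ℂ)
    (hf : ∀ g h : G, f (h * g * h⁻¹) = f g) (h : G) : opSum ρ f * ρ h = ρ h * opSum ρ f := by
  simp only [opSum, Finset.sum_mul, Finset.mul_sum, smul_mul_assoc, mul_smul_comm, ← map_mul]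
  refine Fintype.sum_equiv (MulAut.conj h⁻¹).toEquiv _ _ fun g => ?_
  have h1 : f (h⁻¹ * g * h) = f g := by simpa using hf g h⁻¹
  rw [mul_assoc] at h1
  simp [h1, mul_assoc]

/-- Schur: an endomorphism commuting with an irreducible representation is a scalar. -/
theorem exists_smul_of_commute [FiniteDimensional ℂ V] (ρ : Representation ℂ G V)
    [ρ.IsIrreducible] (T : End ℂ V) (hT : ∀ g, T * ρ g = ρ g * T) :
    ∃ c : ℂ, T = c • (LinearMap.id : V →ₗ[ℂ] V) := by
  let F : ρ.IntertwiningMap ρ := ⟨T, hT⟩
  obtain ⟨c, hc⟩ :=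
    (Representation.IsIrreducible.algebraMap_intertwiningMap_bijective_of_isAlgClosed (ρ := ρ)).2 F
  refine ⟨c, ?_⟩
  have h := congrArg Representation.IntertwiningMap.toLinearMap hc
  rw [Representation.IntertwiningMap.algebraMap_apply] at h
  exact h.symm

/-- The functions on `G` as a representation by left translation. -/
def leftFunRep (G : Type u) [Group G] : Representation ℂ G (G → ℂ) where
  toFun h := LinearMap.funLeft ℂ ℂ fun x => h⁻¹ * x
  map_one' := by ext f x; simp [LinearMap.funLeft]
  map_mul' a b := by ext f x; simp [LinearMap.funLeft, mul_assoc]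

theorem opSum_eq_zero_of_forall_irr [Fintype G] (f : G → ℂ)
    (hf : ∀ g h : G, f (h * g * h⁻¹) = f g)
    (h0 : ∀ (V : Type v) [AddCommGroup V] [Module ℂ V] [FiniteDimensional ℂ V]
      (ρ : Representation ℂ G V), ρ.IsIrreducible → ∑ g, f g * ρ.character g = 0)
    {V : Type v} [AddCommGroup V] [Module ℂ V] [FiniteDimensional ℂ V]
    (ρ : Representation ℂ G V) : opSum ρ f = 0 := by
  refine rep_induction (motive := fun V _ _ _ ρ => opSum ρ f = 0)
    (fun V _ _ _ ρ hV => LinearMap.ext fun x => Subsingleton.elim _ _) ?_ ?_ ρ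
  · intro V _ _ _ ρ hρ
    obtain ⟨c, hc⟩ := exists_smul_of_commute ρ (opSum ρ f) (opSum_comm ρ f hf)
    have h := congrArg (LinearMap.trace ℂ V) hc
    rw [trace_opSum, h0 V ρ hρ, map_smul, LinearMap.trace_id, smul_eq_mul] at h
    have hpos := finrank_pos_of_isIrreducible ρ
    have hc0 : c = 0 := by
      rcases mul_eq_zero.mp h.symm with h1 | h1
      · exact h1
      · exact absurd h1 (by exact_mod_cast hpos.ne')
    simp [hc, hc0]
  · intro V _ _ _ ρ S T hST hS hT
    apply LinearMap.ext
    intro x
    obtain ⟨s, hs, t, ht, rfl⟩ := Submodule.mem_sup.mp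
      (hST.sup_eq_top ▸ Submodule.mem_top (x := x))
    have e1 : opSum ρ f s = 0 := by
      have := congrArg (Subtype.val) (LinearMap.congr_fun hS ⟨s, hs⟩)
      simpa [opSum_apply, Subrepresentation.toRepresentation] using this
    have e2 : opSum ρ f t = 0 := by
      have := congrArg (Subtype.val) (LinearMap.congr_fun hT ⟨t, ht⟩)
      simpa [opSum_apply, Subrepresentation.toRepresentation] using this
    simp [map_add, e1, e2]

/-- Completeness: a class function orthogonal to all irreducible characters vanishes. -/
theorem eq_zero_of_forall_irr [Fintype G] (f : G → ℂ)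
    (hf : ∀ g h : G, f (h * g * h⁻¹) = f g)
    (h0 : ∀ (V : Type u) [AddCommGroup V] [Module ℂ V] [FiniteDimensional ℂ V]
      (ρ : Representation ℂ G V), ρ.IsIrreducible → ∑ g, f g * ρ.character g = 0) : f = 0 := by
  classical
  have h := opSum_eq_zero_of_forall_irr f hf h0 (leftFunRep G)
  funext x
  have := congrFun (LinearMap.congr_fun h (Pi.single 1 1)) x
  rw [opSum_apply, Finset.sum_apply, Finset.sum_eq_single x] at this
  · simpa [leftFunRep, LinearMap.funLeft] using this
  · intro g _ hg
    have : g⁻¹ * x ≠ 1 := fun h => hg (inv_mul_eq_one.mp h)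
    simp [leftFunRep, LinearMap.funLeft, Pi.single_eq_of_ne this]
  · simp

/-- `ρ g` has finite order. -/
theorem rep_pow_card (ρ : Representation ℂ G V) [Finite G] (g : G) : ρ g ^ Nat.card G = 1 := by
  rw [← map_pow, pow_card_eq_one', map_one]

theorem char_inv [FiniteDimensional ℂ V] [Finite G] (ρ : Representation ℂ G V) (g : G) :
    ρ.character g⁻¹ = conj (ρ.character g) :=
  trace_eq_conj_of_mul_eq_one (ρ g) (ρ g⁻¹) Nat.card_pos.ne' (rep_pow_card ρ g)
    (by rw [← map_mul, mul_inv_cancel, map_one])

theorem char_isIntegral [FiniteDimensional ℂ V] [Finite G] (ρ : Representation ℂ G V) (g : G) :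
    IsIntegral ℤ (ρ.character g) :=
  isIntegral_trace_of_pow_eq_one (ρ g) Nat.card_pos.ne' (rep_pow_card ρ g)

theorem norm_char_le [FiniteDimensional ℂ V] [Finite G] (ρ : Representation ℂ G V) (g : G) :
    ‖ρ.character g‖ ≤ (finrank ℂ V : ℝ) :=
  norm_trace_le_finrank (ρ g) Nat.card_pos.ne' (rep_pow_card ρ g)

theorem norm_char_eq_iff [FiniteDimensional ℂ V] [Finite G] (ρ : Representation ℂ G V) (g : G) :
    ‖ρ.character g‖ = (finrank ℂ V : ℝ) ↔ ∃ ω : ℂ, ρ g = ω • (LinearMap.id : V →ₗ[ℂ] V) := by
  refine ⟨fun h => eq_smul_of_norm_trace_eq_finrank (ρ g) Nat.card_pos.ne' (rep_pow_card ρ g) h, ?_⟩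
  rintro ⟨ω, hω⟩
  rcases subsingleton_or_nontrivial V with hV | hV
  · have h0 : ρ g = 0 := LinearMap.ext fun x => Subsingleton.elim _ _
    simp [Representation.character, h0, finrank_zero_of_subsingleton]
  · obtain ⟨x, hx⟩ := exists_ne (0 : V)
    have hpow : ∀ k : ℕ, (ρ g ^ k) x = ω ^ k • x := by
      intro k
      induction k with
      | zero => simp
      | succ k ih =>
        rw [pow_succ', End.mul_apply, ih, map_smul, hω, LinearMap.smul_apply, LinearMap.id_apply,
          smul_smul, pow_succ]
    have h1 := hpow (Nat.card G)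
    rw [rep_pow_card, End.one_apply] at h1
    have h2 : ω ^ Nat.card G = 1 := by
      have : (ω ^ Nat.card G - 1) • x = 0 := by rw [sub_smul, one_smul, ← h1, sub_self]
      exact sub_eq_zero.mp ((smul_eq_zero.mp this).resolve_right hx)
    simp [Representation.character, hω, norm_eq_one_of_pow_eq_one' Nat.card_pos.ne' h2]

theorem char_eq_finrank_iff [FiniteDimensional ℂ V] [Finite G] (ρ : Representation ℂ G V) (g : G) :
    ρ.character g = (finrank ℂ V : ℂ) ↔ ρ g = LinearMap.id := by
  refine ⟨fun h => ?_, fun h => by simp [Representation.character, h]⟩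
  obtain ⟨ω, hω⟩ := (norm_char_eq_iff ρ g).mp (by simp [h])
  rcases subsingleton_or_nontrivial V with hV | hV
  · exact LinearMap.ext fun x => Subsingleton.elim _ _
  have h1 : ρ.character g = ω * (finrank ℂ V : ℂ) := by simp [Representation.character, hω]
  rw [h] at h1
  have hne : (finrank ℂ V : ℂ) ≠ 0 := by exact_mod_cast (Module.finrank_pos (R := ℂ) (M := V)).ne'
  have : ω = 1 := mul_right_cancel₀ hne (h1.symm.trans (one_mul _).symm)
  rw [hω, this, one_smul]

end Cfsg.Agent.Lib.Characters
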