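import Cfsg.Prelude.Def_Characters
import Cfsg.Agent.Lib.Characters.Rep

/-!
# `Cfsg.IsCharacter`, `Cfsg.IsIrrCharacter`, linear characters
-/

namespace Cfsg.Agent.Lib.Characters

open Module
open scoped ComplexConjugate

set_option linter.unusedSectionVars false
set_option linter.style.haveILetI false

universe u v w

variable {G : Type u} [Group G] {V : Type v} [AddCommGroup V] [Module ℂ V] [FiniteDimensional ℂ V]

/-- The coordinate version of a representation. -/
noncomputable def coordRep (ρ : Representation ℂ G V) :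
    Representation ℂ G (Fin (finrank ℂ V) → ℂ) :=
  transportRep ρ (Module.finBasis ℂ V).equivFun

theorem coordRep_character (ρ : Representation ℂ G V) : (coordRep ρ).character = ρ.character :=
  (Representation.char_iso (transportRepEquiv ρ _)).symm

theorem isCharacter_of_rep (ρ : Representation ℂ G V) : IsCharacter G ρ.character :=
  ⟨_, coordRep ρ, coordRep_character ρ⟩

theorem isIrrCharacter_of_rep (ρ : Representation ℂ G V) [ρ.IsIrreducible] :
    IsIrrCharacter G ρ.character :=
  ⟨_, coordRep ρ, isIrreducible_of_equiv (transportRepEquiv ρ _), coordRep_character ρ⟩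

theorem IsIrrCharacter.isCharacter {χ : G → ℂ} (h : IsIrrCharacter G χ) : IsCharacter G χ :=
  let ⟨n, ρ, _, h2⟩ := h
  ⟨n, ρ, h2⟩

theorem irr_isCharacter (χ : IrrCharacter G) : IsCharacter G (χ : G → ℂ) :=
  IsIrrCharacter.isCharacter χ.2

theorem IsCharacter.isClassFunction {χ : G → ℂ} (h : IsCharacter G χ) : IsClassFunction G χ := by
  obtain ⟨n, ρ, rfl⟩ := h
  exact fun g x => ρ.char_conj g x

theorem irr_isClassFunction (χ : IrrCharacter G) : IsClassFunction G (χ : G → ℂ) :=
  IsCharacter.isClassFunction (irr_isCharacter χ)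

theorem IsCharacter.conj_apply {χ : G → ℂ} (h : IsCharacter G χ) (g x : G) :
    χ (x * g * x⁻¹) = χ g :=
  IsCharacter.isClassFunction h g x

theorem IsCharacter.exists_apply_one {χ : G → ℂ} (h : IsCharacter G χ) :
    ∃ n : ℕ, χ 1 = (n : ℂ) := by
  obtain ⟨n, ρ, rfl⟩ := h
  exact ⟨_, ρ.char_one⟩

theorem IsIrrCharacter.exists_apply_one {χ : G → ℂ} (h : IsIrrCharacter G χ) :
    ∃ n : ℕ, 0 < n ∧ χ 1 = (n : ℂ) := by
  obtain ⟨n, ρ, hirr, rfl⟩ := h
  exact ⟨_, finrank_pos_of_isIrreducible ρ, ρ.char_one⟩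

theorem IsIrrCharacter.apply_one_ne_zero {χ : G → ℂ} (h : IsIrrCharacter G χ) : χ 1 ≠ 0 := by
  obtain ⟨n, hn, he⟩ := IsIrrCharacter.exists_apply_one h
  rw [he]
  exact_mod_cast hn.ne'

theorem IsIrrCharacter.ne_zero {χ : G → ℂ} (h : IsIrrCharacter G χ) : χ ≠ 0 := fun h0 =>
  IsIrrCharacter.apply_one_ne_zero h (by rw [h0]; rfl)

theorem IsCharacter.apply_inv [Finite G] {χ : G → ℂ} (h : IsCharacter G χ) (g : G) :
    χ g⁻¹ = conj (χ g) := by
  obtain ⟨n, ρ, rfl⟩ := h
  exact char_inv ρ g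

theorem IsCharacter.isIntegral [Finite G] {χ : G → ℂ} (h : IsCharacter G χ) (g : G) :
    IsIntegral ℤ (χ g) := by
  obtain ⟨n, ρ, rfl⟩ := h
  exact char_isIntegral ρ g

theorem IsCharacter.norm_le [Finite G] {χ : G → ℂ} (h : IsCharacter G χ) (g : G) :
    ‖χ g‖ ≤ ‖χ 1‖ := by
  obtain ⟨n, ρ, rfl⟩ := h
  refine (norm_char_le ρ g).trans ?_
  simp

theorem IsCharacter.norm_le_re [Finite G] {χ : G → ℂ} (h : IsCharacter G χ) (g : G) :
    ‖χ g‖ ≤ (χ 1).re := by
  obtain ⟨n, ρ, rfl⟩ := h
  refine (norm_char_le ρ g).trans ?_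
  simp

theorem isCharacter_zero : IsCharacter G (0 : G → ℂ) := by
  refine ⟨0, (1 : Representation ℂ G (Fin 0 → ℂ)), ?_⟩
  ext g
  simp [Representation.character]

theorem IsCharacter.add {χ ψ : G → ℂ} (hχ : IsCharacter G χ) (hψ : IsCharacter G ψ) :
    IsCharacter G (χ + ψ) := by
  obtain ⟨n, ρ, rfl⟩ := hχ
  obtain ⟨m, σ, rfl⟩ := hψ
  rw [← char_prod_eq_add]
  exact isCharacter_of_rep _

theorem IsCharacter.mul {χ ψ : G → ℂ} (hχ : IsCharacter G χ) (hψ : IsCharacter G ψ) :
    IsCharacter G (χ * ψ) := by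
  obtain ⟨n, ρ, rfl⟩ := hχ
  obtain ⟨m, σ, rfl⟩ := hψ
  rw [← Representation.char_tensor]
  exact isCharacter_of_rep _

theorem IsCharacter.sum {ι : Type*} (s : Finset ι) {f : ι → G → ℂ}
    (h : ∀ i ∈ s, IsCharacter G (f i)) : IsCharacter G (∑ i ∈ s, f i) :=
  Finset.sum_induction _ _ (fun _ _ => IsCharacter.add) isCharacter_zero h

theorem IsCharacter.nsmul {χ : G → ℂ} (h : IsCharacter G χ) (k : ℕ) :
    IsCharacter G (k • χ) := by
  induction k with
  | zero => rw [zero_smul]; exact isCharacter_zero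
  | succ k ih => rw [succ_nsmul]; exact IsCharacter.add ih h

theorem IsCharacter.natCast_smul {χ : G → ℂ} (h : IsCharacter G χ) (k : ℕ) :
    IsCharacter G ((k : ℂ) • χ) := by
  rw [Nat.cast_smul_eq_nsmul]
  exact IsCharacter.nsmul h k

theorem IsCharacter.comp {H : Type w} [Group H] {χ : G → ℂ} (h : IsCharacter G χ) (f : H →* G) :
    IsCharacter H (χ ∘ f) := by
  obtain ⟨n, ρ, rfl⟩ := h
  exact ⟨n, ρ.comp f, rfl⟩

theorem IsIrrCharacter.comp_surjective {H : Type w} [Group H] {χ : G → ℂ}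
    (h : IsIrrCharacter G χ) (f : H →* G) (hf : Function.Surjective f) :
    IsIrrCharacter H (χ ∘ f) := by
  obtain ⟨n, ρ, hirr, rfl⟩ := h
  refine ⟨n, ρ.comp f, ?_, rfl⟩
  rw [isIrreducible_iff_forall] at hirr ⊢
  refine ⟨hirr.1, fun S hS => hirr.2 S fun g x hx => ?_⟩
  obtain ⟨a, rfl⟩ := hf g
  exact hS a x hx

theorem IsIrrCharacter.comp_equiv {H : Type w} [Group H] {χ : G → ℂ}
    (h : IsIrrCharacter G χ) (e : H ≃* G) : IsIrrCharacter H (χ ∘ e) :=
  IsIrrCharacter.comp_surjective h e.toMonoidHom e.surjective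

theorem isIrrCharacter_comp_equiv_iff {H : Type w} [Group H] {χ : G → ℂ} (e : H ≃* G) :
    IsIrrCharacter H (χ ∘ e) ↔ IsIrrCharacter G χ := by
  refine ⟨fun h => ?_, fun h => IsIrrCharacter.comp_equiv h e⟩
  have := IsIrrCharacter.comp_equiv h e.symm
  rwa [Function.comp_assoc, show (e : H → G) ∘ e.symm = id from funext e.apply_symm_apply] at this

/-- Restriction of a character to a subgroup. -/
theorem IsCharacter.restrict {χ : G → ℂ} (h : IsCharacter G χ) (H : Subgroup G) :
    IsCharacter H (fun x : H => χ x) :=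
  IsCharacter.comp h H.subtype

/-- The complex conjugate of a character is a character. -/
theorem IsCharacter.conjugate [Finite G] {χ : G → ℂ} (h : IsCharacter G χ) :
    IsCharacter G (fun g => conj (χ g)) := by
  obtain ⟨n, ρ, rfl⟩ := h
  have : ρ.dual.character = fun g => conj (ρ.character g) :=
    funext fun g => (ρ.char_dual g).trans (char_inv ρ g)
  rw [← this]
  exact isCharacter_of_rep _

/-- The one-dimensional representation given by a multiplicative function. -/
noncomputable def linRep (lam : G →* ℂ) : Representation ℂ G ℂ :=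
  (algebraMap ℂ (Module.End ℂ ℂ)).toMonoidHom.comp lam

theorem linRep_character (lam : G →* ℂ) : (linRep lam).character = lam := by
  ext g
  simp [Representation.character, linRep, Algebra.algebraMap_eq_smul_one, Module.End.one_eq_id]

theorem isIrrCharacter_monoidHom (lam : G →* ℂ) : IsIrrCharacter G lam := by
  haveI := isIrreducible_of_finrank_eq_one (linRep lam) (Module.finrank_self ℂ)
  rw [← linRep_character lam]
  exact isIrrCharacter_of_rep _

theorem isIrrCharacter_unitsHom (lam : G →* ℂˣ) :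
    IsIrrCharacter G (fun g => (lam g : ℂ)) :=
  isIrrCharacter_monoidHom ((Units.coeHom ℂ).comp lam)

theorem isIrrCharacter_one : IsIrrCharacter G (fun _ => (1 : ℂ)) :=
  isIrrCharacter_monoidHom (1 : G →* ℂ)

theorem isCharacter_one : IsCharacter G (fun _ => (1 : ℂ)) :=
  IsIrrCharacter.isCharacter isIrrCharacter_one

theorem IsCharacter.pow {χ : G → ℂ} (h : IsCharacter G χ) (k : ℕ) : IsCharacter G (χ ^ k) := by
  induction k with
  | zero => exact isCharacter_one
  | succ k ih => rw [pow_succ]; exact IsCharacter.mul ih h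

/-- The trivial irreducible character. -/
def trivIrr (G : Type u) [Group G] : IrrCharacter G := ⟨fun _ => 1, isIrrCharacter_one⟩

@[simp] theorem trivIrr_apply (g : G) : (trivIrr G : G → ℂ) g = 1 := rfl

/-- A character of degree one is multiplicative. -/
theorem IsCharacter.exists_hom_of_apply_one {χ : G → ℂ} (h : IsCharacter G χ) (h1 : χ 1 = 1) :
    ∃ lam : G →* ℂˣ, χ = fun g => (lam g : ℂ) := by
  obtain ⟨n, ρ, rfl⟩ := h
  have hn : finrank ℂ (Fin n → ℂ) = 1 := by
    rw [ρ.char_one] at h1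
    exact_mod_cast h1
  have hdet : ∀ f : Module.End ℂ (Fin n → ℂ), LinearMap.det f = LinearMap.trace ℂ _ f := by
    intro f
    obtain ⟨c, hc⟩ :=
      (Module.Free.bijective_algebraMap_of_finrank_eq_one (R := ℂ)
        (by rw [Module.finrank_linearMap, hn])).2 f
    rw [← hc]
    simp [Algebra.algebraMap_eq_smul_one, Module.End.one_eq_id, hn]
  refine ⟨((LinearMap.det : Module.End ℂ (Fin n → ℂ) →* ℂ).comp ρ).toHomUnits, ?_⟩
  funext g
  simp [hdet, Representation.character]

theorem IsCharacter.isIrr_of_apply_one {χ : G → ℂ} (h : IsCharacter G χ) (h1 : χ 1 = 1) :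
    IsIrrCharacter G χ := by
  obtain ⟨lam, rfl⟩ := IsCharacter.exists_hom_of_apply_one h h1
  exact isIrrCharacter_unitsHom lam

end Cfsg.Agent.Lib.Characters
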