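import Cfsg.Agent.Lib.Characters.Induced
import Cfsg.Agent.Lib.Characters.Integrality
import Mathlib.GroupTheory.Sylow
import Mathlib.GroupTheory.NoncommPiCoprod
import Mathlib.GroupTheory.NoncommCoprod
import Mathlib.RingTheory.IntegralClosure.Algebra.Basic
import Mathlib.LinearAlgebra.FreeModule.PID
import Mathlib.Algebra.Module.Projective
import Mathlib.NumberTheory.Basic
import Mathlib.FieldTheory.Finite.Basic

/-!
# Brauer's induction theorem (span form) and Brauer's characterisation of characters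

For a prime `p` the `AlgInt`-span `brauerSpan G p` of characters induced from `p`-elementary
subgroups contains `|G|_{p'} • 1`; the spans for all `p` together contain `1`.
-/

namespace Cfsg.Agent.Lib.Characters

open scoped ComplexConjugate

set_option linter.unusedSectionVars false
set_option linter.unusedSimpArgs false
set_option linter.style.haveILetI false

universe u

variable {G : Type u} [Group G]

/-! ### The `p`-part of an element -/

theorem exists_pPart_decomp [Finite G] {p : ℕ} (hp : p.Prime) (x : G) :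
    ∃ a c : G, x = a * c ∧ Commute a c ∧ (∃ k, orderOf a = p ^ k) ∧ Nat.Coprime (orderOf c) p ∧
      a ∈ Subgroup.zpowers x ∧ c ∈ Subgroup.zpowers x := by
  obtain ⟨e, m, hm, hN⟩ :=
    Nat.exists_eq_pow_mul_and_not_dvd (orderOf_pos x).ne' p hp.ne_one
  have hcop : Nat.Coprime (p ^ e) m :=
    Nat.Coprime.pow_left e ((hp.coprime_iff_not_dvd).mpr hm)
  obtain ⟨u, v, huv⟩ := Nat.isCoprime_iff_coprime.mpr hcop
  have ha : (x ^ (v * (m : ℤ))) ^ (p ^ e) = 1 := by
    rw [← zpow_natCast, ← zpow_mul]
    refine orderOf_dvd_iff_zpow_eq_one.mp ?_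
    rw [hN]; push_cast; exact ⟨v, by ring⟩
  have hc : (x ^ (u * ((p ^ e : ℕ) : ℤ))) ^ m = 1 := by
    rw [← zpow_natCast, ← zpow_mul]
    refine orderOf_dvd_iff_zpow_eq_one.mp ?_
    rw [hN]; push_cast; exact ⟨u, by ring⟩
  refine ⟨x ^ (v * (m : ℤ)), x ^ (u * ((p ^ e : ℕ) : ℤ)), ?_, (Commute.refl x).zpow_zpow _ _, ?_, ?_,
    Subgroup.zpow_mem _ (Subgroup.mem_zpowers x) _, Subgroup.zpow_mem _ (Subgroup.mem_zpowers x) _⟩
  · rw [← zpow_add, add_comm, huv, zpow_one]
  · obtain ⟨k, _, hk⟩ := (Nat.dvd_prime_pow hp).mp (orderOf_dvd_of_pow_eq_one ha)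
    exact ⟨k, hk⟩
  · exact Nat.Coprime.coprime_dvd_left (orderOf_dvd_of_pow_eq_one hc)
      ((hp.coprime_iff_not_dvd).mpr hm).symm

/-- The decomposition into a `p`-part and a `p'`-part is unique. -/
theorem pPart_decomp_unique {p : ℕ} {a c a' c' : G} (ha : Commute a c) (ha' : Commute a' c')
    {k k' : ℕ} (hk : a ^ (p ^ k) = 1) (hk' : a' ^ (p ^ k') = 1)
    (hc : Nat.Coprime (orderOf c) p) (hc' : Nat.Coprime (orderOf c') p)
    (h : a * c = a' * c') : c = c' := by
  have hcop : Nat.Coprime (p ^ (k + k')) (orderOf c * orderOf c') :=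
    Nat.Coprime.pow_left _ (Nat.Coprime.mul_right hc.symm hc'.symm)
  obtain ⟨u, v, huv⟩ := Nat.isCoprime_iff_coprime.mpr hcop
  set N : ℤ := u * ((p ^ (k + k') : ℕ) : ℤ) with hN
  have key : ∀ (b d : G), Commute b d → b ^ (p ^ (k + k')) = 1 →
      d ^ (orderOf c * orderOf c') = 1 → (b * d) ^ N = d := by
    intro b d hbd hb hd
    rw [hbd.mul_zpow]
    have h1 : b ^ N = 1 := by
      rw [hN, mul_comm, zpow_mul, zpow_natCast, hb, one_zpow]
    have h2 : d ^ N = d := by
      have : N = 1 - ((orderOf c * orderOf c' : ℕ) : ℤ) * v := by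
        rw [hN]; linear_combination huv
      rw [this, zpow_sub, zpow_one, zpow_mul, zpow_natCast, hd, one_zpow, inv_one, mul_one]
    rw [h1, h2, one_mul]
  have e1 := key a c ha (by rw [pow_add, pow_mul, hk, one_pow])
    (by rw [pow_mul, pow_orderOf_eq_one, one_pow])
  have e2 := key a' c' ha' (by rw [pow_add, mul_comm, pow_mul, hk', one_pow])
    (by rw [mul_comm, pow_mul, pow_orderOf_eq_one, one_pow])
  rw [← e1, h, e2]

/-! ### Elementary subgroups -/

theorem isElementary_zpowers [Finite G] {p : ℕ} (hp : p.Prime) (x : G) :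
    IsElementary p (Subgroup.zpowers x) := by
  obtain ⟨a, c, hx, hcomm, ⟨k, hk⟩, hc, haz, hcz⟩ := exists_pPart_decomp hp x
  refine ⟨⟨c, hcz⟩, ?_, by rwa [Subgroup.orderOf_mk], k, ?_⟩
  · exact Subgroup.mem_center_iff.mpr fun g => mul_comm' g ⟨c, hcz⟩
  · have h1 := (Subgroup.zpowers (⟨c, hcz⟩ : Subgroup.zpowers x)).index_mul_card
    have h2 : orderOf x = p ^ k * orderOf c := by
      rw [hx, hcomm.orderOf_mul_eq_mul_orderOf_of_coprime
        (by rw [hk]; exact Nat.Coprime.pow_left k hc.symm), hk]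
    rw [Nat.card_zpowers, Nat.card_zpowers, Subgroup.orderOf_mk, h2] at h1
    exact Nat.eq_of_mul_eq_mul_right (orderOf_pos c) h1

/-- Algebraic integers, as coefficients. -/
abbrev AInt : Subalgebra ℤ ℂ := integralClosure ℤ ℂ

/-- Characters induced from `p`-elementary subgroups. -/
def elemInduced (G : Type u) [Group G] [Fintype G] (p : ℕ) : Set (G → ℂ) :=
  {f | ∃ (E : Subgroup G) (χ : E → ℂ), IsElementary p E ∧ IsCharacter E χ ∧ f = indFun E χ}

/-- The span over the algebraic integers of the characters induced from `p`-elementary subgroups. -/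
noncomputable def brauerSpan (G : Type u) [Group G] [Fintype G] (p : ℕ) :
    Submodule AInt (G → ℂ) :=
  Submodule.span AInt (elemInduced G p)

variable [Fintype G]

theorem indFun_AInt_smul (H : Subgroup G) (a : AInt) (θ : H → ℂ) :
    indFun H (a • θ) = a • indFun H θ :=
  indFun_smul H (a : ℂ) θ

theorem brauerSpan_isClassFunction {p : ℕ} {f : G → ℂ} (hf : f ∈ brauerSpan G p) :
    IsClassFunction G f := by
  induction hf using Submodule.span_induction with
  | mem x hx => obtain ⟨E, χ, -, -, rfl⟩ := hx; exact isClassFunction_indFun E χ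
  | zero => exact fun g h => rfl
  | add x y _ _ hx hy => exact fun g h => by simp [hx g h, hy g h]
  | smul a x _ hx => exact fun g h => by simp [hx g h]

theorem brauerSpan_mul_char {p : ℕ} {f χ : G → ℂ} (hf : f ∈ brauerSpan G p)
    (hχ : IsCharacter G χ) : f * χ ∈ brauerSpan G p := by
  induction hf using Submodule.span_induction with
  | mem x hx =>
    obtain ⟨E, θ, hE, hθ, rfl⟩ := hx
    refine Submodule.subset_span ⟨E, _, hE, IsCharacter.mul hθ (IsCharacter.restrict hχ E), ?_⟩
    exact (indFun_mul_restrict E θ (IsCharacter.isClassFunction hχ)).symm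
  | zero => rw [zero_mul]; exact zero_mem _
  | add x y _ _ hx hy => rw [add_mul]; exact add_mem hx hy
  | smul a x _ hx => rw [smul_mul_assoc]; exact Submodule.smul_mem _ a hx

theorem brauerSpan_mul {p : ℕ} {f g : G → ℂ} (hf : f ∈ brauerSpan G p)
    (hg : g ∈ brauerSpan G p) : f * g ∈ brauerSpan G p := by
  induction hg using Submodule.span_induction with
  | mem x hx =>
    obtain ⟨E, θ, -, hθ, rfl⟩ := hx
    exact brauerSpan_mul_char hf (IsCharacter.indFun E hθ)
  | zero => rw [mul_zero]; exact zero_mem _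
  | add x y _ _ hx hy => rw [mul_add]; exact add_mem hx hy
  | smul a x _ hx => rw [mul_smul_comm]; exact Submodule.smul_mem _ a hx

/-- A multiple of an indicator of a coset, pulled back along a homomorphism to a group in which
the element is central, induces into the span. -/
theorem indFun_indicator_mem {p : ℕ} (E : Subgroup G) (hE : IsElementary p E)
    {Q : Type u} [Group Q] [Finite Q] [DecidableEq Q] (π : E →* Q) (z : Q)
    (hz : z ∈ Subgroup.center Q) :
    indFun E (fun h => if π h = z then (Nat.card Q : ℂ) else 0) ∈ brauerSpan G p := by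
  classical
  haveI := Fintype.ofFinite (IrrCharacter Q)
  have hval : (fun h : E => if π h = z then (Nat.card Q : ℂ) else 0) =
      ∑ χ : IrrCharacter Q, conj ((χ : Q → ℂ) z) • ((χ : Q → ℂ) ∘ π) := by
    funext h
    have h2 := sum_irr_mul_conj (π h) z
    have hcent : Subgroup.centralizer ({π h} : Set Q) = ⊤ ∨ π h ≠ z := by
      by_cases he : π h = z
      · left
        rw [he, Subgroup.centralizer_eq_top_iff_subset]
        exact Set.singleton_subset_iff.mpr hz
      · exact Or.inr he
    simp only [Finset.sum_apply, Pi.smul_apply, Function.comp_apply, smul_eq_mul]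
    rw [show (∑ χ : IrrCharacter Q, conj ((χ : Q → ℂ) z) * (χ : Q → ℂ) (π h)) = _ from
      (Finset.sum_congr rfl fun χ _ => mul_comm _ _).trans h2]
    by_cases he : π h = z
    · rw [if_pos he, if_pos (he ▸ IsConj.refl _), hcent.resolve_right (not_not.mpr he),
        Subgroup.card_top]
    · rw [if_neg he, if_neg]
      intro hc
      obtain ⟨c, hc⟩ := isConj_iff.mp hc.symm
      apply he
      rw [← hc, Subgroup.mem_center_iff.mp hz c, mul_inv_cancel_right]
  rw [hval, indFun_sum]
  refine Submodule.sum_mem _ fun χ _ => ?_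
  have hint : IsIntegral ℤ (conj ((χ : Q → ℂ) z)) := by
    rw [← IsCharacter.apply_inv (irr_isCharacter χ)]
    exact IsCharacter.isIntegral (irr_isCharacter χ) _
  rw [indFun_smul]
  exact Submodule.smul_mem (brauerSpan G p) (⟨_, hint⟩ : AInt)
    (Submodule.subset_span ⟨E, _, hE, IsCharacter.comp (irr_isCharacter χ) π, rfl⟩)

theorem card_mul_intClassFun_mem {p : ℕ} (hp : p.Prime) (D : G → ℤ)
    (hD : IsClassFunction G fun g => (D g : ℂ)) :
    (fun g => (Nat.card G : ℂ) * (D g : ℂ)) ∈ brauerSpan G p := by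
  classical
  have hx : ∀ x : G, (fun g => ((Finset.univ.filter fun t : G => t⁻¹ * g * t = x).card : ℂ)) ∈
      brauerSpan G p := by
    intro x
    have h := indFun_indicator_mem (Subgroup.zpowers x) (isElementary_zpowers hp x)
      (MonoidHom.id _) ⟨x, Subgroup.mem_zpowers x⟩
      (Subgroup.mem_center_iff.mpr fun g => mul_comm' g _)
    convert h using 1
    funext g
    have h2 : ∀ t : G, extendByZero (Subgroup.zpowers x)
        (fun h => if MonoidHom.id _ h = ⟨x, Subgroup.mem_zpowers x⟩
          then (Nat.card (Subgroup.zpowers x) : ℂ) else 0) (t⁻¹ * g * t) =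
        if t⁻¹ * g * t = x then (Nat.card (Subgroup.zpowers x) : ℂ) else 0 := by
      intro t
      by_cases hm : t⁻¹ * g * t ∈ Subgroup.zpowers x
      · rw [extendByZero_of_mem _ _ hm]
        simp [Subtype.ext_iff]
      · rw [extendByZero_of_not_mem _ _ hm, if_neg]
        exact fun he => hm (he ▸ Subgroup.mem_zpowers x)
    rw [indFun_apply, Finset.sum_congr rfl fun t _ => h2 t, ← Finset.sum_filter, Finset.sum_const,
      nsmul_eq_mul]
    have hne : (Nat.card (Subgroup.zpowers x) : ℂ) ≠ 0 := natCard_ne_zero_complex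
    field_simp
  have hsum : (fun g => (Nat.card G : ℂ) * (D g : ℂ)) =
      ∑ x : G, (⟨(D x : ℂ), isIntegral_algebraMap⟩ : AInt) •
        fun g => ((Finset.univ.filter fun t : G => t⁻¹ * g * t = x).card : ℂ) := by
    funext g
    rw [Finset.sum_apply]
    have h3 : ∀ x : G, ((⟨(D x : ℂ), isIntegral_algebraMap⟩ : AInt) •
        fun g => ((Finset.univ.filter fun t : G => t⁻¹ * g * t = x).card : ℂ)) g =
        ∑ t : G, if t⁻¹ * g * t = x then (D x : ℂ) else 0 := fun x => by
      rw [← Finset.sum_filter, Finset.sum_const, nsmul_eq_mul, Pi.smul_apply]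
      show (D x : ℂ) * _ = _
      ring
    rw [Finset.sum_congr rfl fun x _ => h3 x, Finset.sum_comm]
    simp only [Finset.sum_ite_eq, Finset.mem_univ, if_true]
    have h4 : ∀ t : G, (D (t⁻¹ * g * t) : ℂ) = D g := fun t => by simpa using hD g t⁻¹
    rw [Finset.sum_congr rfl fun t _ => h4 t, Finset.sum_const, Finset.card_univ, nsmul_eq_mul,
      Nat.card_eq_fintype_card]
  rw [hsum]
  exact Submodule.sum_mem _ fun x _ => Submodule.smul_mem _ _ (hx x)

/-- For each element there is an integer-valued function in the span with value prime to `p`. -/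
theorem exists_intFun_not_dvd {p : ℕ} (hp : p.Prime) (x : G) :
    ∃ F : G → ℤ, (fun g => (F g : ℂ)) ∈ brauerSpan G p ∧ ¬ (p : ℤ) ∣ F x := by
  classical
  haveI : Fact p.Prime := ⟨hp⟩
  obtain ⟨a, c, hx, hac, ⟨ka, hka⟩, hc, -, -⟩ := exists_pPart_decomp hp x
  set L : Subgroup G := Subgroup.centralizer ({c} : Set G) with hL
  have haL : a ∈ L := Subgroup.mem_centralizer_singleton_iff.mpr hac
  let aL : L := ⟨a, haL⟩
  have haP : IsPGroup p (Subgroup.zpowers aL) := by
    refine IsPGroup.of_card (n := ka) ?_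
    rw [Nat.card_zpowers, Subgroup.orderOf_mk, hka]
  obtain ⟨P, hP⟩ := haP.exists_le_sylow
  let PG : Subgroup G := (P : Subgroup L).map L.subtype
  have hPGp : IsPGroup p PG := P.2.map _
  have hPGc : ∀ k ∈ PG, Commute c k := by
    rintro _ ⟨k, -, rfl⟩
    exact (Subgroup.mem_centralizer_singleton_iff.mp k.2).symm
  set φ : Subgroup.zpowers c × PG →* G :=
    MonoidHom.noncommCoprod (Subgroup.zpowers c).subtype PG.subtype fun y k => by
      obtain ⟨i, hi⟩ := Subgroup.mem_zpowers_iff.mp y.2
      show Commute (y : G) (k : G)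
      rw [← hi]
      exact (hPGc k k.2).zpow_left i
    with hφdef
  have hφval : ∀ q, φ q = (q.1 : G) * (q.2 : G) := fun q => rfl
  have hdisj : ∀ y : G, y ∈ Subgroup.zpowers c → y ∈ PG → y = 1 := by
    intro y hy hyP
    obtain ⟨j, hj⟩ := hPGp ⟨y, hyP⟩
    have h1 : orderOf y ∣ p ^ j := orderOf_dvd_of_pow_eq_one (congrArg Subtype.val hj)
    have h2 : orderOf y ∣ orderOf c := by
      rw [← Nat.card_zpowers c, ← Subgroup.orderOf_mk y hy]
      exact orderOf_dvd_natCard _
    exact orderOf_eq_one_iff.mp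
      (Nat.eq_one_of_dvd_coprimes ((Nat.Coprime.pow_left j hc.symm)) h1 h2)
  have hφ : Function.Injective φ := by
    rw [injective_iff_map_eq_one]
    rintro ⟨y, k⟩ h
    have h' : (y : G) * (k : G) = 1 := by rw [hφval] at h; exact h
    have hy1 : (y : G) = 1 := hdisj _ y.2 (by
      rw [eq_inv_of_mul_eq_one_left h']; exact PG.inv_mem k.2)
    have hk1 : (k : G) = 1 := by rw [hy1, one_mul] at h'; exact h'
    ext <;> assumption
  let E : Subgroup G := φ.range
  let e : Subgroup.zpowers c × PG ≃* E := MonoidHom.ofInjective hφ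
  let c0 : Subgroup.zpowers c := ⟨c, Subgroup.mem_zpowers c⟩
  obtain ⟨jP, hjP⟩ := IsPGroup.iff_card.mp hPGp
  have hE : IsElementary p E := by
    have hord : orderOf (e (c0, 1)) = orderOf c := by
      rw [MulEquiv.orderOf_eq, Prod.orderOf, orderOf_one, Nat.lcm_one_right, Subgroup.orderOf_mk]
    refine ⟨e (c0, 1), ?_, by rwa [hord], jP, ?_⟩
    · refine Subgroup.mem_center_iff.mpr fun g => ?_
      obtain ⟨⟨y, k⟩, rfl⟩ := e.surjective g
      rw [← map_mul, ← map_mul, Prod.mk_mul_mk, Prod.mk_mul_mk, one_mul, mul_one, mul_comm']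
    · have h1 := (Subgroup.zpowers (e (c0, 1))).index_mul_card
      rw [← Nat.card_congr e.toEquiv, Nat.card_zpowers, hord, Nat.card_prod, Nat.card_zpowers,
        hjP, mul_comm (orderOf c)] at h1
      exact Nat.eq_of_mul_eq_mul_right (orderOf_pos c) h1
  let π : E →* Subgroup.zpowers c := (MonoidHom.fst _ _).comp e.symm.toMonoidHom
  have hmem := indFun_indicator_mem E hE π c0
    (Subgroup.mem_center_iff.mpr fun g => mul_comm' g c0)
  set ψ : E → ℂ := fun h => if π h = c0 then (Nat.card (Subgroup.zpowers c) : ℂ) else 0 with hψ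
  -- the value of the induced function
  have hψval : ∀ y : G, extendByZero E ψ y =
      if c⁻¹ * y ∈ PG then (Nat.card (Subgroup.zpowers c) : ℂ) else 0 := by
    intro y
    by_cases hy : c⁻¹ * y ∈ PG
    · have hyE : y ∈ E := ⟨(c0, ⟨_, hy⟩), (hφval _).trans (mul_inv_cancel_left c y)⟩
      rw [if_pos hy, extendByZero_of_mem _ _ hyE, hψ]
      refine if_pos ?_
      have : (⟨y, hyE⟩ : E) = e (c0, ⟨_, hy⟩) :=
        Subtype.ext ((hφval (c0, ⟨_, hy⟩)).trans (mul_inv_cancel_left c y)).symm
      simp [π, this]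
    · rw [if_neg hy]
      by_cases hyE : y ∈ E
      · rw [extendByZero_of_mem _ _ hyE, hψ]
        refine if_neg fun h => hy ?_
        obtain ⟨⟨z, k⟩, hzk⟩ := e.surjective ⟨y, hyE⟩
        rw [← hzk] at h
        have hz : z = c0 := by simpa [π] using h
        have : y = c * (k : G) := by
          rw [show y = φ (z, k) from (congrArg Subtype.val hzk).symm, hφval, hz]
        rw [this, inv_mul_cancel_left]
        exact k.2
      · rw [extendByZero_of_not_mem _ _ hyE]
  let S : G → Set G := fun g => {t | c⁻¹ * (t⁻¹ * g * t) ∈ PG}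
  have hval : ∀ g : G, indFun E ψ g = (Nat.card (S g) : ℂ) / (Nat.card PG : ℂ) := by
    intro g
    rw [indFun_apply, Finset.sum_congr rfl fun t _ => hψval _, ← Finset.sum_filter,
      Finset.sum_const, nsmul_eq_mul, ← Nat.card_congr e.toEquiv, Nat.card_prod, Nat.cast_mul]
    have : (Finset.univ.filter fun t : G => c⁻¹ * (t⁻¹ * g * t) ∈ PG).card = Nat.card (S g) := by
      rw [← Fintype.card_subtype, ← Nat.card_eq_fintype_card]
      rfl
    rw [this]
    have h1 : (Nat.card (Subgroup.zpowers c) : ℂ) ≠ 0 := natCard_ne_zero_complex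
    have h2 : (Nat.card PG : ℂ) ≠ 0 := natCard_ne_zero_complex
    field_simp
  -- `S g` is a union of cosets of `PG`
  let T : G → Set (G ⧸ PG) := fun g => QuotientGroup.mk '' S g
  have hST : ∀ g : G, Nat.card (S g) = Nat.card PG * Nat.card (T g) := by
    intro g
    have hpre : QuotientGroup.mk ⁻¹' (T g) = S g := by
      refine Set.Subset.antisymm ?_ (Set.subset_preimage_image _ _)
      rintro t ⟨s, hs, hst⟩
      obtain ⟨k, hk, rfl⟩ : ∃ k ∈ PG, t = s * k :=
        ⟨s⁻¹ * t, QuotientGroup.eq.mp hst, (mul_inv_cancel_left s t).symm⟩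
      show c⁻¹ * ((s * k)⁻¹ * g * (s * k)) ∈ PG
      have h1 : c⁻¹ * ((s * k)⁻¹ * g * (s * k)) = k⁻¹ * (c⁻¹ * (s⁻¹ * g * s)) * k := by
        have h2 : k⁻¹ * c⁻¹ = c⁻¹ * k⁻¹ := (hPGc k hk).symm.inv_inv
        simp only [mul_inv_rev, ← mul_assoc, h2]
      rw [h1]
      exact PG.mul_mem (PG.mul_mem (PG.inv_mem hk) hs) hk
    rw [← Nat.card_prod, ← Nat.card_congr (QuotientGroup.preimageMkEquivSubgroupProdSet PG (T g)),
      hpre]
  have hvalT : ∀ g : G, indFun E ψ g = (Nat.card (T g) : ℂ) := by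
    intro g
    rw [hval, hST, Nat.cast_mul, mul_div_assoc]
    have h2 : (Nat.card PG : ℂ) ≠ 0 := natCard_ne_zero_complex
    field_simp
  refine ⟨fun g => (Nat.card (T g) : ℤ), ?_, ?_⟩
  · convert hmem using 1
    funext g
    rw [hvalT]
    simp
  · -- count modulo `p` by fixed points of `⟨a⟩` on cosets of the Sylow subgroup in `L`
    have hfix : Nat.card (T x) =
        Nat.card (MulAction.fixedPoints (Subgroup.zpowers aL) (L ⧸ (P : Subgroup L))) := by
      have hmemS : ∀ t : G, t ∈ S x → t ∈ L ∧ t⁻¹ * a * t ∈ PG := by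
        intro t ht
        set k := c⁻¹ * (t⁻¹ * x * t) with hkdef
        have hkP : k ∈ PG := ht
        obtain ⟨j, hj⟩ := hPGp ⟨k, hkP⟩
        have he : (t⁻¹ * a * t) * (t⁻¹ * c * t) = k * c := by
          rw [← (hPGc k hkP).eq, hkdef, mul_inv_cancel_left, hx]; group
        have hconj : ∀ (y : G) (i : ℕ), (t⁻¹ * y * t) ^ i = t⁻¹ * y ^ i * t := fun y i => by
          induction i with
          | zero => simp
          | succ i ih => rw [pow_succ, ih, pow_succ]; group
        have hcomm' : Commute (t⁻¹ * a * t) (t⁻¹ * c * t) := by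
          show _ = _
          calc t⁻¹ * a * t * (t⁻¹ * c * t) = t⁻¹ * (a * c) * t := by group
            _ = t⁻¹ * (c * a) * t := by rw [hac.eq]
            _ = _ := by group
        have hord : orderOf (t⁻¹ * c * t) = orderOf c := by
          have := (MulAut.conj t⁻¹).orderOf_eq c
          simpa using this
        have h1 : t⁻¹ * c * t = c := by
          refine pPart_decomp_unique (k := ka) (k' := j) hcomm' (hPGc k hkP).symm ?_
            (congrArg Subtype.val hj) (by rwa [hord]) hc he
          rw [hconj, ← hka, pow_orderOf_eq_one]; group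
        rw [h1] at he
        refine ⟨Subgroup.mem_centralizer_singleton_iff.mpr ?_, (mul_right_cancel he) ▸ hkP⟩
        calc t * c = t * (t⁻¹ * c * t) := by rw [h1]
          _ = c * t := by group
      have hmemS' : ∀ t : L, ((t : G)⁻¹ * a * t ∈ PG) ↔ (t : G) ∈ S x := by
        intro t
        have ht : (t : G) * c = c * t := Subgroup.mem_centralizer_singleton_iff.mp t.2
        have : c⁻¹ * ((t : G)⁻¹ * x * t) = (t : G)⁻¹ * a * t := by
          rw [hx]
          calc c⁻¹ * ((t : G)⁻¹ * (a * c) * t) = c⁻¹ * ((t : G)⁻¹ * (c * a) * t) := by rw [hac.eq]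
            _ = c⁻¹ * ((t : G)⁻¹ * c * t) * ((t : G)⁻¹ * a * t) := by group
            _ = c⁻¹ * ((t : G)⁻¹ * (t * c)) * ((t : G)⁻¹ * a * t) := by rw [ht]; group
            _ = (t : G)⁻¹ * a * t := by group
        show _ ↔ c⁻¹ * ((t : G)⁻¹ * x * t) ∈ PG
        rw [this]
      have hfixiff : ∀ t : L, (QuotientGroup.mk t : L ⧸ (P : Subgroup L)) ∈
          MulAction.fixedPoints (Subgroup.zpowers aL) (L ⧸ (P : Subgroup L)) ↔
          (t : G) ∈ S x := by
        intro t
        rw [← hmemS']
        have hPG : ∀ l : L, (l : G) ∈ PG ↔ l ∈ (P : Subgroup L) :=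
          fun l => Subgroup.mem_map_iff_mem L.subtype_injective
        have hmk : (t : G)⁻¹ * a * t = ((t⁻¹ * aL * t : L) : G) := rfl
        rw [hmk, hPG, MulAction.mem_fixedPoints]
        constructor
        · intro h
          have := h ⟨aL, Subgroup.mem_zpowers _⟩
          change (QuotientGroup.mk (aL * t) : L ⧸ (P : Subgroup L)) = QuotientGroup.mk t at this
          rw [QuotientGroup.eq] at this
          have h2 := (P : Subgroup L).inv_mem this
          simpa [mul_assoc] using h2
        · rintro h ⟨y, hy⟩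
          obtain ⟨i, rfl⟩ := Subgroup.mem_zpowers_iff.mp hy
          show (QuotientGroup.mk (aL ^ i * t) : L ⧸ (P : Subgroup L)) = QuotientGroup.mk t
          rw [eq_comm, QuotientGroup.eq]
          have hz := (P : Subgroup L).zpow_mem h i
          have hconj : (t⁻¹ * aL * t) ^ i = t⁻¹ * aL ^ i * t := by
            simpa using (map_zpow (MulAut.conj t⁻¹) aL i).symm
          rw [hconj] at hz
          simpa [mul_assoc] using hz
      let fmap : MulAction.fixedPoints (Subgroup.zpowers aL) (L ⧸ (P : Subgroup L)) → T x :=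
        fun q => ⟨Quotient.map' (fun t : L => (t : G)) (fun s t hst => by
            rw [QuotientGroup.leftRel_apply] at hst ⊢
            exact ⟨_, hst, rfl⟩) q.1, by
          obtain ⟨q, hq⟩ := q
          obtain ⟨t, rfl⟩ := QuotientGroup.mk_surjective q
          exact ⟨t, (hfixiff t).mp hq, rfl⟩⟩
      refine (Nat.card_eq_of_bijective fmap ⟨?_, ?_⟩).symm
      · rintro ⟨q, hq⟩ ⟨r, hr⟩ h
        obtain ⟨t, rfl⟩ := QuotientGroup.mk_surjective q
        obtain ⟨s, rfl⟩ := QuotientGroup.mk_surjective r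
        have h' : ((t : G) : G ⧸ PG) = ((s : G) : G ⧸ PG) := congrArg Subtype.val h
        rw [QuotientGroup.eq] at h'
        refine Subtype.ext (QuotientGroup.eq.mpr ?_)
        exact (Subgroup.mem_map_iff_mem L.subtype_injective).mp h'
      · rintro ⟨q, t, ht, rfl⟩
        exact ⟨⟨_, (hfixiff ⟨t, (hmemS t ht).1⟩).mpr ht⟩, rfl⟩
    have hmod := (P.2.to_le hP).card_modEq_card_fixedPoints (L ⧸ (P : Subgroup L))
    intro hdvd
    simp only [hfix, Int.natCast_dvd_natCast] at hdvd
    refine P.not_dvd_index ?_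
    rw [Subgroup.index_eq_card]
    exact (Nat.ModEq.dvd_iff hmod dvd_rfl).mpr hdvd

theorem exists_intFun_forall_not_dvd {p : ℕ} (hp : p.Prime) :
    ∃ F : G → ℤ, (fun g => (F g : ℂ)) ∈ brauerSpan G p ∧ ∀ x, ¬ (p : ℤ) ∣ F x := by
  classical
  haveI : Fact p.Prime := ⟨hp⟩
  suffices H : ∀ s : Finset G, ∃ F : G → ℤ, (fun g => (F g : ℂ)) ∈ brauerSpan G p ∧
      ∀ x ∈ s, ¬ (p : ℤ) ∣ F x by
    obtain ⟨F, h1, h2⟩ := H Finset.univ
    exact ⟨F, h1, fun x => h2 x (Finset.mem_univ x)⟩
  have hpow : ∀ f : G → ℂ, f ∈ brauerSpan G p → ∀ k : ℕ, f ^ (k + 1) ∈ brauerSpan G p := by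
    intro f hf k
    induction k with
    | zero => rwa [zero_add, pow_one]
    | succ k ih => rw [pow_succ]; exact brauerSpan_mul ih hf
  intro s
  induction s using Finset.induction with
  | empty => exact ⟨0, by convert (brauerSpan G p).zero_mem using 1; funext g; simp, fun x hx => absurd hx (Finset.notMem_empty x)⟩
  | insert x s hxs ih =>
    obtain ⟨F, hF, hFs⟩ := ih
    obtain ⟨f, hf, hfx⟩ := exists_intFun_not_dvd hp x
    obtain ⟨k, hk⟩ : ∃ k, p - 1 = k + 1 := ⟨p - 2, by have := hp.two_le; omega⟩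
    refine ⟨fun g => F g ^ (p - 1) + f g ^ (p - 1) - F g ^ (p - 1) * f g ^ (p - 1), ?_, ?_⟩
    · have hA := hpow _ hF k
      have hB := hpow _ hf k
      have := sub_mem (add_mem hA hB) (brauerSpan_mul hA hB)
      convert this using 1
      funext g
      simp [hk]
    · intro y hy hdvd
      rw [← ZMod.intCast_zmod_eq_zero_iff_dvd] at hdvd
      push_cast at hdvd
      have hor : (F y : ZMod p) ≠ 0 ∨ (f y : ZMod p) ≠ 0 := by
        rcases Finset.mem_insert.mp hy with rfl | hy
        · exact Or.inr fun h => hfx ((ZMod.intCast_zmod_eq_zero_iff_dvd _ _).mp h)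
        · exact Or.inl fun h => hFs y hy ((ZMod.intCast_zmod_eq_zero_iff_dvd _ _).mp h)
      rcases hor with h | h <;> rw [ZMod.pow_card_sub_one_eq_one h] at hdvd <;>
        simp at hdvd

/-- The local form: `m • 1` is in the span whenever `|G| = p ^ e * m` with `p` not dividing `m`. -/
theorem natCast_mem_brauerSpan {p : ℕ} (hp : p.Prime) {e m : ℕ} (hN : Nat.card G = p ^ e * m) :
    (fun _ => (m : ℂ)) ∈ brauerSpan G p := by
  classical
  haveI : Fact p.Prime := ⟨hp⟩
  obtain ⟨F, hF, hFp⟩ := exists_intFun_forall_not_dvd (G := G) hp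
  set N := (p - 1) * p ^ e with hNdef
  have hN1 : 1 ≤ N := Nat.one_le_iff_ne_zero.mpr
    (mul_ne_zero (by have := hp.two_le; omega) (pow_ne_zero _ hp.ne_zero))
  have hFN : (fun g => (F g : ℂ)) ^ N ∈ brauerSpan G p := by
    have : ∀ k : ℕ, (fun g => (F g : ℂ)) ^ (k + 1) ∈ brauerSpan G p := by
      intro k
      induction k with
      | zero => rwa [zero_add, pow_one]
      | succ k ih => rw [pow_succ]; exact brauerSpan_mul ih hF
    obtain ⟨k, hk⟩ := Nat.exists_eq_add_of_le hN1
    rw [hk, add_comm]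
    exact this k
  have hdiv : ∀ g, ∃ d : ℤ, F g ^ N - 1 = (p : ℤ) ^ e * d := by
    intro g
    have h1 : (p : ℤ) ∣ F g ^ (p - 1) - 1 := by
      rw [← ZMod.intCast_zmod_eq_zero_iff_dvd]
      push_cast
      rw [ZMod.pow_card_sub_one_eq_one
        (fun h => hFp g ((ZMod.intCast_zmod_eq_zero_iff_dvd _ _).mp h)), sub_self]
    have h2 := dvd_sub_pow_of_dvd_sub h1 e
    rw [one_pow, ← pow_mul] at h2
    obtain ⟨d, hd⟩ := (pow_dvd_pow (p : ℤ) (Nat.le_succ e)).trans h2
    exact ⟨d, hd⟩
  choose D hD using hdiv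
  have hpc : ((p : ℂ) ^ e) ≠ 0 := pow_ne_zero _ (by exact_mod_cast hp.ne_zero)
  have hDval : ∀ g, (D g : ℂ) = ((F g : ℂ) ^ N - 1) / (p : ℂ) ^ e := fun g => by
    have := congrArg (Int.cast : ℤ → ℂ) (hD g)
    push_cast at this
    rw [this]
    field_simp
  have hDcl : IsClassFunction G fun g => (D g : ℂ) := fun g h => by
    have := brauerSpan_isClassFunction hFN g h
    simp only [Pi.pow_apply] at this
    simp only [hDval, this]
  have h3 : (fun g => (m : ℂ) * ((F g : ℂ) ^ N)) ∈ brauerSpan G p :=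
    Submodule.smul_mem (brauerSpan G p) (⟨(m : ℂ), isIntegral_algebraMap (x := (m : ℤ))⟩ : AInt) hFN
  have h4 := card_mul_intClassFun_mem hp D hDcl
  have := sub_mem h3 h4
  convert this using 1
  funext g
  have hc : (Nat.card G : ℂ) = (p : ℂ) ^ e * (m : ℂ) := by exact_mod_cast hN
  simp only [Pi.sub_apply, hDval, hc]
  field_simp
  ring

end Cfsg.Agent.Lib.Characters
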