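import Cfsg.Agent.Lib.Characters.Ortho

/-!
# A representation is determined by its character
-/

namespace Cfsg.Agent.Lib.Characters

open Module

set_option linter.unusedSectionVars false
set_option linter.unusedSimpArgs false
set_option linter.style.haveILetI false

universe u v w

variable {G : Type u} [Group G]

/-- If the character of `σ` exceeds that of `ρ` by a character, `ρ` embeds in `σ`. -/
theorem exists_injective_intertwining [Fintype G] {V : Type v} [AddCommGroup V] [Module ℂ V]
    [FiniteDimensional ℂ V] (ρ : Representation ℂ G V) :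
    ∀ (W : Type w) [AddCommGroup W] [Module ℂ W] [FiniteDimensional ℂ W]
      (σ : Representation ℂ G W), IsCharacter G (σ.character - ρ.character) →
      ∃ f : ρ.IntertwiningMap σ, Function.Injective f := by
  refine rep_induction (motive := fun V _ _ _ ρ =>
    ∀ (W : Type w) [AddCommGroup W] [Module ℂ W] [FiniteDimensional ℂ W]
      (σ : Representation ℂ G W), IsCharacter G (σ.character - ρ.character) →
      ∃ f : ρ.IntertwiningMap σ, Function.Injective f) ?_ ?_ ?_ ρ
  · intro V _ _ _ ρ hV W _ _ _ σ _
    exact ⟨0, fun a b _ => Subsingleton.elim a b⟩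
  · intro V _ _ _ ρ hρ W _ _ _ σ hσ
    haveI := hρ
    obtain ⟨k, hk⟩ := IsCharacter.exists_classInner_nat hσ (isCharacter_of_rep ρ)
    have h1 := classInner_char_eq_finrank ρ σ
    rw [← sub_add_cancel σ.character ρ.character, classInner_add_left, hk,
      IsIrrCharacter.classInner_self (isIrrCharacter_of_rep ρ)] at h1
    have h2 : k + 1 = finrank ℂ (ρ.IntertwiningMap σ) := by exact_mod_cast h1
    haveI : Nontrivial (ρ.IntertwiningMap σ) :=
      Module.nontrivial_of_finrank_pos (R := ℂ) (by omega)
    obtain ⟨f, hf⟩ := exists_ne (0 : ρ.IntertwiningMap σ)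
    exact ⟨f, (Representation.IsIrreducible.injective_or_eq_zero f).resolve_right hf⟩
  · intro V _ _ _ ρ S T hST hS hT W _ _ _ σ hσ
    have hadd := char_eq_add_of_isCompl ρ S T hST
    obtain ⟨f₁, hf₁⟩ := hS W σ (by
      have := IsCharacter.add hσ (isCharacter_of_rep T.toRepresentation)
      convert this using 1
      rw [hadd]; abel)
    obtain ⟨U, hU⟩ := exists_isCompl_toSubmodule σ f₁.range
    have hσadd := char_eq_add_of_isCompl σ f₁.range U hU
    have e : S.toRepresentation.Equiv f₁.range.toRepresentation :=
      Representation.Equiv.mk (LinearEquiv.ofInjective f₁.toLinearMap hf₁) fun g => by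
        ext x
        exact Representation.IntertwiningMap.isIntertwining _ _ f₁ g x
    obtain ⟨f₂, hf₂⟩ := hT U.toSubmodule U.toRepresentation (by
      convert hσ using 1
      rw [hσadd, hadd, Representation.char_iso e]; abel)
    let φ := prodEquivRep ρ S T hST
    let g₁ : (S.toRepresentation.prod T.toRepresentation).IntertwiningMap σ :=
      ⟨f₁.toLinearMap.coprod (U.toSubmodule.subtype ∘ₗ f₂.toLinearMap), fun g => by
        apply LinearMap.ext
        rintro ⟨x, y⟩
        simp only [LinearMap.coe_comp, Function.comp_apply, LinearMap.coprod_apply, map_add,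
          Submodule.coe_subtype, Representation.IntertwiningMap.coe_toLinearMap]
        show f₁ (S.toRepresentation g x) + ((f₂ (T.toRepresentation g y) : U.toSubmodule) : W) = _
        rw [Representation.IntertwiningMap.isIntertwining, Representation.IntertwiningMap.isIntertwining]
        rfl⟩
    refine ⟨g₁.comp φ.symm.toIntertwiningMap, ?_⟩
    have hg : Function.Injective g₁ := by
      rw [injective_iff_map_eq_zero]
      rintro ⟨x, y⟩ h
      have h' : f₁ x + ((f₂ y : U.toSubmodule) : W) = 0 := h
      have hx : f₁ x ∈ f₁.range.toSubmodule := ⟨x, rfl⟩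
      have hy : f₁ x ∈ U.toSubmodule := by
        rw [eq_neg_of_add_eq_zero_left h']; exact U.toSubmodule.neg_mem (f₂ y).2
      have hx0 : f₁ x = 0 := by
        simpa using hU.disjoint.le_bot (Submodule.mem_inf.mpr ⟨hx, hy⟩)
      rw [hx0, zero_add] at h'
      have hy0 : f₂ y = 0 := Subtype.ext h'
      exact Prod.ext (hf₁ (hx0.trans (map_zero f₁).symm)) (hf₂ (hy0.trans (map_zero f₂).symm))
    exact hg.comp φ.symm.toLinearEquiv.injective

/-- Representations with equal characters are equivalent. -/
theorem nonempty_equiv_of_character_eq [Finite G] {V : Type v} [AddCommGroup V] [Module ℂ V]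
    [FiniteDimensional ℂ V] {W : Type w} [AddCommGroup W] [Module ℂ W] [FiniteDimensional ℂ W]
    (ρ : Representation ℂ G V) (σ : Representation ℂ G W) (h : ρ.character = σ.character) :
    Nonempty (ρ.Equiv σ) := by
  haveI := Fintype.ofFinite G
  obtain ⟨f, hf⟩ := exists_injective_intertwining ρ W σ (by
    rw [h, sub_self]; exact isCharacter_zero)
  have hdim : finrank ℂ V = finrank ℂ W := by
    have h1 := congrFun h 1
    rw [ρ.char_one, σ.char_one] at h1
    exact_mod_cast h1
  exact ⟨f.ofBijective ⟨hf, (LinearMap.injective_iff_surjective_of_finrank_eq_finrank hdim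
    (f := f.toLinearMap)).mp hf⟩⟩

end Cfsg.Agent.Lib.Characters
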