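import Cfsg.Agent.Lib.Characters.Equiv
import Cfsg.Agent.Lib.Characters.Basic
import Mathlib.GroupTheory.Transfer
import Mathlib.RingTheory.RootsOfUnity.Basic

/-!
# Extension of invariant representations of normal subgroups

For an irreducible representation `ρ` of a normal subgroup `N` of `G`, `intertwiners N ρ` is the
group of pairs `(g, T)` with `T ρ(n) = ρ(g n g⁻¹) T`. A subgroup `S` of it mapping onto `G` with a
homomorphism to `ℂˣ` that is trivial on `N` and the identity on scalars gives an extension of `ρ`;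
such homomorphisms are built by transfer from subgroups to which `ρ` extends.
-/

namespace Cfsg.Agent.Lib.Characters

open Module

set_option linter.unusedSectionVars false
set_option linter.unusedSimpArgs false
set_option linter.unusedVariables false
set_option linter.style.haveILetI false

universe u v

variable {G : Type u} [Group G] (N : Subgroup G) [hN : N.Normal]
variable {V : Type v} [AddCommGroup V] [Module ℂ V]

/-- The group of pairs `(g, T)` with `T` intertwining `ρ` and its conjugate by `g`. -/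
def intertwiners (ρ : Representation ℂ N V) : Subgroup (G × (End ℂ V)ˣ) where
  carrier := {m | ∀ n : N, (m.2 : End ℂ V) * ρ n = ρ (MulAut.conjNormal m.1 n) * m.2}
  one_mem' := fun n => by simp
  mul_mem' := by
    intro a b ha hb n
    simp only [Prod.snd_mul, Units.val_mul, Prod.fst_mul, map_mul, MulAut.mul_apply]
    rw [mul_assoc, hb n, ← mul_assoc, ha, mul_assoc]
  inv_mem' := by
    intro a ha n
    simp only [Prod.snd_inv, Prod.fst_inv, map_inv]
    rw [Units.inv_mul_eq_iff_eq_mul, ← mul_assoc, Units.eq_mul_inv_iff_mul_eq]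
    conv_lhs => rw [← MulEquiv.apply_symm_apply (MulAut.conjNormal a.1) n]
    exact (ha _).symm

variable {N} {ρ : Representation ℂ N V}

theorem mem_intertwiners {m : G × (End ℂ V)ˣ} : m ∈ intertwiners N ρ ↔
    ∀ n : N, (m.2 : End ℂ V) * ρ n = ρ (MulAut.conjNormal m.1 n) * m.2 := Iff.rfl

variable (N ρ)

/-- The copy of `N` among the intertwiners. -/
def nLift : N →* intertwiners N ρ :=
  (N.subtype.prod ρ.toHomUnits).codRestrict _ fun n => mem_intertwiners.mpr fun n' => by
    show ρ n * ρ n' = ρ (MulAut.conjNormal (n : G) n') * ρ n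
    rw [← map_mul, ← map_mul]
    congr 1
    ext
    simp [mul_assoc]

/-- The scalars among the intertwiners. -/
noncomputable def scalarLift : ℂˣ →* intertwiners N ρ :=
  ((MonoidHom.inr G (End ℂ V)ˣ).comp
    (Units.map (algebraMap ℂ (End ℂ V)).toMonoidHom)).codRestrict _ fun c =>
      mem_intertwiners.mpr fun n => by
    show algebraMap ℂ (End ℂ V) c * ρ n = ρ (MulAut.conjNormal (1 : G) n) * algebraMap ℂ _ c
    rw [map_one, MulAut.one_apply, Algebra.commutes]

/-- The projection to `G`. -/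
def projLift : intertwiners N ρ →* G :=
  (MonoidHom.fst G (End ℂ V)ˣ).comp (intertwiners N ρ).subtype

@[simp] theorem projLift_nLift (n : N) : projLift N ρ (nLift N ρ n) = n := rfl

@[simp] theorem projLift_scalarLift (c : ℂˣ) : projLift N ρ (scalarLift N ρ c) = 1 := rfl

theorem nLift_coe_snd (n : N) : ((nLift N ρ n).1.2 : End ℂ V) = ρ n := rfl

theorem scalarLift_coe_snd (c : ℂˣ) :
    ((scalarLift N ρ c).1.2 : End ℂ V) = algebraMap ℂ (End ℂ V) c := rfl

theorem intertwiners_ext {m m' : intertwiners N ρ} (h1 : projLift N ρ m = projLift N ρ m')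
    (h2 : (m.1.2 : End ℂ V) = m'.1.2) : m = m' :=
  Subtype.ext (Prod.ext h1 (Units.ext h2))

theorem scalarLift_injective [Nontrivial V] : Function.Injective (scalarLift N ρ) := fun a b h =>
  Units.ext ((algebraMap ℂ (End ℂ V)).injective
    (congrArg (fun m : intertwiners N ρ => (m.1.2 : End ℂ V)) h))

theorem scalarLift_comm (c : ℂˣ) (m : intertwiners N ρ) :
    m * scalarLift N ρ c = scalarLift N ρ c * m :=
  intertwiners_ext N ρ (by simp) (Algebra.commutes (c : ℂ) (m.1.2 : End ℂ V)).symm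

theorem conj_nLift (m : intertwiners N ρ) (n : N) :
    m * nLift N ρ n * m⁻¹ = nLift N ρ (MulAut.conjNormal (projLift N ρ m) n) := by
  rw [mul_inv_eq_iff_eq_mul]
  exact intertwiners_ext N ρ (by simp [mul_assoc]) (m.2 n)

variable [FiniteDimensional ℂ V] [ρ.IsIrreducible]

theorem exists_scalar_of_proj_eq_one {m : intertwiners N ρ} (hm : projLift N ρ m = 1) :
    ∃ c : ℂˣ, scalarLift N ρ c = m := by
  haveI := nontrivial_of_isIrreducible ρ
  obtain ⟨c, hc⟩ := exists_smul_of_commute ρ (m.1.2 : End ℂ V) fun n => by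
    have h := m.2 n
    rwa [show (m : G × (End ℂ V)ˣ).1 = 1 from hm, map_one, MulAut.one_apply] at h
  have hc0 : c ≠ 0 := by
    rintro rfl
    rw [zero_smul] at hc
    exact not_isUnit_zero (hc ▸ (m.1.2).isUnit)
  refine ⟨Units.mk0 c hc0, intertwiners_ext N ρ (by simp [hm]) ?_⟩
  rw [scalarLift_coe_snd, hc, Units.val_mk0, Algebra.algebraMap_eq_smul_one]
  rfl

/-- Invariance of the character makes the projection surjective. -/
theorem projLift_surjective [Finite N]
    (hinv : ∀ (g : G) (n : N), ρ.character (MulAut.conjNormal g n) = ρ.character n) :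
    Function.Surjective (projLift N ρ) := by
  intro g
  let ρ' : Representation ℂ N V := ρ.comp (MulAut.conjNormal g).toMonoidHom
  obtain ⟨e⟩ := nonempty_equiv_of_character_eq ρ ρ' (funext fun n => (hinv g n).symm)
  let u : (End ℂ V)ˣ := (LinearMap.GeneralLinearGroup.generalLinearEquiv ℂ V).symm e.toLinearEquiv
  exact ⟨⟨(g, u), mem_intertwiners.mpr fun n => e.isIntertwining' n⟩, rfl⟩

section Split

variable (S : Subgroup (intertwiners N ρ))

/-- A homomorphism on `S`, trivial on `N` and the identity on scalars, gives an extension. -/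
theorem exists_extension_of_retraction (hsurj : ∀ g : G, ∃ m ∈ S, projLift N ρ m = g)
    (hNS : ∀ n, nLift N ρ n ∈ S) (τ : S →* ℂˣ) (hτN : ∀ n, τ ⟨nLift N ρ n, hNS n⟩ = 1)
    (hτs : ∀ (c : ℂˣ) (h : scalarLift N ρ c ∈ S), τ ⟨scalarLift N ρ c, h⟩ = c) :
    ∃ σ : Representation ℂ G V, σ.IsIrreducible ∧ ∀ n : N, σ n = ρ n := by
  let p : S →* G := (projLift N ρ).comp S.subtype
  have hp : Function.Surjective p := fun g => let ⟨m, hm, h⟩ := hsurj g; ⟨⟨m, hm⟩, h⟩
  let f : S →* End ℂ V :=
    { toFun := fun m => ((τ m)⁻¹ : ℂˣ).1 • (m.1.1.2 : End ℂ V)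
      map_one' := by simp
      map_mul' := fun a b => by
        simp only [map_mul, mul_inv, Units.val_mul, Subgroup.coe_mul, Prod.snd_mul,
          smul_mul_smul_comm] }
  have hker : ∀ a b : S, p a = p b → f a = f b := by
    intro a b h
    obtain ⟨c, hc⟩ := exists_scalar_of_proj_eq_one N ρ
      (m := (b : intertwiners N ρ)⁻¹ * a) (by rw [map_mul, map_inv, inv_mul_eq_one]; exact h.symm)
    have hcS : scalarLift N ρ c ∈ S := hc ▸ S.mul_mem (S.inv_mem b.2) a.2
    have hab : a = b * ⟨_, hcS⟩ := Subtype.ext (by simp [hc])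
    have hfc : f ⟨_, hcS⟩ = 1 := by
      show ((τ ⟨_, hcS⟩)⁻¹ : ℂˣ).1 • algebraMap ℂ (End ℂ V) c = 1
      rw [hτs c hcS, Algebra.algebraMap_eq_smul_one, smul_smul, Units.inv_mul, one_smul]
    rw [hab, map_mul, hfc, mul_one]
  choose sec hsec using hp
  let σ : Representation ℂ G V :=
    { toFun := fun g => f (sec g)
      map_one' := by rw [hker (sec 1) 1 (by rw [hsec, map_one]), map_one]
      map_mul' := fun a b => by
        rw [hker (sec (a * b)) (sec a * sec b) (by rw [map_mul, hsec, hsec, hsec]), map_mul] }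
  have hσN : ∀ n : N, σ n = ρ n := by
    intro n
    show f (sec n) = ρ n
    rw [hker (sec n) ⟨_, hNS n⟩ (by rw [hsec]; rfl)]
    show ((τ ⟨_, hNS n⟩)⁻¹ : ℂˣ).1 • ρ n = ρ n
    rw [hτN, inv_one, Units.val_one, one_smul]
  refine ⟨σ, ?_, hσN⟩
  have hi := (isIrreducible_iff_forall ρ).mp inferInstance
  exact (isIrreducible_iff_forall σ).mpr
    ⟨hi.1, fun W hW => hi.2 W fun n x hx => by rw [← hσN n]; exact hW n x hx⟩

/-- The exponents of the homomorphisms `S → ℂˣ` trivial on `N`. -/
def scalarExponents (hNS : ∀ n, nLift N ρ n ∈ S) : AddSubgroup ℤ where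
  carrier := {r | ∃ τ : S →* ℂˣ, (∀ n, τ ⟨nLift N ρ n, hNS n⟩ = 1) ∧
    ∀ (c : ℂˣ) (h : scalarLift N ρ c ∈ S), τ ⟨scalarLift N ρ c, h⟩ = c ^ r}
  zero_mem' := ⟨1, fun n => rfl, fun c h => by simp⟩
  add_mem' := by
    rintro a b ⟨τ, h1, h2⟩ ⟨τ', h1', h2'⟩
    exact ⟨τ * τ', fun n => by simp [h1, h1'], fun c h => by simp [h2, h2', zpow_add]⟩
  neg_mem' := by
    rintro a ⟨τ, h1, h2⟩
    exact ⟨τ⁻¹, fun n => by simp [h1], fun c h => by simp [h2]⟩

/-- Transfer from a subgroup to which the representation extends. -/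
theorem index_mem_scalarExponents [Finite G] (hNS : ∀ n, nLift N ρ n ∈ S)
    (hsurj : ∀ g : G, ∃ m ∈ S, projLift N ρ m = g) (P : Subgroup G) (hNP : N ≤ P)
    (σ : Representation ℂ P V) (hσ : ∀ n : N, σ ⟨n, hNP n.2⟩ = ρ n) :
    (P.index : ℤ) ∈ scalarExponents N ρ S hNS := by
  classical
  haveI := nontrivial_of_isIrreducible ρ
  let p : S →* G := (projLift N ρ).comp S.subtype
  have hp : Function.Surjective p := fun g => let ⟨m, hm, h⟩ := hsurj g; ⟨⟨m, hm⟩, h⟩
  let H : Subgroup S := P.comap p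
  have hidx : H.index = P.index := P.index_comap_of_surjective hp
  haveI : H.FiniteIndex := ⟨by rw [hidx]; exact Subgroup.index_ne_zero_of_finite⟩
  -- the comparison with `σ`
  let s : P →* intertwiners N ρ := (P.subtype.prod σ.toHomUnits).codRestrict _ fun x =>
    mem_intertwiners.mpr fun n => by
      show σ x * ρ n = ρ (MulAut.conjNormal (x : G) n) * σ x
      rw [← hσ, ← hσ, ← map_mul, ← map_mul]
      congr 1
      ext
      simp [mul_assoc]
  let q : H →* P := (p.comp H.subtype).codRestrict P fun h => h.2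
  have hq : ∀ h : H, ∃ c : ℂˣ, scalarLift N ρ c = h.1.1 * (s (q h))⁻¹ := fun h =>
    exists_scalar_of_proj_eq_one N ρ (by rw [map_mul, map_inv, mul_inv_eq_one]; rfl)
  choose φf hφf using hq
  let φ : H →* ℂˣ :=
    { toFun := φf
      map_one' := scalarLift_injective N ρ (by rw [hφf]; simp)
      map_mul' := fun a b => scalarLift_injective N ρ (by
        rw [map_mul, hφf, hφf, map_mul, map_mul, mul_inv_rev]
        simp only [Subgroup.coe_mul, mul_assoc]
        congr 1
        have hb := scalarLift_comm N ρ (φf b) (s (q a))⁻¹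
        rw [hφf] at hb
        simp only [mul_assoc] at hb
        rw [hφf]
        exact hb.symm) }
  have hφN : ∀ (h : H), (∃ n, h.1.1 = nLift N ρ n) → φ h = 1 := by
    rintro h ⟨n, hn⟩
    refine scalarLift_injective N ρ ?_
    show scalarLift N ρ (φf h) = scalarLift N ρ 1
    rw [hφf, map_one, mul_inv_eq_one, hn]
    refine intertwiners_ext N ρ (congrArg _ hn).symm ?_
    show ρ n = σ (q h)
    rw [← hσ]
    congr 1
    exact Subtype.ext (congrArg (projLift N ρ) hn).symm
  refine ⟨φ.transfer, fun n => ?_, fun c hc => ?_⟩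
  · haveI := Fintype.ofFinite
      (Quotient (MulAction.orbitRel (Subgroup.zpowers (⟨nLift N ρ n, hNS n⟩ : S)) (S ⧸ H)))
    rw [MonoidHom.transfer_eq_prod_quotient_orbitRel_zpowers_quot]
    refine Finset.prod_eq_one fun x _ => hφN _ ?_
    simp only [Subgroup.coe_mul, SubgroupClass.coe_pow, Subgroup.coe_inv]
    rw [← map_pow]
    conv in (_ : intertwiners N ρ) * _ * _ => rw [← inv_inv (x.out.out : S).1]
    rw [inv_inv (x.out.out : S).1⁻¹, conj_nLift]
    exact ⟨_, rfl⟩
  · have key : ∀ (k : ℕ) (g₀ : S), g₀⁻¹ * (⟨_, hc⟩ : S) ^ k * g₀ = (⟨_, hc⟩ : S) ^ k := by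
      intro k g₀
      rw [mul_assoc, inv_mul_eq_iff_eq_mul]
      apply Subtype.ext
      simp only [Subgroup.coe_mul, SubgroupClass.coe_pow]
      rw [← map_pow, scalarLift_comm]
    rw [MonoidHom.transfer_eq_pow φ _ fun k g₀ _ => key k g₀]
    refine scalarLift_injective N ρ ?_
    show scalarLift N ρ (φf _) = _
    rw [hφf, ← hidx, zpow_natCast, map_pow]
    have h1 : q ⟨(⟨_, hc⟩ : S) ^ H.index,
        MonoidHom.transfer_eq_pow_aux (⟨_, hc⟩ : S) fun k g₀ _ => key k g₀⟩ = 1 :=
      Subtype.ext (by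
        show p ((⟨_, hc⟩ : S) ^ H.index) = 1
        rw [map_pow]; exact one_pow _)
    rw [h1, map_one, inv_one, mul_one]
    rfl

theorem exists_extension_of_one_mem (hNS : ∀ n, nLift N ρ n ∈ S)
    (hsurj : ∀ g : G, ∃ m ∈ S, projLift N ρ m = g) (h : (1 : ℤ) ∈ scalarExponents N ρ S hNS) :
    ∃ σ : Representation ℂ G V, σ.IsIrreducible ∧ ∀ n : N, σ n = ρ n := by
  obtain ⟨τ, h1, h2⟩ := h
  exact exists_extension_of_retraction N ρ S hsurj hNS τ h1 fun c hc => by simpa using h2 c hc

end Split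

theorem one_mem_of_forall_prime (I : AddSubgroup ℤ)
    (h : ∀ p : ℕ, p.Prime → ∃ r ∈ I, ¬ (p : ℤ) ∣ r) : (1 : ℤ) ∈ I := by
  obtain ⟨g, hg⟩ := Int.subgroup_cyclic I
  subst hg
  by_cases h1 : g.natAbs = 1
  · rw [AddSubgroup.mem_closure_singleton]
    rcases Int.natAbs_eq g with h | h <;> rw [h1] at h <;> subst h
    · exact ⟨1, by simp⟩
    · exact ⟨-1, by simp⟩
  · obtain ⟨p, hp, hpg⟩ := Nat.exists_prime_and_dvd h1
    obtain ⟨r, hr, hnr⟩ := h p hp
    obtain ⟨k, rfl⟩ := AddSubgroup.mem_closure_singleton.mp hr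
    exact absurd (by simpa using (Int.natCast_dvd.mpr hpg).mul_left k) hnr

end Cfsg.Agent.Lib.Characters
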