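import Cfsg.Agent.Lib.Characters.ExtensionChar

/-!
# Cyclic quotients and coprime extensions
-/

namespace Cfsg.Agent.Lib.Characters

open Module

set_option linter.unusedSectionVars false
set_option linter.unusedSimpArgs false
set_option linter.unusedVariables false
set_option linter.style.haveILetI false

universe u v

variable {G : Type u} [Group G] {N : Subgroup G} [hN : N.Normal]

/-- An invariant character extends over a cyclic quotient. -/
theorem exists_irr_extension_of_cyclic [Finite G] (hcyc : IsCyclic (G ⧸ N)) {θ : N → ℂ}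
    (hθ : IsIrrCharacter N θ)
    (hinv : ∀ (g : G) (n : N), θ ⟨g * n * g⁻¹, hN.conj_mem (n : G) n.2 g⟩ = θ n) :
    ∃ χ : G → ℂ, IsIrrCharacter G χ ∧ ∀ n : N, χ n = θ n := by
  obtain ⟨d, ρ, hρ, rfl⟩ := hθ
  haveI := nontrivial_of_isIrreducible ρ
  obtain ⟨q, hq⟩ := hcyc.exists_generator
  obtain ⟨g, rfl⟩ := QuotientGroup.mk_surjective q
  set k := orderOf (g : G ⧸ N) with hk
  have hkpos : 0 < k := orderOf_pos _
  have hgk : g ^ k ∈ N := (QuotientGroup.eq_one_iff _).mp (by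
    rw [QuotientGroup.mk_pow]; exact pow_orderOf_eq_one _)
  obtain ⟨m₀, hm₀⟩ := projLift_surjective N ρ (conjNormal_invariant hinv) g
  obtain ⟨c, hc⟩ := exists_scalar_of_proj_eq_one N ρ
    (m := m₀ ^ k * (nLift N ρ ⟨g ^ k, hgk⟩)⁻¹)
    (by rw [map_mul, map_inv, map_pow, hm₀, projLift_nLift, mul_inv_cancel])
  obtain ⟨b, hb⟩ := exists_pow_eq_units hkpos c⁻¹
  set m := scalarLift N ρ b * m₀ with hm
  have hpm : projLift N ρ m = g := by simp [hm, hm₀]
  have hmk : m ^ k = nLift N ρ ⟨g ^ k, hgk⟩ := by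
    rw [hm, Commute.mul_pow (scalarLift_comm N ρ b m₀).symm, ← map_pow, hb, map_inv, hc,
      mul_inv_rev, inv_inv, inv_mul_cancel_right]
  haveI : (nLift N ρ).range.Normal := ⟨by
    rintro _ ⟨n, rfl⟩ x
    exact ⟨_, (conj_nLift N ρ x n).symm⟩⟩
  let S := (nLift N ρ).range ⊔ Subgroup.zpowers m
  have hNS : ∀ n, nLift N ρ n ∈ S := fun n => Subgroup.mem_sup_left ⟨n, rfl⟩
  have hsurj : ∀ x : G, ∃ y ∈ S, projLift N ρ y = x := by
    intro x
    obtain ⟨j, hj⟩ := Subgroup.mem_zpowers_iff.mp (hq (x : G ⧸ N))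
    have hn : x * (g ^ j)⁻¹ ∈ N := (QuotientGroup.eq_one_iff _).mp (by
      rw [QuotientGroup.mk_mul, QuotientGroup.mk_inv, QuotientGroup.mk_zpow, hj, mul_inv_cancel])
    refine ⟨nLift N ρ ⟨_, hn⟩ * m ^ j,
      S.mul_mem (hNS _) (Subgroup.mem_sup_right ⟨j, rfl⟩), ?_⟩
    rw [map_mul, map_zpow, hpm, projLift_nLift]
    exact inv_mul_cancel_right x (g ^ j)
  obtain ⟨σ, hσ, hres⟩ := exists_extension_of_retraction N ρ S hsurj hNS 1 (fun n => rfl)
    (by
      intro a ha
      obtain ⟨_, ⟨n, rfl⟩, w, hw, he⟩ := Subgroup.mem_sup_of_normal_left.mp ha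
      obtain ⟨j, rfl⟩ := Subgroup.mem_zpowers_iff.mp hw
      have h1 := congrArg (projLift N ρ) he
      rw [map_mul, map_zpow, hpm, projLift_nLift, projLift_scalarLift] at h1
      have h2 : (g : G ⧸ N) ^ j = 1 := by
        have := congrArg ((↑) : G → G ⧸ N) h1
        rwa [QuotientGroup.mk_mul, QuotientGroup.mk_zpow, (QuotientGroup.eq_one_iff _).mpr n.2,
          one_mul, QuotientGroup.mk_one] at this
      obtain ⟨i, rfl⟩ := orderOf_dvd_iff_zpow_eq_one.mpr h2
      rw [zpow_mul, zpow_natCast, ← hk, hmk, ← map_zpow, ← map_mul] at he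
      have h3 : n * (⟨g ^ k, hgk⟩ : N) ^ i = 1 := Subtype.ext (by
        have := congrArg (projLift N ρ) he
        rwa [projLift_nLift, projLift_scalarLift] at this)
      rw [h3, map_one] at he
      show (1 : ℂˣ) = a
      exact scalarLift_injective N ρ (by rw [map_one]; exact he))
  exact ⟨σ.character, isIrrCharacter_of_rep σ, fun n => by simp [Representation.character, hres]⟩

theorem pow_index_eq_one_of_trivial [Finite G] {M : Type*} [Monoid M] (lam : G →* M)
    (h : ∀ n : N, lam n = 1) (g : G) : lam g ^ N.index = 1 := by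
  rw [← map_pow]
  exact h ⟨_, Subgroup.pow_index_mem N g⟩

/-- The unique extension of an invariant linear character of coprime order. -/
theorem exists_linear_extension_coprime [Finite G] {lam : N → ℂ} (hlam : IsCharacter N lam)
    (h1 : lam 1 = 1)
    (hinv : ∀ (g : G) (n : N), lam ⟨g * n * g⁻¹, hN.conj_mem (n : G) n.2 g⟩ = lam n)
    (hcop : Nat.Coprime N.index (orderOf lam)) :
    ∃ μ : G → ℂ, (IsCharacter G μ ∧ μ 1 = 1 ∧ (∀ n : N, μ n = lam n) ∧
      orderOf μ = orderOf lam) ∧ ∀ μ' : G → ℂ, IsCharacter G μ' ∧ μ' 1 = 1 →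
        (∀ n : N, μ' n = lam n) → Nat.Coprime N.index (orderOf μ') → μ' = μ := by
  obtain ⟨μ₀, hμ₀, hμ₀1, hres₀⟩ := exists_linear_extension hlam h1 hinv fun p hp hdvd =>
    ⟨N, le_rfl, lam, fun h => hp.ne_one (Nat.eq_one_of_dvd_coprimes hcop h hdvd), hlam,
      fun n => rfl⟩
  obtain ⟨k, hk0, hk1⟩ := Nat.chineseRemainder hcop 0 1
  set o := orderOf lam with ho
  have hlk : lam ^ k = lam := by
    rw [← pow_mod_orderOf, ← ho, hk1, ho, pow_mod_orderOf, pow_one]
  obtain ⟨ν, rfl⟩ := IsCharacter.exists_hom_of_apply_one hμ₀ hμ₀1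
  have hpk : ((fun g => (ν g : ℂ)) : G → ℂ) ^ k = fun g => ((ν ^ k) g : ℂ) := by
    funext g; simp
  have hresk : ∀ n : N, ((ν ^ k) (n : G) : ℂ) = lam n := fun n => by
    rw [← congrFun hlk n, Pi.pow_apply, ← hres₀ n]; simp
  have hord : ((fun g => ((ν ^ k) g : ℂ)) : G → ℂ) ^ o = 1 := by
    funext g
    obtain ⟨j, rfl⟩ := Nat.modEq_zero_iff_dvd.mp hk0
    have h3 := hres₀ ⟨_, Subgroup.pow_index_mem N g⟩
    have h4 := congrFun (pow_orderOf_eq_one lam) ⟨_, Subgroup.pow_index_mem N g⟩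
    simp only [Pi.pow_apply, Pi.one_apply] at h4
    rw [← h3] at h4
    simp only [map_pow, Units.val_pow_eq_pow_val, ← ho] at h4
    simp only [Pi.pow_apply, Pi.one_apply, MonoidHom.pow_apply, Units.val_pow_eq_pow_val]
    rw [← pow_mul, show N.index * j * o = N.index * o * j by ring, pow_mul, pow_mul, h4, one_pow]
  refine ⟨fun g => ((ν ^ k) g : ℂ),
    ⟨IsIrrCharacter.isCharacter (isIrrCharacter_unitsHom _), by simp, hresk, ?_⟩, ?_⟩
  · refine Nat.dvd_antisymm (orderOf_dvd_of_pow_eq_one hord) (orderOf_dvd_of_pow_eq_one ?_)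
    funext n
    have h := congrFun (pow_orderOf_eq_one (fun g => ((ν ^ k) g : ℂ))) n
    simp only [Pi.pow_apply, Pi.one_apply] at h ⊢
    rw [← hresk n]
    exact h
  · rintro μ' ⟨hμ', hμ'1⟩ hres' hcop'
    obtain ⟨ν', rfl⟩ := IsCharacter.exists_hom_of_apply_one hμ' hμ'1
    set o' := orderOf (fun g => (ν' g : ℂ)) with ho'
    funext g
    have e1 : (ν' g * ((ν ^ k) g)⁻¹) ^ N.index = 1 :=
      pow_index_eq_one_of_trivial (ν' * (ν ^ k)⁻¹) (fun n => by
        simp only [MonoidHom.mul_apply, MonoidHom.inv_apply]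
        rw [mul_inv_eq_one]
        exact Units.ext ((hres' n).trans (hresk n).symm)) g
    have e2 : (ν' g * ((ν ^ k) g)⁻¹) ^ (o' * o) = 1 := by
      have a1 : ν' g ^ o' = 1 := Units.ext (by
        simpa using congrFun (pow_orderOf_eq_one (fun g => (ν' g : ℂ))) g)
      have a2 : (ν ^ k) g ^ o = 1 := Units.ext (by simpa using congrFun hord g)
      rw [mul_pow, inv_pow, pow_mul, a1, one_pow, mul_comm o', pow_mul, a2, one_pow, inv_one,
        mul_one]
    have e3 := pow_gcd_eq_one.mpr ⟨e1, e2⟩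
    rw [(Nat.Coprime.mul_right hcop' hcop).gcd_eq_one, pow_one, mul_inv_eq_one] at e3
    exact congrArg Units.val e3

/-- The unique extension with prescribed determinant. -/
theorem existsUnique_extension_det [Finite G] {θ : N → ℂ} (hθ : IsIrrCharacter N θ) {d : ℕ}
    (hd : θ 1 = d) (hcop : Nat.Coprime N.index d)
    (hext : ∃ η : G → ℂ, IsIrrCharacter G η ∧ (∀ n : N, η n = θ n))
    {μ : G → ℂ} (hμ : IsCharacter G μ ∧ μ 1 = 1) (hμN : ∀ n : N, μ n = detChar θ n) :
    ∃! χ : G → ℂ, IsIrrCharacter G χ ∧ (∀ n : N, χ n = θ n) ∧ detChar χ = μ := by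
  obtain ⟨η, hη, hres⟩ := hext
  obtain ⟨μh, rfl⟩ := IsCharacter.exists_hom_of_apply_one hμ.1 hμ.2
  have hηc := IsIrrCharacter.isCharacter hη
  have hη1 : η 1 = d := by rw [← hd, ← hres]; rfl
  obtain ⟨δ, hδ⟩ :=
    IsCharacter.exists_hom_of_apply_one (isCharacter_detChar hηc).1 (isCharacter_detChar hηc).2
  have hδN : ∀ n : N, δ n = μh n := fun n => Units.ext (by
    have h1 := congrFun hδ n
    have h2 := congrFun (detChar_comp N.subtype hηc) n
    rw [show η ∘ N.subtype = θ from funext hres, ← hμN] at h2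
    exact (h2.trans h1).symm)
  obtain ⟨k, hk1, hk0⟩ := Nat.chineseRemainder hcop 1 0
  obtain ⟨a, rfl⟩ := Nat.modEq_zero_iff_dvd.mp hk0
  let ν : G →* ℂˣ := μh * δ⁻¹
  have hνN : ∀ n : N, ν n = 1 := fun n => by simp [ν, hδN n]
  have hνk : ∀ g, ν g ^ (d * a) = ν g := fun g => by
    conv_rhs => rw [← pow_one (ν g)]
    exact pow_eq_pow_of_modEq hk1 (pow_index_eq_one_of_trivial ν hνN g)
  refine ⟨fun g => ((ν ^ a) g : ℂ) * η g,
    ⟨isIrrCharacter_twist _ hη, fun n => by simp [hνN n, hres], ?_⟩, ?_⟩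
  · rw [detChar_twist _ hηc hη1, hδ]
    funext g
    rw [← Units.val_pow_eq_pow_val, ← Units.val_mul]
    congr 1
    rw [MonoidHom.pow_apply, ← pow_mul, mul_comm a, hνk]
    simp [ν]
  · rintro χ' ⟨hχ', hres', hdet'⟩
    have hirrη : IsIrrCharacter N (fun n : N => η n) := by rwa [funext hres]
    obtain ⟨l, hl, rfl⟩ := exists_linear_mul_of_restrict_eq hηc (IsIrrCharacter.isCharacter hχ')
      hirrη (fun n => by rw [hres', hres])
    funext g
    rw [detChar_twist _ hηc hη1, hδ] at hdet'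
    have e1 : l g ^ d = ν g := Units.ext (by
      have h := congrFun hdet' g
      simp only [ν, MonoidHom.mul_apply, MonoidHom.inv_apply, Units.val_mul,
        Units.val_pow_eq_pow_val] at h ⊢
      rw [← h, mul_assoc, Units.mul_inv, mul_one])
    have e2 : (ν ^ a) g = l g := by
      rw [MonoidHom.pow_apply, ← e1, ← pow_mul]
      conv_rhs => rw [← pow_one (l g)]
      exact pow_eq_pow_of_modEq hk1 (pow_index_eq_one_of_trivial l hl g)
    rw [e2]

end Cfsg.Agent.Lib.Characters
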