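import Cfsg.Agent.Lib.Characters.Ortho
import Mathlib.GroupTheory.Index

/-!
# Induced class functions
-/

namespace Cfsg.Agent.Lib.Characters

open scoped ComplexConjugate

set_option linter.unusedSectionVars false
set_option linter.unusedSimpArgs false
set_option linter.style.haveILetI false

universe u v

variable {G : Type u} [Group G]

theorem extendByZero_coe (H : Subgroup G) (θ : H → ℂ) (x : H) :
    extendByZero H θ (x : G) = θ x :=
  Subtype.val_injective.extend_apply θ (0 : G → ℂ) x

theorem extendByZero_of_mem (H : Subgroup G) (θ : H → ℂ) {g : G} (h : g ∈ H) :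
    extendByZero H θ g = θ ⟨g, h⟩ :=
  extendByZero_coe H θ ⟨g, h⟩

theorem extendByZero_of_not_mem (H : Subgroup G) (θ : H → ℂ) {g : G} (h : g ∉ H) :
    extendByZero H θ g = 0 :=
  Function.extend_apply' θ (0 : G → ℂ) g fun ⟨a, ha⟩ => h (ha ▸ a.2)

theorem extendByZero_add (H : Subgroup G) (θ φ : H → ℂ) (g : G) :
    extendByZero H (θ + φ) g = extendByZero H θ g + extendByZero H φ g := by
  by_cases h : g ∈ H
  · simp [extendByZero_of_mem, h]
  · simp [extendByZero_of_not_mem, h]

theorem extendByZero_smul (H : Subgroup G) (c : ℂ) (θ : H → ℂ) (g : G) :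
    extendByZero H (c • θ) g = c * extendByZero H θ g := by
  by_cases h : g ∈ H
  · simp [extendByZero_of_mem, h]
  · simp [extendByZero_of_not_mem, h]

/-- Summing an extension by zero is summing over the subgroup. -/
theorem sum_extendByZero_mul [Fintype G] (H : Subgroup G) [Fintype H] (θ : H → ℂ) (f : G → ℂ) :
    ∑ g, extendByZero H θ g * f g = ∑ h : H, θ h * f h := by
  classical
  rw [← Finset.sum_filter_of_ne (p := fun g => g ∈ H) (fun g _ hg => by
    by_contra h
    exact hg (by rw [extendByZero_of_not_mem H θ h, zero_mul]))]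
  rw [Finset.sum_subtype (p := fun g => g ∈ H) _ (fun x => by simp)
    (fun g => extendByZero H θ g * f g)]
  exact Finset.sum_congr rfl fun h _ => by rw [extendByZero_coe]

theorem sum_extendByZero [Fintype G] (H : Subgroup G) [Fintype H] (θ : H → ℂ) :
    ∑ g, extendByZero H θ g = ∑ h : H, θ h := by
  simpa using sum_extendByZero_mul H θ fun _ => 1

theorem indFun_apply [Fintype G] (H : Subgroup G) (θ : H → ℂ) (g : G) :
    indFun H θ g = (Nat.card H : ℂ)⁻¹ * ∑ x : G, extendByZero H θ (x⁻¹ * g * x) :=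
  rfl

theorem indFun_add [Fintype G] (H : Subgroup G) (θ φ : H → ℂ) :
    indFun H (θ + φ) = indFun H θ + indFun H φ := by
  funext g
  simp [indFun_apply, extendByZero_add, Finset.sum_add_distrib, mul_add]

theorem indFun_smul [Fintype G] (H : Subgroup G) (c : ℂ) (θ : H → ℂ) :
    indFun H (c • θ) = c • indFun H θ := by
  funext g
  simp [indFun_apply, extendByZero_smul, ← Finset.mul_sum]
  ring

@[simp] theorem indFun_zero [Fintype G] (H : Subgroup G) : indFun H (0 : H → ℂ) = 0 := by
  rw [← zero_smul ℂ (0 : H → ℂ), indFun_smul, zero_smul]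

theorem indFun_neg [Fintype G] (H : Subgroup G) (θ : H → ℂ) : indFun H (-θ) = -indFun H θ := by
  rw [← neg_one_smul ℂ θ, indFun_smul, neg_one_smul]

theorem indFun_sub [Fintype G] (H : Subgroup G) (θ φ : H → ℂ) :
    indFun H (θ - φ) = indFun H θ - indFun H φ := by
  rw [sub_eq_add_neg, indFun_add, indFun_neg, ← sub_eq_add_neg]

theorem indFun_sum [Fintype G] (H : Subgroup G) {ι : Type*} (s : Finset ι) (f : ι → H → ℂ) :
    indFun H (∑ i ∈ s, f i) = ∑ i ∈ s, indFun H (f i) := by
  classical
  induction s using Finset.induction with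
  | empty => simp
  | insert i s hi ih => rw [Finset.sum_insert hi, Finset.sum_insert hi, indFun_add, ih]

theorem isClassFunction_indFun [Fintype G] (H : Subgroup G) (θ : H → ℂ) :
    IsClassFunction G (indFun H θ) := by
  intro g h
  rw [indFun_apply, indFun_apply]
  refine congrArg _ (Fintype.sum_equiv (Equiv.mulLeft h⁻¹) _ _ fun x => ?_)
  simp [mul_assoc]

theorem indFun_conj [Fintype G] (H : Subgroup G) (θ : H → ℂ) (g : G) :
    conj (indFun H θ g) = indFun H (fun x => conj (θ x)) g := by
  simp only [indFun_apply, map_mul, map_inv₀, map_natCast, map_sum]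
  refine congrArg _ (Finset.sum_congr rfl fun x _ => ?_)
  by_cases h : x⁻¹ * g * x ∈ H
  · simp [extendByZero_of_mem, h]
  · simp [extendByZero_of_not_mem, h]

theorem indFun_one [Fintype G] (H : Subgroup G) (θ : H → ℂ) :
    indFun H θ 1 = (H.index : ℂ) * θ 1 := by
  have h1 : ∀ x : G, extendByZero H θ (x⁻¹ * 1 * x) = θ 1 := fun x => by
    have : x⁻¹ * 1 * x = ((1 : H) : G) := by simp
    rw [this, extendByZero_coe]
  rw [indFun_apply, Finset.sum_congr rfl fun x _ => h1 x, Finset.sum_const, Finset.card_univ,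
    nsmul_eq_mul, ← Nat.card_eq_fintype_card, ← H.index_mul_card, Nat.cast_mul]
  have : (Nat.card H : ℂ) ≠ 0 := by exact_mod_cast Nat.card_pos.ne'
  field_simp

/-- A function induced from `H` vanishes at elements not conjugate into `H`. -/
theorem indFun_eq_zero [Fintype G] (H : Subgroup G) (θ : H → ℂ) {g : G}
    (h : ∀ x : G, x⁻¹ * g * x ∉ H) : indFun H θ g = 0 := by
  simp [indFun_apply, extendByZero_of_not_mem H θ (h _)]

/-- Frobenius reciprocity. -/
theorem classInner_indFun [Fintype G] (H : Subgroup G) [Fintype H] (θ : H → ℂ) {χ : G → ℂ}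
    (hχ : IsClassFunction G χ) :
    classInner (indFun H θ) χ = classInner θ (fun h : H => χ h) := by
  have key : ∀ x : G, ∑ g, extendByZero H θ (x⁻¹ * g * x) * conj (χ g) =
      ∑ h : H, θ h * conj (χ h) := fun x => by
    rw [← sum_extendByZero_mul H θ fun g => conj (χ g)]
    refine Fintype.sum_equiv (MulAut.conj x⁻¹).toEquiv _ _ fun g => ?_
    have : χ (x⁻¹ * g * x) = χ g := by simpa using hχ g x⁻¹
    simp [this]
  simp only [classInner, indFun_apply]
  have : ∑ g : G, ((Nat.card H : ℂ)⁻¹ * ∑ x : G, extendByZero H θ (x⁻¹ * g * x)) * conj (χ g) =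
      (Nat.card H : ℂ)⁻¹ * ((Nat.card G : ℂ) * ∑ h : H, θ h * conj (χ h)) := by
    simp only [mul_assoc, ← Finset.mul_sum, Finset.sum_mul]
    rw [Finset.sum_comm]
    simp only [← mul_assoc] at key ⊢
    rw [Finset.sum_congr rfl fun x _ => key x, Finset.sum_const, Finset.card_univ, nsmul_eq_mul,
      ← Nat.card_eq_fintype_card, mul_assoc]
  rw [this]
  have hG : (Nat.card G : ℂ) ≠ 0 := natCard_ne_zero_complex
  field_simp

theorem classInner_indFun_right [Fintype G] (H : Subgroup G) [Fintype H] (θ : H → ℂ) {χ : G → ℂ}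
    (hχ : IsClassFunction G χ) :
    classInner χ (indFun H θ) = classInner (fun h : H => χ h) θ := by
  rw [← classInner_conj_symm, classInner_indFun H θ hχ, classInner_conj_symm]

/-- A character induced from a subgroup is a character. -/
theorem IsCharacter.indFun [Fintype G] (H : Subgroup G) {θ : H → ℂ} (hθ : IsCharacter H θ) :
    IsCharacter G (indFun H θ) := by
  classical
  refine isCharacter_iff_classInner_nat.mpr ⟨isClassFunction_indFun H θ, fun χ => ?_⟩
  rw [classInner_indFun H θ (irr_isClassFunction χ)]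
  exact IsCharacter.exists_classInner_nat hθ (IsCharacter.restrict (irr_isCharacter χ) H)

theorem IsGeneralizedCharacter.indFun [Fintype G] (H : Subgroup G) {θ : H → ℂ}
    (hθ : IsGeneralizedCharacter H θ) : IsGeneralizedCharacter G (indFun H θ) := by
  obtain ⟨a, b, ha, hb, rfl⟩ := hθ
  exact ⟨_, _, IsCharacter.indFun H ha, IsCharacter.indFun H hb, indFun_sub H a b⟩

theorem indFun_mul_restrict [Fintype G] (H : Subgroup G) (θ : H → ℂ) {χ : G → ℂ}
    (hχ : IsClassFunction G χ) :
    Cfsg.indFun H (θ * fun h : H => χ h) = Cfsg.indFun H θ * χ := by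
  funext g
  rw [Pi.mul_apply, indFun_apply, indFun_apply, mul_assoc, Finset.sum_mul]
  refine congrArg _ (Finset.sum_congr rfl fun x _ => ?_)
  by_cases h : x⁻¹ * g * x ∈ H
  · rw [extendByZero_of_mem _ _ h, extendByZero_of_mem _ _ h]
    have : χ (x⁻¹ * g * x) = χ g := by simpa using hχ g x⁻¹
    simp [this]
  · simp [extendByZero_of_not_mem, h]

/-- Induction from the whole group. -/
theorem indFun_top [Fintype G] {θ : G → ℂ} (hθ : IsClassFunction G θ) :
    Cfsg.indFun (⊤ : Subgroup G) (fun x => θ x) = θ := by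
  funext g
  have h1 : ∀ x : G, extendByZero (⊤ : Subgroup G) (fun x => θ x) (x⁻¹ * g * x) = θ g := fun x => by
    rw [extendByZero_of_mem _ _ (Subgroup.mem_top _)]
    simpa using hθ g x⁻¹
  rw [indFun_apply, Finset.sum_congr rfl fun x _ => h1 x, Finset.sum_const, Finset.card_univ,
    nsmul_eq_mul, ← Nat.card_eq_fintype_card, Subgroup.card_top]
  have : (Nat.card G : ℂ) ≠ 0 := natCard_ne_zero_complex
  field_simp

/-- Induction is transitive. -/
theorem indFun_trans [Fintype G] (H K : Subgroup G) [Fintype K] (hHK : H ≤ K) (θ : H → ℂ) :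
    Cfsg.indFun K (Cfsg.indFun (H.subgroupOf K)
      (fun x => θ ⟨(x : K), Subgroup.mem_subgroupOf.mp x.2⟩)) = Cfsg.indFun H θ := by
  funext g
  set θ' : H.subgroupOf K → ℂ := fun x => θ ⟨(x : K), Subgroup.mem_subgroupOf.mp x.2⟩ with hθ'
  have hcard : (Nat.card (H.subgroupOf K) : ℂ) = Nat.card H := by
    rw [Nat.card_congr (Subgroup.subgroupOfEquivOfLe hHK).toEquiv]
  have h1 : ∀ y : G, extendByZero K (Cfsg.indFun (H.subgroupOf K) θ') y =
      (Nat.card H : ℂ)⁻¹ * ∑ k : K, extendByZero H θ ((k : G)⁻¹ * y * k) := by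
    intro y
    by_cases hy : y ∈ K
    · rw [extendByZero_of_mem _ _ hy, indFun_apply, hcard]
      refine congrArg _ (Finset.sum_congr rfl fun k _ => ?_)
      by_cases hk : (k⁻¹ * ⟨y, hy⟩ * k : K) ∈ H.subgroupOf K
      · have hk' : (k : G)⁻¹ * y * k ∈ H := Subgroup.mem_subgroupOf.mp hk
        rw [extendByZero_of_mem _ _ hk, extendByZero_of_mem _ _ hk']
        rfl
      · have hk' : (k : G)⁻¹ * y * k ∉ H := fun h => hk (Subgroup.mem_subgroupOf.mpr h)
        rw [extendByZero_of_not_mem _ _ hk, extendByZero_of_not_mem _ _ hk']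
    · rw [extendByZero_of_not_mem _ _ hy, Finset.sum_eq_zero, mul_zero]
      intro k _
      refine extendByZero_of_not_mem _ _ fun h => hy ?_
      have := K.mul_mem (K.mul_mem k.2 (hHK h)) (K.inv_mem k.2)
      simpa [mul_assoc] using this
  rw [indFun_apply, indFun_apply]
  simp only [h1, ← Finset.mul_sum]
  rw [Finset.sum_comm]
  have h2 : ∀ k : K, ∑ x : G, extendByZero H θ ((k : G)⁻¹ * (x⁻¹ * g * x) * k) =
      ∑ x : G, extendByZero H θ (x⁻¹ * g * x) := fun k =>
    Fintype.sum_equiv (Equiv.mulRight (k : G)) _ _ fun x => by simp [mul_assoc]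
  simp only [h2, Finset.sum_const, Finset.card_univ, nsmul_eq_mul, ← Nat.card_eq_fintype_card]
  have hK : (Nat.card K : ℂ) ≠ 0 := natCard_ne_zero_complex
  field_simp

end Cfsg.Agent.Lib.Characters
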