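import Cfsg.Agent.Lib.Characters.Kernel
import Cfsg.Agent.Lib.Characters.Induced
import Cfsg.Prelude.Def_Transfer

/-!
# Characters of extraspecial groups
-/

namespace Cfsg.Agent.Lib.Characters

open scoped ComplexConjugate

set_option linter.unusedSectionVars false
set_option linter.unusedSimpArgs false
set_option linter.style.haveILetI false

universe u

variable {P : Type u} [Group P]

theorem exists_commutator_of_not_central (hc : commutator P ≤ Subgroup.center P) {x : P}
    (hx : x ∉ Subgroup.center P) :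
    ∃ y : P, y * x * y⁻¹ * x⁻¹ ∈ Subgroup.center P ∧ y * x * y⁻¹ * x⁻¹ ≠ 1 := by
  rw [Subgroup.mem_center_iff] at hx
  push Not at hx
  obtain ⟨y, hy⟩ := hx
  refine ⟨y, hc ?_, ?_⟩
  · rw [commutator_def]
    exact Subgroup.commutator_mem_commutator (Subgroup.mem_top y) (Subgroup.mem_top x)
  · intro h
    rw [mul_inv_eq_one, mul_inv_eq_iff_eq_mul] at h
    exact hy h

/-- A class function with a faithful central character vanishes off the centre when all
commutators are central. -/
theorem vanish_off_center (hc : commutator P ≤ Subgroup.center P) {f : P → ℂ}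
    (hf : IsClassFunction P f) (ω : P → ℂ)
    (hω : ∀ z ∈ Subgroup.center P, ∀ x : P, f (z * x) = ω z * f x)
    (hne : ∀ z ∈ Subgroup.center P, z ≠ 1 → ω z ≠ 1) {x : P} (hx : x ∉ Subgroup.center P) :
    f x = 0 := by
  obtain ⟨y, hz, hz1⟩ := exists_commutator_of_not_central hc hx
  have h : f (y * x * y⁻¹) = f x := hf x y
  rw [show y * x * y⁻¹ = (y * x * y⁻¹ * x⁻¹) * x by group, hω _ hz] at h
  have h' : (ω (y * x * y⁻¹ * x⁻¹) - 1) * f x = 0 := by linear_combination h
  exact (mul_eq_zero.mp h').resolve_left (sub_ne_zero.mpr (hne _ hz hz1))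

theorem classInner_of_vanish [Fintype P] {f : P → ℂ}
    (hv : ∀ x, x ∉ Subgroup.center P → f x = 0) [Fintype (Subgroup.center P)] :
    ∑ x, f x * conj (f x) = ∑ z : Subgroup.center P, f z * conj (f z) := by
  classical
  rw [← Finset.sum_subset (Finset.subset_univ (Finset.univ.filter fun x => x ∈ Subgroup.center P))
    (fun x _ hx => by
      rw [hv x (by simpa using hx), zero_mul])]
  exact Finset.sum_subtype _ (fun x => by simp) fun x => f x * conj (f x)

/-- The degree of an irreducible character with a nontrivial central character. -/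
theorem IsIrrCharacter.degree_sq_of_extraspecial [Fintype P] {p : ℕ} [Fact p.Prime]
    (hP : IsExtraspecial p P) {χ : P → ℂ} (hχ : IsIrrCharacter P χ) :
    χ 1 = 1 ∨ (χ 1) ^ 2 * (p : ℂ) = Nat.card P := by
  classical
  obtain ⟨⟨-, -, hcomm⟩, hcard⟩ := hP
  have hχc := IsIrrCharacter.isCharacter hχ
  obtain ⟨d, ρ, hρ, rfl⟩ := hχ
  by_cases htriv : ∀ z ∈ Subgroup.center P, ρ.character z = ρ.character 1
  · left
    obtain ⟨ψ, hψ, hψeq⟩ := IsIrrCharacter.exists_quotient (isIrrCharacter_of_rep ρ)
      (Subgroup.center P) htriv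
    rw [congrFun hψeq 1]
    show ψ 1 = 1
    refine IsIrrCharacter.apply_one_of_comm (fun a b => ?_) hψ
    obtain ⟨a, rfl⟩ := QuotientGroup.mk_surjective a
    obtain ⟨b, rfl⟩ := QuotientGroup.mk_surjective b
    rw [← QuotientGroup.mk_mul, ← QuotientGroup.mk_mul, QuotientGroup.eq, ← hcomm, commutator_def,
      show (a * b)⁻¹ * (b * a) = b⁻¹ * a⁻¹ * (b⁻¹)⁻¹ * (a⁻¹)⁻¹ by group]
    exact Subgroup.commutator_mem_commutator (Subgroup.mem_top _) (Subgroup.mem_top _)
  · right
    have hscal : ∀ z : P, ∃ c : ℂ, z ∈ Subgroup.center P →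
        ρ z = c • (LinearMap.id : (Fin d → ℂ) →ₗ[ℂ] _) := by
      intro z
      by_cases hz : z ∈ Subgroup.center P
      · obtain ⟨c, hc⟩ := exists_smul_of_commute ρ (ρ z) fun g => by
          rw [← map_mul, ← map_mul, Subgroup.mem_center_iff.mp hz g]
        exact ⟨c, fun _ => hc⟩
      · exact ⟨0, fun h => absurd h hz⟩
    choose ω hω using hscal
    have hmul : ∀ z ∈ Subgroup.center P, ∀ x, ρ.character (z * x) = ω z * ρ.character x :=
      fun z hz x => by
      simp only [Representation.character, map_mul, hω z hz, ← Module.End.one_eq_id,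
        smul_mul_assoc, one_mul, map_smul, smul_eq_mul]
    have hd0 : ρ.character 1 ≠ 0 := IsIrrCharacter.apply_one_ne_zero (isIrrCharacter_of_rep ρ)
    have hne : ∀ z ∈ Subgroup.center P, z ≠ 1 → ω z ≠ 1 := by
      intro z hz hz1 h
      apply htriv
      intro w hw
      obtain ⟨k, hk⟩ := mem_powers_of_prime_card (G := Subgroup.center P) hcard
        (g := ⟨z, hz⟩) (g' := ⟨w, hw⟩) (fun e => hz1 (congrArg Subtype.val e))
      have hk' : z ^ k = w := congrArg Subtype.val hk
      have hρz : ρ z = 1 := by rw [hω z hz, h, one_smul]; rfl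
      rw [← hk']
      simp [Representation.character, map_pow, hρz]
    have hv : ∀ x, x ∉ Subgroup.center P → ρ.character x = 0 := fun x hx =>
      vanish_off_center (le_of_eq hcomm) (IsCharacter.isClassFunction hχc) ω hmul hne hx
    have h1 := IsIrrCharacter.classInner_self (isIrrCharacter_of_rep ρ)
    rw [classInner, inv_mul_eq_one₀ natCard_ne_zero_complex, classInner_of_vanish hv] at h1
    rw [h1]
    have hz : ∀ z : Subgroup.center P, ρ.character z * conj (ρ.character z) = ρ.character 1 ^ 2 := by
      intro z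
      have h2 := (norm_char_eq_iff ρ (z : P)).mpr ⟨_, hω z z.2⟩
      rw [Complex.mul_conj', h2, ρ.char_one, Complex.ofReal_natCast]
    rw [Finset.sum_congr rfl fun z _ => hz z, Finset.sum_const, Finset.card_univ,
      ← Nat.card_eq_fintype_card, hcard, nsmul_eq_mul, mul_comm]

end Cfsg.Agent.Lib.Characters
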