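import Cfsg.Agent.Lib.Characters.Kernel

/-!
# The Frobenius–Schur indicator
-/

namespace Cfsg.Agent.Lib.Characters

open Matrix
open scoped ComplexConjugate

set_option linter.unusedSectionVars false
set_option linter.unusedSimpArgs false
set_option linter.style.haveILetI false

universe u

variable {G : Type u} [Group G]

theorem trace_matrix_endo {n : ℕ} (T : Module.End ℂ (Matrix (Fin n) (Fin n) ℂ)) :
    LinearMap.trace ℂ _ T = ∑ i, ∑ j, T (Matrix.single i j 1) i j := by
  rw [LinearMap.trace_eq_matrix_trace ℂ (Matrix.stdBasis ℂ (Fin n) (Fin n)), Matrix.trace,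
    Fintype.sum_prod_type]
  refine Finset.sum_congr rfl fun i _ => Finset.sum_congr rfl fun j _ => ?_
  rw [Matrix.diag_apply, LinearMap.toMatrix_apply]
  simp only [Matrix.stdBasis_eq_single]
  simp [Matrix.stdBasis]

/-- The conjugation action of a matrix representation on bilinear forms. -/
noncomputable def formRep {n : ℕ} (A : G →* Matrix (Fin n) (Fin n) ℂ) :
    Representation ℂ G (Matrix (Fin n) (Fin n) ℂ) where
  toFun g :=
    { toFun := fun B => (A g⁻¹)ᵀ * B * A g⁻¹
      map_add' := fun B C => by rw [Matrix.mul_add, Matrix.add_mul]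
      map_smul' := fun c B => by simp [Matrix.mul_smul, Matrix.smul_mul] }
  map_one' := LinearMap.ext fun B => by simp
  map_mul' g h := LinearMap.ext fun B => by
    show (A (g * h)⁻¹)ᵀ * B * A (g * h)⁻¹ = (A g⁻¹)ᵀ * ((A h⁻¹)ᵀ * B * A h⁻¹) * A g⁻¹
    rw [_root_.mul_inv_rev, map_mul, Matrix.transpose_mul]
    simp only [Matrix.mul_assoc]

/-- The indicator and, for real characters, an invariant bilinear form of that symmetry. -/
theorem frobeniusSchur [Fintype G] {χ : G → ℂ} (hχ : IsIrrCharacter G χ) :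
    ((∃ s : G, (χ s).im ≠ 0) → (Nat.card G : ℂ)⁻¹ * ∑ s : G, χ (s * s) = 0) ∧
    ((∀ s : G, (χ s).im = 0) → ∃ (n : ℕ) (B : Matrix (Fin n) (Fin n) ℂ) (ε : ℂ),
      χ 1 = n ∧ B.det ≠ 0 ∧ (ε = 1 ∨ ε = -1) ∧ Bᵀ = ε • B ∧
        (Nat.card G : ℂ)⁻¹ * ∑ s : G, χ (s * s) = ε) := by
  classical
  obtain ⟨n, ρ, hρ, rfl⟩ := hχ
  let A : G →* Matrix (Fin n) (Fin n) ℂ :=
    { toFun := fun g => LinearMap.toMatrix' (ρ g)
      map_one' := by rw [map_one]; exact LinearMap.toMatrix'_id
      map_mul' := fun g h => by rw [map_mul]; exact LinearMap.toMatrix'_comp _ _ }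
  have hA : ∀ g, ρ.character g = (A g).trace := fun g =>
    LinearMap.trace_eq_matrix_trace ℂ (Pi.basisFun ℂ (Fin n)) (ρ g)
  let π := formRep A
  haveI : Invertible (Nat.card G : ℂ) := invertibleOfNonzero natCard_ne_zero_complex
  let τ : Module.End ℂ (Matrix (Fin n) (Fin n) ℂ) :=
    (Matrix.transposeLinearEquiv (Fin n) (Fin n) ℂ ℂ).toLinearMap
  have h1 : ∀ g, LinearMap.trace ℂ _ (π g) = ρ.character g⁻¹ * ρ.character g⁻¹ := by
    intro g
    rw [trace_matrix_endo, hA, Matrix.trace, Finset.sum_mul_sum]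
    refine Finset.sum_congr rfl fun i _ => Finset.sum_congr rfl fun j _ => ?_
    show ((A g⁻¹)ᵀ * Matrix.single i j (1 : ℂ) * A g⁻¹ : Matrix (Fin n) (Fin n) ℂ) i j = _
    simp [Matrix.mul_apply, Matrix.single, Matrix.diag, Finset.sum_ite_eq, ite_and]
  have h2 : ∀ g, LinearMap.trace ℂ _ (τ * π g) = ρ.character (g⁻¹ * g⁻¹) := by
    intro g
    rw [trace_matrix_endo, hA, map_mul, Matrix.trace]
    refine Finset.sum_congr rfl fun i _ => ?_
    rw [Matrix.diag_apply, Matrix.mul_apply]
    refine Finset.sum_congr rfl fun j _ => ?_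
    show ((A g⁻¹)ᵀ * Matrix.single i j (1 : ℂ) * A g⁻¹ : Matrix (Fin n) (Fin n) ℂ)ᵀ i j = _
    simp [Matrix.mul_apply, Matrix.single, Finset.sum_ite_eq, ite_and]
  let P : Module.End ℂ (Matrix (Fin n) (Fin n) ℂ) := (Nat.card G : ℂ)⁻¹ • ∑ g, π g
  have hν : LinearMap.trace ℂ _ (τ * P) = (Nat.card G : ℂ)⁻¹ * ∑ s : G, ρ.character (s * s) := by
    simp only [P, mul_smul_comm, Finset.mul_sum, map_smul, map_sum, smul_eq_mul, h2]
    exact Fintype.sum_equiv (Equiv.inv G) _ _ fun g => rfl
  have hPinv : ∀ X, P X ∈ π.invariants := by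
    intro X h
    simp only [P, LinearMap.smul_apply, map_smul, LinearMap.sum_apply, map_sum]
    congr 1
    refine Fintype.sum_equiv (Equiv.mulLeft h) _ _ fun g => ?_
    simp [Equiv.coe_mulLeft, map_mul]
  have hdim : ((Module.finrank ℂ π.invariants : ℕ) : ℂ) =
      classInner ρ.character (fun g => conj (ρ.character g)) := by
    rw [← Representation.card_inv_mul_sum_char_eq_finrank π, classInner]
    congr 1
    refine Fintype.sum_equiv (Equiv.inv G) _ _ fun g => ?_
    show LinearMap.trace ℂ _ (π g) = _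
    rw [h1, Complex.conj_conj]
    rfl
  have htrP : LinearMap.trace ℂ _ P = (Module.finrank ℂ π.invariants : ℂ) := by
    rw [← Representation.card_inv_mul_sum_char_eq_finrank π]
    simp only [P, map_smul, map_sum, smul_eq_mul]
    rfl
  refine ⟨fun ⟨s, hs⟩ => ?_, fun hreal => ?_⟩
  · have hne : ρ.character ≠ fun g => conj (ρ.character g) := fun h =>
      hs (Complex.conj_eq_iff_im.mp (congrFun h s).symm)
    rw [IsIrrCharacter.classInner_ne (isIrrCharacter_of_rep ρ)
      (IsIrrCharacter.conjugate (isIrrCharacter_of_rep ρ)) hne, Nat.cast_eq_zero] at hdim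
    have hP0 : P = 0 := LinearMap.ext fun X => by
      have h := hPinv X
      rw [Submodule.finrank_eq_zero.mp hdim, Submodule.mem_bot] at h
      exact h
    rw [← hν, hP0, mul_zero, map_zero]
  · have heq : (fun g => conj (ρ.character g)) = ρ.character :=
      funext fun g => Complex.conj_eq_iff_im.mpr (hreal g)
    rw [heq, IsIrrCharacter.classInner_self (isIrrCharacter_of_rep ρ), Nat.cast_eq_one] at hdim
    obtain ⟨⟨B, hB⟩, hB0, hspan⟩ := finrank_eq_one_iff'.mp hdim
    have hBne : B ≠ 0 := fun h => hB0 (Subtype.ext h)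
    have hτB : Bᵀ ∈ π.invariants := fun g => by
      have h := congrArg Matrix.transpose (hB g)
      show (A g⁻¹)ᵀ * Bᵀ * A g⁻¹ = Bᵀ
      conv_rhs => rw [← h]
      simp [π, formRep, Matrix.transpose_mul, Matrix.mul_assoc]
    obtain ⟨ε, hε⟩ := hspan ⟨Bᵀ, hτB⟩
    have hε' : Bᵀ = ε • B := (congrArg Subtype.val hε).symm
    have hεsq : ε * ε = 1 := by
      have h := congrArg Matrix.transpose hε'
      rw [Matrix.transpose_transpose, Matrix.transpose_smul, hε', smul_smul] at h
      exact (smul_left_injective ℂ hBne (by simpa using h.symm))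
    have hT : τ * P = ε • P := LinearMap.ext fun X => by
      obtain ⟨c, hc⟩ := hspan ⟨P X, hPinv X⟩
      have hc' : P X = c • B := (congrArg Subtype.val hc).symm
      show (P X)ᵀ = ε • P X
      rw [hc', Matrix.transpose_smul, hε', smul_comm]
    refine ⟨n, B, ε, by simp, ?_, mul_self_eq_one_iff.mp hεsq, hε', ?_⟩
    · intro hdet
      obtain ⟨v, hv0, hv⟩ := Matrix.exists_mulVec_eq_zero_iff.mpr hdet
      have hker : ∀ g, ∀ x ∈ LinearMap.ker (Matrix.toLin' B), ρ g x ∈ LinearMap.ker (Matrix.toLin' B) := by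
        intro g x hx
        have hBg : (A g)ᵀ * B * A g = B := by
          have := hB g⁻¹
          simpa [π, formRep] using this
        have hAinv : (A g⁻¹)ᵀ * (A g)ᵀ = 1 := by
          rw [← Matrix.transpose_mul, ← map_mul, mul_inv_cancel, map_one, Matrix.transpose_one]
        have hBA : B * A g = (A g⁻¹)ᵀ * B := by
          conv_rhs => rw [← hBg]
          simp only [← Matrix.mul_assoc]
          rw [hAinv, Matrix.one_mul]
        simp only [LinearMap.mem_ker, Matrix.toLin'_apply] at hx ⊢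
        have hρ' : ρ g x = A g *ᵥ x := (LinearMap.toMatrix'_mulVec (ρ g) x).symm
        rw [hρ', Matrix.mulVec_mulVec, hBA, ← Matrix.mulVec_mulVec, hx, Matrix.mulVec_zero]
      rcases ((isIrreducible_iff_forall ρ).mp inferInstance).2
        (LinearMap.ker (Matrix.toLin' B)) hker with h | h
      · exact hv0 ((Submodule.mem_bot ℂ).mp (h ▸ (LinearMap.mem_ker.mpr (by simpa using hv))))
      · exact hBne (Matrix.toLin'.injective ((LinearMap.ker_eq_top.mp h).trans (map_zero _).symm))
    · rw [← hν, hT, map_smul, htrP, hdim, smul_eq_mul, Nat.cast_one, mul_one]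

end Cfsg.Agent.Lib.Characters
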