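import Cfsg.Agent.Lib.Characters.Ortho

/-!
# Virtual characters with the Gram matrix of differences of irreducibles
-/

namespace Cfsg.Agent.Lib.Characters

open scoped ComplexConjugate

set_option linter.unusedSectionVars false
set_option linter.unusedSimpArgs false
set_option linter.style.haveILetI false

universe u

variable {G : Type u} [Group G] [Fintype G]

/-- A generalized character of norm 2 vanishing at 1 is a difference of two irreducibles. -/
theorem IsGeneralizedCharacter.eq_irr_sub {θ : G → ℂ} (hθ : IsGeneralizedCharacter G θ)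
    (h2 : classInner θ θ = 2) (h1 : θ 1 = 0) :
    ∃ a b : IrrCharacter G, a ≠ b ∧ θ = (a : G → ℂ) - (b : G → ℂ) := by
  classical
  haveI := Fintype.ofFinite (IrrCharacter G)
  obtain ⟨c, hc, -⟩ := IsGeneralizedCharacter.exists_int_decomp hθ
  have hsq : ∑ χ : IrrCharacter G, c χ ^ 2 = 2 := by
    rw [hc, classInner_sum_sum] at h2
    simp only [map_intCast] at h2
    exact_mod_cast (by simpa [sq] using h2 :
      ((∑ χ : IrrCharacter G, c χ ^ 2 : ℤ) : ℂ) = ((2 : ℤ) : ℂ))
  let s := Finset.univ.filter fun χ => c χ ≠ 0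
  have hle : ∀ χ, c χ ^ 2 ≤ 2 := fun χ =>
    hsq ▸ Finset.single_le_sum (f := fun ψ => c ψ ^ 2) (fun _ _ => sq_nonneg _) (Finset.mem_univ χ)
  have hval : ∀ χ ∈ s, c χ = 1 ∨ c χ = -1 := by
    intro χ hχ
    have h := hle χ
    have hne := (Finset.mem_filter.mp hχ).2
    have hl : -2 < c χ := by nlinarith
    have hu : c χ < 2 := by nlinarith
    omega
  have hcard : s.card = 2 := by
    have h' : ∑ χ ∈ s, c χ ^ 2 = 2 := by
      rw [← hsq]
      exact Finset.sum_filter_of_ne fun x _ hx h0 => hx (by simp [h0])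
    rw [Finset.sum_congr rfl (g := fun _ => (1 : ℤ)) fun χ hχ => by
      rcases hval χ hχ with h | h <;> simp [h]] at h'
    simp at h'
    exact_mod_cast h'
  obtain ⟨a, b, hab, hs⟩ := Finset.card_eq_two.mp hcard
  have hθ' : θ = (c a : ℂ) • (a : G → ℂ) + (c b : ℂ) • (b : G → ℂ) := by
    rw [hc, ← Finset.sum_pair (f := fun χ : IrrCharacter G => (c χ : ℂ) • (χ : G → ℂ)) hab, ← hs]
    refine (Finset.sum_filter_of_ne ?_).symm
    intro x _ hx h0
    exact hx (by simp [h0])
  obtain ⟨m, hm, hm'⟩ := IsIrrCharacter.exists_apply_one a.2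
  obtain ⟨n, hn, hn'⟩ := IsIrrCharacter.exists_apply_one b.2
  rcases hval a (by rw [hs]; simp) with ha | ha <;> rcases hval b (by rw [hs]; simp) with hb | hb
  · exfalso
    rw [hθ', ha, hb] at h1
    simp [hm', hn'] at h1
    have : m + n = 0 := by exact_mod_cast h1
    omega
  · exact ⟨a, b, hab, by rw [hθ', ha, hb]; simp [sub_eq_add_neg]⟩
  · exact ⟨b, a, hab.symm, by rw [hθ', ha, hb]; simp [sub_eq_add_neg, add_comm]⟩
  · exfalso
    rw [hθ', ha, hb] at h1
    simp [hm', hn'] at h1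
    have h1' : -((m + n : ℕ) : ℂ) = 0 := by rw [← h1]; push_cast; ring
    rw [neg_eq_zero, Nat.cast_eq_zero] at h1'
    omega

open scoped Classical in
theorem classInner_diff (a b c d : IrrCharacter G) :
    classInner ((a : G → ℂ) - (b : G → ℂ)) ((c : G → ℂ) - (d : G → ℂ)) =
      (((if a = c then 1 else 0) - (if a = d then 1 else 0) - (if b = c then 1 else 0) +
        (if b = d then 1 else 0) : ℤ) : ℂ) := by
  simp only [classInner_sub_left, classInner_sub_right, classInner_irr]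
  push_cast
  ring

theorem classInner_diff_eq_one {a b c d : IrrCharacter G} (hab : a ≠ b) (hcd : c ≠ d)
    (h : classInner ((a : G → ℂ) - (b : G → ℂ)) ((c : G → ℂ) - (d : G → ℂ)) = 1) :
    (a = c ∧ b ≠ d ∧ b ≠ c ∧ a ≠ d) ∨ (b = d ∧ a ≠ c ∧ a ≠ d ∧ b ≠ c) := by
  classical
  rw [classInner_diff] at h
  by_cases h1 : a = c <;> by_cases h2 : a = d <;> by_cases h3 : b = c <;> by_cases h4 : b = d <;>
    simp_all
  all_goals norm_num at h

/-- The family of differences with Gram matrix `2` on and `1` off the diagonal. -/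
theorem exists_sign_of_gram (n : ℕ) (i₀ : Fin n) (τ : Fin n → (G → ℂ)) (h0 : τ i₀ = 0)
    (hgen : ∀ i, IsGeneralizedCharacter G (τ i)) (hone : ∀ i, τ i 1 = 0)
    (hgram : ∀ i j, i ≠ i₀ → j ≠ i₀ → classInner (τ i) (τ j) = if i = j then 2 else 1) :
    ∃ ε : ℂ, (ε = 1 ∨ ε = -1) ∧ ∃ μ : Fin n → (G → ℂ), (∀ i, IsIrrCharacter G (μ i)) ∧
      Function.Injective μ ∧ ∀ i, τ i = ε • (μ i - μ i₀) := by
  classical
  by_cases hex : ∃ i, i ≠ i₀
  swap
  · push Not at hex
    refine ⟨1, Or.inl rfl, fun _ => fun _ => 1, fun _ => isIrrCharacter_one,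
      fun a b _ => (hex a).trans (hex b).symm, fun i => ?_⟩
    rw [hex i, h0, sub_self, smul_zero]
  obtain ⟨i₁, hi₁⟩ := hex
  choose A B hAB hτ using fun i : {i // i ≠ i₀} =>
    IsGeneralizedCharacter.eq_irr_sub (hgen i) (by rw [hgram i i i.2 i.2, if_pos rfl]) (hone i)
  have hpair : ∀ i j : {i // i ≠ i₀}, i ≠ j →
      (A i = A j ∧ B i ≠ B j ∧ B i ≠ A j ∧ A i ≠ B j) ∨
        (B i = B j ∧ A i ≠ A j ∧ A i ≠ B j ∧ B i ≠ A j) := fun i j hij =>
    classInner_diff_eq_one (hAB i) (hAB j) (by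
      rw [← hτ i, ← hτ j, hgram i j i.2 j.2, if_neg fun h => hij (Subtype.ext h)])
  -- the common constituent
  have main : (∀ i j, A i = A j) ∨ (∀ i j, B i = B j) := by
    by_contra hno
    push Not at hno
    obtain ⟨⟨i, j, hA⟩, ⟨k, l, hB⟩⟩ := hno
    have hij : i ≠ j := fun h => hA (by rw [h])
    rcases hpair i j hij with ⟨h, -⟩ | ⟨hBij, -⟩
    · exact hA h
    obtain ⟨m, hm⟩ : ∃ m, B m ≠ B i := by
      by_contra hh
      push Not at hh
      exact hB ((hh k).trans (hh l).symm)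
    have hmi : m ≠ i := fun h => hm (by rw [h])
    have hmj : m ≠ j := fun h => hm (by rw [h, hBij])
    rcases hpair m i hmi with ⟨h1, -⟩ | ⟨h1, -⟩
    · rcases hpair m j hmj with ⟨h2, -⟩ | ⟨h2, -⟩
      · exact hA (h1.symm.trans h2)
      · exact hm (h2.trans hBij.symm)
    · exact hm h1
  let i₁' : {i // i ≠ i₀} := ⟨i₁, hi₁⟩
  rcases main with hA | hB
  · refine ⟨-1, Or.inr rfl, fun i => if h : i = i₀ then (A i₁' : G → ℂ) else (B ⟨i, h⟩ : G → ℂ),
      fun i => ?_, ?_, fun i => ?_⟩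
    · by_cases h : i = i₀
      · simp only [dif_pos h]; exact (A i₁').2
      · simp only [dif_neg h]; exact (B ⟨i, h⟩).2
    · intro a b hab
      by_cases ha : a = i₀ <;> by_cases hb : b = i₀
      · exact ha.trans hb.symm
      · simp only [dif_pos ha, dif_neg hb] at hab
        exact absurd ((hA ⟨b, hb⟩ i₁').trans (Subtype.ext hab)) (hAB _)
      · simp only [dif_neg ha, dif_pos hb] at hab
        exact absurd ((hA ⟨a, ha⟩ i₁').trans (Subtype.ext hab.symm)) (hAB _)
      · simp only [dif_neg ha, dif_neg hb] at hab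
        by_contra hne
        rcases hpair ⟨a, ha⟩ ⟨b, hb⟩ (fun h => hne (congrArg Subtype.val h)) with
          ⟨-, h, -⟩ | ⟨-, h, -⟩
        · exact h (Subtype.ext hab)
        · exact h (hA _ _)
    · by_cases h : i = i₀
      · rw [h, h0, sub_self, smul_zero]
      · simp only [dif_neg h, dif_pos]
        rw [show τ i = τ (⟨i, h⟩ : {i // i ≠ i₀}) from rfl, hτ, hA ⟨i, h⟩ i₁']
        simp
  · refine ⟨1, Or.inl rfl, fun i => if h : i = i₀ then (B i₁' : G → ℂ) else (A ⟨i, h⟩ : G → ℂ),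
      fun i => ?_, ?_, fun i => ?_⟩
    · by_cases h : i = i₀
      · simp only [dif_pos h]; exact (B i₁').2
      · simp only [dif_neg h]; exact (A ⟨i, h⟩).2
    · intro a b hab
      by_cases ha : a = i₀ <;> by_cases hb : b = i₀
      · exact ha.trans hb.symm
      · simp only [dif_pos ha, dif_neg hb] at hab
        exact absurd ((Subtype.ext hab.symm).trans (hB i₁' ⟨b, hb⟩)) (hAB _)
      · simp only [dif_neg ha, dif_pos hb] at hab
        exact absurd ((Subtype.ext hab).trans (hB i₁' ⟨a, ha⟩)) (hAB _)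
      · simp only [dif_neg ha, dif_neg hb] at hab
        by_contra hne
        rcases hpair ⟨a, ha⟩ ⟨b, hb⟩ (fun h => hne (congrArg Subtype.val h)) with
          ⟨-, h, -⟩ | ⟨-, h, -⟩
        · exact h (hB _ _)
        · exact h (Subtype.ext hab)
    · by_cases h : i = i₀
      · rw [h, h0, sub_self, smul_zero]
      · simp only [dif_neg h, dif_pos]
        rw [show τ i = τ (⟨i, h⟩ : {i // i ≠ i₀}) from rfl, hτ, hB ⟨i, h⟩ i₁', one_smul]

end Cfsg.Agent.Lib.Characters
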