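import Cfsg.Agent.Lib.Characters.Induced

/-!
# Induction of class functions supported on trivial intersection sets
-/

namespace Cfsg.Agent.Lib.Characters

open scoped ComplexConjugate

set_option linter.unusedSectionVars false
set_option linter.unusedSimpArgs false
set_option linter.style.haveILetI false

universe u

variable {G : Type u} [Group G] [Fintype G]

/-- If `θ` vanishes off `S` and no element outside `H` conjugates `t` into `S`, then the induced
function agrees with `θ` at `t`. -/
theorem indFun_eq_self (H : Subgroup G) (S : Set G) {θ : H → ℂ} (hθ : IsClassFunction H θ)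
    (hθS : ∀ x : H, (x : G) ∉ S → θ x = 0) (t : H)
    (ht : ∀ x : G, x ∉ H → x⁻¹ * (t : G) * x ∉ S) : indFun H θ (t : G) = θ t := by
  classical
  have h1 : ∀ x : G, extendByZero H θ (x⁻¹ * (t : G) * x) = if x ∈ H then θ t else 0 := by
    intro x
    split_ifs with hx
    · have hm : x⁻¹ * (t : G) * x ∈ H := H.mul_mem (H.mul_mem (H.inv_mem hx) t.2) hx
      rw [extendByZero_of_mem _ _ hm, ← hθ t ⟨x⁻¹, H.inv_mem hx⟩]
      exact congrArg θ (Subtype.ext (by simp))
    · by_cases hm : x⁻¹ * (t : G) * x ∈ H
      · rw [extendByZero_of_mem _ _ hm, hθS _ (ht x hx)]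
      · rw [extendByZero_of_not_mem _ _ hm]
  rw [indFun_apply, Finset.sum_congr rfl fun x _ => h1 x, ← Finset.sum_filter, Finset.sum_const,
    nsmul_eq_mul, ← Fintype.card_subtype, ← Nat.card_eq_fintype_card]
  have : (Nat.card H : ℂ) ≠ 0 := by exact_mod_cast Nat.card_pos.ne'
  field_simp

/-- The isometry property of induction for functions supported on a trivial intersection set. -/
theorem classInner_indFun_indFun_eq (H : Subgroup G) [Fintype H] (S : Set G) {θ φ : H → ℂ}
    (hφ : IsClassFunction H φ) (hφS : ∀ x : H, (x : G) ∉ S → φ x = 0)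
    (hsupp : ∀ t : H, θ t ≠ 0 → ∀ x : G, x ∉ H → x⁻¹ * (t : G) * x ∉ S) :
    classInner (indFun H θ) (indFun H φ) = classInner θ φ := by
  rw [classInner_indFun H θ (isClassFunction_indFun H φ)]
  unfold classInner
  refine congrArg _ (Finset.sum_congr rfl fun t _ => ?_)
  by_cases h : θ t = 0
  · simp [h]
  · beta_reduce
    rw [indFun_eq_self H S hφ hφS t (hsupp t h)]

end Cfsg.Agent.Lib.Characters
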