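import Cfsg.Agent.Lib.Characters.Monomial
import Cfsg.Agent.Lib.Characters.Equiv
import Mathlib.FieldTheory.IntermediateField.Adjoin.Algebra
import Mathlib.RingTheory.RootsOfUnity.Complex

/-!
# Brauer's splitting field theorem
-/

namespace Cfsg.Agent.Lib.Characters

open Module
open scoped ComplexConjugate

set_option linter.unusedSectionVars false
set_option linter.style.haveILetI false

universe u

variable {G : Type u} [Group G]

/-- `f` is the character of a matrix representation with entries in `K`. -/
def IsRealizable (K : IntermediateField ℚ ℂ) (f : G → ℂ) : Prop :=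
  ∃ (n : ℕ) (A : G →* Matrix (Fin n) (Fin n) K), f = fun g => ((A g).trace : ℂ)

variable {K : IntermediateField ℚ ℂ}

/-- The complex representation attached to a `K`-matrix representation. -/
noncomputable def complexify {n : ℕ} (A : G →* Matrix (Fin n) (Fin n) K) :
    Representation ℂ G (Fin n → ℂ) :=
  (Matrix.toLinAlgEquiv' (R := ℂ) (n := Fin n)).toMonoidHom.comp
    ((K.val.toRingHom.mapMatrix (m := Fin n)).toMonoidHom.comp A)

theorem complexify_character {n : ℕ} (A : G →* Matrix (Fin n) (Fin n) K) :
    (complexify A).character = fun g => ((A g).trace : ℂ) := by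
  funext g
  show LinearMap.trace ℂ (Fin n → ℂ) (Matrix.toLin' ((A g).map K.val)) = _
  rw [Matrix.trace_toLin'_eq]
  exact (map_sum K.val (fun i => A g i i) Finset.univ).symm

theorem IsRealizable.isCharacter {f : G → ℂ} (hf : IsRealizable K f) : IsCharacter G f := by
  obtain ⟨n, A, rfl⟩ := hf
  exact ⟨n, complexify A, complexify_character A⟩

/-- Any finite-dimensional `K`-representation gives a realizable function. -/
theorem isRealizable_of_rep {V : Type} [AddCommGroup V] [Module K V] [FiniteDimensional K V]
    (ρ : Representation K G V) : IsRealizable K (fun g => (ρ.character g : ℂ)) := by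
  let b := Module.finBasis K V
  refine ⟨_, (LinearMap.toMatrixAlgEquiv b).toMonoidHom.comp ρ, funext fun g => ?_⟩
  simp only [Representation.character, LinearMap.trace_eq_matrix_trace K b]
  rfl

theorem isRealizable_zero : IsRealizable K (0 : G → ℂ) :=
  ⟨0, { toFun := fun _ => 1, map_one' := rfl, map_mul' := fun _ _ => (one_mul 1).symm },
    funext fun g => by simp [Matrix.trace]⟩

theorem IsRealizable.add {f f' : G → ℂ} (hf : IsRealizable K f) (hf' : IsRealizable K f') :
    IsRealizable K (f + f') := by
  obtain ⟨n, A, rfl⟩ := hf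
  obtain ⟨m, B, rfl⟩ := hf'
  let ρ : Representation K G (Fin n → K) :=
    (Matrix.toLinAlgEquiv' (R := K) (n := Fin n)).toMonoidHom.comp A
  let σ : Representation K G (Fin m → K) :=
    (Matrix.toLinAlgEquiv' (R := K) (n := Fin m)).toMonoidHom.comp B
  have h := isRealizable_of_rep (ρ.prod σ)
  have he : ∀ g, ((ρ.prod σ).character g : ℂ) = ((A g).trace : ℂ) + ((B g).trace : ℂ) := by
    intro g
    have h1 : (ρ.prod σ).character g = ρ.character g + σ.character g :=
      LinearMap.trace_prodMap' (ρ g) (σ g)
    have h2 : ρ.character g = (A g).trace := Matrix.trace_toLin'_eq _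
    have h3 : σ.character g = (B g).trace := Matrix.trace_toLin'_eq _
    rw [h1, h2, h3]
    norm_num
  simp only [he] at h
  exact h

theorem IsRealizable.nsmul {f : G → ℂ} (hf : IsRealizable K f) (k : ℕ) :
    IsRealizable K ((k : ℂ) • f) := by
  induction k with
  | zero => simpa using isRealizable_zero
  | succ k ih =>
    rw [Nat.cast_succ, add_smul, one_smul]
    exact IsRealizable.add ih hf

theorem IsRealizable.sum {ι : Type*} (s : Finset ι) {f : ι → G → ℂ}
    (hf : ∀ i ∈ s, IsRealizable K (f i)) : IsRealizable K (∑ i ∈ s, f i) := by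
  induction s using Finset.cons_induction with
  | empty => simpa using isRealizable_zero
  | cons a s ha ih =>
    rw [Finset.sum_cons]
    exact IsRealizable.add (hf a (Finset.mem_cons_self a s))
      (ih fun i hi => hf i (Finset.mem_cons_of_mem hi))

/-- Characters induced from linear characters with values in `K` are realizable. -/
theorem isRealizable_indFun [Fintype G] (H : Subgroup G) (lam : H →* ℂˣ)
    (hlam : ∀ h, ((lam h : ℂˣ) : ℂ) ∈ K) :
    IsRealizable K (indFun H (fun h => (lam h : ℂ))) := by
  classical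
  haveI := Fintype.ofFinite H
  set θ : H → ℂ := fun h => (lam h : ℂ) with hθ
  have hv : ∀ g, extendByZero H θ g ∈ K := fun g => by
    by_cases hg : g ∈ H
    · rw [extendByZero_of_mem _ _ hg]; exact hlam _
    · rw [extendByZero_of_not_mem _ _ hg]; exact K.zero_mem
  let r := Finite.equivFin (G ⧸ H)
  let s : Fin (Nat.card (G ⧸ H)) → G := fun i => Quotient.out (r.symm i)
  have hs : ∀ i, (QuotientGroup.mk (s i) : G ⧸ H) = r.symm i := fun i => QuotientGroup.out_eq' _
  let M : G → Matrix (Fin (Nat.card (G ⧸ H))) (Fin (Nat.card (G ⧸ H))) K :=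
    fun g i j => ⟨extendByZero H θ ((s i)⁻¹ * g * s j), hv _⟩
  have hmul : ∀ g h, M (g * h) = M g * M h := by
    intro g h
    apply Matrix.ext
    intro i j
    apply Subtype.ext
    rw [Matrix.mul_apply]
    push_cast
    show extendByZero H θ ((s i)⁻¹ * (g * h) * s j) =
      ∑ l, extendByZero H θ ((s i)⁻¹ * g * s l) * extendByZero H θ ((s l)⁻¹ * h * s j)
    let l₀ := r (QuotientGroup.mk (h * s j))
    have hl₀ : (s l₀)⁻¹ * h * s j ∈ H := by
      rw [mul_assoc, ← QuotientGroup.eq, hs, Equiv.symm_apply_apply]
    rw [Finset.sum_eq_single l₀]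
    · rw [extendByZero_of_mem H θ hl₀]
      have he : (s i)⁻¹ * (g * h) * s j = (s i)⁻¹ * g * s l₀ * ((s l₀)⁻¹ * h * s j) := by group
      by_cases hg : (s i)⁻¹ * g * s l₀ ∈ H
      · rw [extendByZero_of_mem H θ hg, extendByZero_of_mem H θ (he ▸ H.mul_mem hg hl₀)]
        simp only [hθ]
        rw [← Units.val_mul, ← map_mul]
        exact congrArg (fun x => ((lam x : ℂˣ) : ℂ)) (Subtype.ext he)
      · rw [extendByZero_of_not_mem H θ hg, zero_mul, extendByZero_of_not_mem H θ]
        rw [he, Subgroup.mul_mem_cancel_right _ hl₀]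
        exact hg
    · intro l _ hl
      rw [extendByZero_of_not_mem H θ (g := (s l)⁻¹ * h * s j), mul_zero]
      intro hmem
      apply hl
      rw [mul_assoc, ← QuotientGroup.eq, hs] at hmem
      show l = r _
      rw [← hmem, Equiv.apply_symm_apply]
    · exact fun hne => absurd (Finset.mem_univ _) hne
  have hone : M 1 = 1 := by
    apply Matrix.ext
    intro i j
    apply Subtype.ext
    show extendByZero H θ ((s i)⁻¹ * 1 * s j) = _
    rw [mul_one]
    by_cases hij : i = j
    · subst hij
      rw [inv_mul_cancel, extendByZero_of_mem H θ H.one_mem, Matrix.one_apply_eq]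
      show ((lam 1 : ℂˣ) : ℂ) = 1
      rw [map_one, Units.val_one]
    · rw [extendByZero_of_not_mem H θ, Matrix.one_apply_ne hij]
      · rfl
      · intro hmem
        rw [← QuotientGroup.eq, hs, hs] at hmem
        exact hij (r.symm.injective hmem)
  refine ⟨_, { toFun := M, map_one' := hone, map_mul' := hmul }, funext fun g => ?_⟩
  show indFun H θ g = ((∑ i, M g i i : K) : ℂ)
  have hsum : ((∑ i, M g i i : K) : ℂ) = ∑ i, extendByZero H θ ((s i)⁻¹ * g * s i) := by
    push_cast
    rfl
  rw [hsum, indFun_apply, ← Finset.sum_fiberwise Finset.univ (fun x : G => r (QuotientGroup.mk x)),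
    Finset.mul_sum]
  refine Finset.sum_congr rfl fun i _ => ?_
  have hmemfib : ∀ x : G, r (QuotientGroup.mk x) = i ↔ (s i)⁻¹ * x ∈ H := by
    intro x
    rw [← QuotientGroup.eq, hs]
    constructor
    · intro h; rw [← h, Equiv.symm_apply_apply]
    · intro h; rw [← h, Equiv.apply_symm_apply]
  have hconst : ∀ x ∈ Finset.univ.filter (fun x : G => r (QuotientGroup.mk x) = i),
      extendByZero H θ (x⁻¹ * g * x) = extendByZero H θ ((s i)⁻¹ * g * s i) := by
    intro x hx
    set h : H := ⟨(s i)⁻¹ * x, (hmemfib x).mp (Finset.mem_filter.mp hx).2⟩ with hh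
    have he : x⁻¹ * g * x = (h : G)⁻¹ * ((s i)⁻¹ * g * s i) * (h : G) := by
      simp only [hh]; group
    rw [he]
    by_cases hm : (s i)⁻¹ * g * s i ∈ H
    · rw [extendByZero_of_mem H θ hm,
        extendByZero_of_mem H θ (H.mul_mem (H.mul_mem (H.inv_mem h.2) hm) h.2)]
      show ((lam (h⁻¹ * ⟨_, hm⟩ * h) : ℂˣ) : ℂ) = ((lam ⟨_, hm⟩ : ℂˣ) : ℂ)
      rw [map_mul, map_mul, map_inv, mul_comm, ← mul_assoc, mul_inv_cancel, one_mul]
    · rw [extendByZero_of_not_mem H θ hm, extendByZero_of_not_mem H θ]
      rw [Subgroup.mul_mem_cancel_right _ h.2, Subgroup.mul_mem_cancel_left _ (H.inv_mem h.2)]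
      exact hm
  have hcard : (Finset.univ.filter fun x : G => r (QuotientGroup.mk x) = i).card = Nat.card H := by
    rw [← Fintype.card_subtype, ← Nat.card_eq_fintype_card]
    exact Nat.card_congr
      { toFun := fun x => ⟨(s i)⁻¹ * x.1, (hmemfib x.1).mp x.2⟩
        invFun := fun h => ⟨s i * h, (hmemfib _).mpr (by simp)⟩
        left_inv := fun x => Subtype.ext (by simp)
        right_inv := fun h => Subtype.ext (by simp) }
  rw [Finset.sum_congr rfl hconst, Finset.sum_const, hcard, nsmul_eq_mul,
    inv_mul_cancel_left₀ natCard_ne_zero_complex]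

variable [Fintype G]

/-- Splitting off a nonzero intertwining map from a difference of realizable functions. -/
theorem exists_smaller_of_intertwining {n m : ℕ} (ρ : Representation K G (Fin n → K))
    (σ : Representation K G (Fin m → K)) (f : Representation.IntertwiningMap ρ σ) (hf : f ≠ 0) :
    ∃ (a b : G → ℂ) (m' : ℕ), IsRealizable K a ∧ IsRealizable K b ∧ m' < m ∧ b 1 = (m' : ℂ) ∧
      ∀ g, (ρ.character g : ℂ) - (σ.character g : ℂ) = a g - b g := by
  haveI : NeZero (Nat.card G : K) := ⟨by exact_mod_cast Nat.card_pos.ne'⟩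
  let kerS : Subrepresentation ρ := ⟨LinearMap.ker f.toLinearMap, fun g x hx => by
    simp only [LinearMap.mem_ker] at hx ⊢
    rw [show f.toLinearMap (ρ g x) = σ g (f.toLinearMap x) from
      LinearMap.congr_fun (f.isIntertwining' g) x, hx, map_zero]⟩
  let rngS : Subrepresentation σ := ⟨LinearMap.range f.toLinearMap, fun g x hx => by
    obtain ⟨y, rfl⟩ := LinearMap.mem_range.mp hx
    exact LinearMap.mem_range.mpr ⟨ρ g y, LinearMap.congr_fun (f.isIntertwining' g) y⟩⟩
  obtain ⟨C, hC⟩ := exists_isCompl kerS
  obtain ⟨D, hD⟩ := exists_isCompl rngS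
  have hC' : IsCompl kerS.toSubmodule C.toSubmodule :=
    ⟨disjoint_iff.mpr (congrArg Subrepresentation.toSubmodule hC.inf_eq_bot),
      codisjoint_iff.mpr (congrArg Subrepresentation.toSubmodule hC.sup_eq_top)⟩
  have hD' : IsCompl rngS.toSubmodule D.toSubmodule :=
    ⟨disjoint_iff.mpr (congrArg Subrepresentation.toSubmodule hD.inf_eq_bot),
      codisjoint_iff.mpr (congrArg Subrepresentation.toSubmodule hD.sup_eq_top)⟩
  have hadd : ∀ {k : ℕ} (τ : Representation K G (Fin k → K)) (S T : Subrepresentation τ),
      IsCompl S.toSubmodule T.toSubmodule → ∀ g,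
        τ.character g = S.toRepresentation.character g + T.toRepresentation.character g := by
    intro k τ S T h g
    rw [← Representation.char_iso (Representation.Equiv.mk
      (Submodule.prodEquivOfIsCompl _ _ h) (fun g => by
        apply LinearMap.ext
        rintro ⟨x, y⟩
        simp [Subrepresentation.toRepresentation, Submodule.coe_prodEquivOfIsCompl']) :
      (S.toRepresentation.prod T.toRepresentation).Equiv τ)]
    exact LinearMap.trace_prodMap' (S.toRepresentation g) (T.toRepresentation g)
  -- the complement of the kernel is isomorphic to the range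
  let φ : C.toSubmodule →ₗ[K] rngS.toSubmodule :=
    (f.toLinearMap.domRestrict C.toSubmodule).codRestrict _ fun x =>
      LinearMap.mem_range.mpr ⟨x, rfl⟩
  have hφ : Function.Bijective φ := by
    constructor
    · rw [← LinearMap.ker_eq_bot, eq_bot_iff]
      intro x hx
      have h1 : (x : Fin n → K) ∈ kerS.toSubmodule := congrArg Subtype.val (LinearMap.mem_ker.mp hx)
      rw [Submodule.mem_bot]
      exact Subtype.ext (Submodule.disjoint_def.mp hC'.disjoint _ h1 x.2)
    · rintro ⟨y, hy⟩
      obtain ⟨x, rfl⟩ := LinearMap.mem_range.mp hy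
      have hx : x ∈ kerS.toSubmodule ⊔ C.toSubmodule := by
        rw [hC'.sup_eq_top]; exact Submodule.mem_top
      obtain ⟨a, ha, c, hc, rfl⟩ := Submodule.mem_sup.mp hx
      refine ⟨⟨c, hc⟩, Subtype.ext ?_⟩
      show f.toLinearMap c = f.toLinearMap (a + c)
      rw [map_add, show f.toLinearMap a = 0 from ha, zero_add]
  have hiso : C.toRepresentation.character = rngS.toRepresentation.character :=
    Representation.char_iso (Representation.Equiv.mk (LinearEquiv.ofBijective φ hφ) fun g => by
      ext x : 1
      apply Subtype.ext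
      exact LinearMap.congr_fun (f.isIntertwining' g) (x : Fin n → K))
  refine ⟨fun g => (kerS.toRepresentation.character g : ℂ),
    fun g => (D.toRepresentation.character g : ℂ), finrank K D.toSubmodule,
    isRealizable_of_rep _, isRealizable_of_rep _, ?_, ?_, fun g => ?_⟩
  · have h1 := Submodule.finrank_add_eq_of_isCompl hD'
    rw [Module.finrank_fin_fun] at h1
    have h2 : 0 < finrank K rngS.toSubmodule := by
      rw [pos_iff_ne_zero]
      intro h0
      exact hf (Representation.IntertwiningMap.ext
        (LinearMap.range_eq_bot.mp (Submodule.finrank_eq_zero.mp h0)))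
    omega
  · show (D.toRepresentation.character 1 : ℂ) = _
    rw [Representation.char_one]
    push_cast
    rfl
  · rw [hadd ρ kerS C hC' g, hadd σ rngS D hD' g, hiso]
    push_cast
    ring

theorem classInner_realizable {n m : ℕ} (A : G →* Matrix (Fin n) (Fin n) K)
    (B : G →* Matrix (Fin m) (Fin m) K) :
    classInner (fun g => ((B g).trace : ℂ)) (fun g => ((A g).trace : ℂ)) =
      (finrank K (Representation.IntertwiningMap
        ((Matrix.toLinAlgEquiv' (R := K) (n := Fin n)).toMonoidHom.comp A : Representation K G (Fin n → K))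
        ((Matrix.toLinAlgEquiv' (R := K) (n := Fin m)).toMonoidHom.comp B : Representation K G (Fin m → K))) : ℂ) := by
  haveI : Invertible (Nat.card G : K) := invertibleOfNonzero (by exact_mod_cast Nat.card_pos.ne')
  set ρ : Representation K G (Fin n → K) := (Matrix.toLinAlgEquiv' (R := K) (n := Fin n)).toMonoidHom.comp A
  set σ : Representation K G (Fin m → K) := (Matrix.toLinAlgEquiv' (R := K) (n := Fin m)).toMonoidHom.comp B
  have h := congrArg (fun x : K => (x : ℂ))
    (Representation.card_inv_mul_sum_char_mul_char_eq_finrank ρ σ)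
  push_cast at h
  rw [← h, classInner_eq_sum_inv (IsRealizable.isCharacter ⟨n, A, rfl⟩)]
  refine congrArg _ (Finset.sum_congr rfl fun g _ => ?_)
  rw [show ρ.character g⁻¹ = (A g⁻¹).trace from Matrix.trace_toLin'_eq _,
    show σ.character g = (B g).trace from Matrix.trace_toLin'_eq _]

/-- An irreducible character which is a difference of realizable ones is realizable. -/
theorem isRealizable_of_diff {χ : G → ℂ} (hχ : IsIrrCharacter G χ) :
    ∀ (m : ℕ) (a b : G → ℂ), IsRealizable K a → IsRealizable K b → b 1 = (m : ℂ) →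
      χ = a - b → IsRealizable K χ := by
  intro m
  induction m using Nat.strong_induction_on with
  | _ m ih =>
    intro a b ha hb hb1 hab
    obtain ⟨n, A, rfl⟩ := ha
    obtain ⟨m', B, rfl⟩ := hb
    set ρ : Representation K G (Fin n → K) :=
      (Matrix.toLinAlgEquiv' (R := K) (n := Fin n)).toMonoidHom.comp A
    set σ : Representation K G (Fin m' → K) :=
      (Matrix.toLinAlgEquiv' (R := K) (n := Fin m')).toMonoidHom.comp B
    have hρ : ∀ g, (ρ.character g : ℂ) = ((A g).trace : ℂ) :=
      fun g => congrArg Subtype.val (Matrix.trace_toLin'_eq (A g))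
    have hσ : ∀ g, (σ.character g : ℂ) = ((B g).trace : ℂ) :=
      fun g => congrArg Subtype.val (Matrix.trace_toLin'_eq (B g))
    by_cases hHom : ∃ f : Representation.IntertwiningMap ρ σ, f ≠ 0
    · obtain ⟨f, hf⟩ := hHom
      obtain ⟨a', b', m'', ha', hb', hlt, hb'1, hdiff⟩ := exists_smaller_of_intertwining ρ σ f hf
      have hm : m' = m := by
        have h1 : ((B 1).trace : ℂ) = (m' : ℂ) := by
          rw [map_one, Matrix.trace_one, Fintype.card_fin]; norm_num
        exact_mod_cast h1.symm.trans hb1
      refine ih m'' (hm ▸ hlt) a' b' ha' hb' hb'1 ?_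
      rw [hab]
      funext g
      rw [Pi.sub_apply, Pi.sub_apply, ← hdiff g, hρ, hσ]
    · push Not at hHom
      haveI : Subsingleton (Representation.IntertwiningMap ρ σ) :=
        ⟨fun f f' => (hHom f).trans (hHom f').symm⟩
      have h0 : classInner (fun g => ((B g).trace : ℂ)) (fun g => ((A g).trace : ℂ)) = 0 := by
        rw [classInner_realizable A B, Module.finrank_zero_of_subsingleton, Nat.cast_zero]
      have h0' : classInner (fun g => ((A g).trace : ℂ)) (fun g => ((B g).trace : ℂ)) = 0 := by
        rw [← classInner_conj_symm, h0, map_zero]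
      have hac : IsCharacter G (fun g => ((A g).trace : ℂ)) := IsRealizable.isCharacter ⟨n, A, rfl⟩
      have hbc : IsCharacter G (fun g => ((B g).trace : ℂ)) := IsRealizable.isCharacter ⟨m', B, rfl⟩
      obtain ⟨i, hi⟩ := IsCharacter.exists_classInner_nat hac hac
      obtain ⟨j, hj⟩ := IsCharacter.exists_classInner_nat hbc hbc
      have hone := IsIrrCharacter.classInner_self hχ
      rw [hab, classInner_sub_left, classInner_sub_right, classInner_sub_right, hi, hj, h0, h0'] at hone
      have hij : i + j = 1 := by
        have : ((i + j : ℕ) : ℂ) = ((1 : ℕ) : ℂ) := by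
          push_cast; linear_combination hone
        exact_mod_cast this
      rcases Nat.eq_zero_or_pos j with hj0 | hj0
      · have hb0 := classInner_self_eq_zero (hj.trans (by rw [hj0, Nat.cast_zero]))
        rw [hab, hb0, sub_zero]
        exact ⟨n, A, rfl⟩
      · exfalso
        have ha0 := classInner_self_eq_zero (hi.trans (by rw [show i = 0 by omega, Nat.cast_zero]))
        obtain ⟨d, hd, hd'⟩ := IsIrrCharacter.exists_apply_one hχ
        beta_reduce at hb1
        rw [hab, ha0, zero_sub, Pi.neg_apply] at hd'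
        beta_reduce at hd'
        rw [hb1] at hd'
        have : ((d + m : ℕ) : ℂ) = 0 := by push_cast; rw [← hd']; ring
        rw [Nat.cast_eq_zero] at this
        omega

/-- Every character is realizable over a field containing the roots of unity of the exponent. -/
theorem isRealizable_of_isCharacter (hK : ∀ z : ℂ, z ^ Monoid.exponent G = 1 → z ∈ K)
    {χ : G → ℂ} (hχ : IsCharacter G χ) : IsRealizable K χ := by
  classical
  haveI := Fintype.ofFinite (IrrCharacter G)
  obtain ⟨mult, hmult, -⟩ := IsCharacter.exists_nat_decomp hχ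
  rw [hmult]
  refine IsRealizable.sum _ fun ψ _ => IsRealizable.nsmul ?_ _
  obtain ⟨l, -, hl⟩ := brauer_induction (irr_isCharacter ψ)
  have hdiff : ∀ l : List ((E : Subgroup G) × ((E →* ℂˣ) × ℤ)), ∃ a b : G → ℂ,
      IsRealizable K a ∧ IsRealizable K b ∧
      (l.map fun t => (t.2.2 : ℂ) • Cfsg.indFun t.1 (fun e => (t.2.1 e : ℂ))).sum = a - b := by
    intro l
    induction l with
    | nil => exact ⟨0, 0, isRealizable_zero, isRealizable_zero, by simp⟩
    | cons t l ih =>
      obtain ⟨a, b, ha, hb, hab⟩ := ih
      have ht : IsRealizable K (Cfsg.indFun t.1 (fun e => (t.2.1 e : ℂ))) := by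
        refine isRealizable_indFun t.1 t.2.1 fun h => hK _ ?_
        rw [← Units.val_pow_eq_pow_val, ← map_pow, show h ^ Monoid.exponent G = 1 from
          Subtype.ext (Monoid.pow_exponent_eq_one (h : G)), map_one, Units.val_one]
      obtain ⟨k, hk | hk⟩ := Int.eq_nat_or_neg t.2.2
      · refine ⟨_, b, IsRealizable.add (IsRealizable.nsmul ht k) ha, hb, ?_⟩
        rw [List.map_cons, List.sum_cons, hab, hk, Int.cast_natCast]
        exact (add_sub_assoc _ _ _).symm
      · refine ⟨a, _, ha, IsRealizable.add (IsRealizable.nsmul ht k) hb, ?_⟩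
        rw [List.map_cons, List.sum_cons, hab, hk, Int.cast_neg, Int.cast_natCast]
        funext g
        simp only [Pi.add_apply, Pi.sub_apply, Pi.smul_apply, smul_eq_mul]
        ring
  obtain ⟨a, b, ha, hb, hab⟩ := hdiff l
  obtain ⟨m, hm⟩ := IsCharacter.exists_apply_one (IsRealizable.isCharacter hb)
  exact isRealizable_of_diff ψ.2 m a b ha hb hm (hl.trans hab)

theorem exists_realization {n : ℕ} (ρ : Representation ℂ G (Fin n → ℂ)) :
    ∃ σ : Representation ℂ G (Fin n → ℂ), Nonempty (ρ.Equiv σ) ∧
      ∀ g : G, ∀ i j : Fin n, LinearMap.toMatrix' (σ g) i j ∈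
        Algebra.adjoin ℚ ({Complex.exp (2 * Real.pi * Complex.I / (Monoid.exponent G : ℂ))} : Set ℂ) := by
  set ζ := Complex.exp (2 * Real.pi * Complex.I / (Monoid.exponent G : ℂ)) with hζdef
  have hm : Monoid.exponent G ≠ 0 := Monoid.exponent_ne_zero_of_finite
  have hζ : IsPrimitiveRoot ζ (Monoid.exponent G) := Complex.isPrimitiveRoot_exp _ hm
  let K : IntermediateField ℚ ℂ := IntermediateField.adjoin ℚ {ζ}
  have hK : ∀ z : ℂ, z ^ Monoid.exponent G = 1 → z ∈ K := by
    intro z hz
    haveI : NeZero (Monoid.exponent G) := ⟨hm⟩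
    obtain ⟨i, -, rfl⟩ := hζ.eq_pow_of_pow_eq_one hz
    exact pow_mem (IntermediateField.subset_adjoin ℚ _ (Set.mem_singleton ζ)) i
  obtain ⟨n', A, hA⟩ := isRealizable_of_isCharacter (K := K) hK ⟨n, ρ, rfl⟩
  have hn : n' = n := by
    have h := congrFun hA 1
    rw [Representation.char_one, map_one, Matrix.trace_one, Fintype.card_fin,
      Module.finrank_fin_fun] at h
    norm_num at h
    exact h.symm
  subst hn
  refine ⟨complexify A, nonempty_equiv_of_character_eq ρ _ (hA.trans (complexify_character A).symm),
    fun g i j => ?_⟩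
  show LinearMap.toMatrix' (Matrix.toLin' ((A g).map K.val)) i j ∈ _
  rw [LinearMap.toMatrix'_toLin', ← IntermediateField.adjoin_simple_toSubalgebra_of_isAlgebraic
    (IsIntegral.isAlgebraic (IsIntegral.of_pow (R := ℚ) (Nat.pos_of_ne_zero hm)
      (by rw [hζ.pow_eq_one]; exact isIntegral_one)))]
  exact (A g i j).2

end Cfsg.Agent.Lib.Characters
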