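import Cfsg.Agent.Lib.Characters.BrauerMain
import Cfsg.Agent.Lib.BlockHeights.ClassExpand
import Mathlib.GroupTheory.SchurZassenhaus

/-!
# Section indicators as integral combinations of irreducible characters
-/

namespace Cfsg.Agent.Lib.Characters

open scoped ComplexConjugate

set_option linter.unusedSectionVars false
set_option linter.unusedSimpArgs false
set_option linter.style.haveILetI false

universe u

variable {G : Type u} [Group G]

/-- Brauer's characterisation over the algebraic integers. -/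
theorem isIntegral_classInner_of_elementary [Fintype G] {θ : G → ℂ} (hθ : IsClassFunction G θ)
    (hE : ∀ (E : Subgroup G) [Fintype E] (p : ℕ), p.Prime → IsElementary p E → ∀ F : E → ℂ,
      IsCharacter E F → IsIntegral ℤ (classInner (fun e : E => θ e) F))
    {χ : G → ℂ} (hχ : IsCharacter G χ) : IsIntegral ℤ (classInner θ χ) := by
  classical
  have hint : ∀ f ∈ Submodule.span AInt (elemInducedAll G), IsIntegral ℤ (classInner (θ * f) χ) := by
    intro f hf
    induction hf using Submodule.span_induction with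
    | mem x hx =>
      obtain ⟨p, hp, E, ψ, hE', hψ, rfl⟩ := hx
      haveI := Fintype.ofFinite E
      rw [mul_comm θ, ← indFun_mul_restrict E ψ hθ, classInner_indFun E _
        (IsCharacter.isClassFunction hχ)]
      have hF : IsCharacter E ((fun e : E => conj (ψ e)) * fun e : E => χ e) :=
        IsCharacter.mul (IsCharacter.conjugate hψ) (IsCharacter.restrict hχ E)
      have h := hE E p hp hE' _ hF
      convert h using 1
      simp only [classInner, Pi.mul_apply, map_mul, Complex.conj_conj]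
      congr 1
      exact Finset.sum_congr rfl fun e _ => by ring
    | zero => rw [mul_zero, classInner_zero_left]; exact isIntegral_zero
    | add x y _ _ hx hy => rw [mul_add, classInner_add_left]; exact hx.add hy
    | smul a x _ hx =>
      have : θ * (a • x) = (a : ℂ) • (θ * x) := by rw [mul_smul_comm]; rfl
      rw [this, classInner_smul_left]
      exact a.2.mul hx
  have h1 := hint _ one_mem_span_elemInducedAll
  rwa [show θ * (fun _ : G => (1 : ℂ)) = θ from mul_one θ] at h1

theorem card_dvd_of_pow {E : Type u} [Group E] [Finite E] {X Y : ℕ} (hdvd : Nat.card E ∣ X * Y)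
    (hcop : X.Coprime Y) (Z : Subgroup E) (hZ : ∀ z ∈ Z, z ^ X = 1) : Nat.card Z ∣ X := by
  refine Nat.Coprime.dvd_of_dvd_mul_right ?_ ((Subgroup.card_subgroup_dvd_card Z).trans hdvd)
  refine Nat.coprime_of_dvd fun q hq hqZ hqY => ?_
  haveI := Fact.mk hq
  obtain ⟨z, hz⟩ := exists_prime_orderOf_dvd_card' q hqZ
  have h1 : q ∣ X := by
    rw [← hz]
    exact orderOf_dvd_of_pow_eq_one (Subtype.ext (hZ z z.2))
  exact hq.ne_one (Nat.eq_one_of_dvd_coprimes hcop h1 hqY)

/-- Decomposition of an elementary group along coprime `X`, `Y` when `p ∤ X`. -/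
theorem exists_split {E : Type u} [Group E] [Finite E] {p : ℕ} (hp : p.Prime)
    (hE : IsElementary p E) {X Y : ℕ} (hdvd : Nat.card E ∣ X * Y) (hcop : X.Coprime Y)
    (hpX : ¬ p ∣ X) : ∃ Z K : Subgroup E, Nat.card Z ∣ X ∧ Nat.card K ∣ Y ∧
      (∀ z ∈ Z, ∀ k ∈ K, Commute z k) ∧ Subgroup.IsComplement' Z K := by
  obtain ⟨x, hx, -, k, hk⟩ := hE
  have hxc : Subgroup.zpowers x ≤ Subgroup.center E := Subgroup.zpowers_le.mpr hx
  haveI : (Subgroup.zpowers x).Normal := ⟨fun n hn g => by
    rw [Subgroup.mem_center_iff.mp (hxc hn) g, mul_inv_cancel_right]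
    exact hn⟩
  let Z : Subgroup E :=
    { carrier := {z | z ∈ Subgroup.zpowers x ∧ z ^ X = 1}
      one_mem' := ⟨one_mem _, one_pow _⟩
      mul_mem' := fun {a b} ha hb => ⟨mul_mem ha.1 hb.1, by
        rw [Commute.mul_pow (Subgroup.mem_center_iff.mp (hxc hb.1) a), ha.2, hb.2, one_mul]⟩
      inv_mem' := fun {a} ha => ⟨inv_mem ha.1, by rw [inv_pow, ha.2, inv_one]⟩ }
  have hmem : ∀ z : E, z ^ X = 1 → z ∈ Z := by
    intro z hz
    refine ⟨(QuotientGroup.eq_one_iff z).mp (orderOf_eq_one_iff.mp ?_), hz⟩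
    refine Nat.eq_one_of_dvd_coprimes ((hp.coprime_iff_not_dvd.mpr hpX).pow_left k).symm
      ((orderOf_map_dvd (QuotientGroup.mk' (Subgroup.zpowers x)) z).trans
        (orderOf_dvd_of_pow_eq_one hz)) ?_
    rw [← hk, Subgroup.index_eq_card]
    exact orderOf_dvd_natCard _
  have hZc : Z ≤ Subgroup.center E := fun z hz => hxc hz.1
  haveI : Z.Normal := ⟨fun n hn g => by
    rw [Subgroup.mem_center_iff.mp (hZc hn) g, mul_inv_cancel_right]
    exact hn⟩
  have hZX : Nat.card Z ∣ X := card_dvd_of_pow hdvd hcop Z fun z hz => hz.2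
  have hidx : Z.index.Coprime X := by
    refine Nat.coprime_of_dvd fun q hq hqi hqX => ?_
    haveI := Fact.mk hq
    let Q : Sylow q E := default
    obtain ⟨j, hj⟩ := (IsPGroup.iff_card).mp Q.2
    have hQX : Nat.card (Q : Subgroup E) ∣ X := by
      refine Nat.Coprime.dvd_of_dvd_mul_right (n := Y) ?_
        ((Subgroup.card_subgroup_dvd_card _).trans hdvd)
      rw [hj]
      exact (Nat.Coprime.coprime_dvd_left hqX hcop).pow_left j
    have hQZ : (Q : Subgroup E) ≤ Z := fun s hs => by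
      refine hmem s ?_
      obtain ⟨c, hc⟩ := (Subgroup.orderOf_dvd_natCard _ hs).trans hQX
      rw [hc, pow_mul, pow_orderOf_eq_one, one_pow]
    exact Q.not_dvd_index (hqi.trans (Subgroup.index_dvd_of_le hQZ))
  obtain ⟨K, hK⟩ := Subgroup.exists_right_complement'_of_coprime
    (Nat.Coprime.coprime_dvd_left hZX hidx.symm)
  refine ⟨Z, K, hZX, ?_, fun z hz k _ => (Subgroup.mem_center_iff.mp (hZc hz) k).symm, hK⟩
  rw [← hK.symm.index_eq_card]
  exact Nat.Coprime.dvd_of_dvd_mul_left hidx (Z.index_dvd_card.trans hdvd)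

/-- The indicator of a `π'`-section, times `n`, is an integral combination of irreducibles. -/
theorem sectionIndicator_integral [Fintype G] (m n : ℕ) (hmn : Nat.card G = m * n)
    (hcop : m.Coprime n) (g : G) (hg : Nat.Coprime (orderOf g) m) (θ : G → ℂ)
    (hθ1 : ∀ x : G, (∃ v : G, IsConj v g ∧ (∃ u : G, x = u * v ∧ Commute u v ∧
      Nat.Coprime (orderOf u) n ∧ Nat.Coprime (orderOf v) m)) → θ x = n)
    (hθ0 : ∀ x : G, (¬ ∃ v : G, IsConj v g ∧ (∃ u : G, x = u * v ∧ Commute u v ∧
      Nat.Coprime (orderOf u) n ∧ Nat.Coprime (orderOf v) m)) → θ x = 0) :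
    ∃ c : IrrCharacter G → ℂ, (∀ χ, c χ ∈ AlgInt) ∧
      θ = ∑ᶠ χ : IrrCharacter G, c χ • (χ : G → ℂ) := by
  classical
  haveI := Fintype.ofFinite (IrrCharacter G)
  have hcl : IsClassFunction G θ := by
    intro x h
    have key : ∀ x h : G, (∃ v : G, IsConj v g ∧ (∃ u : G, x = u * v ∧ Commute u v ∧
        Nat.Coprime (orderOf u) n ∧ Nat.Coprime (orderOf v) m)) →
        ∃ v : G, IsConj v g ∧ (∃ u : G, h * x * h⁻¹ = u * v ∧ Commute u v ∧
        Nat.Coprime (orderOf u) n ∧ Nat.Coprime (orderOf v) m) := by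
      rintro x h ⟨v, hv, u, rfl, hc, hu, hvm⟩
      refine ⟨MulAut.conj h v, IsConj.trans (isConj_iff.mpr ⟨h, rfl⟩).symm hv, MulAut.conj h u,
        ?_, hc.map (MulAut.conj h), ?_, ?_⟩
      · rw [← map_mul, MulAut.conj_apply]
      · rwa [(MulAut.conj h).orderOf_eq]
      · rwa [(MulAut.conj h).orderOf_eq]
    by_cases hex : ∃ v : G, IsConj v g ∧ (∃ u : G, x = u * v ∧ Commute u v ∧
        Nat.Coprime (orderOf u) n ∧ Nat.Coprime (orderOf v) m)
    · rw [hθ1 x hex, hθ1 _ (key x h hex)]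
    · rw [hθ0 x hex, hθ0 _ fun hh => hex (by simpa [mul_assoc] using key _ h⁻¹ hh)]
  refine ⟨fun χ => classInner θ (χ : G → ℂ), fun χ => ?_, ?_⟩
  swap
  · rw [finsum_eq_sum_of_fintype]
    exact eq_sum_classInner hcl
  refine isIntegral_classInner_of_elementary hcl (fun E _ p hp hE F hF => ?_) (irr_isCharacter χ)
  have hdvd : Nat.card E ∣ m * n := hmn ▸ Subgroup.card_subgroup_dvd_card E
  obtain ⟨A, B, hA, hB, hAB, hcompl⟩ : ∃ A B : Subgroup E, Nat.card A ∣ m ∧ Nat.card B ∣ n ∧
      (∀ a ∈ A, ∀ b ∈ B, Commute a b) ∧ Subgroup.IsComplement' A B := by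
    by_cases hpm : p ∣ m
    · obtain ⟨Z, K, h1, h2, h3, h4⟩ := exists_split hp hE (mul_comm m n ▸ hdvd) hcop.symm
        fun h => hp.ne_one (Nat.eq_one_of_dvd_coprimes hcop hpm h)
      exact ⟨K, Z, h2, h1, fun a ha b hb => (h3 b hb a ha).symm, h4.symm⟩
    · exact exists_split hp hE hdvd hcop hpm
  obtain ⟨k, hk0, hk1⟩ := Nat.chineseRemainder hcop 0 1
  have hval : ∀ a ∈ A, ∀ b ∈ B, θ ((a * b : E) : G) = if IsConj (b : G) g then (n : ℂ) else 0 := by
    intro a ha b hb
    have hoa : orderOf (a : G) ∣ m := by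
      rw [Subgroup.orderOf_coe]; exact (Subgroup.orderOf_dvd_natCard _ ha).trans hA
    have hob : orderOf (b : G) ∣ n := by
      rw [Subgroup.orderOf_coe]; exact (Subgroup.orderOf_dvd_natCard _ hb).trans hB
    split_ifs with hc
    · refine hθ1 _ ⟨b, hc, a, rfl, ?_, Nat.Coprime.coprime_dvd_left hoa hcop,
        Nat.Coprime.coprime_dvd_left hob hcop.symm⟩
      exact congrArg Subtype.val (hAB a ha b hb).eq
    · refine hθ0 _ ?_
      rintro ⟨v, hv, u, hx, hcuv, hu, hvm⟩
      apply hc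
      have pick : ∀ {u v : G}, Commute u v → u ^ m = 1 → v ^ n = 1 → (u * v) ^ k = v := by
        intro u v huv hum hvn
        rw [huv.mul_pow]
        have e1 : u ^ k = 1 := by
          obtain ⟨j, rfl⟩ := Nat.modEq_zero_iff_dvd.mp hk0
          rw [pow_mul, hum, one_pow]
        rw [e1, one_mul]
        conv_rhs => rw [← pow_one v]
        exact pow_eq_pow_of_modEq hk1 hvn
      have ho : ∀ w : G, orderOf w ∣ m * n := fun w => hmn ▸ orderOf_dvd_natCard w
      have hum : u ^ m = 1 := orderOf_dvd_iff_pow_eq_one.mp (hu.dvd_of_dvd_mul_right (ho u))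
      have hvn : v ^ n = 1 := orderOf_dvd_iff_pow_eq_one.mp (hvm.dvd_of_dvd_mul_left (ho v))
      have h1 := pick hcuv hum hvn
      rw [← hx, Subgroup.coe_mul, pick (congrArg Subtype.val (hAB a ha b hb).eq)
        (orderOf_dvd_iff_pow_eq_one.mp hoa) (orderOf_dvd_iff_pow_eq_one.mp hob)] at h1
      exact h1 ▸ hv
  haveI := Fintype.ofFinite A
  haveI := Fintype.ofFinite B
  let e : B × A ≃ E := (Equiv.prodComm B A).trans (Equiv.ofBijective _ hcompl)
  have he : ∀ q : B × A, e q = (q.2 : E) * q.1 := fun q => rfl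
  obtain ⟨j, hj⟩ := hB
  have hBA : Nat.card E = Nat.card A * Nat.card B := hcompl.card_mul_card.symm
  have hsum : classInner (fun x : E => θ x) F =
      ∑ b : B, (if IsConj ((b : E) : G) g then (j : ℂ) else 0) *
        conj ((Nat.card A : ℂ)⁻¹ * ∑ a : A, F ((b : E) * a)) := by
    rw [classInner, Fintype.sum_equiv e.symm _ (fun q => θ (e q : G) * conj (F (e q)))
      (fun x => by simp), Fintype.sum_prod_type, Finset.mul_sum]
    refine Finset.sum_congr rfl fun b _ => ?_
    rw [map_mul, map_inv₀, map_natCast, map_sum, Finset.mul_sum, Finset.mul_sum, Finset.mul_sum]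
    refine Finset.sum_congr rfl fun a _ => ?_
    rw [he, hval a a.2 b b.2, (hAB a a.2 b b.2).eq, hBA, Nat.cast_mul]
    have h1 : (Nat.card A : ℂ) ≠ 0 := natCard_ne_zero_complex
    have h2 : (Nat.card B : ℂ) ≠ 0 := natCard_ne_zero_complex
    split_ifs
    · rw [hj, Nat.cast_mul]
      field_simp
    · simp
  rw [hsum]
  refine IsIntegral.sum _ fun b _ => IsIntegral.mul ?_ ?_
  · split_ifs
    exacts [(show ((j : ℤ) : ℂ) = (j : ℂ) by simp) ▸ isIntegral_algebraMap (R := ℤ) (A := ℂ) (x := (j : ℤ)), isIntegral_zero]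
  · exact IsIntegral.map (Complex.conjAe.toAlgHom.restrictScalars ℤ)
      (Cfsg.Agent.Lib.BlockHeights.isIntegral_avg hF A (b : E) fun a ha => (hAB a ha b b.2).symm)

end Cfsg.Agent.Lib.Characters
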