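import Cfsg.Agent.Lib.Characters.FeitZassenhaus

/-!
# Zassenhaus groups: reduction to the simple case

The normal closure of the Frobenius kernel of a point stabilizer is a simple Zassenhaus group, and
Feit's inequality for the whole group follows from the one for this subgroup.
-/

namespace Cfsg.Agent.Lib.Characters.ZOdd

open MulAction

set_option linter.unusedSectionVars false
set_option linter.style.haveILetI false

universe u v

variable {G : Type u} [Group G] [Finite G] {Ω : Type v} [MulAction G Ω] [Fintype Ω]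
  {a b : Ω} {h e : ℕ} {H : Subgroup G}

theorem ZHyp.normal_isPretransitive (D : ZHyp G a b h e) {M : Subgroup G} (hMn : M.Normal)
    (hM : M ≠ ⊥) : IsPretransitive M Ω := by
  haveI := D.zass.1
  haveI := D.isPretransitive
  obtain ⟨m, hm, hma⟩ : ∃ m ∈ M, m • a ≠ a := by
    by_contra hall
    push Not at hall
    refine hM ((Subgroup.eq_bot_iff_forall M).mpr fun m hm => ?_)
    refine FaithfulSMul.eq_of_smul_eq_smul (α := Ω) fun c => ?_
    obtain ⟨g, rfl⟩ := MulAction.exists_smul_eq G a c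
    have h1 := hall _ (hMn.conj_mem m hm g⁻¹)
    rw [inv_inv, mul_smul, mul_smul, inv_smul_eq_iff] at h1
    rw [h1, one_smul]
  have key : ∀ c, ∃ x : M, x • a = c := by
    intro c
    rcases eq_or_ne c a with rfl | hc
    · exact ⟨1, one_smul _ _⟩
    obtain ⟨g, hga, hgm⟩ := D.two_trans (c := a) (d := m • a) (c' := a) (d' := c) hma.symm hc.symm
    refine ⟨⟨g * m * g⁻¹, hMn.conj_mem m hm g⟩, ?_⟩
    show (g * m * g⁻¹) • a = c
    rw [mul_smul, mul_smul, show g⁻¹ • a = a from inv_smul_eq_iff.mpr hga.symm, hgm]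
  refine ⟨fun x y => ?_⟩
  obtain ⟨p, hp⟩ := key x
  obtain ⟨q, hq⟩ := key y
  exact ⟨q * p⁻¹, by rw [← hp, mul_smul, inv_smul_smul, hq]⟩

/-- A non-identity normal subgroup contains a non-identity element fixing two points. -/
theorem ZHyp.normal_inf_pair (D : ZHyp G a b h e) {M : Subgroup G} (hMn : M.Normal)
    (hM : M ≠ ⊥) : ∃ y ∈ M, y ∈ stabilizer G a ⊓ stabilizer G b ∧ y ≠ 1 := by
  by_contra hno
  push Not at hno
  haveI := D.isPretransitive
  haveI := D.normal_isPretransitive hMn hM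
  have hfix : ∀ m ∈ M, ∀ c d : Ω, c ≠ d → m • c = c → m • d = d → m = 1 := by
    intro m hm c d hcd hc hd
    obtain ⟨g, hga, hgb⟩ := D.two_trans D.hab hcd
    have h1 := hno _ (hMn.conj_mem m hm g⁻¹) (mem_inf_stabilizer.mpr
      ⟨by rw [inv_inv, mul_smul, mul_smul, hga, hc, inv_smul_eq_iff, hga],
       by rw [inv_inv, mul_smul, mul_smul, hgb, hd, inv_smul_eq_iff, hgb]⟩)
    rw [inv_inv] at h1
    calc m = g * (g⁻¹ * m * g) * g⁻¹ := by group
      _ = 1 := by rw [h1, mul_one, mul_inv_cancel]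
  obtain ⟨c, hc⟩ := D.zass.2.2.2.2 M hMn inferInstance
  have hFc : Cfsg.IsFrobeniusComplement (stabilizer M c) := by
    refine Cfsg.Agent.Lib.Frobenius.isFrobeniusComplement_iff.mpr ⟨hc, fun htop => ?_, ?_⟩
    · obtain ⟨d, hd⟩ : ∃ d, d ≠ c := by
        by_cases h' : a = c
        · exact ⟨b, h' ▸ D.hab.symm⟩
        · exact ⟨a, h'⟩
      obtain ⟨x, hx⟩ := MulAction.exists_smul_eq M c d
      exact hd (hx ▸ mem_stabilizer_iff.mp (htop ▸ Subgroup.mem_top x))
    · intro g hg x hx hgx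
      by_contra hx1
      rw [mem_stabilizer_iff] at hx hgx hg
      simp only [mul_smul, inv_smul_eq_iff] at hgx
      exact hx1 (Subtype.ext (hfix x x.2 (g • c) c hg hgx hx))
  obtain ⟨K, -, hK, -, -, hKne, -, -⟩ := Cfsg.Agent.Lib.Frobenius.exists_frobeniusKernel hFc
  have hmemK : ∀ x : M, x ∈ K ↔ x = 1 ∨ ∀ d : Ω, (x : G) • d ≠ d := by
    intro x
    rw [← SetLike.mem_coe, hK, Cfsg.Agent.Lib.Frobenius.mem_frobeniusKernel_iff]
    refine or_congr_right ⟨fun h1 d hd => ?_, fun h1 g hg => ?_⟩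
    · obtain ⟨g, rfl⟩ := MulAction.exists_smul_eq M c d
      refine h1 g ?_
      rw [mem_stabilizer_iff, mul_smul, mul_smul, inv_smul_eq_iff]
      exact hd
    · rw [mem_stabilizer_iff, mul_smul, mul_smul, inv_smul_eq_iff] at hg
      exact h1 _ hg
  have hmemK' : ∀ z, z ∈ K.map M.subtype → z ∈ M ∧ (z = 1 ∨ ∀ d : Ω, z • d ≠ d) := by
    rintro z ⟨x, hx, rfl⟩
    refine ⟨x.2, ?_⟩
    rcases (hmemK x).mp hx with rfl | h1
    · exact Or.inl rfl
    · exact Or.inr h1
  have hK'n : (K.map M.subtype).Normal := by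
    refine ⟨fun z hz g => ?_⟩
    obtain ⟨hzM, hz⟩ := hmemK' z hz
    refine ⟨⟨g * z * g⁻¹, hMn.conj_mem z hzM g⟩, (hmemK _).mpr ?_, rfl⟩
    rcases hz with rfl | hz
    · exact Or.inl (Subtype.ext (by simp))
    · refine Or.inr fun d hd => hz (g⁻¹ • d) ?_
      rw [eq_inv_smul_iff, ← mul_smul, ← mul_smul]
      exact hd
  have hK'ne : K.map M.subtype ≠ ⊥ := fun h0 =>
    hKne ((Subgroup.map_eq_bot_iff_of_injective K M.subtype_injective).mp h0)
  obtain ⟨d, hd⟩ := D.zass.2.2.2.2 _ hK'n (D.normal_isPretransitive hK'n hK'ne)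
  refine hd ((Subgroup.eq_bot_iff_forall _).mpr fun z hz => Subtype.ext ?_)
  rcases (hmemK' z z.2).2 with h1 | h1
  · exact h1
  · exact absurd hz (h1 d)

/-- Every non-identity normal subgroup contains the kernel. -/
theorem ZKer.le_normal (K : ZKer G a b h e H) {M : Subgroup G} (hMn : M.Normal) (hM : M ≠ ⊥) :
    H ≤ M := by
  obtain ⟨y, hyM, hyE, hy1⟩ := K.toZHyp.normal_inf_pair hMn hM
  let f : H → ↥(H ⊓ M : Subgroup G) := fun u => ⟨(u : G)⁻¹ * (y * u * y⁻¹),
    Subgroup.mem_inf.mpr ⟨mul_mem (inv_mem u.2) (K.conj_mem (mem_inf_stabilizer.mp hyE).1 u.2), by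
      rw [show (u : G)⁻¹ * (y * u * y⁻¹) = ((u : G)⁻¹ * y * u) * y⁻¹ by group]
      exact mul_mem (by simpa using hMn.conj_mem y hyM (u : G)⁻¹) (inv_mem hyM)⟩⟩
  have hf : Function.Injective f := by
    intro u v huv
    have h1 : (u : G)⁻¹ * y * u = (v : G)⁻¹ * y * v := by
      have h2 := congrArg (fun z : ↥(H ⊓ M : Subgroup G) => (z : G) * y) huv
      simpa [f, mul_assoc] using h2
    by_contra hne
    have hw1 : (v : G) * (u : G)⁻¹ ≠ 1 := fun h' => hne (Subtype.ext (mul_inv_eq_one.mp h').symm)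
    have hcomm : Commute y ((v : G) * (u : G)⁻¹) := by
      show y * ((v : G) * (u : G)⁻¹) = ((v : G) * (u : G)⁻¹) * y
      calc y * ((v : G) * (u : G)⁻¹) = (v : G) * ((v : G)⁻¹ * y * v) * (u : G)⁻¹ := by group
        _ = (v : G) * ((u : G)⁻¹ * y * u) * (u : G)⁻¹ := by rw [h1]
        _ = ((v : G) * (u : G)⁻¹) * y := by group
    exact hy1 (K.disjoint_pair
      (K.centralizer_le (mul_mem v.2 (inv_mem u.2)) hw1 hcomm) (mem_inf_stabilizer.mp hyE).2)
  have h1 : (H ⊓ M : Subgroup G) = H :=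
    Subgroup.eq_of_le_of_card_ge inf_le_left (Nat.card_le_card_of_injective f hf)
  exact h1 ▸ inf_le_right

/-- The kernel is transitive on the other points. -/
theorem ZKer.exists_kernel_smul (K : ZKer G a b h e H) {c d : Ω} (hc : c ≠ a) (hd : d ≠ a) :
    ∃ u ∈ H, u • c = d := by
  classical
  haveI := Fintype.ofFinite H
  let O : Finset Ω := Finset.univ.image fun u : H => (u : G) • c
  have hsub : O ⊆ Finset.univ.erase a := by
    intro x hx
    obtain ⟨u, -, rfl⟩ := Finset.mem_image.mp hx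
    refine Finset.mem_erase.mpr ⟨fun h' => hc ?_, Finset.mem_univ _⟩
    exact MulAction.injective (u : G) (h'.trans (show (u : G) • a = a from K.hHa u.2).symm)
  have hinj : Function.Injective fun u : H => (u : G) • c := by
    intro u v huv
    by_contra hne
    refine hc (K.hHfix ((v : G)⁻¹ * u) (mul_mem (inv_mem v.2) u.2)
      (fun h' => hne (Subtype.ext (inv_mul_eq_one.mp h').symm)) c ?_)
    rw [mul_smul, inv_smul_eq_iff]
    exact huv
  have hO : O = Finset.univ.erase a := by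
    refine Finset.eq_of_subset_of_card_le hsub (le_of_eq ?_)
    rw [Finset.card_erase_of_mem (Finset.mem_univ _), Finset.card_univ, K.hh,
      Finset.card_image_of_injective _ hinj, Finset.card_univ, ← Nat.card_eq_fintype_card,
      K.hHcard, Nat.add_sub_cancel]
  obtain ⟨u, -, hu⟩ := Finset.mem_image.mp (hO.symm ▸ Finset.mem_erase.mpr ⟨hd, Finset.mem_univ d⟩)
  exact ⟨u, u.2, hu⟩

/-- A normal subgroup of a normal subgroup `N ≥ H` that is regular does not exist. -/
theorem ZKer.no_regular (K : ZKer G a b h e H) {N : Subgroup G} (hNn : N.Normal) (hN : N ≠ ⊥)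
    (hHN : H ≤ N) {M : Subgroup G} (hMN : M ≤ N) (hMn : ∀ n ∈ N, ∀ m ∈ M, n * m * n⁻¹ ∈ M)
    (hMt : ∀ c : Ω, ∃ m ∈ M, m • a = c) (hMf : ∀ m ∈ M, ∀ c : Ω, m • c = c → m = 1) : False := by
  haveI := K.zass.1
  haveI := K.isPretransitive
  have huniq : ∀ m ∈ M, ∀ m' ∈ M, ∀ c : Ω, m • c = m' • c → m = m' := by
    intro m hm m' hm' c hmm
    exact (inv_mul_eq_one.mp (hMf _ (mul_mem (inv_mem hm') hm) c
      (by rw [mul_smul, hmm, inv_smul_smul]))).symm
  have hconj : ∀ m ∈ M, m ≠ 1 → ∀ m' ∈ M, m' ≠ 1 → ∃ u ∈ H, u * m * u⁻¹ = m' := by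
    intro m hm hm1 m' hm' hm'1
    obtain ⟨u, hu, hum⟩ := K.exists_kernel_smul (c := m • a) (d := m' • a)
      (fun h' => hm1 (hMf m hm a h')) (fun h' => hm'1 (hMf m' hm' a h'))
    refine ⟨u, hu, huniq _ (hMn u (hHN hu) m hm) _ hm' a ?_⟩
    rw [mul_smul, mul_smul,
      show u⁻¹ • a = a from inv_smul_eq_iff.mpr (show u • a = a from K.hHa hu).symm, hum]
  obtain ⟨y, hyN, hyE, hy1⟩ := K.toZHyp.normal_inf_pair hNn hN
  obtain ⟨hya, hyb⟩ := mem_inf_stabilizer.mp hyE
  obtain ⟨t, ht, hta⟩ := hMt b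
  have ht1 : t ≠ 1 := fun h' => K.hab (by rw [← hta, h', one_smul])
  have hyt : y * t * y⁻¹ = t := by
    refine huniq _ (hMn y hyN t ht) _ ht a ?_
    rw [mul_smul, mul_smul, show y⁻¹ • a = a from inv_smul_eq_iff.mpr hya.symm, hta, hyb]
  have ht2 : t * t = 1 := by
    by_contra htt
    refine hy1 (K.three K.hab (y := b) (z := (t * t) • a) ?_ ?_ hya hyb ?_)
    · intro h'
      exact ht1 (mul_eq_left.mp (huniq _ (mul_mem ht ht) _ ht a (by rw [← h', hta])))
    · intro h'
      exact htt (hMf _ (mul_mem ht ht) a h'.symm)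
    · rw [← mul_smul, show y * (t * t) = (y * t * y⁻¹) * (y * t * y⁻¹) * y by group, hyt, mul_smul,
        hya]
  have hinv : ∀ m ∈ M, m * m = 1 := by
    intro m hm
    by_cases hm1 : m = 1
    · rw [hm1, one_mul]
    obtain ⟨u, -, rfl⟩ := hconj t ht ht1 m hm hm1
    rw [show u * t * u⁻¹ * (u * t * u⁻¹) = u * (t * t) * u⁻¹ by group, ht2, mul_one, mul_inv_cancel]
  have hcommM : ∀ m ∈ M, ∀ m' ∈ M, m * m' = m' * m := by
    intro m hm m' hm'
    have h1 := hinv _ (mul_mem hm hm')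
    calc m * m' = (m * m')⁻¹ := eq_inv_of_mul_eq_one_left h1
      _ = m'⁻¹ * m⁻¹ := mul_inv_rev _ _
      _ = m' * m := by
        rw [inv_eq_of_mul_eq_one_left (hinv m hm), inv_eq_of_mul_eq_one_left (hinv m' hm')]
  have hcent : ∀ g : G, (∀ m ∈ M, g * m = m * g) → g ∈ M := by
    intro g hg
    obtain ⟨m, hm, hma⟩ := hMt (g • a)
    have h1 : m⁻¹ * g = 1 := by
      refine FaithfulSMul.eq_of_smul_eq_smul (α := Ω) fun c => ?_
      obtain ⟨m', hm', rfl⟩ := hMt c
      rw [one_smul, ← mul_smul, mul_assoc, hg m' hm', ← mul_assoc,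
        hcommM m⁻¹ (inv_mem hm) m' hm', mul_assoc, mul_smul, mul_smul, ← hma, inv_smul_smul]
    rw [← inv_mul_eq_one.mp h1]
    exact hm
  have hMG : M.Normal := by
    refine ⟨fun m hm g => ?_⟩
    set M' := M.map (MulAut.conj g).toMonoidHom with hM'
    have hM'mem : ∀ m ∈ M, g * m * g⁻¹ ∈ M' := fun m hm => Subgroup.mem_map_of_mem _ hm
    have hM'n : ∀ n ∈ N, ∀ x ∈ M', n * x * n⁻¹ ∈ M' := by
      rintro n hn _ ⟨x, hx, rfl⟩
      have h1 := hMn _ (by simpa using hNn.conj_mem n hn g⁻¹ : g⁻¹ * n * g ∈ N) x hx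
      have h2 := hM'mem _ h1
      rw [show g * (g⁻¹ * n * g * x * (g⁻¹ * n * g)⁻¹) * g⁻¹ = n * (g * x * g⁻¹) * n⁻¹ by group]
        at h2
      exact h2
    have hM'N : M' ≤ N := by
      rintro _ ⟨x, hx, rfl⟩
      exact hNn.conj_mem x (hMN hx) g
    obtain ⟨z, hzM, hz', hz1⟩ : ∃ z ∈ M, z ∈ M' ∧ z ≠ 1 := by
      by_contra hno
      push Not at hno
      have hle : ∀ x ∈ M', x ∈ M := fun x hx => hcent x fun m hm => by
        have h1 : x * m * x⁻¹ * m⁻¹ = 1 := hno _
          (mul_mem (hMn x (hM'N hx) m hm) (inv_mem hm)) (by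
            rw [mul_assoc x m, mul_assoc x]
            exact mul_mem hx (by
              have := hM'n m (hMN hm) x⁻¹ (inv_mem hx)
              rwa [mul_assoc] at this ⊢))
        calc x * m = x * m * x⁻¹ * m⁻¹ * (m * x) := by group
          _ = m * x := by rw [h1, one_mul]
      have h2 := hle _ (hM'mem t ht)
      have h3 := hno _ h2 (hM'mem t ht)
      exact ht1 (conj_eq_one_iff.mp h3)
    have hle : M ≤ M' := by
      intro x hx
      by_cases hx1 : x = 1
      · rw [hx1]; exact M'.one_mem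
      obtain ⟨u, hu, rfl⟩ := hconj z hzM hz1 x hx hx1
      exact hM'n u (hHN hu) z hz'
    have heq : M = M' := by
      refine Subgroup.eq_of_le_of_card_ge hle (le_of_eq ?_)
      rw [hM', Subgroup.card_map_of_injective (MulAut.conj g).injective]
    rw [heq]
    exact hM'mem m hm
  have htr : IsPretransitive M Ω := by
    refine ⟨fun x y => ?_⟩
    obtain ⟨p, hp, rfl⟩ := hMt x
    obtain ⟨q, hq, rfl⟩ := hMt y
    refine ⟨⟨q * p⁻¹, mul_mem hq (inv_mem hp)⟩, ?_⟩
    show (q * p⁻¹) • p • a = q • a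
    rw [← mul_smul, inv_mul_cancel_right]
  obtain ⟨d, hd⟩ := K.zass.2.2.2.2 M hMG htr
  exact hd ((Subgroup.eq_bot_iff_forall _).mpr fun z hz => Subtype.ext (hMf z z.2 d hz))

/-- The normal closure of the kernel is a simple Zassenhaus group with the same kernel. -/
theorem ZKer.exists_simple (K : ZKer G a b h e H) :
    ∃ (N : Subgroup G) (e' : ℕ), e' ≤ e ∧ H ≤ N ∧ IsSimpleGroup N ∧
      ZKer N a b h e' (H.subgroupOf N) := by
  haveI := K.zass.1
  haveI := K.isPretransitive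
  set N : Subgroup G := Subgroup.normalClosure (H : Set G) with hNdef
  have hNn : N.Normal := Subgroup.normalClosure_normal
  have hHN : H ≤ N := Subgroup.subset_normalClosure
  have hHne : H ≠ ⊥ := fun h0 => by
    have h1 := K.hHcard
    rw [h0, Subgroup.card_bot] at h1
    have := K.one_lt_h
    omega
  have hN : N ≠ ⊥ := fun h0 => hHne (le_bot_iff.mp (h0 ▸ hHN))
  haveI htr := K.toZHyp.normal_isPretransitive hNn hN
  have hstab : ∀ c d : Ω, c ≠ a → d ≠ a → ∃ x : N, x • a = a ∧ x • c = d := fun c d hc hd => by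
    obtain ⟨u, hu, hud⟩ := K.exists_kernel_smul hc hd
    exact ⟨⟨u, hHN hu⟩, K.hHa hu, hud⟩
  have h2t : MulAction.IsMultiplyPretransitive N Ω 2 := by
    refine MulAction.is_two_pretransitive_iff.mpr fun {c d c' d'} hcd hcd' => ?_
    obtain ⟨g, hg⟩ := MulAction.exists_smul_eq N c a
    obtain ⟨g', hg'⟩ := MulAction.exists_smul_eq N c' a
    obtain ⟨x, hxa, hx⟩ := hstab (g • d) (g' • d')
      (fun h' => hcd (MulAction.injective g (hg.trans h'.symm)))
      (fun h' => hcd' (MulAction.injective g' (hg'.trans h'.symm)))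
    exact ⟨g'⁻¹ * x * g, by rw [mul_smul, mul_smul, hg, hxa, ← hg', inv_smul_smul],
      by rw [mul_smul, mul_smul, hx, inv_smul_smul]⟩
  obtain ⟨y, hyN, hyE, hy1⟩ := K.toZHyp.normal_inf_pair hNn hN
  obtain ⟨hya, hyb⟩ := mem_inf_stabilizer.mp hyE
  have hzass : Cfsg.IsZassenhausGroup N Ω := by
    refine ⟨⟨fun {x y} hxy => Subtype.ext (FaithfulSMul.eq_of_smul_eq_smul (α := Ω) hxy)⟩, h2t,
      fun g x y z hxy hyz hxz hx hy hz => Subtype.ext (K.three hxy hyz hxz hx hy hz),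
      ⟨⟨y, hyN⟩, fun h' => hy1 (congrArg Subtype.val h'), a, b, K.hab, hya, hyb⟩,
      fun M hMn hMt => ?_⟩
    by_contra hno
    push Not at hno
    refine K.no_regular hNn hN hHN (M := M.map N.subtype) (Subgroup.map_subtype_le M) ?_ ?_ ?_
    · rintro n hn _ ⟨m, hm, rfl⟩
      exact ⟨⟨n, hn⟩ * m * ⟨n, hn⟩⁻¹, hMn.conj_mem m hm ⟨n, hn⟩, rfl⟩
    · intro c
      obtain ⟨m, hm⟩ := MulAction.exists_smul_eq M a c
      exact ⟨_, ⟨m.1, m.2, rfl⟩, hm⟩
    · rintro _ ⟨m, hm, rfl⟩ c hc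
      have h1 : (⟨m, hm⟩ : M) ∈ stabilizer M c := hc
      rw [hno c, Subgroup.mem_bot] at h1
      exact congrArg (fun z : M => ((z : N) : G)) h1
  have hdvd : Nat.card ↥(stabilizer N a ⊓ stabilizer N b : Subgroup N) ∣ e := by
    rw [← K.he, ← Subgroup.card_subtype N (stabilizer N a ⊓ stabilizer N b)]
    refine Subgroup.card_dvd_of_le ?_
    rintro _ ⟨x, hx, rfl⟩
    exact hx
  refine ⟨N, _, Nat.le_of_dvd (by have := K.three_le_e; omega) hdvd, hHN, ?_, ?_⟩
  swap
  · exact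
      { zass := hzass
        hab := K.hab
        hh := K.hh
        he := rfl
        hodd := Odd.of_dvd_nat K.hodd hdvd
        hHa := fun x hx => K.hHa (Subgroup.mem_subgroupOf.mp hx)
        hHcard := (Nat.card_congr (Subgroup.subgroupOfEquivOfLe hHN).toEquiv).trans K.hHcard
        hHfix := fun x hx hx1 c hc => K.hHfix x (Subgroup.mem_subgroupOf.mp hx)
          (fun h' => hx1 (Subtype.ext h')) c hc }
  have KN : ZKer N a b h (Nat.card ↥(stabilizer N a ⊓ stabilizer N b : Subgroup N))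
      (H.subgroupOf N) :=
    { zass := hzass
      hab := K.hab
      hh := K.hh
      he := rfl
      hodd := Odd.of_dvd_nat K.hodd hdvd
      hHa := fun x hx => K.hHa (Subgroup.mem_subgroupOf.mp hx)
      hHcard := (Nat.card_congr (Subgroup.subgroupOfEquivOfLe hHN).toEquiv).trans K.hHcard
      hHfix := fun x hx hx1 c hc => K.hHfix x (Subgroup.mem_subgroupOf.mp hx)
        (fun h' => hx1 (Subtype.ext h')) c hc }
  haveI : Nontrivial N := (Subgroup.nontrivial_iff_ne_bot N).mpr hN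
  refine ⟨fun M hMn => or_iff_not_imp_left.mpr fun hM => ?_⟩
  have hHM : ∀ u ∈ H, u ∈ M.map N.subtype := fun u hu =>
    ⟨⟨u, hHN hu⟩, KN.le_normal hMn hM (Subgroup.mem_subgroupOf.mpr hu), rfl⟩
  have hconj : ∀ g : G, ∀ u ∈ H, g * u * g⁻¹ ∈ M.map N.subtype := by
    intro g u hu
    obtain ⟨n, hn⟩ := MulAction.exists_smul_eq N a (g • a)
    have hb : ((n : G)⁻¹ * g) • a = a := by
      rw [mul_smul, inv_smul_eq_iff]
      exact hn.symm
    obtain ⟨m, hm, hmu⟩ := hHM _ (K.conj_mem hb hu)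
    refine ⟨n * m * n⁻¹, hMn.conj_mem m hm n, ?_⟩
    rw [map_mul, map_mul, map_inv, hmu, Subgroup.coe_subtype]
    group
  have hle : N ≤ M.map N.subtype := by
    show Subgroup.closure (Group.conjugatesOfSet (H : Set G)) ≤ _
    rw [Subgroup.closure_le]
    intro x hx
    obtain ⟨u, hu, hux⟩ := Group.mem_conjugatesOfSet_iff.mp hx
    obtain ⟨g, rfl⟩ := isConj_iff.mp hux
    exact hconj g u hu
  refine eq_top_iff.mpr fun x _ => ?_
  obtain ⟨m, hm, hmx⟩ := hle x.2
  exact Subtype.ext hmx ▸ hm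

/-- Feit's theorem for a simple Zassenhaus group with two-point stabilizer of odd order. -/
theorem ZKer.feit_simple {G : Type u} [Group G] [Fintype G] [MulAction G Ω] [IsSimpleGroup G]
    {H : Subgroup G} (K : ZKer G a b h e H) (hlt : 2 * e < h - 1) :
    IsPGroup 2 H ∧ (∃ u v : H, u * v ≠ v * u) ∧ (commutator H).index ≤ 4 * e ^ 2 + 1 := by
  classical
  haveI := K.normal
  haveI := Fintype.ofFinite (stabilizer G a)
  haveI := Fintype.ofFinite (H.subgroupOf (stabilizer G a))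
  have hidx := K.index_kernel
  have hne : Nat.card (H.subgroupOf (stabilizer G a)) ≠ (H.subgroupOf (stabilizer G a)).index + 1 := by
    rw [K.card_kernel, hidx]; omega
  have hprop : ∀ α ∈ Cfsg.zspanOn {χ : stabilizer G a → ℂ | Cfsg.IsIrrCharacter (stabilizer G a) χ ∧
      ∃ u ∈ H.subgroupOf (stabilizer G a), χ u ≠ χ 1} {1}ᶜ,
      Cfsg.IsGeneralizedCharacter (stabilizer G a) α ∧ α 1 = 0 ∧
        ∀ x : stabilizer G a, (x : G) ∉ H → α x = 0 := by
    rintro α ⟨hα, hα1⟩
    suffices h1 : Cfsg.IsGeneralizedCharacter (stabilizer G a) α ∧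
        ∀ x : stabilizer G a, (x : G) ∉ H → α x = 0 from
      ⟨h1.1, hα1 1 (fun h' => h' rfl), h1.2⟩
    clear hα1
    induction hα using Submodule.span_induction with
    | mem χ hχ =>
      exact ⟨IsCharacter.isGeneralizedCharacter (IsIrrCharacter.isCharacter hχ.1), fun x hx =>
        frob_vanish _ K.hC hχ.1 hχ.2 (fun h' => hx (Subgroup.mem_subgroupOf.mp h'))⟩
    | zero =>
      exact ⟨⟨_, _, isCharacter_one, isCharacter_one, (sub_self _).symm⟩, fun x _ => rfl⟩
    | add χ ψ _ _ hχ hψ =>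
      exact ⟨IsGeneralizedCharacter.add hχ.1 hψ.1, fun x hx => by
        rw [Pi.add_apply, hχ.2 x hx, hψ.2 x hx, add_zero]⟩
    | smul k χ _ hχ =>
      exact ⟨by simpa [zsmul_eq_mul, Pi.smul_def] using IsGeneralizedCharacter.intCast_smul hχ.1 k,
        fun x hx => by rw [Pi.smul_apply, hχ.2 x hx, smul_zero]⟩
  rcases feit_coherence (H.subgroupOf (stabilizer G a)) K.ne_bot K.ne_top K.hC hne
      (Cfsg.indFun (stabilizer G a))
      ⟨fun α _ β _ => indFun_add _ α β, fun α _ n => by rw [← Int.cast_smul_eq_zsmul ℂ, indFun_smul, Int.cast_smul_eq_zsmul],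
        fun α hα β hβ => classInner_indFun_indFun_eq _ (H : Set G)
          (IsGeneralizedCharacter.isClassFunction (hprop β hβ).1) (hprop β hβ).2.2
          (fun t ht x hx hm => K.conj_notMem
            (by_contra fun h' => ht ((hprop α hα).2.2 t h'))
            (fun h' => ht (by rw [show t = 1 from Subtype.ext h']; exact (hprop α hα).2.1)) hx
            (K.hHa hm)),
        fun α hα => IsGeneralizedCharacter.indFun _ (hprop α hα).1⟩
      (fun α hα => by rw [indFun_one, (hprop α hα).2.1, mul_zero]) with hcoh | hp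
  · exact absurd hcoh (K.not_coherent hlt)
  obtain ⟨p, hp, hpg, hnab, hle⟩ := hp
  rw [hidx] at hle
  have hp2 : p = 2 := by_contra fun hp2 => K.not_odd_pgroup hp hp2 hpg hnab
  subst hp2
  let f := Subgroup.subgroupOfEquivOfLe K.hHa
  refine ⟨hpg.of_equiv f, ?_, by rwa [index_commutator_congr f]⟩
  obtain ⟨u, v, huv⟩ := hnab
  exact ⟨f u, f v, fun h' => huv (f.injective (by rw [map_mul, map_mul, h']))⟩

/-- Feit's inequality. -/
theorem ZKer.feit_inequality (K : ZKer G a b h e H) : h - 1 ≤ 2 * e ∨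
    (IsPGroup 2 H ∧ (∃ u v : H, u * v ≠ v * u) ∧ (commutator H).index ≤ 4 * e ^ 2 + 1) := by
  refine or_iff_not_imp_left.mpr fun hlt => ?_
  obtain ⟨N, e', hee, hHN, hsimp, KN⟩ := K.exists_simple
  haveI := Fintype.ofFinite N
  obtain ⟨hpg, ⟨u, v, huv⟩, hle⟩ := KN.feit_simple (by omega)
  let f := Subgroup.subgroupOfEquivOfLe hHN
  refine ⟨hpg.of_equiv f, ⟨f u, f v, fun h' => huv (f.injective (by rw [map_mul, map_mul, h']))⟩,
    ?_⟩
  rw [index_commutator_congr f]
  exact le_trans hle (by gcongr)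

end Cfsg.Agent.Lib.Characters.ZOdd
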