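import Cfsg.Agent.Lib.Characters.Ito
import Cfsg.Agent.Lib.Characters.Clifford
import Mathlib.GroupTheory.Sylow

/-!
# All degrees powers of `p` iff an abelian normal `p`-complement
-/

namespace Cfsg.Agent.Lib.Characters

set_option linter.unusedSectionVars false
set_option linter.style.haveILetI false

universe u

/-- A group whose abelianization has order divisible by `p` has a normal subgroup of index `p`. -/
theorem exists_normal_index_eq_prime {G : Type u} [Group G] [Finite G] {p : ℕ} (hp : p.Prime)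
    (h : p ∣ (commutator G).index) : ∃ M : Subgroup G, M.Normal ∧ M.index = p := by
  classical
  haveI : Fact p.Prime := ⟨hp⟩
  haveI : Finite (Abelianization G) :=
    Finite.of_surjective _ (QuotientGroup.mk_surjective (s := commutator G))
  let f : Abelianization G →* Abelianization G := powMonoidHom p
  let R := Abelianization G ⧸ f.range
  have hR : IsPGroup p R := by
    intro x
    obtain ⟨a, rfl⟩ := QuotientGroup.mk_surjective x
    refine ⟨1, ?_⟩
    rw [← QuotientGroup.mk_pow, QuotientGroup.eq_one_iff, pow_one]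
    exact ⟨a, rfl⟩
  obtain ⟨j, hj⟩ := hR.exists_card_eq
  have hj0 : j ≠ 0 := by
    intro h0
    rw [h0, pow_zero, ← Subgroup.index_eq_card, Subgroup.index_eq_one,
      MonoidHom.range_eq_top] at hj
    have hinj : Function.Injective f := Finite.injective_iff_surjective.mpr hj
    obtain ⟨x, hx⟩ := exists_prime_orderOf_dvd_card' (G := Abelianization G) p
      (by rw [Subgroup.index_eq_card] at h; exact h)
    have : f x = f 1 := by
      show x ^ p = 1 ^ p
      rw [one_pow, ← hx, pow_orderOf_eq_one]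
    rw [hinj this, orderOf_one] at hx
    exact hp.ne_one hx.symm
  obtain ⟨S, hS⟩ := Sylow.exists_subgroup_card_pow_prime (G := R) p (n := j - 1)
    (by rw [hj]; exact pow_dvd_pow p (Nat.sub_le j 1))
  let q : G →* R := (QuotientGroup.mk' f.range).comp Abelianization.of
  have hq : Function.Surjective q :=
    (QuotientGroup.mk'_surjective _).comp QuotientGroup.mk_surjective
  refine ⟨S.comap q, inferInstance, ?_⟩
  rw [S.index_comap_of_surjective hq]
  have h1 := S.card_mul_index
  rw [hS, hj] at h1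
  obtain ⟨i, rfl⟩ : ∃ i, j = i + 1 := ⟨j - 1, by omega⟩
  rw [Nat.add_sub_cancel, pow_succ] at h1
  exact Nat.eq_of_mul_eq_mul_left (pow_pos hp.pos i) h1

/-- If all degrees are powers of `p` and `p` divides the order, then `p` divides `[G : G']`. -/
theorem dvd_index_commutator_of_degrees {G : Type u} [Group G] [Finite G] {p : ℕ} (hp : p.Prime)
    (hdeg : ∀ χ : IrrCharacter G, ∃ k : ℕ, (χ : G → ℂ) 1 = (p : ℂ) ^ k)
    (hdvd : p ∣ Nat.card G) : p ∣ (commutator G).index := by
  classical
  haveI := Fintype.ofFinite (IrrCharacter G)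
  choose k hk using hdeg
  have hsum : ∑ χ : IrrCharacter G, (p ^ k χ) ^ 2 = Nat.card G := by
    have h := sum_degree_sq (G := G)
    simp only [hk] at h
    exact_mod_cast h
  have hlin : ∀ χ : IrrCharacter G, (χ : G → ℂ) 1 = 1 ↔ k χ = 0 := by
    intro χ
    rw [hk χ]
    refine ⟨fun h => ?_, fun h => by rw [h, pow_zero]⟩
    have h' : p ^ k χ = 1 := by exact_mod_cast h
    exact ((Nat.pow_eq_one).mp h').resolve_left hp.ne_one
  rw [← card_linear_irr, Nat.card_eq_fintype_card, Fintype.card_subtype]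
  have h2 : p ∣ ∑ χ ∈ Finset.univ.filter (fun χ : IrrCharacter G => ¬ (χ : G → ℂ) 1 = 1),
      (p ^ k χ) ^ 2 := by
    refine Finset.dvd_sum fun χ hχ => ?_
    have : k χ ≠ 0 := fun h0 => (Finset.mem_filter.mp hχ).2 ((hlin χ).mpr h0)
    exact dvd_pow (dvd_pow_self p this) two_ne_zero
  rw [← hsum, ← Finset.sum_filter_add_sum_filter_not Finset.univ
    (fun χ : IrrCharacter G => (χ : G → ℂ) 1 = 1)] at hdvd
  have h3 := (Nat.dvd_add_left h2).mp hdvd
  rwa [Finset.sum_congr rfl (fun χ hχ => by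
    rw [(hlin χ).mp (Finset.mem_filter.mp hχ).2, pow_zero, one_pow] :
      ∀ χ ∈ Finset.univ.filter (fun χ : IrrCharacter G => (χ : G → ℂ) 1 = 1),
        (p ^ k χ) ^ 2 = 1), Finset.sum_const, smul_eq_mul, mul_one] at h3

/-- The degree hypothesis passes to normal subgroups. -/
theorem degrees_pPower_restrict {G : Type u} [Group G] [Finite G] {p : ℕ} (hp : p.Prime)
    (hdeg : ∀ χ : IrrCharacter G, ∃ k : ℕ, (χ : G → ℂ) 1 = (p : ℂ) ^ k)
    (M : Subgroup G) [M.Normal] (θ : IrrCharacter M) :
    ∃ k : ℕ, (θ : M → ℂ) 1 = (p : ℂ) ^ k := by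
  classical
  haveI := Fintype.ofFinite G
  haveI := Fintype.ofFinite M
  obtain ⟨d, hd, hd'⟩ := IsIrrCharacter.exists_apply_one θ.2
  have hne : indFun M (θ : M → ℂ) ≠ 0 := by
    intro h
    have h1 := congrFun h 1
    rw [indFun_one, hd', Pi.zero_apply] at h1
    exact mul_ne_zero (Nat.cast_ne_zero.mpr Subgroup.index_ne_zero_of_finite)
      (Nat.cast_ne_zero.mpr hd.ne') h1
  obtain ⟨χ, hχ⟩ := IsCharacter.exists_constituent
    (IsCharacter.indFun M (irr_isCharacter θ)) hne
  have hres : classInner (fun n : M => (χ : G → ℂ) n) (θ : M → ℂ) ≠ 0 := by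
    intro h0
    apply hχ
    rw [classInner_indFun M _ (irr_isClassFunction χ), ← classInner_conj_symm, h0, map_zero]
  obtain ⟨e, he⟩ := IsCharacter.exists_classInner_nat
    (IsCharacter.restrict (irr_isCharacter χ) M) (irr_isCharacter θ)
  obtain ⟨k, hk⟩ := hdeg χ
  have h := degree_eq M χ.2 θ.2 hres
  rw [he, hk, hd'] at h
  have h' : p ^ k = e * (inertia M (θ : M → ℂ)).index * d := by exact_mod_cast h
  obtain ⟨i, -, hi⟩ := (Nat.dvd_prime_pow hp).mp (Dvd.intro_left _ h'.symm)
  exact ⟨i, by rw [hd', hi, Nat.cast_pow]⟩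

theorem exists_abelian_normal_complement {p : ℕ} (hp : p.Prime) :
    ∀ (n : ℕ) (G : Type u) [Group G] [Finite G], Nat.card G = n →
      (∀ χ : IrrCharacter G, ∃ k : ℕ, (χ : G → ℂ) 1 = (p : ℂ) ^ k) →
      ∃ A : Subgroup G, A.Normal ∧ (∀ a ∈ A, ∀ b ∈ A, a * b = b * a) ∧
        Nat.Coprime (Nat.card A) p ∧ ∃ k : ℕ, A.index = p ^ k := by
  intro n
  induction n using Nat.strong_induction_on with
  | _ n ih =>
    intro G _ _ hn hdeg
    by_cases hdvd : p ∣ Nat.card G
    · obtain ⟨M, hM, hidx⟩ :=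
        exists_normal_index_eq_prime hp (dvd_index_commutator_of_degrees hp hdeg hdvd)
      have hlt : Nat.card M < n := by
        have h1 := M.card_mul_index
        rw [hidx, hn] at h1
        have := hp.two_le
        have := Nat.card_pos (α := M)
        nlinarith
      obtain ⟨A, hA, hab, hcop, k, hk⟩ :=
        ih _ hlt M rfl (degrees_pPower_restrict hp hdeg M)
      have hcard : Nat.card (A.map M.subtype) = Nat.card A :=
        Subgroup.card_map_of_injective M.subtype_injective
      -- `A` consists of the elements of `M` of order prime to `p`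
      have hchar : ∀ x : M, x ∈ A ↔ Nat.Coprime (orderOf x) p := by
        intro x
        constructor
        · intro hx
          refine Nat.Coprime.coprime_dvd_left ?_ hcop
          exact (Subgroup.orderOf_coe ⟨x, hx⟩).symm ▸ orderOf_dvd_natCard (⟨x, hx⟩ : A)
        · intro hx
          rw [← QuotientGroup.eq_one_iff, ← orderOf_eq_one_iff]
          refine Nat.Coprime.eq_one_of_dvd ?_
            (orderOf_map_dvd (QuotientGroup.mk' A) x)
          have h1 : orderOf (x : M ⧸ A) ∣ p ^ k := hk ▸ orderOf_dvd_natCard _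
          exact (Nat.Coprime.coprime_dvd_left h1
            ((Nat.Coprime.pow_left k (Nat.Coprime.symm hx))))
      refine ⟨A.map M.subtype, ⟨?_⟩, ?_, hcard.symm ▸ hcop, k + 1, ?_⟩
      · rintro _ ⟨x, hx, rfl⟩ g
        refine ⟨⟨g * x * g⁻¹, hM.conj_mem x x.2 g⟩, ?_, rfl⟩
        rw [SetLike.mem_coe, hchar, ← Subgroup.orderOf_coe]
        show Nat.Coprime (orderOf (MulAut.conj g (x : G))) p
        rw [MulEquiv.orderOf_eq, Subgroup.orderOf_coe]
        exact (hchar x).mp hx
      · rintro _ ⟨a, ha, rfl⟩ _ ⟨b, hb, rfl⟩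
        rw [← map_mul, hab a ha b hb, map_mul]
      · rw [Subgroup.index_map_subtype, hk, hidx, pow_succ]
    · refine ⟨⊤, inferInstance, fun a _ b _ => ?_, ?_, 0, by rw [Subgroup.index_top, pow_zero]⟩
      · refine comm_iff_forall_irr_one.mpr (fun χ => ?_) a b
        obtain ⟨k, hk⟩ := hdeg χ
        obtain ⟨d, -, hd, hdd⟩ : ∃ d : ℕ, 0 < d ∧ (χ : G → ℂ) 1 = d ∧ d ∣ Nat.card G :=
          IsIrrCharacter.exists_degree_dvd χ.2
        have hkd : p ^ k = d := by exact_mod_cast hk.symm.trans hd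
        rcases Nat.eq_zero_or_pos k with h0 | h0
        · rw [hk, h0, pow_zero]
        · exact absurd ((dvd_pow_self p h0.ne').trans (hkd ▸ hdd)) hdvd
      · rw [Subgroup.card_top]
        exact (hp.coprime_iff_not_dvd.mpr hdvd).symm

theorem degrees_pPower_iff {G : Type u} [Group G] [Finite G] {p : ℕ} (hp : p.Prime) :
    (∀ χ : IrrCharacter G, ∃ k : ℕ, (χ : G → ℂ) 1 = (p : ℂ) ^ k) ↔
      ∃ A : Subgroup G, A.Normal ∧ (∀ a ∈ A, ∀ b ∈ A, a * b = b * a) ∧
        Nat.Coprime (Nat.card A) p ∧ ∃ k : ℕ, A.index = p ^ k := by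
  refine ⟨fun h => exists_abelian_normal_complement hp _ G rfl h, ?_⟩
  rintro ⟨A, hA, hab, -, k, hk⟩ χ
  obtain ⟨d, -, hd⟩ := IsIrrCharacter.exists_apply_one χ.2
  have hdiv : d ∣ p ^ k := hk ▸ IsIrrCharacter.degree_dvd_index_of_abelian χ.2 A hab hd
  obtain ⟨i, -, hi⟩ := (Nat.dvd_prime_pow hp).mp hdiv
  exact ⟨i, by rw [hd, hi, Nat.cast_pow]⟩

end Cfsg.Agent.Lib.Characters
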