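import Cfsg.Agent.Lib.Characters.Monomial
import Cfsg.Agent.Lib.Characters.DegreeRatio
import Mathlib.Algebra.Field.ZMod

/-!
# Dade's detection of invariant characters by `p`-elementary subgroups
-/

namespace Cfsg.Agent.Lib.Characters

open scoped ComplexConjugate

set_option linter.unusedSectionVars false
set_option linter.style.haveILetI false

universe u

variable {G : Type u} [Group G] [Fintype G] (N : Subgroup G) [hN : N.Normal]

/-- Pairing an induced function with an invariant function on a normal subgroup. -/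
theorem classInner_indFun_invariant [Fintype N] (E : Subgroup G) [Fintype (N.subgroupOf E)]
    (χ : E → ℂ) {F : N → ℂ} (hF : ∀ g, conjFun N g F = F) :
    classInner (fun n : N => indFun E χ n) F =
      ((E ⊔ N).index : ℂ) * classInner (fun d : N.subgroupOf E => χ d)
        (fun d : N.subgroupOf E => F ⟨(d : E), d.2⟩) := by
  classical
  have key : ∀ x : G, ∑ n : N, extendByZero E χ (x⁻¹ * n * x) * conj (F n) =
      ∑ d : N.subgroupOf E, χ d * conj (F ⟨(d : E), d.2⟩) := by
    intro x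
    rw [← Fintype.sum_equiv (MulAut.conjNormal x : MulAut N).toEquiv
      (fun n : N => extendByZero E χ (n : G) * conj (F n)) _ (fun n => by
        have h := congrFun (hF x) n
        rw [conjFun_eq_comp] at h
        simp only [MulEquiv.toEquiv_eq_coe, MulEquiv.coe_toEquiv]
        rw [show F ((MulAut.conjNormal x : MulAut N) n) = F n from h]
        simp [mul_assoc])]
    rw [← Finset.sum_filter_of_ne (p := fun n : N => (n : G) ∈ E) (fun n _ hn => by
      by_contra h
      exact hn (by rw [extendByZero_of_not_mem _ _ h, zero_mul]))]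
    refine Finset.sum_bij' (fun n hn => ⟨⟨n, (Finset.mem_filter.mp hn).2⟩, n.2⟩)
      (fun d _ => ⟨(d : E), d.2⟩) (fun _ _ => Finset.mem_univ _)
      (fun d _ => Finset.mem_filter.mpr ⟨Finset.mem_univ _, (d : E).2⟩)
      (fun _ _ => rfl) (fun _ _ => rfl) (fun n hn => ?_)
    rw [extendByZero_of_mem _ _ (Finset.mem_filter.mp hn).2]
  have h1 : classInner (fun n : N => indFun E χ n) F =
      (Nat.card N : ℂ)⁻¹ * (Nat.card E : ℂ)⁻¹ *
        ((Nat.card G : ℂ) * ∑ d : N.subgroupOf E, χ d * conj (F ⟨(d : E), d.2⟩)) := by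
    rw [classInner, mul_assoc]
    congr 1
    simp only [indFun_apply, mul_assoc, Finset.sum_mul, Finset.mul_sum]
    rw [Finset.sum_comm]
    simp only [← Finset.mul_sum]
    congr 1
    simp only [mul_assoc] at key
    rw [Finset.sum_congr rfl fun x _ => key x, Finset.sum_const, Finset.card_univ, nsmul_eq_mul,
      Nat.card_eq_fintype_card, Finset.mul_sum]
  have hidx : N.index = (N.subgroupOf E).index * (E ⊔ N).index := by
    rw [← Subgroup.relIndex_mul_index (le_sup_right : N ≤ E ⊔ N), Subgroup.relIndex_sup_right]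
    rfl
  have hG : (Nat.card G : ℂ) = (Nat.card N : ℂ) * (N.subgroupOf E).index * (E ⊔ N).index := by
    rw [mul_assoc, ← N.card_mul_index, hidx]
    push_cast
    rfl
  have hE : (Nat.card E : ℂ) = (Nat.card (N.subgroupOf E) : ℂ) * (N.subgroupOf E).index := by
    rw [← (N.subgroupOf E).card_mul_index]
    push_cast
    rfl
  have hNc : (Nat.card N : ℂ) ≠ 0 := natCard_ne_zero_complex
  have hDc : (Nat.card (N.subgroupOf E) : ℂ) ≠ 0 := natCard_ne_zero_complex
  have hi : ((N.subgroupOf E).index : ℂ) ≠ 0 := by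
    exact_mod_cast Subgroup.index_ne_zero_of_finite
  rw [h1, classInner, hG, hE]
  field_simp

omit hN in
/-- A function constant on the orbits of conjugation has sum congruent to its sum over fixed
points. -/
theorem exists_invariant_not_dvd {E : Type u} [Group E] [Fintype E] (D : Subgroup E) [D.Normal]
    [Fintype (IrrCharacter D)] {p : ℕ} [Fact p.Prime] (hp : ∃ k, D.index = p ^ k)
    (f : IrrCharacter D → ℤ)
    (hf : ∀ (g : E) (φ ψ : IrrCharacter D), conjFun D g (φ : D → ℂ) = ψ → f φ = f ψ)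
    (h : ¬ (p : ℤ) ∣ ∑ φ, f φ) :
    ∃ φ : IrrCharacter D, (∀ g : E, conjFun D g (φ : D → ℂ) = φ) ∧ ¬ (p : ℤ) ∣ f φ := by
  classical
  by_contra hc
  push Not at hc
  apply h
  let O : IrrCharacter D → Finset (IrrCharacter D) := fun φ =>
    Finset.univ.filter fun ψ => ∃ g : E, conjFun D g (φ : D → ℂ) = ψ
  have hO : ∀ φ ψ, ψ ∈ O φ ↔ ∃ g : E, conjFun D g (φ : D → ℂ) = ψ := fun φ ψ => by simp [O]
  rw [← Finset.sum_fiberwise Finset.univ O]
  refine Finset.dvd_sum fun R _ => ?_
  rcases (Finset.univ.filter fun φ => O φ = R).eq_empty_or_nonempty with he | ⟨φ, hφ⟩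
  · rw [he, Finset.sum_empty]; exact dvd_zero _
  have hR : O φ = R := (Finset.mem_filter.mp hφ).2
  have hfib : (Finset.univ.filter fun ψ => O ψ = R) = O φ := by
    ext ψ
    simp only [Finset.mem_filter, Finset.mem_univ, true_and, hO]
    constructor
    · intro h'
      rw [← hO φ, hR, ← h', hO]
      exact ⟨1, conjFun_one D _⟩
    · rintro ⟨g, hg⟩
      rw [← hR]
      ext χ
      rw [hO, hO]
      constructor
      · rintro ⟨a, ha⟩
        exact ⟨g * a, by rw [conjFun_mul, hg, ha]⟩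
      · rintro ⟨a, ha⟩
        exact ⟨g⁻¹ * a, by rw [conjFun_mul, ← hg, conjFun_inv_cancel, ha]⟩
  rw [hfib, Finset.sum_congr rfl fun ψ hψ => ((hf _ _ _ ((hO φ ψ).mp hψ).choose_spec).symm),
    Finset.sum_const, nsmul_eq_mul]
  by_cases hfix : ∀ g : E, conjFun D g (φ : D → ℂ) = φ
  · exact dvd_mul_of_dvd_right (hc φ hfix) _
  refine dvd_mul_of_dvd_left (Int.natCast_dvd_natCast.mpr ?_) _
  have hcard : (O φ).card = (inertia D (φ : D → ℂ)).index := by
    rw [← card_conjugates, ← Fintype.card_coe, ← Nat.card_eq_fintype_card]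
    refine Nat.card_congr
      { toFun := fun ψ => ⟨(ψ.1 : D → ℂ), (hO φ ψ.1).mp ψ.2⟩
        invFun := fun c => ⟨⟨c.1, by
          obtain ⟨g, hg⟩ := c.2
          exact hg ▸ IsIrrCharacter.conjFun D φ.2 g⟩, (hO φ _).mpr c.2⟩
        left_inv := fun ψ => rfl
        right_inv := fun c => rfl }
  rw [hcard]
  obtain ⟨k, hk⟩ := hp
  obtain ⟨j, -, hj⟩ := (Nat.dvd_prime_pow Fact.out).mp
    (hk ▸ Subgroup.index_dvd_of_le (le_inertia D (irr_isClassFunction φ)))
  rw [hj]
  refine dvd_pow_self p fun hj0 => hfix fun g => (mem_inertia_iff D).mp ?_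
  rw [Subgroup.index_eq_one.mp
    (show (inertia D (φ : D → ℂ)).index = 1 by rw [hj, hj0, pow_zero])]
  exact Subgroup.mem_top g

/-- Dade's detection theorem. -/
theorem dade_detection {p : ℕ} (hp : p.Prime) (hind : ∃ k : ℕ, N.index = p ^ k) [Fintype N]
    {ϑ : N → ℂ} (hϑ : IsIrrCharacter N ϑ) (hinv : ∀ g, conjFun N g ϑ = ϑ) :
    ∃ (E : Subgroup G) (φ : N.subgroupOf E → ℂ), IsElementary p E ∧ E ⊔ N = ⊤ ∧
      IsIrrCharacter (N.subgroupOf E) φ ∧ (∀ g : E, conjFun (N.subgroupOf E) g φ = φ) ∧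
      ∀ [Fintype (N.subgroupOf E)], ∃ m : ℕ, ¬ p ∣ m ∧
        classInner (fun d : N.subgroupOf E => ϑ ⟨(d : E), d.2⟩) φ = (m : ℂ) := by
  classical
  haveI := Fact.mk hp
  obtain ⟨e, m, hm, hcard⟩ := Nat.exists_eq_pow_mul_and_not_dvd
    (Nat.card_pos (α := G)).ne' p hp.ne_one
  obtain ⟨k, c, v, hv⟩ := exists_int_combination (S := elemInduced G p)
    (fun f ⟨E, χ, _, hχ, hf⟩ =>
      hf ▸ IsCharacter.isGeneralizedCharacter (IsCharacter.indFun E hχ)) (m : ℤ)
    (by simpa [brauerSpan] using natCast_mem_brauerSpan hp hcard)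
  choose E χ hE hχ hveq using fun i => (v i).2
  let F : N → ℂ := fun n => ϑ n * conj (ϑ n)
  have hF : ∀ g, conjFun N g F = F := fun g => by
    funext n
    have h := congrFun (hinv g) n
    show ϑ _ * conj (ϑ _) = _
    rw [show ϑ ⟨g * n * g⁻¹, hN.conj_mem n n.2 g⟩ = ϑ n from h]
  haveI : ∀ i, Fintype (N.subgroupOf (E i)) := fun i => Fintype.ofFinite _
  let r : ∀ i, N.subgroupOf (E i) → ℂ := fun i d => ϑ ⟨((d : E i) : G), d.2⟩
  have hr : ∀ i, IsCharacter (N.subgroupOf (E i)) (r i) := fun i =>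
    IsCharacter.comp (IsIrrCharacter.isCharacter hϑ)
      (((E i).subtype.comp (N.subgroupOf (E i)).subtype).codRestrict N fun d => d.2)
  have hx : ∀ i, IsCharacter (N.subgroupOf (E i)) (fun d : N.subgroupOf (E i) => χ i d) := fun i =>
    IsCharacter.restrict (hχ i) _
  choose I hI using fun i => IsCharacter.exists_classInner_nat
    (IsCharacter.mul (hx i) (hr i)) (hr i)
  have hsum : (m : ℤ) = ∑ i, c i * ((((E i) ⊔ N).index * I i : ℕ) : ℤ) := by
    have h := congrArg (fun f : G → ℂ => classInner (fun n : N => f n) F) hv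
    have hl : classInner (fun _ : N => ((m : ℤ) : ℂ)) F = (m : ℂ) := by
      have h1 : classInner (fun _ : N => (1 : ℂ)) F = 1 := by
        conv_rhs => rw [← IsIrrCharacter.classInner_self hϑ]
        rw [classInner, classInner]
        simp [F, mul_comm]
      rw [show (fun _ : N => ((m : ℤ) : ℂ)) = (m : ℂ) • fun _ : N => (1 : ℂ) by funext; simp,
        classInner_smul_left, h1, mul_one]
    rw [hl] at h
    have hterm : ∀ i, classInner (fun n : N => (v i : G → ℂ) n) F =
        ((((E i) ⊔ N).index * I i : ℕ) : ℂ) := by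
      intro i
      rw [hveq i, classInner_indFun_invariant N (E i) (χ i) hF, Nat.cast_mul, ← hI i]
      congr 1
      simp only [classInner]
      congr 1
      refine Finset.sum_congr rfl fun d _ => ?_
      simp only [F, r, Pi.mul_apply, map_mul, Complex.conj_conj]
      ring
    have h2 : (fun n : N => (∑ i, (c i : ℂ) • (v i : G → ℂ)) n) =
        ∑ i, (c i : ℂ) • fun n : N => (v i : G → ℂ) n := by
      funext n; simp
    rw [h2, classInner_sum_left] at h
    simp only [classInner_smul_left, hterm] at h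
    exact_mod_cast h
  have hi : ∃ i, ¬ (p : ℤ) ∣ ((((E i) ⊔ N).index * I i : ℕ) : ℤ) := by
    by_contra hc
    push Not at hc
    exact hm (Int.natCast_dvd_natCast.mp
      (hsum ▸ Finset.dvd_sum fun i _ => dvd_mul_of_dvd_right (hc i) _))
  obtain ⟨i, hi⟩ := hi
  rw [Int.natCast_dvd_natCast] at hi
  obtain ⟨k₀, hk₀⟩ := hind
  have htop : E i ⊔ N = ⊤ := by
    obtain ⟨j, -, hj⟩ := (Nat.dvd_prime_pow hp).mp
      (hk₀ ▸ Subgroup.index_dvd_of_le (le_sup_right : N ≤ E i ⊔ N))
    rw [← Subgroup.index_eq_one, hj]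
    by_contra h
    exact hi (dvd_mul_of_dvd_left (hj ▸ dvd_pow_self p (fun h0 => h (by rw [h0, pow_zero]))) _)
  have hIi : ¬ p ∣ I i := fun h => hi (dvd_mul_of_dvd_right h _)
  haveI := Fintype.ofFinite (IrrCharacter (N.subgroupOf (E i)))
  choose a ha using fun φ : IrrCharacter (N.subgroupOf (E i)) =>
    IsCharacter.exists_classInner_nat (IsCharacter.mul (hx i) (hr i)) (irr_isCharacter φ)
  choose b hb using fun φ : IrrCharacter (N.subgroupOf (E i)) =>
    IsCharacter.exists_classInner_nat (hr i) (irr_isCharacter φ)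
  have hab : (I i : ℤ) = ∑ φ, (a φ : ℤ) * b φ := by
    have h := hI i
    rw [classInner_eq_sum_irr (IsCharacter.isClassFunction (IsCharacter.mul (hx i) (hr i)))
      (IsCharacter.isClassFunction (hr i))] at h
    simp only [ha, hb, map_natCast] at h
    exact_mod_cast h.symm
  have hrinv : ∀ g : E i, conjFun (N.subgroupOf (E i)) g (r i) = r i := fun g => by
    funext d
    exact congrFun (hinv g) ⟨((d : E i) : G), d.2⟩
  have hxinv : ∀ g : E i, conjFun (N.subgroupOf (E i)) g (fun d : N.subgroupOf (E i) => χ i d) =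
      fun d : N.subgroupOf (E i) => χ i d :=
    fun g => conjFun_restrict _ (IsCharacter.isClassFunction (hχ i)) g
  have hidx : ∃ j, (N.subgroupOf (E i)).index = p ^ j := by
    refine ⟨k₀, ?_⟩
    have h := Subgroup.relIndex_sup_right (E i) N
    rw [htop, Subgroup.relIndex_top_right] at h
    rw [← hk₀, h]
    rfl
  obtain ⟨φ, hφ, hφd⟩ := exists_invariant_not_dvd (N.subgroupOf (E i)) hidx
    (fun φ => (a φ : ℤ) * b φ) (fun g φ ψ h => by
      have h1 : (a φ : ℂ) = a ψ := by
        rw [← ha, ← ha, ← h]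
        conv_rhs => arg 1; rw [← show conjFun (N.subgroupOf (E i)) g
          ((fun d : N.subgroupOf (E i) => χ i d) * r i) = (fun d : N.subgroupOf (E i) => χ i d) * r i from
          funext fun d => congrArg₂ (· * ·) (congrFun (hxinv g) d) (congrFun (hrinv g) d)]
        rw [classInner_conjFun]
      have h2 : (b φ : ℂ) = b ψ := by
        rw [← hb, ← hb, ← h]
        conv_rhs => arg 1; rw [← hrinv g]
        rw [classInner_conjFun]
      rw [Nat.cast_injective h1, Nat.cast_injective h2]) (by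
      rw [← hab]; exact fun h => hIi (Int.natCast_dvd_natCast.mp h))
  refine ⟨E i, φ, hE i, htop, φ.2, hφ, fun {inst} => ⟨b φ, fun h => hφd ?_, ?_⟩⟩
  · exact dvd_mul_of_dvd_right (Int.natCast_dvd_natCast.mpr h) _
  · convert hb φ

/-- An invariant character extends when the intersection with a Sylow subgroup is central and its
linear characters extend. -/
theorem exists_extension_of_central_sylow {p : ℕ} [Fact p.Prime] (hind : ∃ k : ℕ, N.index = p ^ k)
    (P : Sylow p G)
    (hcent : ∀ x ∈ (P : Subgroup G) ⊓ N, ∀ y ∈ (P : Subgroup G), x * y = y * x)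
    (hlin : ∀ lam : ↥((P : Subgroup G) ⊓ N) → ℂ, IsCharacter ↥((P : Subgroup G) ⊓ N) lam →
      lam 1 = 1 → ∃ μ : ↥(P : Subgroup G) → ℂ, IsCharacter ↥(P : Subgroup G) μ ∧ μ 1 = 1 ∧
        ∀ x : ↥((P : Subgroup G) ⊓ N), μ ⟨(x : G), x.2.1⟩ = lam x)
    [Fintype N] {ϑ : N → ℂ} (hϑ : IsIrrCharacter N ϑ) (hinv : ∀ g, conjFun N g ϑ = ϑ) :
    ∃ χ : G → ℂ, IsIrrCharacter G χ ∧ ∀ n : N, χ n = ϑ n := by
  classical
  have hp : p.Prime := Fact.out
  obtain ⟨E, φ, hE, htop, hφ, -, hm⟩ := dade_detection N hp hind hϑ hinv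
  haveI := Fintype.ofFinite (N.subgroupOf E)
  obtain ⟨m, hpm, hmφ⟩ := hm
  obtain ⟨x, hx, hcop, k, hk⟩ := hE
  obtain ⟨Q⟩ : Nonempty (Sylow p E) := inferInstance
  -- the splitting `E = ⟨x⟩ × Q`
  let f : Subgroup.zpowers x × (Q : Subgroup E) →* E :=
    MonoidHom.noncommCoprod (Subgroup.zpowers x).subtype (Q : Subgroup E).subtype fun c q => by
      show Commute (c : E) (q : E)
      exact ((Subgroup.mem_center_iff.mp (Subgroup.zpowers_le.mpr hx c.2)) (q : E)).symm
  have hQcard : Nat.card (Q : Subgroup E) = p ^ k := by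
    rw [Q.card_eq_multiplicity, ← (Subgroup.zpowers x).card_mul_index, hk, Nat.card_zpowers,
      Nat.factorization_mul (orderOf_pos x).ne' (pow_ne_zero _ hp.ne_zero), Finsupp.add_apply,
      Nat.factorization_eq_zero_of_not_dvd (fun h => hp.ne_one
        (Nat.eq_one_of_dvd_coprimes hcop h dvd_rfl)), zero_add, hp.factorization_pow,
      Finsupp.single_eq_same]
  have hfb : Function.Bijective f := by
    have hcard : Nat.card (Subgroup.zpowers x × (Q : Subgroup E)) = Nat.card E := by
      rw [Nat.card_prod, hQcard, ← hk, (Subgroup.zpowers x).card_mul_index]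
    refine (Nat.bijective_iff_injective_and_card f).mpr ⟨?_, hcard⟩
    refine (injective_iff_map_eq_one f).mpr fun ⟨c, q⟩ h => ?_
    have h' : (c : E) * (q : E) = 1 := h
    have hq : (q : E) ∈ Subgroup.zpowers x := by
      rw [eq_inv_of_mul_eq_one_right h']
      exact Subgroup.inv_mem _ c.2
    have h1 : orderOf (q : E) = 1 := Nat.eq_one_of_dvd_coprimes
      (hcop.pow_right k) (orderOf_dvd_of_mem_zpowers hq)
      (hQcard ▸ Subgroup.orderOf_dvd_natCard _ q.2)
    rw [orderOf_eq_one_iff] at h1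
    rw [h1, mul_one] at h'
    exact Prod.ext (Subtype.ext h') (Subtype.ext h1)
  let fe : Subgroup.zpowers x × (Q : Subgroup E) ≃* E := MulEquiv.ofBijective f hfb
  have hxN : (x : G) ∈ N := by
    rw [← QuotientGroup.eq_one_iff (N := N), ← orderOf_eq_one_iff]
    obtain ⟨k₀, hk₀⟩ := hind
    refine Nat.eq_one_of_dvd_coprimes (hcop.pow_right k₀) ?_ ?_
    · rw [← Subgroup.orderOf_coe]; exact orderOf_map_dvd (QuotientGroup.mk' N) (x : G)
    · rw [← hk₀, Subgroup.index_eq_card]; exact orderOf_dvd_natCard _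
  -- a conjugate of `P` containing `Q`
  obtain ⟨T, hT⟩ := (Q.isPGroup'.map E.subtype).exists_le_sylow
  obtain ⟨g, hg⟩ := MulAction.exists_smul_eq G P T
  have hQP : ∀ q ∈ (Q : Subgroup E), g⁻¹ * (q : G) * g ∈ (P : Subgroup G) := by
    intro q hq
    have h : (q : G) ∈ (T : Subgroup G) := hT ⟨q, hq, rfl⟩
    rw [← hg, Sylow.coe_subgroup_smul, Subgroup.mem_pointwise_smul_iff_inv_smul_mem,
      ← map_inv, MulAut.smul_def, MulAut.conj_apply] at h
    simpa using h
  have hDc : ∀ d : E, (d : G) ∈ N → ∀ e : E, d * e = e * d := by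
    intro d hd e
    obtain ⟨⟨c, q⟩, rfl⟩ := fe.surjective d
    obtain ⟨⟨c', q'⟩, rfl⟩ := fe.surjective e
    rw [← map_mul, ← map_mul]
    congr 1
    refine Prod.ext (Subtype.ext ?_) (Subtype.ext ?_)
    · exact ((Subgroup.mem_center_iff.mp (Subgroup.zpowers_le.mpr hx c.2)) (c' : E)).symm
    · have hqN : ((q : E) : G) ∈ N := by
        have h : ((c : E) : G) * ((q : E) : G) ∈ N := hd
        have hc : ((c : E) : G) ∈ N := by
          obtain ⟨j, hj⟩ := Subgroup.mem_zpowers_iff.mp c.2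
          rw [← hj, SubgroupClass.coe_zpow]
          exact N.zpow_mem hxN j
        exact (N.mul_mem_cancel_left hc).mp h
      have h := hcent _ ⟨hQP _ q.2, by simpa using hN.conj_mem _ hqN g⁻¹⟩ _ (hQP _ q'.2)
      apply Subtype.ext
      have h2 := congrArg (fun z => g * z * g⁻¹) h
      simpa [mul_assoc] using h2
  have hab : ∀ a b : N.subgroupOf E, a * b = b * a := fun a b => Subtype.ext (hDc a a.2 b)
  have hφ1 : φ 1 = 1 := IsIrrCharacter.apply_one_of_comm hab hφ
  obtain ⟨lam, hlam⟩ := IsCharacter.exists_hom_of_apply_one (IsIrrCharacter.isCharacter hφ) hφ1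
  -- extend the linear character on the Sylow intersection
  let PN : Subgroup G := (P : Subgroup G) ⊓ N
  let Q₀ : Subgroup PN :=
    { carrier := {y | ∃ h : g * (y : G) * g⁻¹ ∈ E, (⟨_, h⟩ : E) ∈ (Q : Subgroup E)}
      one_mem' := ⟨by simp, by
        rw [show (⟨g * ((1 : PN) : G) * g⁻¹, by simp⟩ : E) = 1 from Subtype.ext (by simp)]
        exact one_mem _⟩
      mul_mem' := fun {a b} ⟨ha, ha'⟩ ⟨hb, hb'⟩ => by
        have he : g * ((a * b : PN) : G) * g⁻¹ = (g * a * g⁻¹) * (g * b * g⁻¹) := by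
          rw [Subgroup.coe_mul]; group
        refine ⟨he ▸ E.mul_mem ha hb, ?_⟩
        convert (Q : Subgroup E).mul_mem ha' hb' using 1
        exact Subtype.ext he
      inv_mem' := fun {a} ⟨ha, ha'⟩ => by
        have he : g * ((a⁻¹ : PN) : G) * g⁻¹ = (g * a * g⁻¹)⁻¹ := by
          rw [Subgroup.coe_inv]; group
        refine ⟨he ▸ E.inv_mem ha, ?_⟩
        convert (Q : Subgroup E).inv_mem ha' using 1
        exact Subtype.ext he }
  have hQ₀N : ∀ y : Q₀, g * ((y : PN) : G) * g⁻¹ ∈ N := fun y => hN.conj_mem _ (y : PN).2.2 g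
  let β : Q₀ →* N.subgroupOf E :=
    { toFun := fun y => ⟨⟨_, y.2.1⟩, hQ₀N y⟩
      map_one' := Subtype.ext (Subtype.ext (by simp))
      map_mul' := fun a b => Subtype.ext (Subtype.ext (by simp [mul_assoc])) }
  haveI := Fintype.ofFinite PN
  haveI := Fintype.ofFinite Q₀
  have hβc : IsCharacter Q₀ (fun y => φ (β y)) := IsCharacter.comp (IsIrrCharacter.isCharacter hφ) β
  have hβ1 : φ (β 1) = 1 := by rw [map_one]; exact hφ1
  obtain ⟨η, hη⟩ := IsCharacter.exists_constituent (IsCharacter.indFun Q₀ hβc) fun h => by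
    have h' := congrFun h 1
    rw [indFun_one, hβ1, mul_one, Pi.zero_apply] at h'
    exact Subgroup.index_ne_zero_of_finite (by exact_mod_cast h')
  have hη1 : (η : PN → ℂ) 1 = 1 := IsIrrCharacter.apply_one_of_comm
    (fun a b => Subtype.ext (hcent a a.2 b b.2.1)) η.2
  have hres : ∀ y : Q₀, (η : PN → ℂ) y = φ (β y) := by
    rw [classInner_indFun Q₀ _ (irr_isClassFunction η)] at hη
    have hh := IsCharacter.isIrr_of_apply_one (IsCharacter.restrict (irr_isCharacter η) Q₀) hη1
    have hh' := IsCharacter.isIrr_of_apply_one hβc hβ1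
    intro y
    by_contra hne
    exact hη (IsIrrCharacter.classInner_ne hh' hh fun he => hne (congrFun he y).symm)
  obtain ⟨μ, hμ, hμ1, hμres⟩ := hlin η (irr_isCharacter η) hη1
  obtain ⟨mu, hmu⟩ := IsCharacter.exists_hom_of_apply_one hμ hμ1
  -- the extension to `E`
  let toP : (Q : Subgroup E) →* (P : Subgroup G) :=
    { toFun := fun q => ⟨_, hQP q q.2⟩
      map_one' := Subtype.ext (by simp)
      map_mul' := fun a b => Subtype.ext (by simp [mul_assoc]) }
  have hcN : ∀ c : Subgroup.zpowers x, ((c : E) : G) ∈ N := fun c => by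
    obtain ⟨j, hj⟩ := Subgroup.mem_zpowers_iff.mp c.2
    rw [← hj, SubgroupClass.coe_zpow]
    exact N.zpow_mem hxN j
  let toD : Subgroup.zpowers x →* N.subgroupOf E :=
    { toFun := fun c => ⟨c, hcN c⟩
      map_one' := rfl
      map_mul' := fun _ _ => rfl }
  let ext : E →* ℂˣ :=
    (MonoidHom.coprod (lam.comp toD) (mu.comp toP)).comp fe.symm.toMonoidHom
  have hext : ∀ d : N.subgroupOf E, (ext d : ℂ) = φ d := by
    intro d
    obtain ⟨⟨c, q⟩, hcq⟩ := fe.surjective (d : E)
    have hqN : ((q : E) : G) ∈ N := by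
      have h1 : ((d : E) : G) ∈ N := d.2
      rw [← hcq] at h1
      exact (N.mul_mem_cancel_left (hcN c)).mp h1
    have hd : d = toD c * ⟨(q : E), hqN⟩ := Subtype.ext hcq.symm
    have he : ext d = lam (toD c) * mu (toP q) := by
      simp only [ext, MonoidHom.comp_apply, ← hcq]
      rw [MulEquiv.coe_toMonoidHom, MulEquiv.symm_apply_apply]
      rfl
    let y : PN := ⟨g⁻¹ * ((q : E) : G) * g, hQP q q.2, by simpa using hN.conj_mem _ hqN g⁻¹⟩
    have he2 : g * (y : G) * g⁻¹ = ((q : E) : G) := by simp [y, mul_assoc]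
    have hy : y ∈ Q₀ := ⟨he2 ▸ (q : E).2, by
      convert q.2 using 1; exact Subtype.ext he2⟩
    have hmuq : (mu (toP q) : ℂ) = φ ⟨(q : E), hqN⟩ := by
      have h1 : (mu (toP q) : ℂ) = μ (toP q) := (congrFun hmu _).symm
      rw [h1, show toP q = ⟨(y : G), y.2.1⟩ from rfl, hμres, hres ⟨y, hy⟩]
      exact congrArg φ (Subtype.ext (Subtype.ext he2))
    rw [he, Units.val_mul, hmuq, hd, congrFun hlam, congrFun hlam ((toD c) * _), map_mul,
      Units.val_mul]
  haveI := Fintype.ofFinite E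
  let φ' : E → ℂ := fun e => (ext e : ℂ)
  have hφ' : IsCharacter E φ' := IsIrrCharacter.isCharacter (isIrrCharacter_unitsHom ext)
  have hψ : classInner (fun n : N => indFun E φ' n) ϑ = (m : ℂ) := by
    rw [classInner_indFun_invariant N E φ' hinv, htop, Subgroup.index_top, Nat.cast_one, one_mul,
      show (fun d : N.subgroupOf E => φ' d) = φ from funext hext, ← classInner_conj_symm, hmφ,
      map_natCast]
  -- a constituent restricting to `ϑ`
  haveI := Fintype.ofFinite (IrrCharacter G)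
  obtain ⟨a, ha, -⟩ := IsCharacter.exists_nat_decomp (IsCharacter.indFun E hφ')
  choose b hb using fun χ : IrrCharacter G => IsCharacter.exists_classInner_nat
    (IsCharacter.restrict (irr_isCharacter χ) N) (IsIrrCharacter.isCharacter hϑ)
  have hab' : m = ∑ χ, a χ * b χ := by
    have h : (m : ℂ) = ∑ χ, (a χ : ℂ) * b χ := by
      rw [← hψ, show (fun n : N => indFun E φ' n) =
        ∑ χ : IrrCharacter G, (a χ : ℂ) • fun n : N => (χ : G → ℂ) n from funext fun n => by
          have := congrFun ha n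
          simpa using this, classInner_sum_left]
      simp only [classInner_smul_left, hb]
    exact_mod_cast h
  obtain ⟨χ, hχb⟩ : ∃ χ, ¬ p ∣ b χ := by
    by_contra hc
    push Not at hc
    exact hpm (hab' ▸ Finset.dvd_sum fun χ _ => dvd_mul_of_dvd_right (hc χ) _)
  have hb0 : classInner (fun n : N => (χ : G → ℂ) n) ϑ ≠ 0 := by
    rw [hb]
    exact_mod_cast fun h : b χ = 0 => hχb (by rw [h]; exact dvd_zero p)
  have hres' := restrict_eq_smul_of_invariant N χ.2 hϑ hinv hb0
  rw [hb] at hres'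
  obtain ⟨e', he', he'd⟩ := exists_ratio_dvd_index_of_invariant N χ.2 hϑ hinv hb0
  have hbe : b χ = e' := by
    have h := congrFun hres' 1
    simp only [OneMemClass.coe_one, Pi.smul_apply, smul_eq_mul] at h
    rw [he'] at h
    exact_mod_cast (mul_right_cancel₀ (IsIrrCharacter.apply_one_ne_zero hϑ) h).symm
  obtain ⟨k₀, hk₀⟩ := hind
  obtain ⟨j, -, hj⟩ := (Nat.dvd_prime_pow hp).mp (hk₀ ▸ he'd)
  have hb1 : b χ = 1 := by
    rw [hbe, hj]
    rcases Nat.eq_zero_or_pos j with h | h
    · rw [h, pow_zero]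
    · exact absurd (hbe.trans hj ▸ dvd_pow_self p h.ne') hχb
  refine ⟨χ, χ.2, fun n => ?_⟩
  rw [congrFun hres' n, hb1, Nat.cast_one, one_smul]

end Cfsg.Agent.Lib.Characters
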