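import Cfsg.Agent.Lib.Characters.Berger
import Cfsg.Agent.Lib.Characters.Dade
import Mathlib.GroupTheory.Transfer

/-!
# Relative M-groups
-/

namespace Cfsg.Agent.Lib.Characters

open scoped ComplexConjugate commutatorElement

set_option linter.unusedSectionVars false
set_option linter.style.haveILetI false

universe u

variable {G : Type u} [Group G]

theorem IsCharacter.eq_zero_of_apply_one_relM {φ : G → ℂ} (h : IsCharacter G φ) (h1 : φ 1 = 0) :
    φ = 0 := by
  obtain ⟨d, σ, hσ⟩ := h
  have hd : d = 0 := by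
    rw [← hσ, σ.char_one, Module.finrank_fin_fun] at h1
    exact_mod_cast h1
  subst hd
  rw [← hσ]
  funext g
  show LinearMap.trace ℂ _ (σ g) = 0
  rw [show σ g = 0 from LinearMap.ext fun x => Subsingleton.elim _ _, map_zero]

/-- A character whose pullback along a surjection is irreducible is irreducible. -/
theorem isIrrCharacter_of_comp_surjective [Finite G] {H : Type u} [Group H] (f : G →* H)
    (hf : Function.Surjective f) {φ : H → ℂ} (hφ : IsCharacter H φ)
    (h : IsIrrCharacter G (φ ∘ f)) : IsIrrCharacter H φ := by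
  obtain ⟨d, σ, rfl⟩ := hφ
  obtain ⟨d', τ, hτ, he⟩ := h
  obtain ⟨E⟩ := nonempty_equiv_of_character_eq τ (σ.comp f : Representation ℂ G _)
    (by rw [he]; rfl)
  haveI := hτ
  let σ' : Representation ℂ G (Fin d → ℂ) := σ.comp f
  haveI hirr : σ'.IsIrreducible := isIrreducible_of_equiv E
  obtain ⟨h1, h2⟩ := (isIrreducible_iff_forall σ').mp hirr
  have : σ.IsIrreducible := (isIrreducible_iff_forall σ).mpr
    ⟨h1, fun W hW => h2 W fun g x hx => hW (f g) x hx⟩
  exact ⟨d, σ, this, rfl⟩

/-- In a group with abelian Sylow subgroups a central element of prime order lies outside the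
derived subgroup. -/
theorem eq_one_of_central_commutator [Finite G]
    (hab : ∀ (p : ℕ) [Fact p.Prime] (P : Sylow p G), ∀ a ∈ P, ∀ b ∈ P, a * b = b * a)
    {z : G} (hz : z ∈ Subgroup.center G) (hc : z ∈ commutator G) {p : ℕ} [Fact p.Prime]
    (hzp : z ^ p = 1) : z = 1 := by
  obtain ⟨P, hP⟩ := (IsPGroup.exists_le_sylow (G := G) (P := Subgroup.zpowers z) (p := p) (by
    rintro ⟨x, hx⟩
    refine ⟨1, Subtype.ext ?_⟩
    obtain ⟨j, rfl⟩ := Subgroup.mem_zpowers_iff.mp hx
    simp only [pow_one, SubgroupClass.coe_pow, OneMemClass.coe_one]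
    rw [← zpow_natCast, ← zpow_mul, mul_comm, zpow_mul, zpow_natCast, hzp, one_zpow]))
  letI : CommGroup (P : Subgroup G) :=
    { (inferInstance : Group (P : Subgroup G)) with
      mul_comm := fun a b => Subtype.ext (hab p P a a.2 b b.2) }
  let f : G →* (P : Subgroup G) := MonoidHom.transfer (MonoidHom.id (P : Subgroup G))
  have key : ∀ (k : ℕ) (g₀ : G), g₀⁻¹ * z ^ k * g₀ ∈ (P : Subgroup G) →
      g₀⁻¹ * z ^ k * g₀ = z ^ k := fun k g₀ _ => by
    rw [mul_assoc, ← Subgroup.mem_center_iff.mp (Subgroup.pow_mem _ hz k) g₀, inv_mul_cancel_left]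
  have h1 : f z = 1 := (Abelianization.commutator_subset_ker f) hc
  have h2 : z ^ (P : Subgroup G).index = 1 := by
    have h := MonoidHom.transfer_eq_pow (MonoidHom.id (P : Subgroup G)) z key
    rw [show MonoidHom.transfer (MonoidHom.id (P : Subgroup G)) z = f z from rfl, h1] at h
    exact (congrArg Subtype.val h).symm
  have hcop : Nat.Coprime p (P : Subgroup G).index :=
    (Fact.out : p.Prime).coprime_iff_not_dvd.mpr P.not_dvd_index
  simpa [hcop.gcd_eq_one] using pow_gcd_eq_one.mpr ⟨hzp, h2⟩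

/-- If an induced character restricts irreducibly to a normal subgroup, so does the inducing
character, and the inducing subgroup supplements the normal one. -/
theorem restrict_irr_of_indFun [Fintype G] (N : Subgroup G) [N.Normal] {χ : G → ℂ}
    (hχ : IsIrrCharacter G χ) (hχN : IsIrrCharacter N (fun n : N => χ n)) {T : Subgroup G}
    {ψ : T → ℂ} (hψ : IsCharacter T ψ) (hind : indFun T ψ = χ) :
    IsIrrCharacter (N.subgroupOf T) (fun d : N.subgroupOf T => ψ d) := by
  classical
  haveI := Fintype.ofFinite T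
  haveI := Fintype.ofFinite N
  haveI := Fintype.ofFinite (N.subgroupOf T)
  have hψi := exists_irr_of_indFun_eq hψ hχ hind
  have hχc := IsIrrCharacter.isCharacter hχ
  -- the supplement
  have htop : T ⊔ N = ⊤ := by
    set U := T ⊔ N with hU
    haveI := Fintype.ofFinite U
    have hTU : T ≤ U := le_sup_left
    haveI := Fintype.ofFinite (T.subgroupOf U)
    let η : U → ℂ := indFun (T.subgroupOf U) (fun x => ψ ⟨(x : U), Subgroup.mem_subgroupOf.mp x.2⟩)
    have hη : IsCharacter U η :=
      IsCharacter.indFun _ (IsCharacter.comp hψ (Subgroup.subgroupOfEquivOfLe hTU).toMonoidHom)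
    have hηχ : indFun U η = χ := by rw [← hind]; exact indFun_trans T U hTU ψ
    have hηi := exists_irr_of_indFun_eq hη hχ hηχ
    have h1 : classInner (fun x : U => χ x) η ≠ 0 := by
      rw [← classInner_indFun_right U η (IsCharacter.isClassFunction hχc), hηχ,
        IsIrrCharacter.classInner_self hχ]
      exact one_ne_zero
    obtain ⟨r, hr, hreq⟩ := IsCharacter.exists_add_of_classInner_ne_zero
      (IsCharacter.restrict hχc U) hηi h1
    have hNU : N ≤ U := le_sup_right
    let ι : N →* U := Subgroup.inclusion hNU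
    obtain ⟨a, ha⟩ := IsCharacter.exists_classInner_nat (IsCharacter.comp hη ι)
      (IsCharacter.comp hη ι)
    obtain ⟨b, hb⟩ := IsCharacter.exists_classInner_nat (IsCharacter.comp hr ι)
      (IsCharacter.comp hr ι)
    obtain ⟨c, hc⟩ := IsCharacter.exists_classInner_nat (IsCharacter.comp hη ι)
      (IsCharacter.comp hr ι)
    have hc' : classInner (r ∘ ι) (η ∘ ι) = (c : ℂ) := by
      rw [← classInner_conj_symm]
      erw [hc]
      exact map_natCast _ _
    have hn := IsIrrCharacter.classInner_self hχN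
    rw [show (fun n : N => χ n) = η ∘ ι + r ∘ ι from funext fun n => congrFun hreq (ι n),
      classInner_add_left, classInner_add_right, classInner_add_right] at hn
    erw [ha, hb, hc, hc'] at hn
    have hn' : a + c + (c + b) = 1 := by exact_mod_cast hn
    have ha0 : a ≠ 0 := fun h0 => by
      rw [h0, Nat.cast_zero] at ha
      have h := congrFun (classInner_self_eq_zero ha) 1
      exact IsIrrCharacter.apply_one_ne_zero hηi (by simpa using h)
    have hb0 : b = 0 := by omega
    rw [hb0, Nat.cast_zero] at hb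
    have hr1 : r 1 = 0 := by
      have h := congrFun (classInner_self_eq_zero hb) 1
      simpa using h
    have h2 : χ 1 = η 1 := by
      have h := congrFun hreq 1
      simp only [OneMemClass.coe_one, Pi.add_apply, hr1, add_zero] at h
      exact h
    have h3 := congrFun hηχ 1
    rw [indFun_one, h2] at h3
    have h4 := mul_right_cancel₀ (IsIrrCharacter.apply_one_ne_zero hηi) (h3.trans (one_mul _).symm)
    exact Subgroup.index_eq_one.mp (by exact_mod_cast h4)
  -- the restriction
  let M := N.subgroupOf T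
  have hφc : IsCharacter M (fun d : M => ψ d) := IsCharacter.restrict hψ M
  obtain ⟨α, hα⟩ := IsCharacter.exists_constituent hφc fun h => by
    have := congrFun h 1
    exact IsIrrCharacter.apply_one_ne_zero hψi this
  obtain ⟨r, hr, hreq⟩ := IsCharacter.exists_add_of_classInner_ne_zero hφc α.2 hα
  have hF : ∀ g, conjFun N g (fun n : N => χ n) = fun n : N => χ n :=
    conjFun_restrict N (IsCharacter.isClassFunction hχc)
  have hkey := classInner_indFun_invariant N T ψ hF
  rw [hind, htop, Subgroup.index_top, Nat.cast_one, one_mul,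
    IsIrrCharacter.classInner_self hχN] at hkey
  let res : M → ℂ := fun d => χ ((d : T) : G)
  have hres : IsCharacter M res := IsCharacter.restrict (IsCharacter.restrict hχc T) M
  obtain ⟨a, ha⟩ := IsCharacter.exists_classInner_nat (irr_isCharacter α) hres
  obtain ⟨b, hb⟩ := IsCharacter.exists_classInner_nat hr hres
  -- the constituent meets the restriction
  have ha0 : a ≠ 0 := by
    have h1 : classInner (fun x : T => χ x) ψ ≠ 0 := by
      rw [← classInner_indFun_right T ψ (IsCharacter.isClassFunction hχc), hind,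
        IsIrrCharacter.classInner_self hχ]
      exact one_ne_zero
    obtain ⟨r', hr', hr'eq⟩ := IsCharacter.exists_add_of_classInner_ne_zero
      (IsCharacter.restrict hχc T) hψi h1
    obtain ⟨k, hk⟩ := IsCharacter.exists_classInner_nat hφc (irr_isCharacter α)
    obtain ⟨k', hk'⟩ := IsCharacter.exists_classInner_nat (IsCharacter.restrict hr' M)
      (irr_isCharacter α)
    intro h0
    rw [h0, Nat.cast_zero] at ha
    have h2 : classInner res (α : M → ℂ) = 0 := by rw [← classInner_conj_symm, ha, map_zero]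
    rw [show res = (fun d : M => ψ d) + (fun d : M => r' d) from
      funext fun d => congrFun hr'eq (d : T), classInner_add_left, hk, hk'] at h2
    have : k + k' = 0 := by exact_mod_cast h2
    exact hα (by rw [hk, Nat.add_eq_zero_iff.mp this |>.1, Nat.cast_zero])
  -- the degree of `α` induced to `N`
  let D : Subgroup N := T.subgroupOf N
  let e : D ≃* M :=
    { toFun := fun x => ⟨⟨((x : N) : G), x.2⟩, (x : N).2⟩
      invFun := fun d => ⟨⟨((d : T) : G), d.2⟩, (d : T).2⟩
      left_inv := fun _ => rfl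
      right_inv := fun _ => rfl
      map_mul' := fun _ _ => rfl }
  haveI := Fintype.ofFinite D
  have hγc : IsCharacter N (indFun D ((α : M → ℂ) ∘ e)) :=
    IsCharacter.indFun D (IsCharacter.comp (irr_isCharacter α) e.toMonoidHom)
  have hγ : classInner (indFun D ((α : M → ℂ) ∘ e)) (fun n : N => χ n) ≠ 0 := by
    rw [classInner_indFun D _ (IsCharacter.isClassFunction (IsIrrCharacter.isCharacter hχN))]
    have h := classInner_comp_equiv e (α : M → ℂ) res
    erw [h, ha]
    exact_mod_cast ha0
  obtain ⟨s, hs, hseq⟩ := IsCharacter.exists_add_of_classInner_ne_zero hγc hχN hγ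
  have hidx : D.index = T.index := by
    have h1 : N.index = M.index := by
      have h := Subgroup.relIndex_sup_right T N
      rw [htop, Subgroup.relIndex_top_right] at h
      exact h
    have h2 : Nat.card D = Nat.card M := Nat.card_congr e.toEquiv
    have h3 := N.card_mul_index
    rw [← T.card_mul_index, ← M.card_mul_index, ← D.card_mul_index, h2, h1, mul_assoc, mul_assoc,
      mul_comm D.index] at h3
    exact Nat.eq_of_mul_eq_mul_left (Nat.pos_of_ne_zero Subgroup.index_ne_zero_of_finite)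
      (Nat.eq_of_mul_eq_mul_left Nat.card_pos h3)
  have h1 := congrFun hseq 1
  rw [indFun_one, hidx] at h1
  simp only [Function.comp_apply, map_one, Pi.add_apply, OneMemClass.coe_one] at h1
  have h2 := congrFun hind 1
  rw [indFun_one] at h2
  have h3 := congrFun hreq 1
  simp only [OneMemClass.coe_one, Pi.add_apply] at h3
  obtain ⟨nr, hnr⟩ := IsCharacter.exists_apply_one hr
  obtain ⟨ns, hns⟩ := IsCharacter.exists_apply_one hs
  rw [← h2, h3, hnr, hns] at h1
  have h4 : ((T.index * nr + ns : ℕ) : ℂ) = 0 := by push_cast; linear_combination (-1 : ℂ) * h1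
  have h5 : T.index * nr + ns = 0 := by exact_mod_cast h4
  have h6 : nr = 0 := (Nat.mul_eq_zero.mp (Nat.add_eq_zero_iff.mp h5).1).resolve_left
    Subgroup.index_ne_zero_of_finite
  have h7 : r = 0 := IsCharacter.eq_zero_of_apply_one_relM hr (by rw [hnr, h6, Nat.cast_zero])
  rw [show (fun d : N.subgroupOf T => ψ d) = (α : M → ℂ) by rw [hreq, h7, add_zero]]
  exact α.2

/-- An irreducible character of a solvable group whose restriction to a normal subgroup with
abelian Sylow subgroups is irreducible is monomial. -/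
theorem exists_monomial_of_restrict_irr [Fintype G] [hG : Group.IsSolvable G] (N : Subgroup G)
    [hN : N.Normal]
    (hab : ∀ (p : ℕ) [Fact p.Prime] (P : Sylow p N), ∀ a ∈ P, ∀ b ∈ P, a * b = b * a)
    {χ : G → ℂ} (hχ : IsIrrCharacter G χ) (hχN : IsIrrCharacter N (fun n : N => χ n)) :
    ∃ (U : Subgroup G) (lam : U →* ℂˣ), χ = indFun U (fun u => (lam u : ℂ)) := by
  classical
  suffices key : ∀ (n : ℕ) (K : Type u) [Group K] [Fintype K], Group.IsSolvable K →
      Nat.card K = n → ∀ (M : Subgroup K), M.Normal →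
      (∀ (p : ℕ) [Fact p.Prime] (P : Sylow p M), ∀ a ∈ P, ∀ b ∈ P, a * b = b * a) →
      ∀ {φ : K → ℂ}, IsIrrCharacter K φ → IsIrrCharacter M (fun m : M => φ m) →
        ∃ (U : Subgroup K) (lam : U →* ℂˣ), φ = indFun U (fun u => (lam u : ℂ)) from
    key _ G hG rfl N hN hab hχ hχN
  intro n
  induction n using Nat.strong_induction_on with
  | _ n IH =>
  intro K _ _ hK hn M hMn hMab φ hφ hφM
  haveI := hK
  haveI := hMn
  have hφc := IsIrrCharacter.isCharacter hφ
  by_cases hcomm : ∀ a b : M, a * b = b * a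
  · have h1 : φ 1 = 1 := IsIrrCharacter.apply_one_of_comm hcomm hφM
    obtain ⟨lam, hlam⟩ := IsCharacter.exists_hom_of_apply_one hφc h1
    refine ⟨⊤, lam.comp (⊤ : Subgroup K).subtype, ?_⟩
    have h := indFun_top (IsCharacter.isClassFunction hφc)
    refine h.symm.trans (congrArg _ (funext fun x => ?_))
    exact congrFun hlam x
  -- the kernel
  let Z : Subgroup K := M ⊓ charKernel hφc
  haveI : (charKernel hφc).Normal := ⟨fun k hk g => by
    rw [mem_charKernel] at hk ⊢
    rw [IsCharacter.isClassFunction hφc k g, hk]⟩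
  haveI : Z.Normal := inferInstance
  by_cases hker : Z = ⊥
  swap
  · obtain ⟨φ', hφ', hφeq⟩ := IsIrrCharacter.exists_quotient hφ Z fun k hk => hk.2
    set f := QuotientGroup.mk' Z with hf
    haveI := Fintype.ofFinite (K ⧸ Z)
    have hsurj : Function.Surjective f := QuotientGroup.mk'_surjective _
    have hlt : Nat.card (K ⧸ Z) < n := by
      rw [← hn, Subgroup.card_eq_card_quotient_mul_card_subgroup Z]
      exact lt_mul_of_one_lt_right Nat.card_pos ((Subgroup.one_lt_card_iff_ne_bot _).mpr hker)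
    have hab' : ∀ (p : ℕ) [Fact p.Prime] (P : Sylow p (M.map f)),
        ∀ a ∈ P, ∀ b ∈ P, a * b = b * a := by
      intro p _ P
      obtain ⟨P₀⟩ : Nonempty (Sylow p M) := inferInstance
      let fM : M →* M.map f := f.subgroupMap M
      have hfM : Function.Surjective fM := f.subgroupMap_surjective M
      obtain ⟨g, hg⟩ := MulAction.exists_smul_eq (M.map f) (P₀.mapSurjective hfM) P
      intro a ha b hb
      rw [← hg] at ha hb
      change a ∈ ((g • (P₀.mapSurjective hfM) : Sylow p (M.map f)) : Subgroup (M.map f)) at ha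
      change b ∈ ((g • (P₀.mapSurjective hfM) : Sylow p (M.map f)) : Subgroup (M.map f)) at hb
      rw [Sylow.coe_subgroup_smul, Subgroup.mem_pointwise_smul_iff_inv_smul_mem,
        Sylow.coe_mapSurjective] at ha hb
      obtain ⟨a', ha', hae⟩ := ha
      obtain ⟨b', hb', hbe⟩ := hb
      have h := congrArg fM (hMab p P₀ a' ha' b' hb')
      rw [map_mul, map_mul, hae, hbe] at h
      have h' := congrArg (fun z => MulAut.conj g • z) h
      simpa [smul_mul', mul_assoc] using h'
    have hirr' : IsIrrCharacter (M.map f) (fun m : M.map f => φ' m) :=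
      isIrrCharacter_of_comp_surjective (f.subgroupMap M) (f.subgroupMap_surjective M)
        (IsCharacter.restrict (IsIrrCharacter.isCharacter hφ') _) (by
          rw [show (fun m : M.map f => φ' m) ∘ f.subgroupMap M = fun m : M => φ m from
            funext fun m => (congrFun hφeq m).symm]
          exact hφM)
    obtain ⟨U, lam, hU⟩ := IH _ hlt (K ⧸ Z) inferInstance rfl (M.map f)
      (Subgroup.Normal.map hMn f hsurj) hab' hφ' hirr'
    refine ⟨U.comap f, lam.comp ((f.comp (U.comap f).subtype).codRestrict U fun x => x.2), ?_⟩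
    refine hφeq.trans ?_
    rw [hU]
    exact (indFun_comap f hsurj U fun h => (lam h : ℂ)).symm
  -- the last non-trivial term of the derived series
  have hMs : Group.IsSolvable M := inferInstance
  have hex : ∃ k, derivedSeries M k = ⊥ := (Group.isSolvable_def M).mp hMs
  set k := Nat.find hex with hk
  have hk2 : 2 ≤ k := by
    by_contra h
    refine hcomm fun a b => ?_
    have h1 : derivedSeries M 1 = ⊥ := by
      have hle : derivedSeries M 1 ≤ derivedSeries M k :=
        derivedSeries_antitone M (by omega : k ≤ 1)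
      rw [Nat.find_spec hex] at hle
      exact le_bot_iff.mp hle
    have h2 : ⁅a, b⁆ ∈ derivedSeries M 1 := by
      rw [derivedSeries_succ, derivedSeries_zero]
      exact Subgroup.commutator_mem_commutator (Subgroup.mem_top a) (Subgroup.mem_top b)
    rw [h1, Subgroup.mem_bot] at h2
    exact commutatorElement_eq_one_iff_commute.mp h2
  obtain ⟨j, hj⟩ : ∃ j, k = j + 2 := ⟨k - 2, by omega⟩
  let D₀ : Subgroup M := derivedSeries M (j + 1)
  have hD₀ne : D₀ ≠ ⊥ := Nat.find_min hex (by omega)
  have hD₀ab : ∀ a ∈ D₀, ∀ b ∈ D₀, a * b = b * a := fun a ha b hb => by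
    have h : ⁅a, b⁆ ∈ derivedSeries M (j + 2) := by
      rw [derivedSeries_succ]
      exact Subgroup.commutator_mem_commutator ha hb
    rw [← hj, Nat.find_spec hex, Subgroup.mem_bot] at h
    exact commutatorElement_eq_one_iff_commute.mp h
  have hD₀c : D₀ ≤ commutator M := by
    rw [← derivedSeries_one]
    exact derivedSeries_antitone M (by omega)
  let D : Subgroup K := D₀.map M.subtype
  haveI hDn : D.Normal := by
    refine ⟨fun x hx g => ?_⟩
    obtain ⟨y, hy, rfl⟩ := hx
    refine ⟨MulAut.conjNormal g y, ?_, by simp⟩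
    exact (Subgroup.characteristic_iff_map_le.mp (derivedSeries_characteristic M (j + 1))
      (MulAut.conjNormal g)) ⟨y, hy, rfl⟩
  have hDM : D ≤ M := Subgroup.map_subtype_le _
  have hDab : ∀ a b : D, a * b = b * a := by
    rintro ⟨_, a, ha, rfl⟩ ⟨_, b, hb, rfl⟩
    exact Subtype.ext (by simpa using congrArg Subtype.val (hD₀ab a ha b hb))
  haveI := Fintype.ofFinite D
  obtain ⟨θ, hθ⟩ := IsCharacter.exists_constituent (IsCharacter.restrict hφc D)
    (fun h => IsIrrCharacter.apply_one_ne_zero hφ (congrFun h 1))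
  obtain ⟨T, hTdef⟩ : ∃ T, T = inertia D (θ : D → ℂ) := ⟨_, rfl⟩
  haveI := Fintype.ofFinite T
  obtain ⟨ψ, hψ, hind, -⟩ := exists_clifford_correspondent D hφ θ.2 hθ
    T hTdef.symm (hTdef ▸ le_inertia D (irr_isClassFunction θ))
  have hproper : T ≠ ⊤ := by
    intro htop
    have hinv : ∀ g : K, Characters.conjFun D g (θ : D → ℂ) = θ := fun g =>
      (mem_inertia_iff D).mp (hTdef ▸ htop ▸ Subgroup.mem_top g)
    have hr := restrict_eq_smul_of_invariant D hφ θ.2 hinv hθ
    have hθ1 : (θ : D → ℂ) 1 = 1 := IsIrrCharacter.apply_one_of_comm hDab θ.2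
    obtain ⟨lam, hlam⟩ := IsCharacter.exists_hom_of_apply_one (irr_isCharacter θ) hθ1
    obtain ⟨m, ρ, hρ, rfl⟩ := hφ
    have hcentral : ∀ a : D, (a : K) ∈ M → ∀ g ∈ M, g * (a : K) = a * g := by
      intro a haM g hg
      have hnorm : ‖ρ.character a‖ = (Module.finrank ℂ (Fin m → ℂ) : ℝ) := by
        have h1 := congrFun hr a
        have h2 := congrFun hr 1
        simp only [OneMemClass.coe_one, Pi.smul_apply, smul_eq_mul, ρ.char_one, hθ1, mul_one]
          at h1 h2
        rw [h1, ← h2, norm_mul, Complex.norm_natCast, hlam,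
          norm_eq_one_of_pow_eq_one' (n := Nat.card D) Nat.card_pos.ne' (by
            rw [← Units.val_pow_eq_pow_val, ← map_pow, pow_card_eq_one', map_one, Units.val_one]),
          mul_one]
      obtain ⟨ω, hω⟩ := (norm_char_eq_iff ρ (a : K)).mp hnorm
      have h3 : g * a * g⁻¹ * (a : K)⁻¹ ∈ Z := by
        refine ⟨M.mul_mem (M.mul_mem (M.mul_mem hg haM) (M.inv_mem hg)) (M.inv_mem haM), ?_⟩
        have h4 : ρ (g * a) = ρ ((a : K) * g) := by
          rw [map_mul, map_mul, hω, ← Module.End.one_eq_id, mul_smul_comm, smul_mul_assoc, mul_one,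
            one_mul]
        show g * a * g⁻¹ * (a : K)⁻¹ ∈ charKernel hφc
        rw [mem_charKernel, ρ.char_one, char_eq_finrank_iff, map_mul, map_mul, h4, ← map_mul,
          ← map_mul, show (a : K) * g * g⁻¹ * (a : K)⁻¹ = (1 : K) by group, map_one]
        rfl
      rw [hker, Subgroup.mem_bot] at h3
      calc g * a = (g * a * g⁻¹ * (a : K)⁻¹) * (a * g) := by group
        _ = a * g := by rw [h3, one_mul]
    obtain ⟨p, hp, hpd⟩ := Nat.exists_prime_and_dvd (mt Subgroup.card_eq_one.mp hD₀ne)
    haveI := Fact.mk hp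
    obtain ⟨⟨z, hz⟩, hzo⟩ := exists_prime_orderOf_dvd_card' p hpd
    rw [← Subgroup.orderOf_coe] at hzo
    replace hzo : orderOf z = p := hzo
    have hzc : z ∈ Subgroup.center M := Subgroup.mem_center_iff.mpr fun g =>
      Subtype.ext (hcentral ⟨_, z, hz, rfl⟩ z.2 g g.2)
    have := eq_one_of_central_commutator hMab hzc (hD₀c hz) (p := p)
      (by rw [← hzo]; exact pow_orderOf_eq_one z)
    rw [this, orderOf_one] at hzo
    exact hp.ne_one hzo.symm
  have hlt : Nat.card T < n := by
    rw [← hn, ← T.card_mul_index]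
    exact lt_mul_of_one_lt_right Nat.card_pos (Subgroup.one_lt_index_of_ne_top hproper)
  haveI := Fintype.ofFinite M
  have hres : IsIrrCharacter (M.subgroupOf T) (fun d : M.subgroupOf T => ψ d) :=
    restrict_irr_of_indFun M hφ hφM (IsIrrCharacter.isCharacter hψ) hind
  have habT : ∀ (p : ℕ) [Fact p.Prime] (P : Sylow p (M.subgroupOf T)),
      ∀ a ∈ P, ∀ b ∈ P, a * b = b * a := by
    intro p _ P a ha b hb
    let ι : M.subgroupOf T →* M :=
      { toFun := fun x => ⟨((x : T) : K), x.2⟩
        map_one' := rfl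
        map_mul' := fun _ _ => rfl }
    have hι : Function.Injective ι := fun x y h =>
      Subtype.ext (Subtype.ext (congrArg (fun z : M => (z : K)) h))
    obtain ⟨Q, hQ⟩ := (P.isPGroup'.map ι).exists_le_sylow
    apply hι
    rw [map_mul, map_mul]
    exact hMab p Q _ (hQ ⟨a, ha, rfl⟩) _ (hQ ⟨b, hb, rfl⟩)
  obtain ⟨U, lam, hU⟩ := IH _ hlt T inferInstance rfl (M.subgroupOf T) inferInstance habT hψ hres
  refine ⟨U.map T.subtype,
    lam.comp (U.equivMapOfInjective _ (Subgroup.subtype_injective _)).symm.toMonoidHom, ?_⟩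
  rw [← hind, hU, indFun_indFun]
  rfl

/-- A group with no square chief factors over `N` is a relative M-group. -/
theorem exists_relative_monomial [Fintype G] (N : Subgroup G) [hN : N.Normal]
    (hsolv : Group.IsSolvable (G ⧸ N))
    (hchief : ∀ (H K L : Subgroup G), N ≤ L → L < K → K ≤ H → (∀ h ∈ H, ∀ k ∈ K, h * k * h⁻¹ ∈ K) →
      (∀ h ∈ H, ∀ l ∈ L, h * l * h⁻¹ ∈ L) →
      (∀ M : Subgroup G, L ≤ M → M ≤ K → (∀ h ∈ H, ∀ m ∈ M, h * m * h⁻¹ ∈ M) → M = L ∨ M = K) →
      ¬ IsSquare (L.relIndex K))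
    {χ : G → ℂ} (hχ : IsIrrCharacter G χ) :
    ∃ (H : Subgroup G) (hNH : N ≤ H) (ψ : H → ℂ), IsIrrCharacter H ψ ∧ indFun H ψ = χ ∧
      IsIrrCharacter N (fun n : N => ψ ⟨(n : G), hNH n.2⟩) := by
  classical
  suffices key : ∀ (n : ℕ) (X : Type u) [Group X] [Fintype X], Nat.card X = n →
      ∀ (M : Subgroup X) [M.Normal], Group.IsSolvable (X ⧸ M) →
      (∀ (H K L : Subgroup X), M ≤ L → L < K → K ≤ H → (∀ h ∈ H, ∀ k ∈ K, h * k * h⁻¹ ∈ K) →
        (∀ h ∈ H, ∀ l ∈ L, h * l * h⁻¹ ∈ L) →
        (∀ B : Subgroup X, L ≤ B → B ≤ K → (∀ h ∈ H, ∀ m ∈ B, h * m * h⁻¹ ∈ B) → B = L ∨ B = K) →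
        ¬ IsSquare (L.relIndex K)) →
      ∀ {φ : X → ℂ}, IsIrrCharacter X φ →
        ∃ (H : Subgroup X) (hMH : M ≤ H) (ψ : H → ℂ), IsIrrCharacter H ψ ∧ indFun H ψ = φ ∧
          IsIrrCharacter M (fun m : M => ψ ⟨(m : X), hMH m.2⟩) from
    key _ G rfl N hsolv hchief hχ
  intro n
  induction n using Nat.strong_induction_on with
  | _ n IH =>
  intro X _ _ hn M _ hsol hch φ hφ
  have hφc := IsIrrCharacter.isCharacter hφ
  by_cases hMi : IsIrrCharacter M (fun m : M => φ m)
  · refine ⟨⊤, le_top, fun x => φ x, ?_, indFun_top (IsCharacter.isClassFunction hφc), hMi⟩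
    exact IsIrrCharacter.comp_equiv hφ Subgroup.topEquiv
  -- minimal normal overgroup with irreducible restriction
  obtain ⟨K, hK, hKmin⟩ := Finset.exists_min_image
    (Set.toFinite {K : Subgroup X | K.Normal ∧ M ≤ K ∧ IsIrrCharacter K (fun x : K => φ x)}).toFinset
    (fun K => Nat.card K) ⟨⊤, (Set.Finite.mem_toFinset _).mpr
      ⟨inferInstance, le_top, IsIrrCharacter.comp_equiv hφ Subgroup.topEquiv⟩⟩
  rw [Set.Finite.mem_toFinset] at hK
  obtain ⟨hKn, hMK, hKi⟩ := hK
  haveI := hKn
  have hMKlt : M < K := lt_of_le_of_ne hMK fun h => hMi (by subst h; exact hKi)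
  obtain ⟨L, hL, hLmax⟩ := Finset.exists_max_image
    (Set.toFinite {L : Subgroup X | L.Normal ∧ M ≤ L ∧ L < K}).toFinset
    (fun L => Nat.card L) ⟨M, (Set.Finite.mem_toFinset _).mpr ⟨inferInstance, le_rfl, hMKlt⟩⟩
  rw [Set.Finite.mem_toFinset] at hL
  obtain ⟨hLn, hML, hLK⟩ := hL
  haveI := hLn
  have hchf : ∀ B : Subgroup X, B.Normal → L ≤ B → B ≤ K → B = L ∨ B = K := by
    intro B hB hLB hBK
    by_cases h : B = K
    · exact Or.inr h
    · exact Or.inl (Subgroup.eq_of_le_of_card_ge hLB (hLmax B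
        ((Set.Finite.mem_toFinset _).mpr ⟨hB, hML.trans hLB, lt_of_le_of_ne hBK h⟩))).symm
  have hLi : ¬ IsIrrCharacter L (fun x : L => φ x) := fun h =>
    (Set.ncard_lt_ncard hLK (Set.toFinite _)).not_ge
      (hKmin L ((Set.Finite.mem_toFinset _).mpr ⟨hLn, hML, h⟩))
  have habK : ⁅K, K⁆ ≤ L := by
    by_contra hc
    have hB : ⁅K, K⁆ ⊔ L = K := (hchf _ inferInstance le_sup_right
      (sup_le (Subgroup.commutator_le_self K) hLK.le)).resolve_left
      fun h => hc (h ▸ le_sup_left)
    haveI hsolL : Group.IsSolvable (X ⧸ L) :=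
      haveI := hsol
      Group.isSolvable_of_surjective (f := QuotientGroup.map M L (MonoidHom.id X) hML)
        (fun x => QuotientGroup.induction_on x fun g => ⟨QuotientGroup.mk g, rfl⟩)
    let π := QuotientGroup.mk' L
    have hne : K.map π ≠ ⊥ := fun h => by
      rw [Subgroup.map_eq_bot_iff, QuotientGroup.ker_mk'] at h
      exact hLK.not_ge h
    have h2 : ⁅K.map π, K.map π⁆ = K.map π := by
      conv_rhs => rw [← hB, Subgroup.map_sup, Subgroup.map_commutator]
      rw [show L.map π = ⊥ by rw [Subgroup.map_eq_bot_iff, QuotientGroup.ker_mk'], sup_bot_eq]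
    have : Nontrivial (K.map π) := (Subgroup.nontrivial_iff_ne_bot _).mpr hne
    refine (Group.IsSolvable.commutator_lt_top_of_nontrivial (K.map π)).ne
      (Subgroup.map_injective (K.map π).subtype_injective ?_)
    rw [commutator_def, Subgroup.map_commutator, ← MonoidHom.range_eq_map, Subgroup.range_subtype,
      h2]
  haveI := Fintype.ofFinite K
  haveI := Fintype.ofFinite L
  have hinvK : ∀ (g : X) (x : K),
      (fun x : K => φ x) ⟨g * x * g⁻¹, hKn.conj_mem (x : X) x.2 g⟩ = (fun x : K => φ x) x :=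
    fun g x => IsCharacter.isClassFunction hφc (x : X) g
  obtain ⟨θ, hθc, hθne⟩ : ∃ θ : IrrCharacter L,
      classInner (fun x : L => φ x) (θ : L → ℂ) ≠ 0 ∧ inertia L (θ : L → ℂ) ≠ ⊤ := by
    rcases chief_factor_trichotomy K L hLK hchf habK hKi hinvK with h | h | ⟨F, hF, hcard, hsum⟩
    · exact absurd h hLi
    · obtain ⟨-, e, -, -, he⟩ := h
      exact absurd ⟨e, by rw [← sq, he]⟩ (hch ⊤ K L hML hLK le_top
        (fun g _ k hk => hKn.conj_mem k hk g) (fun g _ l hl => hLn.conj_mem l hl g)
        (fun B hLB hBK hB => hchf B ⟨fun b hb g => hB g (Subgroup.mem_top g) b hb⟩ hLB hBK))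
    · have hpos : 0 < F.card := by
        rw [hcard]; exact Nat.pos_of_ne_zero Subgroup.index_ne_zero_of_finite
      obtain ⟨θ, hθ⟩ := Finset.card_pos.mp hpos
      have h1 : classInner (fun x : L => φ x) θ = 1 := by
        rw [hsum, classInner_sum_left, Finset.sum_eq_single θ (fun ψ hψ hne =>
          IsIrrCharacter.classInner_ne (hF ψ hψ) (hF θ hθ) hne) (fun h => absurd hθ h),
          IsIrrCharacter.classInner_self (hF θ hθ)]
      refine ⟨⟨θ, hF θ hθ⟩, by rw [h1]; exact one_ne_zero, fun htop => hLi ?_⟩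
      rw [restrict_eq_smul_of_invariant L hφ (hF θ hθ)
        (fun g => (mem_inertia_iff L).mp (htop.symm ▸ Subgroup.mem_top g)) (by rw [h1]; exact one_ne_zero),
        h1, one_smul]
      exact hF θ hθ
  obtain ⟨T, hTdef⟩ : ∃ T, T = inertia L (θ : L → ℂ) := ⟨_, rfl⟩
  haveI := Fintype.ofFinite T
  have hLT : L ≤ T := hTdef ▸ le_inertia L (irr_isClassFunction θ)
  obtain ⟨ψ, hψ, hind, -⟩ := exists_clifford_correspondent L hφ θ.2 hθc T hTdef.symm hLT
  rw [← hTdef] at hθne
  have hlt : Nat.card T < n := by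
    rw [← hn, ← T.card_mul_index]
    exact lt_mul_of_one_lt_right Nat.card_pos (Subgroup.one_lt_index_of_ne_top hθne)
  have hMT : M ≤ T := hML.trans hLT
  haveI : Group.IsSolvable (T ⧸ M.subgroupOf T) := by
    haveI := hsol
    refine Group.isSolvable_of_isSolvable_injective
      (f := QuotientGroup.map (M.subgroupOf T) M T.subtype le_rfl) ?_
    rw [← MonoidHom.ker_eq_bot_iff, eq_bot_iff]
    intro x hx
    induction x using QuotientGroup.induction_on with | _ t =>
    exact (QuotientGroup.eq_one_iff t).mpr ((QuotientGroup.eq_one_iff (t : X)).mp hx)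
  have hchT : ∀ (H K' L' : Subgroup T), M.subgroupOf T ≤ L' → L' < K' → K' ≤ H →
      (∀ h ∈ H, ∀ k ∈ K', h * k * h⁻¹ ∈ K') → (∀ h ∈ H, ∀ l ∈ L', h * l * h⁻¹ ∈ L') →
      (∀ B : Subgroup T, L' ≤ B → B ≤ K' → (∀ h ∈ H, ∀ m ∈ B, h * m * h⁻¹ ∈ B) →
        B = L' ∨ B = K') → ¬ IsSquare (L'.relIndex K') := by
    intro H K' L' h1 h2 h3 h4 h5 h6
    have hinj := T.subtype_injective
    rw [← Subgroup.relIndex_map_map_of_injective L' K' hinj]
    refine hch (H.map T.subtype) (K'.map T.subtype) (L'.map T.subtype) ?_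
      ((Subgroup.map_lt_map_iff_of_injective hinj).mpr h2) (Subgroup.map_mono h3) ?_ ?_ ?_
    · rw [← Subgroup.map_subgroupOf_eq_of_le hMT]
      exact Subgroup.map_mono h1
    · rintro _ ⟨h, hh, rfl⟩ _ ⟨k, hk, rfl⟩
      exact ⟨_, h4 h hh k hk, by simp⟩
    · rintro _ ⟨h, hh, rfl⟩ _ ⟨k, hk, rfl⟩
      exact ⟨_, h5 h hh k hk, by simp⟩
    · intro B hLB hBK hB
      have hBT : B ≤ T := hBK.trans (Subgroup.map_subtype_le _)
      rcases h6 (B.subgroupOf T) (fun x hx => hLB ⟨x, hx, rfl⟩)
        (fun x hx => by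
          obtain ⟨y, hy, hyx⟩ := hBK hx
          exact hinj hyx ▸ hy)
        (fun h hh m hm => hB _ ⟨h, hh, rfl⟩ _ hm) with h | h
      · left; rw [← Subgroup.map_subgroupOf_eq_of_le hBT, h]
      · right; rw [← Subgroup.map_subgroupOf_eq_of_le hBT, h]
  obtain ⟨H, hMH, η, hη, hindη, hηM⟩ :=
    IH _ hlt T rfl (M.subgroupOf T) inferInstance hchT hψ
  let e := H.equivMapOfInjective T.subtype T.subtype_injective
  refine ⟨H.map T.subtype, fun x hx => ⟨⟨x, hMT hx⟩, hMH hx, rfl⟩, η ∘ e.symm,
    IsIrrCharacter.comp_equiv hη e.symm, ?_, ?_⟩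
  · rw [← hind, ← hindη, indFun_indFun]
  · have h := IsIrrCharacter.comp_equiv hηM (Subgroup.subgroupOfEquivOfLe hMT).symm
    convert h using 1
    funext m
    show η (e.symm _) = η _
    congr 1
    rw [MulEquiv.symm_apply_eq]
    exact Subtype.ext rfl

end Cfsg.Agent.Lib.Characters
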