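import Cfsg.Agent.Lib.Characters.BlichfeldtNumeric
import Cfsg.Agent.Lib.Characters.TI

/-!
# No small characters for an abelian trivial intersection Sylow subgroup

If `P` is abelian, meets the centre trivially, the noncentral elements of `N = N_G(P)` with
nontrivial centraliser in `P` form a trivial intersection set, and no nontrivial irreducible
character has `P` in its kernel, then there is no irreducible character of degree `n ≥ 2` with
`(n + 1)² < |P|`.
-/

namespace Cfsg.Agent.Lib.Characters

open scoped ComplexConjugate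

set_option linter.unusedSectionVars false
set_option linter.unusedSimpArgs false
set_option linter.unusedFintypeInType false
set_option linter.style.haveILetI false

universe u

variable {G : Type u} [Group G]

/-- A central element acts on an irreducible character by a scalar of absolute value one. -/
theorem IsIrrCharacter.exists_central_scalar [Finite G] {χ : G → ℂ} (hχ : IsIrrCharacter G χ)
    {z : G} (hz : z ∈ Subgroup.center G) :
    ∃ c : ℂ, c * conj c = 1 ∧ ∀ g, χ (z * g) = c * χ g := by
  have hne : χ 1 ≠ 0 := IsIrrCharacter.apply_one_ne_zero hχ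
  obtain ⟨d, σ, hσ, rfl⟩ := hχ
  haveI := hσ
  obtain ⟨c, hc⟩ := exists_smul_of_commute σ (σ z) fun g => by
    rw [← map_mul, ← map_mul, Subgroup.mem_center_iff.mp hz g]
  have hmul : ∀ g, σ.character (z * g) = c * σ.character g := fun g => by
    simp [Representation.character, map_mul, hc, ← Module.End.one_eq_id]
  have hpow : ∀ j : ℕ, σ.character (z ^ j) = c ^ j * σ.character 1 := by
    intro j
    induction j with
    | zero => simp
    | succ j ih => rw [pow_succ', hmul, ih, pow_succ]; ring
  have h1 := hpow (orderOf z)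
  rw [pow_orderOf_eq_one] at h1
  have hc1 : c ^ orderOf z = 1 := mul_right_cancel₀ hne (h1.symm.trans (one_mul _).symm)
  have hn : ‖c‖ = 1 := by
    refine (pow_eq_one_iff_of_nonneg (norm_nonneg c)
      (isOfFinOrder_of_finite z).orderOf_pos.ne').mp ?_
    rw [← norm_pow, hc1, norm_one]
  refine ⟨c, ?_, hmul⟩
  rw [Complex.mul_conj, Complex.normSq_eq_norm_sq, hn]
  simp

/-- The Bessel inequality for functions whose induction is isometric. -/
theorem bessel_indFun [Fintype G] (N : Subgroup G) [Fintype N] {F : N → ℂ}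
    (hiso : classInner (indFun N F) (indFun N F) = classInner F F)
    (s : Finset (IrrCharacter G)) :
    ∑ χ ∈ s, Complex.normSq (classInner (fun x : N => (χ : G → ℂ) x) F) ≤
      (classInner F F).re := by
  classical
  haveI := Fintype.ofFinite (IrrCharacter G)
  have h1 : classInner (indFun N F) (indFun N F) =
      ((∑ χ : IrrCharacter G,
        Complex.normSq (classInner (fun x : N => (χ : G → ℂ) x) F) : ℝ) : ℂ) := by
    rw [classInner_eq_sum_irr (isClassFunction_indFun N F) (isClassFunction_indFun N F)]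
    push_cast
    refine Finset.sum_congr rfl fun χ _ => ?_
    rw [classInner_indFun N F (irr_isClassFunction χ), Complex.mul_conj,
      ← classInner_conj_symm F, Complex.normSq_conj]
  rw [hiso] at h1
  rw [h1, Complex.ofReal_re]
  exact Finset.sum_le_sum_of_subset_of_nonneg (Finset.subset_univ _)
    fun χ _ _ => Complex.normSq_nonneg _

/-- The trivial intersection property of the noncentral elements of `N(P)` centralising a
nontrivial element of `P`. -/
def IsBlichfeldtTI (P : Subgroup G) : Prop :=
  ∀ g ∈ Subgroup.normalizer (P : Set G), g ∉ Subgroup.center G →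
    (∃ x ∈ P, x ≠ 1 ∧ g * x = x * g) → ∀ h : G, h * g * h⁻¹ ∈ Subgroup.normalizer (P : Set G) →
      (∃ x ∈ P, x ≠ 1 ∧ h * g * h⁻¹ * x = x * (h * g * h⁻¹)) →
        h ∈ Subgroup.normalizer (P : Set G)

/-- The main step of the theorem of Blichfeldt, Feit and Thompson. -/
theorem false_of_small_character [Finite G] (P : Subgroup G)
    (hc : ∀ x ∈ P, ∀ y ∈ P, x * y = y * x) (hPZ : ∀ y ∈ P, y ∈ Subgroup.center G → y = 1)
    (hTI : IsBlichfeldtTI P)
    (hker : ∀ ψ : IrrCharacter G, (∀ y ∈ P, (ψ : G → ℂ) y = (ψ : G → ℂ) 1) → ψ = trivIrr G)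
    {χ : G → ℂ} (hχ : IsIrrCharacter G χ) {n : ℕ} (hn : χ 1 = (n : ℂ)) (hn2 : 2 ≤ n)
    (hP : (n + 1) ^ 2 < Nat.card P) : False := by
  classical
  haveI := Fintype.ofFinite G
  haveI := Fintype.ofFinite (IrrCharacter G)
  set N := Subgroup.normalizer (P : Set G) with hN
  set P' := P.subgroupOf N with hP'
  set Z' := (Subgroup.center G).subgroupOf N with hZ'
  have hPN : P ≤ N := Subgroup.le_normalizer
  have hnorm' : P'.Normal := Subgroup.normal_in_normalizer
  have hcard : Nat.card P' = Nat.card P :=
    Nat.card_congr (Subgroup.subgroupOfEquivOfLe hPN).toEquiv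
  have hne : χ 1 ≠ 0 := IsIrrCharacter.apply_one_ne_zero hχ
  set f : N → ℂ := fun x => χ x with hf
  set ω : N → ℂ := fun g => f g / χ 1 with hω
  have hscal : ∀ z ∈ Subgroup.center G, ∀ g, χ (z * g) = χ z / χ 1 * χ g := by
    intro z hz g
    obtain ⟨c, -, hmul⟩ := IsIrrCharacter.exists_central_scalar hχ hz
    have hz1 : χ z = c * χ 1 := by simpa using hmul 1
    rw [hmul g, hz1, mul_div_assoc, div_self hne, mul_one]
  have hunit : ∀ z ∈ Subgroup.center G, χ z / χ 1 * conj (χ z / χ 1) = 1 := by
    intro z hz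
    obtain ⟨c, hc1, hmul⟩ := IsIrrCharacter.exists_central_scalar hχ hz
    have hz1 : χ z = c * χ 1 := by simpa using hmul 1
    rw [hz1, mul_div_assoc, div_self hne, mul_one, hc1]
  have hbase : ∀ {ω' : N → ℂ},
      (∀ z ∈ Z', ∀ z' ∈ Z', ω' (z * z') = ω' z * ω' z') →
      (∀ z ∈ Z', ω' z * conj (ω' z) = 1) → BlichfeldtSetting P' Z' ω' := by
    intro ω' h1 h2
    exact ⟨hnorm', fun x hx y hy => Subtype.ext (hc _ hx _ hy),
      fun z hz => Subgroup.mem_center_iff.mpr fun g =>
        Subtype.ext (Subgroup.mem_center_iff.mp hz g),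
      fun y hy hy' => Subtype.ext (hPZ _ hy hy'), h1, h2⟩
  have S : BlichfeldtSetting P' Z' ω := hbase
    (fun z hz z' _ => by
      simp only [hω, hf, Subgroup.coe_mul, hscal (z : G) hz]
      rw [mul_div_assoc])
    (fun z hz => hunit _ hz)
  have S1 : BlichfeldtSetting P' Z' (fun _ => (1 : ℂ)) :=
    hbase (fun _ _ _ _ => (mul_one 1).symm) (fun _ _ => by simp)
  -- induction from `N` is isometric on the functions we use
  have hiso : ∀ F : N → ℂ, IsClassFunction N F → IsSingularSupported P' Z' F →
      classInner (indFun N F) (indFun N F) = classInner F F := by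
    intro F hFc hFs
    refine classInner_indFun_indFun_eq N
      {g | ∃ hg : g ∈ N, (⟨g, hg⟩ : N) ∉ Z' ∧ ¬ IsFixedPointFreeOn P' (⟨g, hg⟩ : N)} hFc
      (fun x hx => ?_) ?_
    · by_contra hne0
      exact hx ⟨x.2, fun hz => hne0 (hFs.2 _ hz), fun hf0 => hne0 (hFs.1 _ hf0)⟩
    · intro t ht x hx ⟨hm, hmZ, hmF⟩
      have htZ : t ∉ Z' := fun hz => ht (hFs.2 _ hz)
      have htF : ¬ IsFixedPointFreeOn P' t := fun hf0 => ht (hFs.1 _ hf0)
      simp only [IsFixedPointFreeOn, not_forall] at htF hmF
      obtain ⟨y, hy, hty, hy1⟩ := htF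
      obtain ⟨y', hy', hty', hy1'⟩ := hmF
      have := hTI t t.2 htZ ⟨y, hy, fun h => hy1 (Subtype.ext h), congrArg Subtype.val hty⟩
        x⁻¹ (by simpa using hm)
        ⟨y', hy', fun h => hy1' (Subtype.ext h), by
          simpa using congrArg Subtype.val hty'⟩
      exact hx ((Subgroup.inv_mem_iff _).mp this)
  have hBf : ∀ F, IsClassFunction N F → IsSingularSupported P' Z' F →
      Complex.normSq (classInner f F) ≤ (classInner F F).re := fun F h1 h2 => by
    simpa using bessel_indFun N (hiso F h1 h2) {⟨χ, hχ⟩}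
  -- moved parts
  have hmoved : ∀ ψ : IrrCharacter G,
      avgFun P' (fun x : N => (ψ : G → ℂ) x) = (fun x : N => (ψ : G → ℂ) x) →
        ψ = trivIrr G := by
    intro ψ h
    refine hker ψ fun y hy => ?_
    have h1 := avgFun_apply_mul P' (fun x : N => (ψ : G → ℂ) x) (1 : N)
      (y := ⟨y, hPN hy⟩) hy
    rw [h] at h1
    simpa using h1
  have hfmoved : avgFun P' f ≠ f := fun h => by
    have h1 : χ 1 = 1 := by
      rw [show χ = (trivIrr G : G → ℂ) from congrArg Subtype.val (hmoved ⟨χ, hχ⟩ h)]
      rfl
    rw [hn] at h1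
    have : n = 1 := by exact_mod_cast h1
    omega
  have hfω : IsCovariant Z' ω f := fun z hz g => hscal _ hz g
  -- the constituents of `χ * conj χ`
  have hΦ : IsCharacter G (fun g => χ g * conj (χ g)) :=
    IsCharacter.mul (IsIrrCharacter.isCharacter hχ)
      (IsCharacter.conjugate (IsIrrCharacter.isCharacter hχ))
  obtain ⟨m, hm, hm'⟩ := IsCharacter.exists_nat_decomp hΦ
  have hm1 : m (trivIrr G) = 1 := by
    have h1 := hm' (trivIrr G)
    have h2 : classInner (fun g => χ g * conj (χ g)) (trivIrr G : G → ℂ) = 1 := by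
      refine Eq.trans ?_ (IsIrrCharacter.classInner_self hχ)
      simp [classInner]
    rw [h2] at h1
    exact_mod_cast h1.symm
  refine S.false_of_small (ι := IrrCharacter G) S1
    (IsCharacter.restrict (IsIrrCharacter.isCharacter hχ) N) hfω (by simpa using hn) hn2
    (hcard.symm ▸ hP) hfmoved hBf
    (fun ψ => if ψ = trivIrr G then 0 else m ψ) (fun ψ x => (ψ : G → ℂ) x) ?_ fun ψ hψ => ?_
  · funext g
    have h1 := congrFun hm (g : G)
    simp only [Finset.sum_apply, Pi.smul_apply, smul_eq_mul] at h1
    rw [h1, ← Finset.add_sum_erase _ _ (Finset.mem_univ (trivIrr G)),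
      ← Finset.add_sum_erase _ _ (Finset.mem_univ (trivIrr G)), hm1]
    simp only [if_true, Nat.cast_zero, zero_mul, zero_add, Nat.cast_one, one_mul, trivIrr_apply]
    refine congrArg _ (Finset.sum_congr rfl fun ψ hψ => ?_)
    rw [if_neg (Finset.mem_erase.mp hψ).1]
  · have hne1 : ψ ≠ trivIrr G := fun h => hψ (by simp [h])
    have hm0 : m ψ ≠ 0 := by simpa [hne1] using hψ
    refine ⟨IsCharacter.restrict (irr_isCharacter ψ) N, fun z hz g => ?_,
      fun h => hne1 (hmoved ψ h), fun F h1 h2 => ?_⟩
    · have hzc : (z : G) ∈ Subgroup.center G := hz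
      obtain ⟨c, -, hmul⟩ := IsIrrCharacter.exists_central_scalar ψ.2 hzc
      have hc1 : c = 1 := by
        have h3 : classInner (fun g => χ g * conj (χ g)) (ψ : G → ℂ) =
            conj c * classInner (fun g => χ g * conj (χ g)) (ψ : G → ℂ) := by
          unfold classInner
          rw [← mul_assoc, mul_comm (conj c), mul_assoc, Finset.mul_sum (a := conj c)]
          refine congrArg _ (Fintype.sum_equiv (Equiv.mulLeft (z : G)⁻¹) _ _ fun x => ?_)
          have h4 : χ x * conj (χ x) =
              χ ((z : G)⁻¹ * x) * conj (χ ((z : G)⁻¹ * x)) := by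
            rw [hscal _ (Subgroup.inv_mem _ hzc) x, map_mul]
            linear_combination (-(χ x * conj (χ x))) * hunit _ (Subgroup.inv_mem _ hzc)
          have h5 : (ψ : G → ℂ) x = c * (ψ : G → ℂ) ((z : G)⁻¹ * x) := by
            rw [← hmul, mul_inv_cancel_left]
          simp only [Equiv.coe_mulLeft]
          rw [h4, h5, map_mul]
          ring
        rw [hm' ψ] at h3
        have hcc : conj c = 1 :=
          (mul_eq_right₀ (Nat.cast_ne_zero.mpr hm0)).mp h3.symm
        rw [← Complex.conj_conj c, hcc, map_one]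
      show (ψ : G → ℂ) ((z : G) * (g : G)) = 1 * (ψ : G → ℂ) g
      rw [hmul, hc1]
    · have := bessel_indFun N (hiso F h1 h2) {ψ, trivIrr G}
      rw [Finset.sum_pair hne1] at this
      exact this

end Cfsg.Agent.Lib.Characters
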