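import Cfsg.Agent.Lib.Characters.Gallagher
import Cfsg.Agent.Lib.Characters.Kernel
import Mathlib.Analysis.SpecialFunctions.Sqrt

/-!
# Abelian subgroups meeting centralizers of non-central elements in one conjugate only
-/

namespace Cfsg.Agent.Lib.Characters

open scoped ComplexConjugate

set_option linter.unusedSectionVars false
set_option linter.style.haveILetI false

universe u

variable {G : Type u} [Group G] [Fintype G]

theorem sum_normSq_eq (φ : G → ℂ) :
    ∑ g, Complex.normSq (φ g) = (Nat.card G : ℝ) * (classInner φ φ).re := by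
  have h : ((∑ g, Complex.normSq (φ g) : ℝ) : ℂ) = (Nat.card G : ℂ) * classInner φ φ := by
    rw [classInner, ← mul_assoc, mul_inv_cancel₀ natCard_ne_zero_complex, one_mul,
      Complex.ofReal_sum]
    exact Finset.sum_congr rfl fun g _ => (Complex.mul_conj _).symm
  have h' := congrArg Complex.re h
  simpa using h'

/-- A central element multiplies an irreducible character by a root of unity. -/
theorem IsIrrCharacter.exists_central_value {χ : G → ℂ} (hχ : IsIrrCharacter G χ) {z : G}
    (hz : z ∈ Subgroup.center G) :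
    ∃ ω : ℂ, Complex.normSq ω = 1 ∧ ∀ g, χ (g * z) = ω * χ g := by
  obtain ⟨m, ρ, hρ, rfl⟩ := hχ
  obtain ⟨ω, hω⟩ := exists_smul_of_commute ρ (ρ z) fun g => by
    rw [← map_mul, ← map_mul, Subgroup.mem_center_iff.mp hz g]
  refine ⟨ω, ?_, fun g => ?_⟩
  · have h1 := rep_pow_card ρ z
    rw [hω, ← Module.End.one_eq_id, smul_pow, one_pow] at h1
    have h2 := congrArg (LinearMap.trace ℂ (Fin m → ℂ)) h1
    rw [map_smul, LinearMap.trace_one, smul_eq_mul] at h2
    have hd : ((Module.finrank ℂ (Fin m → ℂ) : ℕ) : ℂ) ≠ 0 :=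
      Nat.cast_ne_zero.mpr (finrank_pos_of_isIrreducible ρ).ne'
    rw [Complex.normSq_eq_norm_sq,
      norm_eq_one_of_pow_eq_one' Nat.card_pos.ne' (mul_eq_right₀ hd |>.mp h2)]
    norm_num
  · simp only [Representation.character, map_mul, hω, ← Module.End.one_eq_id, mul_smul_comm,
      mul_one, map_smul, smul_eq_mul]

variable (H : Subgroup G) [Fintype H]

theorem abelianTI_degree_sq_gt (hab : ∀ a ∈ H, ∀ b ∈ H, a * b = b * a)
    (hZ : H ⊓ Subgroup.center G = ⊥)
    (hone : ∀ g : G, g ∉ Subgroup.center G → ∀ a b : G,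
      Subgroup.centralizer ({g} : Set G) ⊓ H.map (MulAut.conj a).toMonoidHom ≠ ⊥ →
      Subgroup.centralizer ({g} : Set G) ⊓ H.map (MulAut.conj b).toMonoidHom ≠ ⊥ →
      H.map (MulAut.conj a).toMonoidHom = H.map (MulAut.conj b).toMonoidHom)
    {χ : G → ℂ} (hχ : IsIrrCharacter G χ) (hker : ∃ h ∈ H, χ h ≠ χ 1) {d c : ℕ}
    (hd : χ 1 = d) (hc : classInner (fun h : H => χ h) (fun _ => 1) = c) :
    (Nat.card H : ℝ) * (c : ℝ) ^ 2 < (d : ℝ) ^ 2 := by
  classical
  obtain ⟨h0, hh0, hh0ne⟩ := hker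
  have hh01 : h0 ≠ 1 := fun h => hh0ne (by rw [h])
  have hcent : ∀ h ∈ H, h ≠ 1 → h ∉ Subgroup.center G := fun h hh hne hz =>
    hne ((Subgroup.eq_bot_iff_forall _).mp hZ h ⟨hh, hz⟩)
  have hmeet : ∀ g u : G, (∃ h ∈ H, h ≠ 1 ∧ u * h * u⁻¹ * g = g * (u * h * u⁻¹)) →
      Subgroup.centralizer ({g} : Set G) ⊓ H.map (MulAut.conj u).toMonoidHom ≠ ⊥ := by
    rintro g u ⟨h, hh, hne, hcomm⟩ hbot
    have := (Subgroup.eq_bot_iff_forall _).mp hbot (u * h * u⁻¹)
      ⟨Subgroup.mem_centralizer_singleton_iff.mpr hcomm, ⟨h, hh, rfl⟩⟩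
    exact hne (by simpa using this)
  have hnorm : ∀ g : G, g ∉ Subgroup.center G → ∀ u : G,
      (∃ h ∈ H, h ≠ 1 ∧ h * g = g * h) →
      (∃ h ∈ H, h ≠ 1 ∧ u * h * u⁻¹ * g = g * (u * h * u⁻¹)) →
      u ∈ Subgroup.normalizer (H : Set G) := by
    intro g hg u h1 h2
    have he := hone g hg 1 u (hmeet g 1 (by simpa using h1)) (hmeet g u h2)
    have hid : H.map (MulAut.conj (1 : G)).toMonoidHom = H := by
      rw [map_one]; exact Subgroup.map_id H
    rw [hid] at he
    rw [Subgroup.mem_normalizer_iff]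
    intro x
    constructor
    · intro hx
      rw [he]
      exact ⟨x, hx, rfl⟩
    · intro hx
      rw [he] at hx
      obtain ⟨y, hy, hyx⟩ := hx
      exact (MulAut.conj u).injective hyx ▸ hy
  set N := Subgroup.normalizer (H : Set G) with hN
  haveI := Fintype.ofFinite N
  let Hn : Subgroup N := H.subgroupOf N
  haveI : Hn.Normal := Subgroup.normal_in_normalizer
  haveI := Fintype.ofFinite Hn
  have hHN : H ≤ N := Subgroup.le_normalizer
  let em : Hn ≃* H := Subgroup.subgroupOfEquivOfLe hHN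
  let χN : N → ℂ := fun n => χ n
  have hχNc : IsCharacter N χN := IsCharacter.restrict (IsIrrCharacter.isCharacter hχ) N
  let φ : N → ℂ := avgN Hn χN
  have hφc : IsCharacter N φ := IsCharacter.avgN Hn hχNc
  have hφconst : ∀ (m : Hn) (g : N), φ ((m : N) * g) = φ g := fun m g => avgN_apply_mul Hn χN m g
  obtain ⟨a, ha⟩ := IsCharacter.exists_classInner_nat hχNc hχNc
  obtain ⟨b, hb⟩ := IsCharacter.exists_classInner_nat hφc hφc
  have hχφ : classInner χN φ = (b : ℂ) := by
    rw [← classInner_avgN_of_const Hn χN hφconst]; exact hb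
  have hφχ : classInner φ χN = (b : ℂ) := by
    rw [← classInner_conj_symm, hχφ, map_natCast]
  have hφ1 : φ 1 = (c : ℂ) := by
    show avgN Hn χN 1 = _
    rw [avgN_one, ← hc, ← classInner_comp_equiv em]
    rfl
  have hba : b < a := by
    have hd' : classInner (χN - φ) (χN - φ) = (a : ℂ) - b := by
      rw [classInner_sub_left, classInner_sub_right, classInner_sub_right, ha, hb, hχφ, hφχ]
      ring
    have hne : χN - φ ≠ 0 := by
      intro h0'
      have h1 : χN ⟨h0, hHN hh0⟩ = φ ⟨h0, hHN hh0⟩ :=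
        sub_eq_zero.mp (congrFun h0' ⟨h0, hHN hh0⟩)
      have h2 : χN 1 = φ 1 := sub_eq_zero.mp (congrFun h0' 1)
      have h3 : φ ⟨h0, hHN hh0⟩ = φ 1 := avgN_apply_coe Hn χN ⟨⟨h0, hHN hh0⟩, hh0⟩
      exact hh0ne (h1.trans (h3.trans h2.symm))
    have hnn := classInner_self_re_nonneg (χN - φ)
    rw [hd'] at hnn
    simp at hnn
    have hle : b ≤ a := by exact_mod_cast hnn
    rcases hle.lt_or_eq with h | h
    · exact h
    · exfalso
      apply hne
      apply classInner_self_eq_zero
      rw [hd', h, sub_self]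
  let f : G → ℝ := fun g => Complex.normSq (χ g)
  let A : Finset N := Finset.univ.filter fun g => ∃ h ∈ H, h ≠ 1 ∧ h * (g : G) = g * h
  -- on the other elements of the normalizer the character is constant on cosets
  have hF : ∀ g : N, g ∉ A → χN g = φ g := by
    intro g hg
    simp only [A, Finset.mem_filter, Finset.mem_univ, true_and, not_exists, not_and] at hg
    let T : H → H := fun h => ⟨(h : G) * g * (h : G)⁻¹ * (g : G)⁻¹, by
      have hh := (Subgroup.mem_normalizer_iff.mp g.2 _).mp (H.inv_mem h.2)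
      have := H.mul_mem h.2 hh
      simpa [mul_assoc] using this⟩
    have hT : Function.Injective T := by
      intro h k hk
      have hk' : (h : G) * g * (h : G)⁻¹ * (g : G)⁻¹ = (k : G) * g * (k : G)⁻¹ * (g : G)⁻¹ :=
        congrArg Subtype.val hk
      have h1 := mul_right_cancel hk'
      by_contra hne
      refine hg ((k : G)⁻¹ * h) (H.mul_mem (H.inv_mem k.2) h.2) ?_ ?_
      · intro h2
        exact hne (Subtype.ext (inv_mul_eq_one.mp h2).symm)
      · calc (k : G)⁻¹ * h * g = (k : G)⁻¹ * ((h : G) * g * (h : G)⁻¹) * h := by group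
          _ = (k : G)⁻¹ * ((k : G) * g * (k : G)⁻¹) * h := by rw [h1]
          _ = g * ((k : G)⁻¹ * h) := by group
    have hTb : Function.Bijective T := Finite.injective_iff_bijective.mp hT
    have hconst : ∀ m : Hn, χN ((m : N) * g) = χN g := by
      intro m
      obtain ⟨h, hh⟩ := hTb.2 (em m)
      show χ (((m : N) : G) * g) = χ g
      have hm : ((m : N) : G) = (h : G) * g * (h : G)⁻¹ * (g : G)⁻¹ :=
        (congrArg Subtype.val hh).symm
      rw [hm, inv_mul_cancel_right]
      exact IsCharacter.conj_apply (IsIrrCharacter.isCharacter hχ) _ _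
    show χN g = avgN Hn χN g
    rw [avgN, Finset.sum_congr rfl fun m _ => hconst m, Finset.sum_const, Finset.card_univ,
      nsmul_eq_mul, ← Nat.card_eq_fintype_card, inv_mul_cancel_left₀ natCard_ne_zero_complex]
  -- the values of `φ` on `H × Z`
  have hZN : Subgroup.center G ≤ N := by
    intro z hz
    rw [hN, Subgroup.mem_normalizer_iff]
    intro x
    rw [(Subgroup.mem_center_iff.mp hz x).symm, mul_inv_cancel_right]
  have hφA : (Nat.card H : ℝ) * Nat.card (Subgroup.center G) * (c : ℝ) ^ 2 ≤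
      ∑ g ∈ A, Complex.normSq (φ g) := by
    let ι : H × Subgroup.center G → N := fun q =>
      ⟨(q.1 : G) * (q.2 : G), N.mul_mem (hHN q.1.2) (hZN q.2.2)⟩
    have hι : Function.Injective ι := by
      rintro ⟨h, z⟩ ⟨k, w⟩ he
      have he' : (h : G) * z = (k : G) * w := congrArg Subtype.val he
      have h1 : (k : G)⁻¹ * h = (w : G) * (z : G)⁻¹ := by
        rw [inv_mul_eq_iff_eq_mul, ← mul_assoc, ← he', mul_inv_cancel_right]
      have h2 := (Subgroup.eq_bot_iff_forall _).mp hZ ((k : G)⁻¹ * h)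
        ⟨H.mul_mem (H.inv_mem k.2) h.2,
          h1 ▸ (Subgroup.center G).mul_mem w.2 ((Subgroup.center G).inv_mem z.2)⟩
      obtain rfl : k = h := Subtype.ext (inv_mul_eq_one.mp h2)
      obtain rfl : z = w := Subtype.ext (mul_left_cancel he')
      rfl
    have hsub : Finset.univ.image ι ⊆ A := by
      intro x hx
      obtain ⟨⟨h, z⟩, -, rfl⟩ := Finset.mem_image.mp hx
      simp only [A, Finset.mem_filter, Finset.mem_univ, true_and]
      refine ⟨h0, hh0, hh01, ?_⟩
      show h0 * ((h : G) * z) = (h : G) * z * h0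
      rw [← mul_assoc, hab h0 hh0 h h.2, mul_assoc, Subgroup.mem_center_iff.mp z.2 h0, mul_assoc]
    refine le_trans (le_of_eq ?_) (Finset.sum_le_sum_of_subset_of_nonneg hsub
      fun x _ _ => Complex.normSq_nonneg _)
    rw [Finset.sum_image fun x _ y _ h => hι h]
    have hval : ∀ q : H × Subgroup.center G, Complex.normSq (φ (ι q)) = (c : ℝ) ^ 2 := by
      rintro ⟨h, z⟩
      obtain ⟨ω, hω, hωv⟩ := IsIrrCharacter.exists_central_value hχ z.2
      let zN : N := ⟨(z : G), hZN z.2⟩
      have h1 : ι (h, z) = ((em.symm h : Hn) : N) * zN := Subtype.ext rfl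
      have h2 : φ zN = ω * φ 1 := by
        show avgN Hn χN zN = ω * avgN Hn χN 1
        simp only [avgN, Finset.mul_sum]
        refine Finset.sum_congr rfl fun m _ => ?_
        show _ * χ (((m : N) : G) * (z : G)) = _
        rw [hωv, show χN ((m : N) * 1) = χ ((m : N) : G) by rw [mul_one]]
        ring
      rw [h1, hφconst, h2, map_mul, hω, one_mul, hφ1, Complex.normSq_natCast, sq]
    rw [Finset.sum_congr rfl fun q _ => hval q, Finset.sum_const, Finset.card_univ,
      nsmul_eq_mul, Fintype.card_prod, Nat.card_eq_fintype_card, Nat.card_eq_fintype_card]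
    push_cast
    ring
  -- the sum over `A` as a sum over the group
  let AG : Finset G := Finset.univ.filter fun g => ∃ h ∈ H, h ≠ 1 ∧ h * g = g * h
  have hAG : ∀ g ∈ AG, g ∈ N := by
    intro g hg
    obtain ⟨h, hh, hne, hcomm⟩ := (Finset.mem_filter.mp hg).2
    refine hnorm h (hcent h hh hne) g ⟨h, hh, hne, rfl⟩ ⟨h, hh, hne, ?_⟩
    rw [← hcomm, mul_inv_cancel_right]
  have hsumA : ∑ g ∈ AG, f g = ∑ g ∈ A, Complex.normSq (χN g) :=
    (Finset.sum_bij (fun (g : N) _ => (g : G))
      (fun g hg => Finset.mem_filter.mpr ⟨Finset.mem_univ _, (Finset.mem_filter.mp hg).2⟩)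
      (fun g _ g' _ h => Subtype.ext h)
      (fun g hg => ⟨⟨g, hAG g hg⟩,
        Finset.mem_filter.mpr ⟨Finset.mem_univ _, (Finset.mem_filter.mp hg).2⟩, rfl⟩)
      (fun g _ => rfl)).symm
  have hlow : (Nat.card N : ℝ) + (Nat.card H : ℝ) * Nat.card (Subgroup.center G) * (c : ℝ) ^ 2 ≤
      ∑ g ∈ AG, f g := by
    rw [hsumA]
    have h1 := sum_normSq_eq χN
    have h2 := sum_normSq_eq φ
    rw [ha, Complex.natCast_re] at h1
    rw [hb, Complex.natCast_re] at h2
    rw [← Finset.sum_filter_add_sum_filter_not Finset.univ (fun g => g ∈ A),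
      Finset.filter_mem_eq_inter, Finset.univ_inter] at h1 h2
    have hFsum : ∑ g ∈ Finset.univ.filter (fun g : N => g ∉ A), Complex.normSq (χN g) =
        ∑ g ∈ Finset.univ.filter (fun g : N => g ∉ A), Complex.normSq (φ g) :=
      Finset.sum_congr rfl fun g hg => by rw [hF g (Finset.mem_filter.mp hg).2]
    rw [hFsum] at h1
    have hba' : (b : ℝ) + 1 ≤ a := by exact_mod_cast hba
    nlinarith [(Nat.cast_nonneg (Nat.card N) : (0 : ℝ) ≤ _)]
  -- the centre
  let Zf : Finset G := Finset.univ.filter fun g => g ∈ Subgroup.center G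
  have hZsum : ∑ g ∈ Zf, f g = (Nat.card (Subgroup.center G) : ℝ) * (d : ℝ) ^ 2 := by
    have hv : ∀ g ∈ Zf, f g = (d : ℝ) ^ 2 := fun g hg => by
      obtain ⟨ω, hω, hωv⟩ := IsIrrCharacter.exists_central_value hχ (Finset.mem_filter.mp hg).2
      show Complex.normSq (χ g) = _
      rw [← one_mul g, hωv, map_mul, hω, one_mul, hd, Complex.normSq_natCast, sq]
    rw [Finset.sum_congr rfl hv, Finset.sum_const, nsmul_eq_mul, Nat.card_eq_fintype_card,
      Fintype.card_subtype]
  let M : Finset G := AG.filter fun g => g ∉ Subgroup.center G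
  have hsplit : ∑ g ∈ AG, f g = (Nat.card (Subgroup.center G) : ℝ) * (d : ℝ) ^ 2 + ∑ g ∈ M, f g := by
    rw [← hZsum, ← Finset.sum_filter_add_sum_filter_not AG (fun g => g ∈ Subgroup.center G)]
    congr 1
    refine Finset.sum_congr ?_ fun _ _ => rfl
    ext g
    simp only [AG, Zf, Finset.mem_filter, Finset.mem_univ, true_and, and_iff_right_iff_imp]
    exact fun hg => ⟨h0, hh0, hh01, Subgroup.mem_center_iff.mp hg h0⟩
  have htot : ∑ g, f g = (Nat.card G : ℝ) := by
    have h := sum_normSq_eq χ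
    rw [IsIrrCharacter.classInner_self hχ, Complex.one_re, mul_one] at h
    exact h
  have hup : (Nat.card G : ℝ) * ∑ g ∈ M, f g ≤
      (Nat.card N : ℝ) * ((Nat.card G : ℝ) - (Nat.card (Subgroup.center G) : ℝ) * (d : ℝ) ^ 2) := by
    have hnc : ∑ y ∈ Finset.univ.filter (fun y => ¬ y ∈ Subgroup.center G), f y =
        (Nat.card G : ℝ) - (Nat.card (Subgroup.center G) : ℝ) * (d : ℝ) ^ 2 := by
      rw [← htot, ← hZsum,
        ← Finset.sum_filter_add_sum_filter_not Finset.univ (fun g => g ∈ Subgroup.center G),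
        add_sub_cancel_left]
    have hconj : ∀ x : G, ∑ y, (if x⁻¹ * y * x ∈ M then f y else 0) = ∑ g ∈ M, f g := by
      intro x
      rw [← Finset.sum_filter]
      refine Finset.sum_bij' (fun y _ => x⁻¹ * y * x) (fun g _ => x * g * x⁻¹) ?_ ?_ ?_ ?_ ?_
      · exact fun y hy => (Finset.mem_filter.mp hy).2
      · intro g hg
        refine Finset.mem_filter.mpr ⟨Finset.mem_univ _, ?_⟩
        simpa [mul_assoc] using hg
      · intro y _; simp [mul_assoc]
      · intro g _; simp [mul_assoc]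
      · intro y _
        show Complex.normSq (χ y) = Complex.normSq (χ (x⁻¹ * y * x))
        have := IsCharacter.conj_apply (IsIrrCharacter.isCharacter hχ) y x⁻¹
        rw [inv_inv] at this
        rw [this]
    calc (Nat.card G : ℝ) * ∑ g ∈ M, f g = ∑ x : G, ∑ y, (if x⁻¹ * y * x ∈ M then f y else 0) := by
          rw [Finset.sum_congr rfl fun x _ => hconj x, Finset.sum_const, Finset.card_univ,
            nsmul_eq_mul, Nat.card_eq_fintype_card]
      _ = ∑ y, ((Finset.univ.filter fun x => x⁻¹ * y * x ∈ M).card : ℝ) * f y := by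
          rw [Finset.sum_comm]
          refine Finset.sum_congr rfl fun y _ => ?_
          rw [← Finset.sum_filter, Finset.sum_const, nsmul_eq_mul]
      _ ≤ ∑ y ∈ Finset.univ.filter (fun y => ¬ y ∈ Subgroup.center G),
            (Nat.card N : ℝ) * f y := by
          rw [Finset.sum_filter]
          refine Finset.sum_le_sum fun y _ => ?_
          split_ifs with hy
          · have : (Finset.univ.filter fun x => x⁻¹ * y * x ∈ M).card = 0 := by
              rw [Finset.card_eq_zero, Finset.filter_eq_empty_iff]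
              intro x _ hx
              refine (Finset.mem_filter.mp hx).2 ?_
              rw [Subgroup.mem_center_iff.mp hy x⁻¹ , mul_assoc, inv_mul_cancel,
                mul_one]
              exact hy
            rw [this, Nat.cast_zero, zero_mul]
          · refine mul_le_mul_of_nonneg_right (Nat.cast_le.mpr ?_) (Complex.normSq_nonneg _)
            rcases (Finset.univ.filter fun x => x⁻¹ * y * x ∈ M).eq_empty_or_nonempty with he | ⟨x₀, hx₀⟩
            · rw [he]; simp
            · have hx₀' := (Finset.mem_filter.mp hx₀).2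
              refine (Finset.card_le_card_of_injOn (t := Finset.univ.filter fun u : G => u ∈ N)
                (fun x => x₀⁻¹ * x) ?_ fun a _ b _ h => mul_left_cancel h).trans (le_of_eq ?_)
              · intro x hx
                refine Finset.mem_coe.mpr (Finset.mem_filter.mpr ⟨Finset.mem_univ _, ?_⟩)
                obtain ⟨hA0, hnc⟩ := Finset.mem_filter.mp hx₀'
                obtain ⟨hA1, -⟩ := Finset.mem_filter.mp (Finset.mem_filter.mp hx).2
                obtain ⟨h, hh, hne, hcomm⟩ := (Finset.mem_filter.mp hA1).2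
                refine hnorm _ hnc _ (Finset.mem_filter.mp hA0).2 ⟨h, hh, hne, ?_⟩
                calc x₀⁻¹ * x * h * (x₀⁻¹ * x)⁻¹ * (x₀⁻¹ * y * x₀)
                    = x₀⁻¹ * x * (h * (x⁻¹ * y * x)) * (x₀⁻¹ * x)⁻¹ := by group
                  _ = x₀⁻¹ * x * (x⁻¹ * y * x * h) * (x₀⁻¹ * x)⁻¹ := by rw [hcomm]
                  _ = x₀⁻¹ * y * x₀ * (x₀⁻¹ * x * h * (x₀⁻¹ * x)⁻¹) := by group
              · rw [Nat.card_eq_fintype_card, Fintype.card_subtype]
      _ = _ := by rw [← Finset.mul_sum, hnc]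
  have hNpos : (0 : ℝ) < Nat.card N := Nat.cast_pos.mpr Nat.card_pos
  have hGpos : (0 : ℝ) < Nat.card G := Nat.cast_pos.mpr Nat.card_pos
  have hZpos : (0 : ℝ) < Nat.card (Subgroup.center G) := Nat.cast_pos.mpr Nat.card_pos
  obtain ⟨d', hd0, hd'⟩ := IsIrrCharacter.exists_apply_one hχ
  have hdpos : (0 : ℝ) < d := by
    have : d = d' := by exact_mod_cast hd.symm.trans hd'
    rw [this]
    exact Nat.cast_pos.mpr hd0
  rw [hsplit] at hlow
  by_contra hcon
  push Not at hcon
  nlinarith [mul_le_mul_of_nonneg_left hlow hGpos.le,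
    mul_le_mul_of_nonneg_left hcon (mul_pos hGpos hZpos).le,
    mul_pos (mul_pos hNpos hZpos) (pow_pos hdpos 2)]

theorem abelianTI_card_lt (hab : ∀ a ∈ H, ∀ b ∈ H, a * b = b * a)
    (hZ : H ⊓ Subgroup.center G = ⊥)
    (hone : ∀ g : G, g ∉ Subgroup.center G → ∀ a b : G,
      Subgroup.centralizer ({g} : Set G) ⊓ H.map (MulAut.conj a).toMonoidHom ≠ ⊥ →
      Subgroup.centralizer ({g} : Set G) ⊓ H.map (MulAut.conj b).toMonoidHom ≠ ⊥ →
      H.map (MulAut.conj a).toMonoidHom = H.map (MulAut.conj b).toMonoidHom)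
    {χ : G → ℂ} (hχ : IsIrrCharacter G χ) {d : ℕ} (hd : χ 1 = d) (hd1 : d ≠ 1)
    (hgen : ∀ M : Subgroup G, M.Normal → H ≤ M → M = ⊤) :
    (Nat.card H : ℝ) < (1 + (d : ℝ)) ^ 2 := by
  classical
  haveI := Fintype.ofFinite (IrrCharacter G)
  haveI := Fintype.ofFinite (IrrCharacter H)
  have hχc := IsIrrCharacter.isCharacter hχ
  let F : G → ℂ := χ * fun g => conj (χ g)
  have hFc : IsCharacter G F := IsCharacter.mul hχc (IsCharacter.conjugate hχc)
  obtain ⟨m, hm, hm'⟩ := IsCharacter.exists_nat_decomp hFc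
  choose cc hcc using fun ψ : IrrCharacter G => IsCharacter.exists_classInner_nat
    (IsCharacter.restrict (irr_isCharacter ψ) H) (isCharacter_one (G := H))
  choose dd hdd0 hdd using fun ψ : IrrCharacter G => IsIrrCharacter.exists_apply_one ψ.2
  have hdeg : ∑ ψ, m ψ * dd ψ = d * d := by
    have h := congrFun hm 1
    simp only [F, Pi.mul_apply, Finset.sum_apply, Pi.smul_apply, smul_eq_mul, hdd, hd,
      map_natCast] at h
    exact_mod_cast h.symm
  obtain ⟨k, hk⟩ := IsCharacter.exists_classInner_nat (IsCharacter.restrict hχc H)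
    (IsCharacter.restrict hχc H)
  have hsum : ∑ ψ, m ψ * cc ψ = k := by
    have h1 : classInner (fun h : H => F h) (fun _ => 1) = (k : ℂ) := by
      rw [← hk]; simp [classInner, F]
    have h2 : (fun h : H => F h) = ∑ ψ : IrrCharacter G, (m ψ : ℂ) • fun h : H => (ψ : G → ℂ) h := by
      funext h
      have := congrFun hm h
      simpa using this
    rw [h2, classInner_sum_left] at h1
    simp only [classInner_smul_left, hcc] at h1
    exact_mod_cast h1
  have hk_ge : d ≤ k := by
    obtain ⟨l, hl, -⟩ := IsCharacter.exists_nat_decomp (IsCharacter.restrict hχc H)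
    have hl1 : ∑ lam : IrrCharacter H, l lam = d := by
      have h := congrFun hl 1
      simp only [OneMemClass.coe_one, hd, Finset.sum_apply, Pi.smul_apply, smul_eq_mul,
        IsIrrCharacter.apply_one_of_comm (fun a b : H => Subtype.ext (hab a a.2 b b.2))
          (Subtype.prop _), mul_one] at h
      exact_mod_cast h.symm
    have hl2 : ∑ lam : IrrCharacter H, l lam * l lam = k := by
      rw [hl, classInner_sum_sum] at hk
      simp only [map_natCast] at hk
      exact_mod_cast hk
    rw [← hl1, ← hl2]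
    exact Finset.sum_le_sum fun lam _ => Nat.le_mul_self _
  have htriv : m (trivIrr G) = 1 := by
    have h : classInner F (trivIrr G : G → ℂ) = 1 := by
      rw [← IsIrrCharacter.classInner_self hχ]
      simp [classInner, F]
    rw [hm'] at h
    exact_mod_cast h
  have hdd1 : dd (trivIrr G) = 1 := by
    have h := hdd (trivIrr G)
    rw [trivIrr_apply] at h
    exact_mod_cast h.symm
  have hcc1 : cc (trivIrr G) = 1 := by
    have h := hcc (trivIrr G)
    rw [show (fun n : H => (trivIrr G : G → ℂ) n) = fun _ : H => (1 : ℂ) from rfl,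
      IsIrrCharacter.classInner_self isIrrCharacter_one] at h
    exact_mod_cast h.symm
  set s := Real.sqrt (Nat.card H : ℝ) with hs
  have hs0 : 0 ≤ s := Real.sqrt_nonneg _
  have hs2 : s * s = (Nat.card H : ℝ) := Real.mul_self_sqrt (Nat.cast_nonneg _)
  have hlt : ∀ ψ : IrrCharacter G, ψ ≠ trivIrr G → s * (cc ψ : ℝ) < (dd ψ : ℝ) := by
    intro ψ hψ
    have hk' : ∃ h ∈ H, (ψ : G → ℂ) h ≠ (ψ : G → ℂ) 1 := by
      by_contra hall
      push Not at hall
      obtain ⟨g, hg⟩ := IsIrrCharacter.exists_ne_apply_one ψ.2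
        (fun h => hψ (Subtype.ext h))
      apply hg
      have hmem : g ∈ charKernel (irr_isCharacter ψ) := by
        rw [hgen _ (charKernel_normal _) hall]; exact Subgroup.mem_top g
      exact hmem
    have h1 := abelianTI_degree_sq_gt H hab hZ hone ψ.2 hk' (hdd ψ) (hcc ψ)
    have hd2 : (0 : ℝ) ≤ dd ψ := Nat.cast_nonneg _
    by_contra hcon
    push Not at hcon
    nlinarith [mul_self_le_mul_self hd2 hcon]
  obtain ⟨dpos, hdpos, hdpos'⟩ := IsIrrCharacter.exists_apply_one hχ
  obtain rfl : dpos = d := by exact_mod_cast hdpos'.symm.trans hd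
  have hdge : 2 ≤ dpos := by omega
  let E := Finset.univ.erase (trivIrr G)
  have hA : ∑ ψ ∈ E, m ψ * dd ψ + 1 = dpos * dpos := by
    rw [← hdeg, ← Finset.sum_erase_add Finset.univ _ (Finset.mem_univ (trivIrr G)), htriv, hdd1]
  have hB : ∑ ψ ∈ E, m ψ * cc ψ + 1 = k := by
    rw [← hsum, ← Finset.sum_erase_add Finset.univ _ (Finset.mem_univ (trivIrr G)), htriv, hcc1]
  obtain ⟨ψ0, hψ0, hψ0m⟩ : ∃ ψ ∈ E, m ψ * cc ψ ≠ 0 :=
    Finset.exists_ne_zero_of_sum_ne_zero (by omega)
  have hstrict : ∑ ψ ∈ E, s * ((m ψ * cc ψ : ℕ) : ℝ) < ∑ ψ ∈ E, ((m ψ * dd ψ : ℕ) : ℝ) := by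
    refine Finset.sum_lt_sum (fun ψ hψ => ?_) ⟨ψ0, hψ0, ?_⟩
    · have h := (hlt ψ (Finset.ne_of_mem_erase hψ)).le
      push_cast
      have := mul_le_mul_of_nonneg_left h (Nat.cast_nonneg (m ψ))
      linarith
    · have hm0 : (0 : ℝ) < m ψ0 :=
        Nat.cast_pos.mpr (Nat.pos_of_ne_zero (left_ne_zero_of_mul hψ0m))
      have h := mul_lt_mul_of_pos_left (hlt ψ0 (Finset.ne_of_mem_erase hψ0)) hm0
      push_cast
      linarith
  rw [← Finset.mul_sum, ← Nat.cast_sum, ← Nat.cast_sum] at hstrict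
  have hA' : ((∑ ψ ∈ E, m ψ * dd ψ : ℕ) : ℝ) + 1 = (dpos : ℝ) * dpos := by exact_mod_cast hA
  have hB' : ((∑ ψ ∈ E, m ψ * cc ψ : ℕ) : ℝ) + 1 = (k : ℝ) := by exact_mod_cast hB
  have hk' : (dpos : ℝ) ≤ k := by exact_mod_cast hk_ge
  have hd2 : (2 : ℝ) ≤ dpos := by exact_mod_cast hdge
  have hsd : s < 1 + (dpos : ℝ) := by
    by_contra hcon
    push Not at hcon
    nlinarith [mul_le_mul hcon (show (dpos : ℝ) - 1 ≤ ((∑ ψ ∈ E, m ψ * cc ψ : ℕ) : ℝ) by linarith)
      (by linarith) hs0]
  rw [← hs2, sq]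
  exact mul_self_lt_mul_self hs0 hsd

end Cfsg.Agent.Lib.Characters
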