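import Cfsg.Agent.Lib.Characters.Clifford
import Cfsg.Agent.Lib.Characters.ExtensionChar

/-!
# Invariant characters over an abelian chief factor
-/

namespace Cfsg.Agent.Lib.Characters

open scoped ComplexConjugate commutatorElement

set_option linter.unusedSectionVars false
set_option linter.style.haveILetI false

universe u

variable {G : Type u} [Group G]

/-- If a normal subgroup `N` with abelian quotient is the inertia group of the constituent `φ`,
the restriction is the sum of the conjugates; if `φ` is invariant and the set where `χ` does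
not vanish generates the group modulo `N`, the restriction is `φ`. -/
theorem restrict_eq_of_inertia_eq [Fintype G] (N : Subgroup G) [N.Normal] [Fintype N]
    {χ : G → ℂ} (hχ : IsIrrCharacter G χ) {φ : N → ℂ} (hφ : IsIrrCharacter N φ)
    (hc : classInner (fun n : N => χ n) φ ≠ 0) (hI : inertia N φ = N) :
    (fun n : N => χ n) = ∑ ψ ∈ (Set.finite_range fun g : G => conjFun N g φ).toFinset, ψ := by
  have hind : IsIrrCharacter G (indFun N φ) :=
    isIrrCharacter_indFun_of_inertia N hφ fun g hg => hI ▸ hg
  have h1 : classInner (indFun N φ) χ = conj (classInner (fun n : N => χ n) φ) := by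
    rw [classInner_indFun N φ (IsCharacter.isClassFunction (IsIrrCharacter.isCharacter hχ)),
      ← classInner_conj_symm]
  have heq : indFun N φ = χ := by
    by_contra hne
    rw [IsIrrCharacter.classInner_ne hind hχ hne] at h1
    exact hc (by simpa using h1.symm)
  rw [heq, IsIrrCharacter.classInner_self hχ] at h1
  have he : classInner (fun n : N => χ n) φ = 1 := by
    have := congrArg conj h1
    simpa using this.symm
  have h := restrict_eq_smul_sum N hχ hφ hc
  rwa [he, one_smul] at h

/-- If `χ` vanishes off `N` and restricts to `e φ` then `e² = [G : N]`. -/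
theorem sq_eq_index_of_vanish [Fintype G] (N : Subgroup G) [Fintype N]
    {χ : G → ℂ} (hχ : IsIrrCharacter G χ) {φ : N → ℂ} (hφ : IsIrrCharacter N φ) {e : ℕ}
    (hres : (fun n : N => χ n) = (e : ℂ) • φ) (hoff : ∀ g : G, g ∉ N → χ g = 0) :
    e ^ 2 = N.index := by
  classical
  have hsum : ∑ g : G, χ g * conj (χ g) = (e : ℂ) ^ 2 * ∑ n : N, φ n * conj (φ n) := by
    rw [← Finset.sum_subset (Finset.subset_univ (Finset.univ.filter (· ∈ N)))
      (fun g _ hg => by rw [hoff g (by simpa using hg), zero_mul]),
      Finset.sum_subtype (p := (· ∈ N)) _ (fun x => by simp), Finset.mul_sum]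
    refine Finset.sum_congr rfl fun n _ => ?_
    have h := congrFun hres n
    simp only [Pi.smul_apply, smul_eq_mul] at h
    rw [h, map_mul, map_natCast]
    ring
  have h1 := IsIrrCharacter.classInner_self hχ
  have h2 := IsIrrCharacter.classInner_self hφ
  rw [classInner, inv_mul_eq_one₀ natCard_ne_zero_complex] at h1 h2
  rw [← h1, ← h2, ← N.card_mul_index] at hsum
  have h3 : N.index * Nat.card N = e ^ 2 * Nat.card N := by
    rw [mul_comm N.index]
    exact_mod_cast hsum
  exact (Nat.eq_of_mul_eq_mul_right Nat.card_pos h3).symm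

/-- The invariant case with generating support. -/
theorem restrict_eq_of_support_generates [Fintype G] (N : Subgroup G) [N.Normal] [Fintype N]
    (hab : ∀ a b : G ⧸ N, a * b = b * a)
    {χ : G → ℂ} (hχ : IsIrrCharacter G χ) {φ : N → ℂ} (hφ : IsIrrCharacter N φ) {e : ℕ}
    (he : e ≠ 0) (hres : (fun n : N => χ n) = (e : ℂ) • φ)
    (hinv : ∀ g : G, conjFun N g φ = φ)
    (hgen : Subgroup.closure ((N : Set G) ∪ {g | χ g ≠ 0}) = ⊤) :
    (fun n : N => χ n) = φ := by
  classical
  haveI := Fintype.ofFinite (IrrCharacter G)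
  haveI := Fintype.ofFinite (IrrCharacter (G ⧸ N))
  -- linear characters of the quotient
  have hlin : ∀ η : IrrCharacter (G ⧸ N), ∃ lam : (G ⧸ N) →* ℂˣ,
      (η : G ⧸ N → ℂ) = fun q => (lam q : ℂ) := fun η =>
    IsCharacter.exists_hom_of_apply_one (irr_isCharacter η)
      (IsIrrCharacter.apply_one_of_comm hab η.2)
  choose lam hlam using hlin
  let tw : IrrCharacter (G ⧸ N) → IrrCharacter G := fun η =>
    ⟨_, isIrrCharacter_twist ((lam η).comp (QuotientGroup.mk' N)) hχ⟩
  have htw : ∀ η g, (tw η : G → ℂ) g = (lam η (QuotientGroup.mk g) : ℂ) * χ g := fun η g => rfl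
  have hinj : Function.Injective tw := by
    intro η η' h
    apply Subtype.ext
    rw [hlam η, hlam η']
    have key : (lam η).comp (QuotientGroup.mk' N) = (lam η').comp (QuotientGroup.mk' N) := by
      refine MonoidHom.eq_of_eqOn_dense hgen ?_
      rintro g (hg | hg)
      · have h1 : QuotientGroup.mk' N g = 1 := (QuotientGroup.eq_one_iff g).mpr hg
        simp [MonoidHom.comp_apply, h1]
      · have h1 := congrFun (congrArg Subtype.val h) g
        rw [htw, htw] at h1
        exact Units.ext (mul_right_cancel₀ hg h1)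
    funext q
    obtain ⟨g, rfl⟩ := QuotientGroup.mk_surjective q
    exact congrArg Units.val (DFunLike.congr_fun key g)
  have hrestw : ∀ η, (fun n : N => (tw η : G → ℂ) n) = (e : ℂ) • φ := fun η => by
    rw [← hres]
    funext n
    rw [htw, (QuotientGroup.eq_one_iff (n : G)).mpr n.2, map_one, Units.val_one, one_mul]
  have hinner : ∀ η, classInner (indFun N φ) (tw η : G → ℂ) = (e : ℂ) := fun η => by
    rw [classInner_indFun N φ (irr_isClassFunction (tw η)), hrestw, classInner_smul_right,
      IsIrrCharacter.classInner_self hφ, map_natCast, mul_one]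
  have hnorm : classInner (indFun N φ) (indFun N φ) = (N.index : ℂ) := by
    have h1 := classInner_indFun_self N hφ
    rw [show inertia N φ = ⊤ from eq_top_iff.mpr fun g _ => hinv g, Subgroup.card_top,
      ← N.card_mul_index, Nat.cast_mul] at h1
    exact mul_left_cancel₀ natCard_ne_zero_complex h1
  obtain ⟨m, -, hm⟩ := IsCharacter.exists_nat_decomp
    (IsCharacter.indFun N (IsIrrCharacter.isCharacter hφ))
  rw [classInner_eq_sum_irr (isClassFunction_indFun N φ) (isClassFunction_indFun N φ)] at hnorm
  simp only [hm, map_natCast] at hnorm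
  have hnorm' : ∑ ψ : IrrCharacter G, m ψ * m ψ = N.index := by exact_mod_cast hnorm
  have hmtw : ∀ η, m (tw η) = e := fun η => by
    have h1 := (hm (tw η)).symm.trans (hinner η)
    exact_mod_cast h1
  have hle : N.index * (e * e) ≤ N.index := by
    conv_rhs => rw [← hnorm']
    have h1 := Finset.sum_le_sum_of_subset (f := fun ψ => m ψ * m ψ)
      (Finset.subset_univ (Finset.univ.map ⟨tw, hinj⟩))
    rw [Finset.sum_map] at h1
    simp only [Function.Embedding.coeFn_mk, hmtw, Finset.sum_const, smul_eq_mul] at h1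
    have hcard : Fintype.card (IrrCharacter (G ⧸ N)) = N.index := by
      rw [← Nat.card_eq_fintype_card, card_irrCharacter, Subgroup.index_eq_card]
      refine (Nat.card_eq_of_bijective (ConjClasses.mk : G ⧸ N → _)
        ⟨fun a b h => ?_, ConjClasses.mk_surjective⟩).symm
      obtain ⟨c, hc⟩ := isConj_iff.mp (ConjClasses.mk_eq_mk_iff_isConj.mp h)
      rw [← hc, hab c a, mul_inv_cancel_right]
    rwa [Finset.card_univ, hcard] at h1
  have hidx : 0 < N.index := Nat.pos_of_ne_zero Subgroup.index_ne_zero_of_finite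
  have he1 : e = 1 := by
    rcases Nat.lt_or_ge 1 e with h | h
    · have h4 : 2 * 2 ≤ e * e := Nat.mul_le_mul h h
      nlinarith
    · omega
  rw [hres, he1, Nat.cast_one, one_smul]

theorem chief_factor_trichotomy [Fintype G] (K L : Subgroup G) [hK : K.Normal] [hL : L.Normal]
    (hLK : L < K) (hchief : ∀ M : Subgroup G, M.Normal → L ≤ M → M ≤ K → M = L ∨ M = K)
    (hab : ⁅K, K⁆ ≤ L) {ϑ : K → ℂ} (hϑ : IsIrrCharacter K ϑ)
    (hinv : ∀ (g : G) (n : K), ϑ ⟨g * n * g⁻¹, hK.conj_mem (n : G) n.2 g⟩ = ϑ n) :
    IsIrrCharacter L (fun x : L => ϑ ⟨(x : G), hLK.le x.2⟩) ∨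
      (∃ (φ : L → ℂ) (e : ℕ), IsIrrCharacter L φ ∧
        (fun x : L => ϑ ⟨(x : G), hLK.le x.2⟩) = (e : ℂ) • φ ∧ e ^ 2 = L.relIndex K) ∨
      (∃ F : Finset (L → ℂ), (∀ φ ∈ F, IsIrrCharacter L φ) ∧ F.card = L.relIndex K ∧
        (fun x : L => ϑ ⟨(x : G), hLK.le x.2⟩) = ∑ φ ∈ F, φ) := by
  classical
  haveI := Fintype.ofFinite K
  haveI := Fintype.ofFinite L
  let N : Subgroup K := L.subgroupOf K
  haveI := Fintype.ofFinite N
  let em : N ≃* L := Subgroup.subgroupOfEquivOfLe hLK.le
  set r : L → ℂ := fun x : L => ϑ ⟨(x : G), hLK.le x.2⟩ with hr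
  have hrN : (fun n : N => ϑ n) = r ∘ em := funext fun n => congrArg ϑ (Subtype.ext rfl)
  have hrc : IsCharacter L r :=
    IsCharacter.comp (IsIrrCharacter.isCharacter hϑ) (Subgroup.inclusion hLK.le)
  obtain ⟨φ, hφ⟩ := IsCharacter.exists_constituent hrc
    (fun h => IsIrrCharacter.apply_one_ne_zero hϑ (congrFun h 1))
  obtain ⟨e, he⟩ := IsCharacter.exists_classInner_nat hrc (irr_isCharacter φ)
  have hφN : IsIrrCharacter N ((φ : L → ℂ) ∘ em) := IsIrrCharacter.comp_equiv φ.2 em
  have hcN : classInner (fun n : N => ϑ n) ((φ : L → ℂ) ∘ em) = classInner r (φ : L → ℂ) := by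
    rw [hrN]
    exact classInner_comp_equiv em r φ
  have hconj : ∀ (k : K) (ψ : L → ℂ),
      conjFun N k (ψ ∘ em) = conjFun L (k : G) ψ ∘ em :=
    fun k ψ => funext fun n => congrArg ψ (Subtype.ext rfl)
  have hrinv : ∀ g : G, conjFun L g r = r :=
    fun g => funext fun x => hinv g ⟨x, hLK.le x.2⟩
  have hquot : ∀ a b : K ⧸ N, a * b = b * a := by
    intro a b
    obtain ⟨a, rfl⟩ := QuotientGroup.mk_surjective a
    obtain ⟨b, rfl⟩ := QuotientGroup.mk_surjective b
    rw [← QuotientGroup.mk_mul, ← QuotientGroup.mk_mul, QuotientGroup.eq, Subgroup.mem_subgroupOf]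
    have := hab (Subgroup.commutator_mem_commutator (K.inv_mem b.2) (K.inv_mem a.2))
    simpa [commutatorElement_def, mul_assoc] using this
  -- the inertia group meets `K` in a normal subgroup
  have hLI : L ≤ inertia L (φ : L → ℂ) := le_inertia L (irr_isClassFunction φ)
  have hJn : (inertia L (φ : L → ℂ) ⊓ K).Normal := by
    refine ⟨fun x hx g => ?_⟩
    obtain ⟨k, hk⟩ := exists_conjFun_eq N hϑ hφN
      (IsIrrCharacter.comp_equiv (IsIrrCharacter.conjFun L φ.2 g) em)
      (by rw [hcN]; exact hφ) (by
        rw [hrN, classInner_comp_equiv em]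
        nth_rewrite 1 [← hrinv g]
        rw [classInner_conjFun]
        exact hφ)
    rw [hconj] at hk
    have hk' : conjFun L (k : G) (φ : L → ℂ) = conjFun L g φ :=
      funext fun l => by simpa using congrFun hk (em.symm l)
    have hgk : g * (k : G)⁻¹ ∈ inertia L (φ : L → ℂ) := (conjFun_eq_iff L).mp hk'.symm
    have hkx : (k : G) * x * (k : G)⁻¹ ∈ inertia L (φ : L → ℂ) := by
      have h1 : ⁅(k : G), x⁆ ∈ L :=
        hab (Subgroup.commutator_mem_commutator k.2 (Subgroup.mem_inf.mp hx).2)
      have h2 := Subgroup.mul_mem _ (hLI h1) (Subgroup.mem_inf.mp hx).1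
      simpa [commutatorElement_def, mul_assoc] using h2
    refine Subgroup.mem_inf.mpr ⟨?_, hK.conj_mem x (Subgroup.mem_inf.mp hx).2 g⟩
    have h3 := Subgroup.mul_mem _ (Subgroup.mul_mem _ hgk hkx) (Subgroup.inv_mem _ hgk)
    simpa [mul_assoc] using h3
  rcases hchief _ hJn (le_inf hLI hLK.le) inf_le_right with hJ | hJ
  · -- distinct conjugates
    have hI : inertia N ((φ : L → ℂ) ∘ em) = N := by
      refine le_antisymm (fun k hk => ?_) (le_inertia N
        (IsCharacter.isClassFunction (IsIrrCharacter.isCharacter hφN)))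
      rw [Subgroup.mem_subgroupOf, ← hJ, Subgroup.mem_inf]
      refine ⟨?_, k.2⟩
      rw [mem_inertia_iff] at hk ⊢
      rw [hconj] at hk
      exact funext fun l => by simpa using congrFun hk (em.symm l)
    have hsum := restrict_eq_of_inertia_eq N hϑ hφN (by rw [hcN]; exact hφ) hI
    right; right
    set S := (Set.finite_range fun g : K => conjFun N g ((φ : L → ℂ) ∘ em)).toFinset with hS
    refine ⟨S.image (fun ψ => ψ ∘ em.symm), ?_, ?_, ?_⟩
    · intro ψ hψ
      obtain ⟨ψ', hψ', rfl⟩ := Finset.mem_image.mp hψ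
      obtain ⟨g, rfl⟩ := (Set.Finite.mem_toFinset _).mp hψ'
      exact IsIrrCharacter.comp_equiv (IsIrrCharacter.conjFun N hφN g) em.symm
    · rw [Finset.card_image_of_injective _ (em.symm.surjective.injective_comp_right), hS,
        ← Nat.card_eq_card_finite_toFinset, card_conjugates, hI]
      rfl
    · rw [Finset.sum_image fun a _ b _ h => em.symm.surjective.injective_comp_right h]
      funext x
      have := congrFun hsum (em.symm x)
      simp only [Finset.sum_apply] at this ⊢
      exact this
  · -- invariant constituent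
    have hinvN : ∀ k : K, conjFun N k ((φ : L → ℂ) ∘ em) = (φ : L → ℂ) ∘ em := fun k => by
      rw [hconj, show conjFun L (k : G) (φ : L → ℂ) = φ from
        (Subgroup.mem_inf.mp (hJ.symm ▸ k.2 : (k : G) ∈ inertia L (φ : L → ℂ) ⊓ K)).1]
    have hresN := restrict_eq_smul_of_invariant N hϑ hφN hinvN (by rw [hcN]; exact hφ)
    rw [hcN, he] at hresN
    have hres : r = (e : ℂ) • (φ : L → ℂ) :=
      funext fun x => by
        have := congrFun (hrN ▸ hresN) (em.symm x)
        simpa using this
    have he0 : e ≠ 0 := fun h0 => hφ (by rw [he, h0, Nat.cast_zero])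
    -- the subgroup generated by the support
    let T : Set G := {g | ∃ h : g ∈ K, ϑ ⟨g, h⟩ ≠ 0}
    have hTn : ∀ t ∈ T, ∀ g : G, g * t * g⁻¹ ∈ T := by
      rintro t ⟨ht, ht0⟩ g
      exact ⟨hK.conj_mem t ht g, by rwa [hinv g ⟨t, ht⟩]⟩
    have hUn : (Subgroup.closure ((L : Set G) ∪ T)).Normal := by
      rw [Subgroup.closure_union, Subgroup.closure_eq]
      haveI : (Subgroup.closure T).Normal := by
        refine ⟨fun x hx g => ?_⟩
        have h1 : (Subgroup.closure T).map (MulAut.conj g).toMonoidHom ≤ Subgroup.closure T := by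
          rw [MonoidHom.map_closure, Subgroup.closure_le]
          rintro _ ⟨t, ht, rfl⟩
          exact Subgroup.subset_closure (hTn t ht g)
        exact h1 ⟨x, hx, rfl⟩
      exact Subgroup.sup_normal L _
    have hUK : Subgroup.closure ((L : Set G) ∪ T) ≤ K := by
      rw [Subgroup.closure_le]
      rintro x (hx | ⟨hx, -⟩)
      exacts [hLK.le hx, hx]
    rcases hchief _ hUn (fun x hx => Subgroup.subset_closure (Or.inl hx)) hUK with hU | hU
    · -- fully ramified
      right; left
      refine ⟨φ, e, φ.2, hres, ?_⟩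
      refine sq_eq_index_of_vanish N hϑ hφN hresN fun k hk => ?_
      by_contra h0
      have h1 : (k : G) ∈ Subgroup.closure ((L : Set G) ∪ T) :=
        Subgroup.subset_closure (Or.inr ⟨k.2, h0⟩)
      rw [hU] at h1
      exact hk (Subgroup.mem_subgroupOf.mpr h1)
    · left
      have hgen : Subgroup.closure ((N : Set K) ∪ {k | ϑ k ≠ 0}) = ⊤ := by
        apply Subgroup.map_injective K.subtype_injective
        rw [MonoidHom.map_closure, ← MonoidHom.range_eq_map, K.range_subtype]
        conv_rhs => rw [← hU]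
        congr 1
        ext x
        simp only [Set.mem_image, Set.mem_union, SetLike.mem_coe, Set.mem_ofPred_eq, T]
        constructor
        · rintro ⟨k, hk | hk, rfl⟩
          · exact Or.inl (Subgroup.mem_subgroupOf.mp hk)
          · exact Or.inr ⟨k.2, hk⟩
        · rintro (hx | ⟨hx, h0⟩)
          · exact ⟨⟨x, hLK.le hx⟩, Or.inl (Subgroup.mem_subgroupOf.mpr hx), rfl⟩
          · exact ⟨⟨x, hx⟩, Or.inr h0, rfl⟩
      have h := restrict_eq_of_support_generates N hquot hϑ hφN he0 hresN hinvN hgen
      have : r = (φ : L → ℂ) := funext fun x => by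
        have := congrFun (hrN ▸ h) (em.symm x)
        simpa using this
      rw [this]
      exact φ.2

end Cfsg.Agent.Lib.Characters
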