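import Cfsg.Agent.Lib.Characters.Homogeneous
import Cfsg.Agent.Lib.Characters.ExtensionChar
import Cfsg.Agent.Lib.Characters.ChiefFactor
import Cfsg.Agent.Lib.Characters.InducedMore
import Mathlib.GroupTheory.PGroup
import Mathlib.LinearAlgebra.PID

/-!
# Berger's theorem: quasi-primitive characters of solvable groups are primitive
-/

namespace Cfsg.Agent.Lib.Characters

open Module
open scoped commutatorElement

set_option linter.unusedSectionVars false
set_option linter.style.haveILetI false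

universe u v

variable {G : Type u} [Group G] [Fintype G]

/-- An abelian invariant step of prime exponent in a solvable quotient. -/
theorem exists_invariant_step (N : Subgroup G) [N.Normal] (hsolv : Group.IsSolvable (G ⧸ N))
    {H : Subgroup G} (hNH : N < H) :
    ∃ (A : Subgroup G) (q : ℕ), q.Prime ∧ N < A ∧ A ≤ H ∧ (∀ h ∈ H, ∀ a ∈ A, h * a * h⁻¹ ∈ A) ∧
      (∀ a ∈ A, ∀ b ∈ A, ⁅a, b⁆ ∈ N) ∧ (∀ a ∈ A, a ^ q ∈ N) ∧
      ∀ B, N < B → B ≤ A → (∀ h ∈ H, ∀ b ∈ B, h * b * h⁻¹ ∈ B) → B = A := by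
  classical
  obtain ⟨A, hA, hmin⟩ := Finset.exists_min_image
    (Set.toFinite {A : Subgroup G | N < A ∧ A ≤ H ∧ ∀ h ∈ H, ∀ a ∈ A, h * a * h⁻¹ ∈ A}).toFinset
    (fun A => Nat.card A) ⟨H, (Set.Finite.mem_toFinset _).mpr
      ⟨hNH, le_rfl, fun h hh a ha => H.mul_mem (H.mul_mem hh ha) (H.inv_mem hh)⟩⟩
  rw [Set.Finite.mem_toFinset] at hA
  obtain ⟨hNA, hAH, hAinv⟩ := hA
  have hmin' : ∀ B, N < B → B ≤ A → (∀ h ∈ H, ∀ b ∈ B, h * b * h⁻¹ ∈ B) → B = A :=
    fun B hB hBA hBi => Subgroup.eq_of_le_of_card_ge hBA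
      (hmin B ((Set.Finite.mem_toFinset _).mpr ⟨hB, hBA.trans hAH, hBi⟩))
  let π : G →* G ⧸ N := QuotientGroup.mk' N
  have hπ : ∀ g, π g = 1 ↔ g ∈ N := fun g => QuotientGroup.eq_one_iff g
  have hmapne : A.map π ≠ ⊥ := by
    intro h
    rw [Subgroup.map_eq_bot_iff, QuotientGroup.ker_mk'] at h
    exact hNA.not_ge h
  have hcomm : ⁅A, A⁆ ≤ N := by
    by_contra hc
    have hB : ⁅A, A⁆ ⊔ N = A := by
      refine hmin' _ (lt_of_le_of_ne le_sup_right fun h => hc (h ▸ le_sup_left))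
        (sup_le (Subgroup.commutator_le_self A) hNA.le) fun h hh b hb => ?_
      have hmap : (⁅A, A⁆ ⊔ N).map (MulAut.conj h).toMonoidHom ≤ ⁅A, A⁆ ⊔ N := by
        rw [Subgroup.map_sup, Subgroup.map_commutator]
        refine sup_le_sup (Subgroup.commutator_mono ?_ ?_) ?_
        · rintro _ ⟨a, ha, rfl⟩; exact hAinv h hh a ha
        · rintro _ ⟨a, ha, rfl⟩; exact hAinv h hh a ha
        · rintro _ ⟨a, ha, rfl⟩; exact Subgroup.Normal.conj_mem inferInstance a ha h
      exact hmap ⟨b, hb, rfl⟩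
    have h2 : ⁅A.map π, A.map π⁆ = A.map π := by
      conv_rhs => rw [← hB, Subgroup.map_sup, Subgroup.map_commutator]
      rw [show N.map π = ⊥ by rw [Subgroup.map_eq_bot_iff, QuotientGroup.ker_mk'], sup_bot_eq]
    have : Nontrivial (A.map π) := (Subgroup.nontrivial_iff_ne_bot _).mpr hmapne
    have h3 := Group.IsSolvable.commutator_lt_top_of_nontrivial (A.map π)
    refine h3.ne (Subgroup.map_injective (A.map π).subtype_injective ?_)
    rw [commutator_def, Subgroup.map_commutator, ← MonoidHom.range_eq_map, Subgroup.range_subtype,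
      h2]
  have hcomm' : ∀ a ∈ A, ∀ b ∈ A, ⁅a, b⁆ ∈ N := fun a ha b hb =>
    hcomm (Subgroup.commutator_mem_commutator ha hb)
  obtain ⟨q, hq, hqd⟩ := Nat.exists_prime_and_dvd (mt Subgroup.card_eq_one.mp hmapne)
  haveI := Fact.mk hq
  obtain ⟨⟨_, x, hx, rfl⟩, hxo⟩ := exists_prime_orderOf_dvd_card' q hqd
  rw [← Subgroup.orderOf_coe] at hxo
  replace hxo : orderOf (π x) = q := hxo
  have hcm : ∀ a ∈ A, ∀ b ∈ A, Commute (π a) (π b) := fun a ha b hb => by
    have h := (hπ _).mpr (hcomm' a ha b hb)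
    rw [map_commutatorElement] at h
    exact commutatorElement_eq_one_iff_commute.mp h
  let B : Subgroup G :=
    { carrier := {a | a ∈ A ∧ π a ^ q = 1}
      one_mem' := ⟨A.one_mem, by simp⟩
      mul_mem' := fun {a b} ha hb => ⟨A.mul_mem ha.1 hb.1, by
        rw [map_mul, (hcm a ha.1 b hb.1).mul_pow, ha.2, hb.2, mul_one]⟩
      inv_mem' := fun {a} ha => ⟨A.inv_mem ha.1, by rw [map_inv, inv_pow, ha.2, inv_one]⟩ }
  have hB : B = A := by
    refine hmin' B (lt_of_le_of_ne (fun n hn => ⟨hNA.le hn, by rw [(hπ n).mpr hn, one_pow]⟩) ?_)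
      (fun a ha => ha.1) fun h hh b hb => ⟨hAinv h hh b hb.1, by
        rw [map_mul, map_mul, map_inv, conj_pow, hb.2, mul_one, mul_inv_cancel]⟩
    intro h
    have hxB : x ∈ B := ⟨hx, by rw [← hxo]; exact pow_orderOf_eq_one _⟩
    rw [← h] at hxB
    rw [(hπ x).mpr hxB, orderOf_one] at hxo
    exact hq.ne_one hxo.symm
  refine ⟨A, q, hq, hNA, hAH, hAinv, hcomm', fun a ha => (hπ _).mp ?_, hmin'⟩
  rw [← hB] at ha
  rw [map_pow]
  exact ha.2

/-- An abelian step with trivial fixed points has exponent prime to that of the acted factor. -/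
theorem prime_ne_of_nontrivial_action (N K : Subgroup G) [N.Normal] [K.Normal] (hNK : N < K)
    {H A : Subgroup G} (hsup : K ⊔ H = ⊤) {q r : ℕ} (hq : q.Prime)
    (hKab : ∀ a ∈ K, ∀ b ∈ K, ⁅a, b⁆ ∈ N) (hKq : ∀ a ∈ K, a ^ q ∈ N)
    (hKmin : ∀ B, N < B → B ≤ K → B.Normal → B = K)
    (hAinv : ∀ h ∈ H, ∀ a ∈ A, h * a * h⁻¹ ∈ A) (hAr : ∀ a ∈ A, a ^ r ∈ N)
    (hact : ∃ a ∈ A, ∃ k ∈ K, ⁅a, k⁆ ∉ N) : r ≠ q := by
  classical
  rintro rfl
  haveI := Fact.mk hq
  let π : G →* G ⧸ N := QuotientGroup.mk' N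
  have hπ : ∀ g, π g = 1 ↔ g ∈ N := fun g => QuotientGroup.eq_one_iff g
  have hpg : ∀ X : Subgroup G, (∀ x ∈ X, x ^ r ∈ N) → IsPGroup r (X.map π) := by
    rintro X hX ⟨_, x, hx, rfl⟩
    exact ⟨1, Subtype.ext (by rw [pow_one, SubgroupClass.coe_pow, ← map_pow]; exact (hπ _).mpr (hX x hx))⟩
  have hcomm : ∀ a b, ⁅a, b⁆ ∈ N ↔ π a * π b * (π a)⁻¹ = π b := fun a b => by
    rw [← hπ, map_commutatorElement, commutatorElement_def, mul_inv_eq_one]
  let Z : Subgroup G :=
    { carrier := {k | k ∈ K ∧ ∀ a ∈ A, π a * π k * (π a)⁻¹ = π k}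
      one_mem' := ⟨K.one_mem, fun a _ => by simp⟩
      mul_mem' := fun {x y} hx hy => ⟨K.mul_mem hx.1 hy.1, fun a ha => by
        rw [map_mul, ← hx.2 a ha, ← hy.2 a ha]
        have h1 := hx.2 a ha
        have h2 := hy.2 a ha
        rw [h1, h2]
        calc π a * (π x * π y) * (π a)⁻¹ = (π a * π x * (π a)⁻¹) * (π a * π y * (π a)⁻¹) := by group
          _ = _ := by rw [h1, h2]⟩
      inv_mem' := fun {x} hx => ⟨K.inv_mem hx.1, fun a ha => by
        rw [map_inv, ← inv_inj.mpr (hx.2 a ha)]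
        have h1 := hx.2 a ha
        rw [h1]
        calc π a * (π x)⁻¹ * (π a)⁻¹ = (π a * π x * (π a)⁻¹)⁻¹ := by group
          _ = _ := by rw [h1]⟩ }
  have hZn : Z.Normal := by
    have hgK : ∀ g ∈ K, ∀ z ∈ Z, g * z * g⁻¹ ∈ Z := by
      intro g hg z hz
      refine ⟨K.mul_mem (K.mul_mem hg hz.1) (K.inv_mem hg), fun a ha => ?_⟩
      have h : π (g * z * g⁻¹) = π z := by
        rw [map_mul, map_mul, map_inv]
        exact (hcomm g z).mp (hKab g hg z hz.1)
      rw [h]
      exact hz.2 a ha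
    have hgH : ∀ g ∈ H, ∀ z ∈ Z, g * z * g⁻¹ ∈ Z := by
      intro g hg z hz
      refine ⟨(inferInstance : K.Normal).conj_mem z hz.1 g, fun a ha => ?_⟩
      have ha' := hz.2 (g⁻¹ * a * g⁻¹⁻¹) (hAinv g⁻¹ (H.inv_mem hg) a ha)
      simp only [map_mul, map_inv, inv_inv] at ha' ⊢
      calc π a * (π g * π z * (π g)⁻¹) * (π a)⁻¹
          = π g * ((π g)⁻¹ * π a * π g * π z * ((π g)⁻¹ * π a * π g)⁻¹) * (π g)⁻¹ := by group
        _ = π g * π z * (π g)⁻¹ := by rw [ha']
    refine ⟨fun z hz g => ?_⟩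
    obtain ⟨k, hk, h, hh, rfl⟩ :=
      Subgroup.mem_sup_of_normal_left.mp (hsup.symm ▸ Subgroup.mem_top g : g ∈ K ⊔ H)
    have h1 := hgK k hk _ (hgH h hh z hz)
    simpa [mul_assoc] using h1
  have hKn : (K.map π).Normal := Subgroup.Normal.map inferInstance π (QuotientGroup.mk'_surjective N)
  let act : MulAction (A.map π) (K.map π) :=
    { smul := fun a k => ⟨(a : G ⧸ N) * k * (a : G ⧸ N)⁻¹, hKn.conj_mem _ k.2 _⟩
      one_smul := fun k => Subtype.ext (by show (1 : G ⧸ N) * k * 1⁻¹ = k; simp)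
      mul_smul := fun a b k => Subtype.ext (by
        show ((a : G ⧸ N) * b) * k * ((a : G ⧸ N) * b)⁻¹ = a * ((b : G ⧸ N) * k * (b : G ⧸ N)⁻¹) * (a : G ⧸ N)⁻¹
        group) }
  have hKne : K.map π ≠ ⊥ := by
    intro h
    rw [Subgroup.map_eq_bot_iff, QuotientGroup.ker_mk'] at h
    exact hNK.not_ge h
  have hdvd : r ∣ Nat.card (K.map π) := by
    obtain ⟨j, hj⟩ := IsPGroup.iff_card.mp (hpg K hKq)
    rw [hj]
    refine dvd_pow_self r fun h0 => hKne (Subgroup.card_eq_one.mp ?_)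
    rw [hj, h0, pow_zero]
  obtain ⟨⟨_, k, hk, rfl⟩, hkfix, hk1⟩ :=
    @IsPGroup.exists_fixed_point_of_prime_dvd_card_of_fixed_point r (A.map π) _ (hpg A hAr) _
      (K.map π) act _ hdvd 1 (fun a => Subtype.ext (by show (a : G ⧸ N) * 1 * (a : G ⧸ N)⁻¹ = 1; simp))
  have hkZ : k ∈ Z := ⟨hk, fun a ha => congrArg Subtype.val (hkfix ⟨π a, a, ha, rfl⟩)⟩
  have hNZ : N < Z := by
    refine lt_of_le_of_ne (fun n hn => ⟨hNK.le hn, fun a _ => by rw [(hπ n).mpr hn]; simp⟩) fun h => ?_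
    exact hk1 (Subtype.ext ((hπ k).mpr (h ▸ hkZ)).symm)
  obtain ⟨a, ha, x, hx, hax⟩ := hact
  rw [← hKmin Z hNZ (fun z hz => hz.1) hZn] at hx
  exact hax ((hcomm a x).mpr (hx.2 a ha))

/-- A system of idempotents permuted by an irreducible representation gives an induced character. -/
theorem exists_indFun_of_idempotent {V : Type v} [AddCommGroup V] [Module ℂ V]
    [FiniteDimensional ℂ V] (ρ : Representation ℂ G V) [ρ.IsIrreducible] {e : End ℂ V}
    (hid : IsIdempotentElem e) (h0 : e ≠ 0) (h1 : e ≠ 1)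
    (horth : ∀ g, ρ g * e * ρ g⁻¹ = e ∨ ρ g * e * ρ g⁻¹ * e = 0) :
    ∃ (J : Subgroup G) (ψ : J → ℂ), J ≠ ⊤ ∧ (∀ g, ρ g * e = e * ρ g → g ∈ J) ∧
      IsCharacter J ψ ∧ indFun J ψ = ρ.character := by
  classical
  let J : Subgroup G :=
    { carrier := {g | ρ g * e = e * ρ g}
      one_mem' := by simp
      mul_mem' := fun {a b} (ha : ρ a * e = e * ρ a) (hb : ρ b * e = e * ρ b) => by
        show ρ (a * b) * e = e * ρ (a * b)
        rw [map_mul, mul_assoc, hb, ← mul_assoc, ha, mul_assoc]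
      inv_mem' := fun {a} (ha : ρ a * e = e * ρ a) => by
        show ρ a⁻¹ * e = e * ρ a⁻¹
        calc ρ a⁻¹ * e = ρ a⁻¹ * e * (ρ a * ρ a⁻¹) := by
              rw [← map_mul, mul_inv_cancel, map_one, mul_one]
          _ = ρ a⁻¹ * (ρ a * e) * ρ a⁻¹ := by rw [ha]; noncomm_ring
          _ = e * ρ a⁻¹ := by
              rw [← mul_assoc, ← map_mul, inv_mul_cancel, map_one, one_mul] }
  have hmem : ∀ g, g ∈ J ↔ ρ g * e * ρ g⁻¹ = e := by
    intro g
    constructor
    · intro (h : ρ g * e = e * ρ g)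
      rw [h, mul_assoc, ← map_mul, mul_inv_cancel, map_one, mul_one]
    · intro h
      show ρ g * e = e * ρ g
      conv_rhs => rw [← h]
      rw [mul_assoc, ← map_mul, inv_mul_cancel, map_one, mul_one]
  have hJ : J ≠ ⊤ := by
    intro h
    obtain ⟨c, hc⟩ := exists_smul_of_commute ρ e fun g =>
      (show ρ g * e = e * ρ g from (h ▸ Subgroup.mem_top g : g ∈ J)).symm
    rw [← Module.End.one_eq_id] at hc
    have h' : (c * c - c) • (1 : End ℂ V) = 0 := by
      rw [sub_smul, ← hc, mul_smul, ← hc]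
      have h2 : e * e = e := hid
      nth_rewrite 1 [hc] at h2
      rw [smul_mul_assoc, one_mul] at h2
      rw [h2, sub_self]
    haveI := nontrivial_of_isIrreducible ρ
    rcases smul_eq_zero.mp h' with h2 | h2
    · have h3 : c * (c - 1) = 0 := by rw [mul_sub, mul_one]; exact h2
      rcases mul_eq_zero.mp h3 with h4 | h4
      · exact h0 (by rw [hc, h4, zero_smul])
      · exact h1 (by rw [hc, sub_eq_zero.mp h4, one_smul])
    · exact one_ne_zero h2
  -- the character of `J` on the range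
  let S : Subrepresentation (ρ.comp J.subtype) :=
    ⟨LinearMap.range e, fun g x hx => by
      obtain ⟨y, rfl⟩ := hx
      exact ⟨ρ g y, (LinearMap.congr_fun (show ρ g * e = e * ρ g from g.2) y).symm⟩⟩
  have hS : ∀ g : J, S.toRepresentation.character g = LinearMap.trace ℂ V (e * ρ g) := by
    intro g
    rw [← LinearMap.trace_restrict_eq_of_forall_mem (LinearMap.range e) (e * ρ g)
      (fun x => ⟨ρ g x, rfl⟩)]
    refine congrArg _ (LinearMap.ext fun x => Subtype.ext ?_)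
    obtain ⟨y, hy⟩ := x.2
    show ρ g x = e (ρ g x)
    rw [← hy]
    have h : ρ g (e y) = e (ρ g y) := LinearMap.congr_fun (show ρ g * e = e * ρ g from g.2) y
    rw [h]
    exact (LinearMap.congr_fun hid _).symm
  refine ⟨J, fun g => LinearMap.trace ℂ V (e * ρ g), hJ, fun g hg => hg, ?_, ?_⟩
  · convert isCharacter_of_rep S.toRepresentation using 1
    exact funext fun g => (hS g).symm
  -- the conjugates
  let E : G → End ℂ V := fun x => ρ x * e * ρ x⁻¹
  have hEmul : ∀ g x, ρ g * E x = E (g * x) * ρ g := fun g x => by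
    simp only [E, mul_assoc, ← map_mul, map_mul]
    rw [← map_mul ρ (g * x)⁻¹ g, mul_inv_rev, inv_mul_cancel_right]
  obtain ⟨c, hc⟩ := exists_smul_of_commute ρ (∑ x, E x) fun g => by
    rw [Finset.sum_mul, Finset.mul_sum, eq_comm]
    exact Fintype.sum_equiv (Equiv.mulLeft g) _ _ fun x => hEmul g x
  rw [← Module.End.one_eq_id] at hc
  have hcJ : c = (Nat.card J : ℂ) := by
    have h := congrArg (· * e) hc
    simp only [Finset.sum_mul, smul_mul_assoc, one_mul] at h
    rw [← Finset.sum_filter_add_sum_filter_not Finset.univ (· ∈ J),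
      Finset.sum_congr rfl (fun x hx => show E x * e = e by
        simp only [E, (hmem x).mp (Finset.mem_filter.mp hx).2]; exact hid),
      Finset.sum_eq_zero (s := Finset.univ.filter (¬ · ∈ J)) (fun x hx =>
        (horth x).resolve_left fun h => (Finset.mem_filter.mp hx).2 ((hmem x).mpr h)),
      add_zero, Finset.sum_const, ← Nat.cast_smul_eq_nsmul ℂ] at h
    have h3 : ((Finset.univ.filter (· ∈ J)).card : ℂ) = c := smul_left_injective ℂ h0 h
    rw [← h3, Nat.card_eq_fintype_card, Fintype.card_subtype]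
  funext g
  rw [indFun_apply]
  have hterm : ∀ x, extendByZero J (fun g : J => LinearMap.trace ℂ V (e * ρ g)) (x⁻¹ * g * x) =
      LinearMap.trace ℂ V (E x * ρ g) := by
    intro x
    by_cases hx : x⁻¹ * g * x ∈ J
    · rw [extendByZero_of_mem _ _ hx]
      show LinearMap.trace ℂ V (e * ρ (x⁻¹ * g * x)) = _
      simp only [E, map_mul]
      rw [← mul_assoc, LinearMap.trace_mul_comm]
      simp only [mul_assoc]
    · rw [extendByZero_of_not_mem _ _ hx]
      have hz : E x * E (g * x) = 0 := by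
        rcases horth (x⁻¹ * (g * x)) with h | h
        · exact absurd ((hmem _).mpr h) (by rwa [← mul_assoc])
        rcases horth ((x⁻¹ * (g * x))⁻¹) with h' | h'
        · exact absurd (J.inv_mem_iff.mp ((hmem _).mpr h')) (by rwa [← mul_assoc])
        have hx2 : (g * x) * (x⁻¹ * (g * x))⁻¹ = x := by group
        calc E x * E (g * x) = E ((g * x) * (x⁻¹ * (g * x))⁻¹) * E (g * x) := by rw [hx2]
          _ = ρ (g * x) * ρ (x⁻¹ * (g * x))⁻¹ * e *
                ρ (((g * x) * (x⁻¹ * (g * x))⁻¹)⁻¹ * (g * x)) * e * ρ (g * x)⁻¹ := by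
              simp only [E, map_mul, mul_assoc]
          _ = ρ (g * x) * (ρ (x⁻¹ * (g * x))⁻¹ * e * ρ (x⁻¹ * (g * x))⁻¹⁻¹ * e) * ρ (g * x)⁻¹ := by
              rw [show ((g * x) * (x⁻¹ * (g * x))⁻¹)⁻¹ * (g * x) = (x⁻¹ * (g * x))⁻¹⁻¹ by group]
              simp only [mul_assoc]
          _ = 0 := by rw [h', mul_zero, zero_mul]
      have hE2 : E x * E x = E x := by
        calc E x * E x = ρ x * e * (ρ x⁻¹ * ρ x) * e * ρ x⁻¹ := by
              simp only [E, mul_assoc]
          _ = ρ x * (e * e) * ρ x⁻¹ := by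
              rw [← map_mul, inv_mul_cancel, map_one, mul_one, mul_assoc (ρ x) e e]
          _ = E x := by rw [hid]
      rw [← hE2, mul_assoc, LinearMap.trace_mul_comm, mul_assoc, hEmul, ← mul_assoc, hz, zero_mul,
        map_zero]
  rw [Finset.sum_congr rfl fun x _ => hterm x, ← map_sum, ← Finset.sum_mul, hc, smul_mul_assoc,
    one_mul, map_smul, smul_eq_mul, hcJ, inv_mul_cancel_left₀ natCard_ne_zero_complex]
  rfl

/-- A minimal idempotent of a commutative algebra of operators containing a non-scalar operator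
of finite order modulo scalars. -/
theorem exists_minimal_idempotent {V : Type v} [AddCommGroup V] [Module ℂ V] [FiniteDimensional ℂ V]
    (S : Set (End ℂ V)) (hS : ∀ x ∈ S, ∀ y ∈ S, x * y = y * x) {T : End ℂ V} (hT : T ∈ S)
    {r : ℕ} (hr : 0 < r) {c : ℂ} (hc : c ≠ 0) (hTr : T ^ r = c • 1) (hns : ∀ μ : ℂ, T ≠ μ • 1) :
    ∃ e ∈ Algebra.adjoin ℂ S, IsIdempotentElem e ∧ e ≠ 0 ∧ e ≠ 1 ∧
      ∀ f ∈ Algebra.adjoin ℂ S, IsIdempotentElem f →
        LinearMap.trace ℂ V f = LinearMap.trace ℂ V e → f = e ∨ f * e = 0 := by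
  classical
  have hcomm : ∀ x ∈ Algebra.adjoin ℂ S, ∀ y ∈ Algebra.adjoin ℂ S, x * y = y * x := fun x hx y hy =>
    congrArg Subtype.val ((Algebra.adjoinCommRingOfComm ℂ hS).mul_comm ⟨x, hx⟩ ⟨y, hy⟩)
  haveI : Nontrivial V := by
    by_contra h
    rw [not_nontrivial_iff_subsingleton] at h
    exact hns 0 (LinearMap.ext fun x => Subsingleton.elim _ _)
  obtain ⟨μ, hμ⟩ := Module.End.exists_eigenvalue T
  obtain ⟨v, hv⟩ := hμ.exists_hasEigenvector
  have hμr : c = μ ^ r := by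
    have h := Module.End.HasEigenvector.pow_apply hv r
    rw [hTr, LinearMap.smul_apply, Module.End.one_apply] at h
    exact smul_left_injective ℂ hv.2 h
  have hμ0 : μ ≠ 0 := fun h => hc (by rw [hμr, h, zero_pow hr.ne'])
  set T' : End ℂ V := μ⁻¹ • T with hT'
  have hT'r : T' ^ r = 1 := by
    rw [hT', smul_pow, hTr, smul_smul, hμr, ← mul_pow, inv_mul_cancel₀ hμ0, one_pow, one_smul]
  let p : End ℂ V := (r : ℂ)⁻¹ • ∑ j ∈ Finset.range r, T' ^ j
  have hTp : T' * p = p := by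
    simp only [p, mul_smul_comm, Finset.mul_sum, ← pow_succ']
    congr 1
    have h := Finset.sum_range_succ' (fun j => T' ^ j) r
    rw [Finset.sum_range_succ, hT'r, pow_zero] at h
    exact (add_right_cancel h).symm
  have hpow : ∀ j : ℕ, T' ^ j * p = p := by
    intro j
    induction j with
    | zero => rw [pow_zero, one_mul]
    | succ j ih => rw [pow_succ, mul_assoc, hTp, ih]
  have hp : IsIdempotentElem p := by
    show p * p = p
    conv_lhs => arg 1; simp only [p]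
    rw [smul_mul_assoc, Finset.sum_mul, Finset.sum_congr rfl fun j _ => hpow j, Finset.sum_const,
      Finset.card_range, ← Nat.cast_smul_eq_nsmul ℂ, smul_smul,
      inv_mul_cancel₀ (by exact_mod_cast hr.ne'), one_smul]
  have hp0 : p ≠ 0 := by
    intro h
    have h1 := LinearMap.congr_fun h v
    have hv1 : T' v = v := by
      rw [hT', LinearMap.smul_apply, hv.apply_eq_smul, smul_smul, inv_mul_cancel₀ hμ0, one_smul]
    have hvj : ∀ j : ℕ, (T' ^ j) v = v := by
      intro j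
      induction j with
      | zero => simp
      | succ j ih => rw [pow_succ, Module.End.mul_apply, hv1, ih]
    simp only [p, LinearMap.smul_apply, LinearMap.sum_apply, hvj, Finset.sum_const,
      Finset.card_range, ← Nat.cast_smul_eq_nsmul ℂ, smul_smul, LinearMap.zero_apply] at h1
    rw [inv_mul_cancel₀ (by exact_mod_cast hr.ne'), one_smul] at h1
    exact hv.2 h1
  have hp1 : p ≠ 1 := by
    intro h
    rw [h, mul_one, hT'] at hTp
    refine hns μ ?_
    rw [← hTp, smul_smul, mul_inv_cancel₀ hμ0, one_smul]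
  have hpA : p ∈ Algebra.adjoin ℂ S :=
    Subalgebra.smul_mem _ (Subalgebra.sum_mem _ fun j _ =>
      Subalgebra.pow_mem _ (Subalgebra.smul_mem _ (Algebra.subset_adjoin hT) _) _) _
  let P : ℕ → Prop := fun k => ∃ f ∈ Algebra.adjoin ℂ S, IsIdempotentElem f ∧ f ≠ 0 ∧
    finrank ℂ (LinearMap.range f) = k
  have hP : ∃ k, P k := ⟨_, p, hpA, hp, hp0, rfl⟩
  obtain ⟨e, heA, he, he0, hek⟩ := Nat.find_spec hP
  have hmin : ∀ f ∈ Algebra.adjoin ℂ S, IsIdempotentElem f → f ≠ 0 →
      finrank ℂ (LinearMap.range e) ≤ finrank ℂ (LinearMap.range f) :=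
    fun f hf hfi hf0 => hek ▸ Nat.find_min' hP ⟨f, hf, hfi, hf0, rfl⟩
  have habs : ∀ f ∈ Algebra.adjoin ℂ S, IsIdempotentElem f → e * f ≠ 0 → e * f = e := by
    intro f hf hfi hne
    have hef : IsIdempotentElem (e * f) :=
      IsIdempotentElem.mul_of_commute (hcomm e heA f hf) he hfi
    have hle : LinearMap.range (e * f) ≤ LinearMap.range e := LinearMap.range_comp_le_range f e
    have heq := Submodule.eq_of_le_of_finrank_le hle (hmin _ (Subalgebra.mul_mem _ heA hf) hef hne)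
    refine LinearMap.ext fun x => ?_
    have hx : e x ∈ LinearMap.range (e * f) := heq ▸ ⟨x, rfl⟩
    obtain ⟨y, hy⟩ := hx
    have h := LinearMap.congr_fun hef y
    rw [Module.End.mul_apply, hy] at h
    rw [← h, hcomm e heA f hf]
    simp only [Module.End.mul_apply]
    rw [show e (e x) = e x from LinearMap.congr_fun he x]
  have htr : ∀ f : End ℂ V, IsIdempotentElem f →
      LinearMap.trace ℂ V f = (finrank ℂ (LinearMap.range f) : ℂ) :=
    fun f hf => LinearMap.IsProj.trace ((LinearMap.isProj_range_iff_isIdempotentElem f).mpr hf)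
  refine ⟨e, heA, he, he0, ?_, fun f hf hfi hft => ?_⟩
  · intro h
    have h2 := habs p hpA hp (by rw [h, one_mul]; exact hp0)
    rw [h, one_mul] at h2
    exact hp1 h2
  · by_cases hfe : f * e = 0
    · exact Or.inr hfe
    left
    have hef : e * f = e := habs f hf hfi (by rwa [hcomm e heA f hf])
    have hrk : finrank ℂ (LinearMap.range f) = finrank ℂ (LinearMap.range e) := by
      rw [htr f hfi, htr e he] at hft
      exact_mod_cast hft
    have hle : LinearMap.range e ≤ LinearMap.range f := by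
      rw [← hef, hcomm e heA f hf]
      exact LinearMap.range_comp_le_range e f
    have heq := Submodule.eq_of_le_of_finrank_le hle hrk.le
    rw [← hef]
    refine LinearMap.ext fun x => ?_
    have hx : f x ∈ LinearMap.range e := heq.symm ▸ ⟨x, rfl⟩
    obtain ⟨y, hy⟩ := hx
    rw [Module.End.mul_apply, ← hy]
    exact (LinearMap.congr_fun he y).symm

/-- The inductive step of Berger's theorem. -/
theorem exists_induced_above_core (L : Subgroup G) [L.Normal] (hsolv : Group.IsSolvable (G ⧸ L))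
    {m : ℕ} (ρ : Representation ℂ G (Fin m → ℂ)) [ρ.IsIrreducible]
    (hqp : ∀ M : Subgroup G, M.Normal → L ≤ M → ∃ (φ : M → ℂ) (e : ℕ), IsIrrCharacter M φ ∧
      (fun x : M => ρ.character x) = (e : ℂ) • φ)
    {H : Subgroup G} (hmax : IsCoatom H) (hLH : L ≤ H) {ψ : H → ℂ} (hψ : IsIrrCharacter H ψ)
    (hind : indFun H ψ = ρ.character) :
    ∃ (J : Subgroup G) (ψ' : J → ℂ), J ≠ ⊤ ∧ L ≤ J ∧ H.normalCore < J.normalCore ∧
      IsCharacter J ψ' ∧ indFun J ψ' = ρ.character := by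
  classical
  obtain ⟨N, hNdef⟩ : ∃ N, N = H.normalCore := ⟨_, rfl⟩
  rw [← hNdef]
  haveI hNn : N.Normal := hNdef ▸ Subgroup.normalCore_normal H
  have hNH : N ≤ H := hNdef ▸ H.normalCore_le
  have hLN : L ≤ N := hNdef ▸ Subgroup.normal_le_normalCore.mpr hLH
  have hcore : ∀ X : Subgroup G, X.Normal → X ≤ H → X ≤ N := fun X hX hXH =>
    hNdef ▸ (haveI := hX; Subgroup.normal_le_normalCore.mpr hXH)
  haveI hsolvN : Group.IsSolvable (G ⧸ N) :=
    haveI := hsolv
    Group.isSolvable_of_surjective (f := QuotientGroup.map L N (MonoidHom.id G) hLN)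
      (fun x => QuotientGroup.induction_on x fun g => ⟨QuotientGroup.mk g, rfl⟩)
  -- the chief factor `K / N`
  obtain ⟨K, q, hq, hNK, -, hKinv, hKab, hKq, hKmin⟩ :=
    exists_invariant_step N hsolvN (lt_of_le_of_lt hNH hmax.1.lt_top)
  haveI hKn : K.Normal := ⟨fun k hk g => hKinv g (Subgroup.mem_top g) k hk⟩
  have hKH : ¬ K ≤ H := fun h => hNK.not_ge (hcore K hKn h)
  have hsup : K ⊔ H = ⊤ := hmax.2 _ (lt_of_le_of_ne le_sup_right fun h => hKH (h ▸ le_sup_left))
  have hdec : ∀ g : G, ∃ k ∈ K, ∃ h ∈ H, g = k * h := fun g => by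
    have hg : g ∈ ((K ⊔ H : Subgroup G) : Set G) := by rw [hsup]; exact Subgroup.mem_top g
    obtain ⟨k, hk, h, hh, rfl⟩ := Subgroup.mem_sup_of_normal_left.mp hg
    exact ⟨k, hk, h, hh, rfl⟩
  have hinf : ∀ x ∈ K, x ∈ H → x ∈ N := by
    have hn : (K ⊓ H).Normal := by
      refine ⟨fun x hx g => ?_⟩
      obtain ⟨k, hk, h, hh, rfl⟩ := hdec g
      have h1 : h * x * h⁻¹ ∈ K ⊓ H :=
        ⟨hKn.conj_mem x hx.1 h, H.mul_mem (H.mul_mem hh hx.2) (H.inv_mem hh)⟩
      have h2 : k * h * x * (k * h)⁻¹ = ⁅k, h * x * h⁻¹⁆ * (h * x * h⁻¹) := by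
        rw [commutatorElement_def]; group
      rw [h2]
      exact Subgroup.mul_mem _ ⟨hNK.le (hKab k hk _ h1.1), hNH (hKab k hk _ h1.1)⟩ h1
    exact fun x hxK hxH => hcore _ hn inf_le_right ⟨hxK, hxH⟩
  haveI := Fintype.ofFinite H
  haveI := Fintype.ofFinite K
  haveI := Fintype.ofFinite N
  have hvan : ∀ x ∈ K, x ∉ N → ρ.character x = 0 := by
    intro x hxK hxN
    rw [← hind, indFun_apply, Finset.sum_eq_zero fun t _ => ?_, mul_zero]
    refine extendByZero_of_not_mem _ _ fun ht => hxN ?_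
    have h1 := hinf _ (by simpa using hKn.conj_mem x hxK t⁻¹) ht
    have h2 := hNn.conj_mem _ h1 t
    simpa [mul_assoc] using h2
  -- the homogeneous restrictions
  obtain ⟨ξ, e, hξ, hχK⟩ := hqp K hKn (hLN.trans hNK.le)
  obtain ⟨φ, c, hφ, hχN⟩ := hqp N hNn hLN
  obtain ⟨d, σ, hσ, rfl⟩ := hξ
  obtain ⟨dn, τ, hτ, rfl⟩ := hφ
  haveI := hσ
  haveI := hτ
  have hχ1 : ρ.character 1 ≠ 0 :=
    IsIrrCharacter.apply_one_ne_zero (isIrrCharacter_of_rep ρ)
  have he : e ≠ 0 := fun h => hχ1 (by simpa [h] using congrFun hχK 1)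
  let ι : N →* K := Subgroup.inclusion hNK.le
  let σN : Representation ℂ N (Fin d → ℂ) := σ.comp ι
  obtain ⟨f, hf⟩ := IsCharacter.exists_classInner_nat (isCharacter_of_rep σN) (isCharacter_of_rep τ)
  have hcN : (fun n : N => ρ.character n) = (e : ℂ) • σN.character := by
    funext n; exact congrFun hχK (ι n)
  have hef : (c : ℂ) = (e : ℂ) * f := by
    have h := congrArg (fun F => classInner F τ.character) (hχN.symm.trans hcN)
    simp only [classInner_smul_left, IsIrrCharacter.classInner_self (isIrrCharacter_of_rep τ), hf,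
      mul_one] at h
    exact h
  have hσN : σN.character = (f : ℂ) • τ.character := by
    funext n
    have h := congrFun (hcN.symm.trans hχN) n
    simp only [Pi.smul_apply, smul_eq_mul, hef, mul_assoc] at h ⊢
    exact mul_left_cancel₀ (by exact_mod_cast he) h
  have hσvan : ∀ x : K, (x : G) ∉ N → σ.character x = 0 := by
    intro x hx
    have h := congrFun hχK x
    simp only [Pi.smul_apply, smul_eq_mul] at h
    rw [hvan _ x.2 hx] at h
    exact (mul_eq_zero.mp h.symm).resolve_left (by exact_mod_cast he)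
  let N' : Subgroup K := N.subgroupOf K
  haveI := Fintype.ofFinite N'
  let eN : N' ≃* N := Subgroup.subgroupOfEquivOfLe hNK.le
  have hf2 : f ^ 2 = N'.index :=
    sq_eq_index_of_vanish (G := K) N' (isIrrCharacter_of_rep σ)
      (IsIrrCharacter.comp_equiv (isIrrCharacter_of_rep τ) eN) (e := f)
      (funext fun x => congrFun hσN (eN x)) (fun x hx => hσvan x hx)
  haveI := Fact.mk hq
  haveI : N'.Normal := inferInstance
  obtain ⟨a₀, ha₀⟩ : ∃ j, N'.index = q ^ j := by
    have hp : IsPGroup q (K ⧸ N') := fun x => QuotientGroup.induction_on x fun k =>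
      ⟨1, by rw [pow_one, ← QuotientGroup.mk_pow, QuotientGroup.eq_one_iff]; exact hKq k k.2⟩
    obtain ⟨j, hj⟩ := IsPGroup.iff_card.mp hp
    exact ⟨j, hj⟩
  have hf0 : f ≠ 0 := fun h =>
    Subgroup.index_ne_zero_of_finite (H := N') (by rw [← hf2, h]; rfl)
  -- the top case
  rcases eq_or_lt_of_le hNH with hNeq | hNlt
  · exfalso
    obtain ⟨x, hxK, hxN⟩ := SetLike.exists_of_lt hNK
    have hKt : K = ⊤ := (hNeq ▸ hmax).2 K hNK
    have hgen : Subgroup.zpowers x ⊔ N = ⊤ :=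
      (hNeq ▸ hmax).2 _ (lt_of_le_of_ne le_sup_right fun h =>
        hxN (h ▸ Subgroup.mem_sup_left (Subgroup.mem_zpowers x)))
    let z : G ⧸ N := QuotientGroup.mk' N x
    have hz : Subgroup.zpowers z = ⊤ := by
      rw [← MonoidHom.map_zpowers, ← Subgroup.map_top_of_surjective (QuotientGroup.mk' N)
        (QuotientGroup.mk'_surjective N), ← hgen, Subgroup.map_sup,
        show N.map (QuotientGroup.mk' N) = ⊥ by rw [Subgroup.map_eq_bot_iff, QuotientGroup.ker_mk'],
        sup_bot_eq]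
    have hzq : orderOf z = q := by
      refine orderOf_eq_prime ?_ fun h => hxN ((QuotientGroup.eq_one_iff x).mp h)
      rw [← map_pow]
      exact (QuotientGroup.eq_one_iff _).mpr (hKq x hxK)
    have hidx : N'.index = q := by
      show N.relIndex K = q
      rw [hKt, Subgroup.relIndex_top_right, Subgroup.index_eq_card,
        ← orderOf_eq_card_of_forall_mem_zpowers (g := z) fun y => hz ▸ Subgroup.mem_top y, hzq]
    rw [hidx, sq] at hf2
    exact (Nat.prime_iff.mp hq).not_isSquare ⟨f, hf2.symm⟩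
  -- the acting factor `A / N`
  obtain ⟨A, r, hr, hNA, hAH, hAinv, hAab, hAr, -⟩ := exists_invariant_step N hsolvN hNlt
  have hact : ∃ a ∈ A, ∃ k ∈ K, ⁅a, k⁆ ∉ N := by
    by_contra hc
    push Not at hc
    have hAn : A.Normal := by
      refine ⟨fun a ha g => ?_⟩
      obtain ⟨k, hk, h, hh, rfl⟩ := hdec g
      have h2 : k * h * a * (k * h)⁻¹ = ⁅h * a * h⁻¹, k⁆⁻¹ * (h * a * h⁻¹) := by
        rw [commutatorElement_def]; group
      rw [h2]
      exact A.mul_mem (A.inv_mem (hNA.le (hc _ (hAinv h hh a ha) k hk))) (hAinv h hh a ha)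
    exact hNA.not_ge (hcore A hAn hAH)
  have hrq : r ≠ q := prime_ne_of_nontrivial_action N K hNK hsup hq hKab hKq
    (fun B hB hBK hBn => hKmin B hB hBK fun g _ b hb => hBn.conj_mem b hb g) hAinv hAr hact
  have hfr : f.Coprime r := by
    rw [Nat.coprime_comm, hr.coprime_iff_not_dvd]
    intro h
    have : r ∣ q ^ a₀ := ha₀ ▸ hf2 ▸ dvd_pow h two_ne_zero
    exact hrq ((Nat.prime_dvd_prime_iff_eq hr hq).mp (hr.dvd_of_dvd_pow this))
  -- the operator algebras
  obtain ⟨jK, hjKi, hjK⟩ := exists_homogeneous_algHom (ρ.comp K.subtype) σ he (funext fun k => by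
    exact congrFun hχK k)
  obtain ⟨jN, hjNi, hjN⟩ := exists_homogeneous_algHom σN τ hf0 hσN
  replace hjK : ∀ k : K, jK (σ k) = ρ k := hjK
  replace hjN : ∀ n : N, jN (τ n) = σ (ι n) := hjN
  have hinvK : ∀ (g : G) (k : K), σ.character (MulAut.conjNormal g k) = σ.character k := by
    intro g k
    have h1 := congrFun hχK (MulAut.conjNormal g k)
    have h2 := congrFun hχK k
    simp only [MulAut.conjNormal_apply, ρ.char_conj, Pi.smul_apply, smul_eq_mul] at h1 h2
    exact mul_left_cancel₀ (by exact_mod_cast he : (e : ℂ) ≠ 0) (h1.symm.trans h2)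
  have hinvN : ∀ (g : G) (n : N), τ.character (MulAut.conjNormal g n) = τ.character n := by
    intro g n
    have h1 := congrFun hχN (MulAut.conjNormal g n)
    have h2 := congrFun hχN n
    simp only [MulAut.conjNormal_apply, ρ.char_conj, Pi.smul_apply, smul_eq_mul] at h1 h2
    refine mul_left_cancel₀ (?_ : (c : ℂ) ≠ 0) (h1.symm.trans h2)
    rw [hef]
    exact mul_ne_zero (by exact_mod_cast he) (by exact_mod_cast hf0)
  have hPex : ∀ g : G, ∃ P : (End ℂ (Fin d → ℂ))ˣ, ∀ k : K,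
      (P : End ℂ (Fin d → ℂ)) * σ k = σ (MulAut.conjNormal g k) * P := by
    intro g
    obtain ⟨M, hM⟩ := projLift_surjective K σ hinvK g
    refine ⟨M.1.2, fun k => ?_⟩
    have h := M.2 k
    rwa [show M.1.1 = g from hM] at h
  have hQex : ∀ g : G, ∃ Q : (End ℂ (Fin dn → ℂ))ˣ, ∀ n : N,
      (Q : End ℂ (Fin dn → ℂ)) * τ n = τ (MulAut.conjNormal g n) * Q := by
    intro g
    obtain ⟨M, hM⟩ := projLift_surjective N τ hinvN g
    refine ⟨M.1.2, fun k => ?_⟩
    have h := M.2 k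
    rwa [show M.1.1 = g from hM] at h
  choose P hP using hPex
  choose Q hQ using hQex
  have hιconj : ∀ g n, MulAut.conjNormal g (ι n) = ι (MulAut.conjNormal g n) := fun g n =>
    Subtype.ext (by simp [ι])
  have hspanK : ∀ {X : End ℂ (Fin m → ℂ)}, (∀ k : K, X * ρ k = ρ k * X) →
      ∀ T, X * jK T = jK T * X := by
    intro X hX T
    induction mem_span_range_of_irreducible σ T using Submodule.span_induction with
    | mem x hx => obtain ⟨k, rfl⟩ := hx; rw [hjK]; exact hX k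
    | zero => simp
    | add x y _ _ hx hy => rw [map_add, mul_add, add_mul, hx, hy]
    | smul a x _ hx => rw [map_smul, mul_smul_comm, smul_mul_assoc, hx]
  let InR : End ℂ (Fin d → ℂ) → Prop := fun T => ∀ n : N, T * σ (ι n) = σ (ι n) * T
  have hRjN : ∀ {T}, InR T → ∀ Y, T * jN Y = jN Y * T := by
    intro T hT Y
    induction mem_span_range_of_irreducible τ Y using Submodule.span_induction with
    | mem x hx => obtain ⟨n, rfl⟩ := hx; rw [hjN]; exact hT n
    | zero => simp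
    | add x y _ _ hx hy => rw [map_add, mul_add, add_mul, hx, hy]
    | smul a x _ hx => rw [map_smul, mul_smul_comm, smul_mul_assoc, hx]
  let J2 : (End ℂ (Fin dn → ℂ))ˣ →* (End ℂ (Fin d → ℂ))ˣ := Units.map (jN : _ →* _)
  have hJ2 : ∀ Y, ((J2 Y : (End ℂ (Fin d → ℂ))ˣ) : End ℂ (Fin d → ℂ)) = jN Y := fun Y => rfl
  have hmkR : ∀ (g : G) (X : (End ℂ (Fin d → ℂ))ˣ),
      (∀ n : N, (X : End ℂ (Fin d → ℂ)) * σ (ι n) = σ (ι (MulAut.conjNormal g n)) * X) →
      InR (((J2 (Q g))⁻¹ * X : (End ℂ (Fin d → ℂ))ˣ) : End ℂ (Fin d → ℂ)) := by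
    intro g X hX n
    rw [Units.val_mul, mul_assoc, hX, ← mul_assoc, ← mul_assoc]
    congr 1
    rw [Units.inv_mul_eq_iff_eq_mul, ← mul_assoc, Units.eq_mul_inv_iff_mul_eq]
    rw [← hjN, ← hjN, hJ2, ← map_mul, ← map_mul, hQ]
  let π : G → (End ℂ (Fin d → ℂ))ˣ := fun g => (J2 (Q g))⁻¹ * P g
  have hπR : ∀ g, InR (π g : End ℂ (Fin d → ℂ)) := fun g => hmkR g (P g) fun n => by
    rw [hP, hιconj]
  have hRmul : ∀ {S T}, InR S → InR T → InR (S * T) := fun hS hT n => by
    rw [mul_assoc, hT n, ← mul_assoc, hS n, mul_assoc]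
  have hRinv : ∀ {u : (End ℂ (Fin d → ℂ))ˣ}, InR (u : End ℂ (Fin d → ℂ)) →
      InR ((u⁻¹ : (End ℂ (Fin d → ℂ))ˣ) : End ℂ (Fin d → ℂ)) := fun {u} hu n =>
    ((Commute.units_inv_left (show Commute (u : End ℂ (Fin d → ℂ)) (σ (ι n)) from hu n)))
  have hPK : ∀ g X, ρ g * jK X = jK (P g * X * ((P g)⁻¹ : (End ℂ (Fin d → ℂ))ˣ)) * ρ g := by
    intro g X
    induction mem_span_range_of_irreducible σ X using Submodule.span_induction with
    | mem x hx =>
      obtain ⟨k, rfl⟩ := hx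
      rw [hP, mul_assoc, Units.mul_inv, mul_one, hjK, hjK, ← map_mul, ← map_mul]
      congr 1
      simp
    | zero => simp
    | add x y _ _ hx hy => rw [map_add, mul_add, hx, hy, mul_add, add_mul, map_add, add_mul]
    | smul a x _ hx =>
      rw [map_smul, mul_smul_comm, hx, mul_smul_comm, smul_mul_assoc, map_smul, smul_mul_assoc]
  let Ind : G → (End ℂ (Fin d → ℂ))ˣ → Prop := fun g u => InR (u : End ℂ (Fin d → ℂ)) ∧
    ∀ T, InR T → ρ g * jK T = jK (u * T * (u⁻¹ : (End ℂ (Fin d → ℂ))ˣ)) * ρ g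
  have hIndπ : ∀ g, Ind g (π g) := by
    intro g
    refine ⟨hπR g, fun T hT => ?_⟩
    rw [hPK]
    congr 2
    have hc : InR ((π g : End ℂ (Fin d → ℂ)) * T * ((π g)⁻¹ : (End ℂ (Fin d → ℂ))ˣ)) :=
      hRmul (hRmul (hπR g) hT) (hRinv (hπR g))
    have h1 := hRjN hc (Q g)
    have h2 : (P g : End ℂ (Fin d → ℂ)) = jN (Q g) * π g := by
      rw [← hJ2, Units.val_mul, Units.mul_inv_cancel_left]
    have h3 : (((P g)⁻¹ : (End ℂ (Fin d → ℂ))ˣ) : End ℂ (Fin d → ℂ)) =
        ((π g)⁻¹ : (End ℂ (Fin d → ℂ))ˣ) * ((J2 (Q g))⁻¹ : (End ℂ (Fin d → ℂ))ˣ) := by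
      rw [← Units.val_mul, ← mul_inv_rev, mul_inv_cancel_left]
    rw [h2, h3, mul_assoc (jN _), mul_assoc (jN _), ← mul_assoc _ _ ((J2 (Q g))⁻¹ : _ˣ).1,
      ← mul_assoc, ← h1, mul_assoc, ← hJ2, Units.mul_inv, mul_one]
  have hIndmul : ∀ {a b u v}, Ind a u → Ind b v → Ind (a * b) (u * v) := by
    intro a b u v hu hv
    refine ⟨hRmul hu.1 hv.1, fun T hT => ?_⟩
    rw [map_mul, mul_assoc, hv.2 T hT, ← mul_assoc, hu.2 _ (hRmul (hRmul hv.1 hT) (hRinv hv.1)),
      mul_assoc]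
    simp only [mul_inv_rev, Units.val_mul, mul_assoc]
  have hIndinv : ∀ {a u}, Ind a u → Ind a⁻¹ u⁻¹ := by
    intro a u hu
    refine ⟨hRinv hu.1, fun T hT => ?_⟩
    have h := hu.2 _ (hRmul (hRmul (hRinv hu.1) hT) hu.1)
    rw [show (u : End ℂ (Fin d → ℂ)) * ((u⁻¹ : (End ℂ (Fin d → ℂ))ˣ) * T * u) *
      ((u⁻¹ : (End ℂ (Fin d → ℂ))ˣ)) = T by simp [mul_assoc]] at h
    rw [inv_inv]
    have h' := congrArg (fun Z => ρ a⁻¹ * Z * ρ a⁻¹) h
    simp only [← mul_assoc, ← map_mul, inv_mul_cancel, map_one, one_mul] at h'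
    rw [h', mul_assoc, ← map_mul, mul_inv_cancel, map_one, mul_one]
  have hIndN : ∀ n ∈ N, Ind n 1 := by
    intro n hn
    refine ⟨fun x => by simp, fun T hT => ?_⟩
    have h1 : ρ n = jK (σ (ι ⟨n, hn⟩)) := (hjK (ι ⟨n, hn⟩)).symm
    rw [h1, ← map_mul, ← map_mul, ← hT]
    simp
  have hcent : ∀ γ, InR γ → (∀ T, InR T → γ * T = T * γ) → ∃ a : ℂ, γ = a • 1 := by
    intro γ hγ hγc
    refine exists_smul_of_commute σ γ fun k => ?_
    let X : (End ℂ (Fin d → ℂ))ˣ := σ.toHomUnits k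
    have hX : InR (((J2 (Q k))⁻¹ * X : (End ℂ (Fin d → ℂ))ˣ) : End ℂ (Fin d → ℂ)) :=
      hmkR k X fun n => by
        show σ k * σ (ι n) = σ (ι (MulAut.conjNormal (k : G) n)) * σ k
        rw [← map_mul, ← map_mul]
        congr 1
        exact Subtype.ext (by simp [ι])
    have h1 : σ k = jN (Q k) * (((J2 (Q k))⁻¹ * X : (End ℂ (Fin d → ℂ))ˣ) : End ℂ (Fin d → ℂ)) := by
      rw [← hJ2, Units.val_mul, Units.mul_inv_cancel_left]
      rfl
    rw [h1, ← mul_assoc, hRjN hγ, mul_assoc, hγc _ hX, mul_assoc]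
  have huniq : ∀ {g u v}, Ind g u → Ind g v → ∃ a : ℂ, (v : End ℂ (Fin d → ℂ)) = a • (u : End ℂ (Fin d → ℂ)) := by
    intro g u v hu hv
    obtain ⟨a, ha⟩ := hcent ((u⁻¹ : (End ℂ (Fin d → ℂ))ˣ) * v) (hRmul (hRinv hu.1) hv.1) fun T hT => by
      have h := (hv.2 T hT).symm.trans (hu.2 T hT)
      have hu' : IsUnit (ρ g) := Group.isUnit g |>.map ρ
      have h' := hjKi (hu'.mul_right_cancel h)
      have h'' := congrArg (fun Z => ((u⁻¹ : (End ℂ (Fin d → ℂ))ˣ) : End ℂ (Fin d → ℂ)) * Z * v) h'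
      simpa [mul_assoc] using h''
    refine ⟨a, ?_⟩
    have h := congrArg (fun Z => (u : End ℂ (Fin d → ℂ)) * Z) ha
    simpa [mul_smul_comm] using h
  -- scalar powers and commutation
  have hpow : ∀ {a u}, a ∈ A → Ind a u → ∃ z : ℂ, z ≠ 0 ∧
      (u : End ℂ (Fin d → ℂ)) ^ r = z • 1 := by
    intro a u ha hu
    have hn : ∀ j : ℕ, Ind (a ^ j) (u ^ j) := by
      intro j
      induction j with
      | zero => simpa using hIndN 1 N.one_mem
      | succ j ih => rw [pow_succ, pow_succ]; exact hIndmul ih hu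
    obtain ⟨z, hz⟩ := huniq (hIndN _ (hAr a ha)) (hn r)
    rw [Units.val_one, Units.val_pow_eq_pow_val] at hz
    refine ⟨z, ?_, hz⟩
    rintro rfl
    rw [zero_smul] at hz
    haveI := nontrivial_of_isIrreducible σ
    exact not_isUnit_zero (hz ▸ (u.isUnit.pow r))
  haveI := nontrivial_of_isIrreducible σ
  let L1 : End ℂ (Fin d → ℂ) → Prop := InR
  have hcommR : ∀ {a b u v}, a ∈ A → b ∈ A → Ind a u → Ind b v →
      (u : End ℂ (Fin d → ℂ)) * v = v * u := by
    intro a b u v ha hb hu hv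
    have hcm := hIndmul (hIndmul (hIndmul hu hv) (hIndinv hu)) (hIndinv hv)
    obtain ⟨z, hz⟩ := huniq (hIndN _ (hAab a ha b hb)) (by rw [commutatorElement_def]; exact hcm)
    rw [Units.val_one] at hz
    have huv : (u : End ℂ (Fin d → ℂ)) * v = z • ((v : End ℂ (Fin d → ℂ)) * u) := by
      have h := congrArg (fun Z => Z * ((v : End ℂ (Fin d → ℂ)) * u)) hz
      simpa [mul_assoc] using h
    have hvu : ∀ j : ℕ, (u : End ℂ (Fin d → ℂ)) ^ j * v = z ^ j • ((v : End ℂ (Fin d → ℂ)) * u ^ j) := by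
      intro j
      induction j with
      | zero => simp
      | succ j ih =>
        rw [pow_succ, mul_assoc, huv, mul_smul_comm, ← mul_assoc, ih, smul_mul_assoc, smul_smul,
          mul_assoc, pow_succ, mul_comm z]
    obtain ⟨w, hw0, hw⟩ := hpow ha hu
    have hz1 : z ^ r = 1 := by
      have h := hvu r
      rw [hw, smul_mul_assoc, one_mul, mul_smul_comm, mul_one, smul_smul] at h
      have hv0 : (v : End ℂ (Fin d → ℂ)) ≠ 0 := v.ne_zero
      have h2 := smul_left_injective ℂ hv0 h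
      exact (mul_eq_right₀ hw0).mp h2.symm
    -- determinants on the multiplicity space
    let W := τ.IntertwiningMap σN
    have hW : finrank ℂ W = f := by
      have h := classInner_char_eq_finrank τ σN
      rw [hf] at h
      exact_mod_cast h.symm
    let Lm : ∀ T, InR T → (W →ₗ[ℂ] W) := fun T hT =>
      { toFun := fun F => ⟨T.comp F.toLinearMap, fun n => by
          rw [LinearMap.comp_assoc, F.isIntertwining' n, ← LinearMap.comp_assoc, ← LinearMap.comp_assoc]
          congr 1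
          exact hT n⟩
        map_add' := fun x y => Representation.IntertwiningMap.ext (LinearMap.ext fun p => map_add T _ _)
        map_smul' := fun x y => Representation.IntertwiningMap.ext (LinearMap.ext fun p => map_smul T _ _) }
    have hLmul : ∀ S T hS hT, (Lm S hS) * (Lm T hT) = Lm (S * T) (hRmul hS hT) := fun S T hS hT =>
      LinearMap.ext fun F => Representation.IntertwiningMap.ext (LinearMap.ext fun p => rfl)
    have hL1 : ∀ (S : End ℂ (Fin d → ℂ)) (hS : InR S) (a : ℂ) (T) (hT : InR T), S = a • T →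
        Lm S hS = a • Lm T hT := by
      intro S hS a T hT h
      subst h
      exact LinearMap.ext fun F => Representation.IntertwiningMap.ext (LinearMap.ext fun p => rfl)
    have h1 : Lm 1 (fun n => by simp) = 1 :=
      LinearMap.ext fun F => Representation.IntertwiningMap.ext (LinearMap.ext fun p => rfl)
    have hdu : ∀ (x : (End ℂ (Fin d → ℂ))ˣ) (hx : InR (x : End ℂ (Fin d → ℂ))),
        LinearMap.det (Lm x hx) ≠ 0 := by
      intro x hx h0
      have h := congrArg LinearMap.det (hLmul x (x⁻¹ : (End ℂ (Fin d → ℂ))ˣ) hx (hRinv hx))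
      rw [map_mul, h0, zero_mul] at h
      rw [hL1 _ (hRmul hx (hRinv hx)) 1 1 (fun n => by simp) (by rw [one_smul, Units.mul_inv]), one_smul, h1, map_one] at h
      exact zero_ne_one h
    have hzf : z ^ f = 1 := by
      have h := congrArg LinearMap.det
        ((hLmul u v hu.1 hv.1).trans (hL1 _ (hRmul hu.1 hv.1) z _ (hRmul hv.1 hu.1) huv))
      rw [map_mul, LinearMap.det_smul, hW, ← hLmul v u hv.1 hu.1, map_mul,
        mul_comm (LinearMap.det (Lm v hv.1))] at h
      exact ((mul_eq_right₀ (mul_ne_zero (hdu u hu.1) (hdu v hv.1))).mp h.symm)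
    have hzone : z = 1 := by
      have h := pow_gcd_eq_one.mpr ⟨hzf, hz1⟩
      rwa [hfr, pow_one] at h
    rw [huv, hzone, one_smul]
  -- a non-scalar element
  obtain ⟨a₁, ha₁, k₁, hk₁, hak⟩ := hact
  have hπns : ∀ μ : ℂ, (π a₁ : End ℂ (Fin d → ℂ)) ≠ μ • 1 := by
    intro μ hμ
    let k : K := ⟨k₁, hk₁⟩
    let X : (End ℂ (Fin d → ℂ))ˣ := σ.toHomUnits k
    set R' : (End ℂ (Fin d → ℂ))ˣ := (J2 (Q k₁))⁻¹ * X with hR'
    have hR'R : InR (R' : End ℂ (Fin d → ℂ)) := hmkR k₁ X fun n => by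
      show σ k * σ (ι n) = σ (ι (MulAut.conjNormal k₁ n)) * σ k
      rw [← map_mul, ← map_mul]
      congr 1
      exact Subtype.ext (by simp [ι, k])
    have hk : σ k = jN (Q k₁) * (R' : End ℂ (Fin d → ℂ)) := by
      rw [hR', ← hJ2, Units.val_mul, Units.mul_inv_cancel_left]
      rfl
    let x : K := MulAut.conjNormal a₁ k * k⁻¹
    have hxN : (x : G) ∉ N := by
      simpa [x, k, commutatorElement_def] using hak
    let Pa := P a₁
    have hPa : (Pa : End ℂ (Fin d → ℂ)) = μ • jN (Q a₁) := by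
      have h : (Pa : End ℂ (Fin d → ℂ)) = jN (Q a₁) * π a₁ := by
        rw [← hJ2, Units.val_mul, Units.mul_inv_cancel_left]
      rw [h, hμ, mul_smul_comm, mul_one]
    let Y : End ℂ (Fin dn → ℂ) := (Q a₁ * Q k₁ * (Q a₁)⁻¹ * (Q k₁)⁻¹ : (End ℂ (Fin dn → ℂ))ˣ)
    have hx : σ x = jN Y := by
      have h := hP a₁ k
      rw [hPa, smul_mul_assoc, mul_smul_comm] at h
      have hμ0 : μ ≠ 0 := by
        rintro rfl
        rw [zero_smul] at hμ
        exact (π a₁).ne_zero hμ
      have h' := smul_right_injective _ hμ0 h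
      have hs : σ x = σ (MulAut.conjNormal a₁ k) * σ k⁻¹ := map_mul _ _ _
      have hconj : σ (MulAut.conjNormal a₁ k) =
          jN (Q a₁) * σ k * jN (((Q a₁)⁻¹ : (End ℂ (Fin dn → ℂ))ˣ)) := by
        rw [h', mul_assoc, ← map_mul, Units.mul_inv, map_one, mul_one]
      rw [hs, hconj, hk]
      have hki : σ k⁻¹ = ((R'⁻¹ : (End ℂ (Fin d → ℂ))ˣ) : End ℂ (Fin d → ℂ)) *
          jN (((Q k₁)⁻¹ : (End ℂ (Fin dn → ℂ))ˣ)) := by
        have h1 : σ k⁻¹ = ((X⁻¹ : (End ℂ (Fin d → ℂ))ˣ) : End ℂ (Fin d → ℂ)) := by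
          rw [← map_inv σ.toHomUnits]; rfl
        rw [h1, show X = J2 (Q k₁) * R' by rw [hR', mul_inv_cancel_left], mul_inv_rev, Units.val_mul,
          ← map_inv J2, hJ2]
      rw [hki]
      have hswap := hRjN hR'R (((Q a₁)⁻¹ : (End ℂ (Fin dn → ℂ))ˣ) : End ℂ (Fin dn → ℂ))
      simp only [mul_assoc]
      rw [← mul_assoc (R' : End ℂ (Fin d → ℂ)) (jN _), hswap]
      simp only [mul_assoc, Units.mul_inv_cancel_left, Y, Units.val_mul, map_mul]
    have hzero : ∀ Z, LinearMap.trace ℂ (Fin d → ℂ) (jN Z * σ x⁻¹) = 0 := by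
      intro Z
      induction mem_span_range_of_irreducible τ Z using Submodule.span_induction with
      | mem y hy =>
        obtain ⟨n, rfl⟩ := hy
        rw [hjN, ← map_mul]
        refine hσvan _ fun hmem => hxN ?_
        rw [Subgroup.coe_mul, Subgroup.coe_inv] at hmem
        exact N.inv_mem_iff.mp ((N.mul_mem_cancel_left n.2).mp hmem)
      | zero => simp
      | add p q _ _ hp hq => rw [map_add, add_mul, map_add, hp, hq, add_zero]
      | smul a p _ hp => rw [map_smul, smul_mul_assoc, map_smul, hp, smul_zero]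
    have h := hzero Y
    rw [← hx, ← map_mul, mul_inv_cancel, map_one, LinearMap.trace_one] at h
    exact (finrank_pos_of_isIrreducible σ).ne' (by exact_mod_cast h)
  -- the transfer to the multiplicity space
  obtain ⟨dh, θ, hθ, rfl⟩ := hψ
  haveI := hθ
  let ρH : Representation ℂ H (Fin m → ℂ) := ρ.comp H.subtype
  have hmult : classInner ρH.character θ.character = 1 := by
    have h : classInner ρ.character ρ.character = 1 :=
      IsIrrCharacter.classInner_self (isIrrCharacter_of_rep ρ)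
    conv_lhs at h => arg 2; rw [← hind]
    rw [classInner_indFun_right H _ (IsCharacter.isClassFunction (isCharacter_of_rep ρ))] at h
    exact h
  haveI : Nontrivial (θ.IntertwiningMap ρH) := by
    refine Module.nontrivial_of_finrank_pos (R := ℂ) ?_
    have h := classInner_char_eq_finrank θ ρH
    rw [hmult] at h
    have h' : 1 = finrank ℂ (θ.IntertwiningMap ρH) := by exact_mod_cast h
    omega
  obtain ⟨F, hF⟩ := exists_ne (0 : θ.IntertwiningMap ρH)
  have hFi : Function.Injective F :=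
    (Representation.IsIrreducible.injective_or_eq_zero F).resolve_right hF
  obtain ⟨C, hC⟩ := exists_isCompl_toSubmodule ρH F.range
  let e₀ : End ℂ (Fin m → ℂ) := F.range.toSubmodule.projection C.toSubmodule hC
  have he₀ : IsIdempotentElem e₀ := Submodule.isIdempotentElem_projection hC
  have he₀H : ∀ h ∈ H, ρ h * e₀ = e₀ * ρ h := by
    intro h hh
    refine LinearMap.ext fun x => ?_
    obtain ⟨y, hy, z, hz, rfl⟩ := Submodule.mem_sup.mp (hC.sup_eq_top ▸ Submodule.mem_top (x := x))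
    have hy' : ρ h y ∈ F.range.toSubmodule := F.range.apply_mem_toSubmodule ⟨h, hh⟩ hy
    have hz' : ρ h z ∈ C.toSubmodule := C.apply_mem_toSubmodule ⟨h, hh⟩ hz
    simp only [Module.End.mul_apply, map_add, e₀]
    rw [Submodule.projection_apply_of_mem_left hC hy, Submodule.projection_apply_of_mem_left hC hy',
      (Submodule.projection_apply_eq_zero_iff hC).mpr hz,
      (Submodule.projection_apply_eq_zero_iff hC).mpr hz', map_zero]
  have he₀t : LinearMap.trace ℂ (Fin m → ℂ) e₀ = (dh : ℂ) := by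
    rw [LinearMap.IsProj.trace ((LinearMap.isProj_range_iff_isIdempotentElem e₀).mpr he₀)]
    rw [Submodule.range_projection hC]
    have : finrank ℂ (LinearMap.range F.toLinearMap) = dh := by
      rw [LinearMap.finrank_range_of_inj hFi, finrank_fin_fun]
    exact_mod_cast this
  have hHidx : H.index = N'.index := by
    refine (Nat.card_eq_of_bijective (fun x : K ⧸ N' => Quotient.liftOn' x
      (fun k => (QuotientGroup.mk (k : G) : G ⧸ H)) ?_) ⟨?_, ?_⟩).symm
    · intro a b hab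
      rw [QuotientGroup.leftRel_apply] at hab
      exact QuotientGroup.eq.mpr (hNH hab)
    · intro x y
      induction x using QuotientGroup.induction_on with | _ a =>
      induction y using QuotientGroup.induction_on with | _ b =>
      intro hab
      exact QuotientGroup.eq.mpr
        (hinf _ (K.mul_mem (K.inv_mem a.2) b.2) (QuotientGroup.eq.mp hab))
    · intro y
      induction y using QuotientGroup.induction_on with | _ g =>
      obtain ⟨k, hk, h, hh, rfl⟩ := hdec g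
      refine ⟨QuotientGroup.mk (⟨k, hk⟩ : K), QuotientGroup.eq.mpr ?_⟩
      simpa using hh
  have hm : m = N'.index * dh := by
    have h := congrFun hind 1
    rw [indFun_one, θ.char_one, ρ.char_one, finrank_fin_fun, finrank_fin_fun, hHidx] at h
    exact_mod_cast h.symm
  let E : K → End ℂ (Fin m → ℂ) := fun k => ρ k * e₀ * ρ (k : G)⁻¹
  obtain ⟨c₁, hc₁⟩ := exists_smul_of_commute ρ (∑ k, E k) fun g => by
    obtain ⟨k', hk', h, hh, rfl⟩ := hdec g
    rw [Finset.sum_mul, Finset.mul_sum, eq_comm]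
    refine Fintype.sum_equiv ((MulAut.conjNormal h).toEquiv.trans (Equiv.mulLeft ⟨k', hk'⟩)) _ _
      fun k => ?_
    simp only [E, Equiv.trans_apply, MulEquiv.toEquiv_eq_coe, MulEquiv.coe_toEquiv,
      Equiv.coe_mulLeft, Subgroup.coe_mul, MulAut.conjNormal_apply]
    calc ρ (k' * h) * (ρ k * e₀ * ρ (k : G)⁻¹)
        = ρ (k' * h * k) * e₀ * ρ (k : G)⁻¹ := by simp only [map_mul, mul_assoc]
      _ = ρ (k' * (h * k * h⁻¹)) * (ρ h * e₀) * ρ (k : G)⁻¹ := by
          rw [← mul_assoc, ← map_mul]; congr 3; group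
      _ = ρ (k' * (h * k * h⁻¹)) * e₀ * ρ (h * (k : G)⁻¹) := by
          rw [he₀H h hh, map_mul ρ h]; simp only [mul_assoc]
      _ = ρ (k' * (h * k * h⁻¹)) * e₀ * ρ ((k' * (h * k * h⁻¹))⁻¹) * ρ (k' * h) := by
          rw [mul_assoc _ _ (ρ (k' * h)), ← map_mul]; congr 2; group
  rw [← Module.End.one_eq_id] at hc₁
  have hKcard : Nat.card K = Nat.card N' * N'.index := N'.card_mul_index.symm
  have hc₁N : c₁ = (Nat.card N' : ℂ) := by
    have h := congrArg (LinearMap.trace ℂ (Fin m → ℂ)) hc₁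
    rw [map_sum, map_smul, LinearMap.trace_one, smul_eq_mul, finrank_fin_fun] at h
    have hE : ∀ k : K, LinearMap.trace ℂ (Fin m → ℂ) (E k) = (dh : ℂ) := fun k => by
      rw [← he₀t, LinearMap.trace_mul_cycle, ← map_mul, inv_mul_cancel, map_one, one_mul]
    rw [Finset.sum_congr rfl fun k _ => hE k, Finset.sum_const, Finset.card_univ,
      ← Nat.card_eq_fintype_card, nsmul_eq_mul, hKcard, hm] at h
    push_cast at h
    rw [mul_assoc] at h
    refine (mul_right_cancel₀ ?_ h).symm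
    have hm0 : (m : ℂ) ≠ 0 := by
      intro h0; exact hχ1 (by rw [ρ.char_one, finrank_fin_fun, h0])
    rw [hm] at hm0
    exact_mod_cast hm0
  have hEN : ∀ k n : K, n ∈ N' → E (k * n) = E k := by
    intro k n hn
    simp only [E, Subgroup.coe_mul, map_mul, mul_inv_rev]
    rw [mul_assoc (ρ k) (ρ (n : G)), he₀H (n : G) (hNH hn), ← mul_assoc (ρ k), mul_assoc _ (ρ (n : G)),
      ← mul_assoc (ρ (n : G)), ← map_mul, mul_inv_cancel, map_one, one_mul]
  have horthK : ∀ k : K, k ∉ N' → E k * e₀ = 0 := by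
    intro k hk
    haveI := Fintype.ofFinite (K ⧸ N')
    let E' : K ⧸ N' → End ℂ (Fin m → ℂ) := fun x => E x.out
    have hE' : ∀ j : K, E' (QuotientGroup.mk j) = E j := fun j => by
      obtain ⟨n, hn⟩ := QuotientGroup.mk_out_eq_mul N' j
      simp only [E', hn]
      exact hEN j n n.2
    have hid : ∀ x, IsIdempotentElem (E' x) := fun x => by
      show E x.out * E x.out = E x.out
      calc E x.out * E x.out
          = ρ (x.out : G) * e₀ * (ρ (x.out : G)⁻¹ * ρ (x.out : G)) * e₀ * ρ (x.out : G)⁻¹ := by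
            simp only [E, mul_assoc]
        _ = ρ (x.out : G) * (e₀ * e₀) * ρ (x.out : G)⁻¹ := by
            rw [← map_mul, inv_mul_cancel, map_one, mul_one, mul_assoc (ρ _) e₀ e₀]
        _ = E x.out := by rw [he₀]
    have hsum : ∑ x, E' x = 1 := by
      have h1 : ∑ j, E j = (Nat.card N' : ℂ) • ∑ x, E' x := by
        rw [Finset.smul_sum, ← Finset.sum_fiberwise Finset.univ (fun j : K => (QuotientGroup.mk j : K ⧸ N'))]
        refine Finset.sum_congr rfl fun x _ => ?_
        rw [Finset.sum_congr rfl fun j hj => (hE' j).symm.trans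
          (congrArg E' (Finset.mem_filter.mp hj).2), Finset.sum_const, Nat.cast_smul_eq_nsmul]
        congr 1
        rw [← Fintype.card_subtype, ← Nat.card_eq_fintype_card]
        have h := QuotientGroup.card_preimage_mk N' ({x} : Set (K ⧸ N'))
        rw [Nat.card_unique (α := ({x} : Set (K ⧸ N'))), mul_one] at h
        exact h
      rw [hc₁, hc₁N] at h1
      exact (smul_right_injective _ natCard_ne_zero_complex h1).symm
    have h := mul_eq_zero_of_sum_idempotent E' hid hsum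
      (i := QuotientGroup.mk k) (l := QuotientGroup.mk 1) fun h => hk (by
        simpa using (QuotientGroup.eq.mp h.symm))
    rw [hE', hE'] at h
    simpa [E] using h
  let Φ : End ℂ (Fin d → ℂ) → End ℂ (Fin m → ℂ) := fun T =>
    (Nat.card N' : ℂ)⁻¹ • ∑ k : K, ρ k * jK T * e₀ * ρ (k : G)⁻¹
  have hΦK : ∀ T (k : K), Φ T * ρ k = ρ k * Φ T := by
    intro T k
    simp only [Φ, smul_mul_assoc, mul_smul_comm, Finset.sum_mul, Finset.mul_sum]
    congr 1
    refine Fintype.sum_equiv (Equiv.mulLeft k⁻¹) _ _ fun j => ?_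
    simp only [Equiv.coe_mulLeft, Subgroup.coe_mul, Subgroup.coe_inv, mul_inv_rev, inv_inv]
    simp only [← mul_assoc, ← map_mul, mul_inv_cancel, one_mul]
    simp only [mul_assoc, ← map_mul]
  have hΦe : ∀ T, InR T → Φ T * e₀ = jK T * e₀ := by
    intro T hT
    simp only [Φ, smul_mul_assoc, Finset.sum_mul]
    rw [← Finset.sum_filter_add_sum_filter_not Finset.univ (· ∈ N'),
      Finset.sum_eq_zero (s := Finset.univ.filter (¬ · ∈ N')) (fun k hk => ?_),
      Finset.sum_congr (s₁ := Finset.univ.filter (· ∈ N')) rfl fun k hk => show ρ k * jK T * e₀ * ρ (k : G)⁻¹ * e₀ = jK T * e₀ from ?_,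
      add_zero, Finset.sum_const, ← Nat.cast_smul_eq_nsmul ℂ, smul_smul, ← Fintype.card_subtype,
      ← Nat.card_eq_fintype_card, inv_mul_cancel₀ natCard_ne_zero_complex, one_smul]
    · have hkN : (k : G) ∈ N := (Finset.mem_filter.mp hk).2
      have h1 : ρ (k : G) * jK T = jK T * ρ (k : G) := by
        rw [← hjK k, ← map_mul, ← map_mul]
        exact congrArg jK (hT ⟨k, hkN⟩).symm
      calc ρ k * jK T * e₀ * ρ (k : G)⁻¹ * e₀
          = jK T * (ρ k * e₀ * ρ (k : G)⁻¹) * e₀ := by rw [h1]; simp only [mul_assoc]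
        _ = jK T * (e₀ * e₀) := by
            rw [he₀H _ (hNH hkN), mul_assoc e₀, ← map_mul, mul_inv_cancel, map_one, mul_one,
              mul_assoc]
        _ = jK T * e₀ := by rw [he₀]
    · have hk' := horthK k (Finset.mem_filter.mp hk).2
      calc ρ k * jK T * e₀ * ρ (k : G)⁻¹ * e₀
          = ρ k * jK T * (ρ (k : G)⁻¹ * (ρ k * e₀ * ρ (k : G)⁻¹ * e₀)) := by
            simp only [← mul_assoc, mul_assoc _ (ρ (k : G)⁻¹) (ρ (k : G)), ← map_mul, inv_mul_cancel,
              map_one, mul_one]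
        _ = 0 := by rw [show ρ k * e₀ * ρ (k : G)⁻¹ * e₀ = 0 from hk', mul_zero, mul_zero]
  have hext : ∀ X Y : End ℂ (Fin m → ℂ), (∀ k : K, X * ρ k = ρ k * X) →
      (∀ k : K, Y * ρ k = ρ k * Y) → X * e₀ = Y * e₀ → X = Y := by
    intro X Y hX hY h
    have h1 : X * ∑ k, E k = Y * ∑ k, E k := by
      rw [Finset.mul_sum, Finset.mul_sum]
      refine Finset.sum_congr rfl fun k _ => ?_
      simp only [E, ← mul_assoc, hX, hY]
      rw [mul_assoc _ X, mul_assoc _ Y, h]
    rw [hc₁, mul_smul_comm, mul_smul_comm, mul_one, mul_one, hc₁N] at h1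
    exact smul_right_injective _ natCard_ne_zero_complex h1
  have hΦmul : ∀ S T, InR S → InR T → Φ S * Φ T = Φ (T * S) := by
    intro S T hS hT
    refine hext _ _ (fun k => by rw [mul_assoc, hΦK, ← mul_assoc, hΦK, mul_assoc]) (hΦK _) ?_
    rw [mul_assoc, hΦe T hT, ← mul_assoc, hspanK (hΦK S), mul_assoc, hΦe S hS, ← mul_assoc,
      ← map_mul, hΦe _ (hRmul hT hS)]
  have hΦsmul : ∀ (a : ℂ) T, Φ (a • T) = a • Φ T := by
    intro a T
    simp only [Φ, map_smul, mul_smul_comm, smul_mul_assoc, ← Finset.smul_sum]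
    rw [smul_comm]
  have hΦone : Φ 1 = 1 := by
    refine hext _ _ (hΦK 1) (fun k => by simp) ?_
    rw [hΦe 1 (fun n => by simp), map_one]
  have hΦns : ∀ μ : ℂ, Φ (π a₁) ≠ μ • 1 := by
    intro μ hμ
    refine hπns μ (sub_eq_zero.mp ?_)
    set T : End ℂ (Fin d → ℂ) := (π a₁ : End ℂ (Fin d → ℂ)) - μ • 1 with hT
    have hTR : InR T := fun n => by
      rw [hT, sub_mul, mul_sub, hπR a₁ n, smul_mul_assoc, one_mul, mul_smul_comm, mul_one]
    have hTe : jK T * e₀ = 0 := by
      rw [hT, map_sub, sub_mul, ← hΦe _ (hπR a₁), hμ, map_smul, map_one, sub_self]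
    refine hjKi ?_
    rw [map_zero]
    have h1 : jK T * ∑ k, E k = 0 := by
      rw [Finset.mul_sum]
      refine Finset.sum_eq_zero fun k _ => ?_
      let X : (End ℂ (Fin d → ℂ))ˣ := σ.toHomUnits k
      set R' : (End ℂ (Fin d → ℂ))ˣ := (J2 (Q k))⁻¹ * X with hR'
      have hR'R : InR (R' : End ℂ (Fin d → ℂ)) := hmkR k X fun n => by
        show σ k * σ (ι n) = σ (ι (MulAut.conjNormal (k : G) n)) * σ k
        rw [← map_mul, ← map_mul]
        congr 1
        exact Subtype.ext (by simp [ι])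
      have hk : ρ k = jK (jN (Q k)) * jK (R' : End ℂ (Fin d → ℂ)) := by
        rw [← map_mul, hR', ← hJ2, Units.val_mul, Units.mul_inv_cancel_left, ← hjK k]
        rfl
      have h2 : jK T * ρ k * e₀ = 0 := by
        calc jK T * ρ k * e₀ = jK (jN (Q k)) * jK T * (jK (R' : End ℂ (Fin d → ℂ)) * e₀) := by
              rw [hk, ← mul_assoc (jK T), ← map_mul jK T, hRjN hTR, map_mul, mul_assoc]
          _ = jK (jN (Q k)) * (Φ R' * (jK T * e₀)) := by
              rw [← hΦe _ hR'R, mul_assoc _ (jK T), ← mul_assoc (jK T) (Φ _),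
                ← hspanK (hΦK R') T, mul_assoc]
          _ = 0 := by rw [hTe, mul_zero, mul_zero]
      simp only [E, ← mul_assoc, h2, zero_mul]
    rw [hc₁, mul_smul_comm, mul_one, hc₁N] at h1
    exact (smul_eq_zero.mp h1).resolve_left natCard_ne_zero_complex
  -- the commuting family
  let S : Set (End ℂ (Fin m → ℂ)) :=
    {X | ∃ a ∈ A, ∃ u : (End ℂ (Fin d → ℂ))ˣ, Ind a u ∧ X = Φ u}
  have hScomm : ∀ x ∈ S, ∀ y ∈ S, x * y = y * x := by
    rintro _ ⟨a, ha, u, hu, rfl⟩ _ ⟨b, hb, v, hv, rfl⟩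
    rw [hΦmul _ _ hu.1 hv.1, hΦmul _ _ hv.1 hu.1, hcommR ha hb hu hv]
  have hpowΦ : ∀ (u : End ℂ (Fin d → ℂ)) (_ : InR u) (j : ℕ), Φ u ^ j = Φ (u ^ j) ∧ InR (u ^ j) := by
    intro u hu j
    induction j with
    | zero => exact ⟨by rw [pow_zero, pow_zero, hΦone], fun n => by simp⟩
    | succ j ih =>
      exact ⟨by rw [pow_succ, ih.1, hΦmul _ _ ih.2 hu, ← pow_succ'],
        by rw [pow_succ]; exact hRmul ih.2 hu⟩
  obtain ⟨w, hw0, hw⟩ := hpow ha₁ (hIndπ a₁)
  obtain ⟨e', heA, heid, he0, he1, hemin⟩ := exists_minimal_idempotent S hScomm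
    (T := Φ (π a₁)) ⟨a₁, ha₁, π a₁, hIndπ a₁, rfl⟩ hr.pos hw0
    (by rw [(hpowΦ _ (hπR a₁) r).1, hw, hΦsmul, hΦone]) hΦns
  have hAK : ∀ X ∈ Algebra.adjoin ℂ S, ∀ k : K, X * ρ k = ρ k * X := by
    intro X hX k
    induction hX using Algebra.adjoin_induction with
    | mem x hx => obtain ⟨a, -, u, -, rfl⟩ := hx; exact hΦK _ k
    | algebraMap a => exact Algebra.commutes a _
    | add x y _ _ hx hy => rw [add_mul, mul_add, hx, hy]
    | mul x y _ _ hx hy => rw [mul_assoc, hy, ← mul_assoc, hx, mul_assoc]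
  have hAH' : ∀ h ∈ H, ∀ X ∈ Algebra.adjoin ℂ S, ρ h * X * ρ h⁻¹ ∈ Algebra.adjoin ℂ S := by
    intro h hh X hX
    have hhh : ρ h⁻¹ * ρ h = 1 := by rw [← map_mul, inv_mul_cancel, map_one]
    induction hX using Algebra.adjoin_induction with
    | mem x hx =>
      obtain ⟨a, ha, u, hu, rfl⟩ := hx
      refine Algebra.subset_adjoin ⟨h * a * h⁻¹, hAinv h hh a ha, π h * u * (π h)⁻¹,
        hIndmul (hIndmul (hIndπ h) hu) (hIndinv (hIndπ h)), ?_⟩
      refine hext _ _ (fun k => ?_) (hΦK _) ?_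
      · have hc := hΦK u (MulAut.conjNormal h⁻¹ k)
        simp only [MulAut.conjNormal_apply, inv_inv, map_mul] at hc
        calc ρ h * Φ u * ρ h⁻¹ * ρ k
            = ρ h * (Φ u * (ρ h⁻¹ * ρ k * ρ h)) * ρ h⁻¹ := by
              simp only [mul_assoc, ← map_mul, mul_inv_cancel, mul_one]
          _ = ρ h * ((ρ h⁻¹ * ρ k * ρ h) * Φ u) * ρ h⁻¹ := by rw [hc]
          _ = ρ k * (ρ h * Φ u * ρ h⁻¹) := by
              simp only [← mul_assoc, ← map_mul, mul_inv_cancel, one_mul]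
      · rw [Units.val_mul, Units.val_mul, hΦe _ (hRmul (hRmul (hπR h) hu.1) (hRinv (hπR h)))]
        rw [mul_assoc _ (ρ h⁻¹), he₀H _ (H.inv_mem hh), ← mul_assoc, mul_assoc (ρ h), hΦe _ hu.1,
          ← mul_assoc, (hIndπ h).2 _ hu.1, mul_assoc _ e₀, ← he₀H _ (H.inv_mem hh), mul_assoc,
          ← mul_assoc (ρ h), ← map_mul, mul_inv_cancel, map_one, one_mul]
    | algebraMap a =>
      rw [← Algebra.commutes, mul_assoc, ← map_mul, mul_inv_cancel, map_one, mul_one]
      exact Subalgebra.algebraMap_mem _ a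
    | add x y _ _ hx hy => rw [mul_add, add_mul]; exact Subalgebra.add_mem _ hx hy
    | mul x y _ _ hx hy =>
      have h2 : ρ h * (x * y) * ρ h⁻¹ = (ρ h * x * ρ h⁻¹) * (ρ h * y * ρ h⁻¹) := by
        calc ρ h * (x * y) * ρ h⁻¹ = ρ h * x * (ρ h⁻¹ * ρ h) * y * ρ h⁻¹ := by
              rw [hhh]; simp [mul_assoc]
          _ = _ := by simp only [mul_assoc]
      rw [h2]
      exact Subalgebra.mul_mem _ hx hy
  have horth : ∀ g, ρ g * e' * ρ g⁻¹ = e' ∨ ρ g * e' * ρ g⁻¹ * e' = 0 := by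
    intro g
    obtain ⟨k, hk, h, hh, rfl⟩ := hdec g
    have hmem : ρ (k * h) * e' * ρ (k * h)⁻¹ ∈ Algebra.adjoin ℂ S := by
      have h2 : ρ (k * h) * e' * ρ (k * h)⁻¹ = ρ h * e' * ρ h⁻¹ := by
        have h3 := hAK _ (hAH' h hh e' heA) ⟨k, hk⟩
        rw [mul_inv_rev, map_mul, map_mul]
        calc ρ k * ρ h * e' * (ρ h⁻¹ * ρ k⁻¹) = ρ k * (ρ h * e' * ρ h⁻¹) * ρ k⁻¹ := by
              simp only [mul_assoc]
          _ = _ := by rw [← h3, mul_assoc _ (ρ k), ← map_mul, mul_inv_cancel, map_one, mul_one]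
      rw [h2]
      exact hAH' h hh e' heA
    refine hemin _ hmem ?_ ?_
    · calc ρ (k * h) * e' * ρ (k * h)⁻¹ * (ρ (k * h) * e' * ρ (k * h)⁻¹)
          = ρ (k * h) * e' * (ρ (k * h)⁻¹ * ρ (k * h)) * e' * ρ (k * h)⁻¹ := by
            simp only [mul_assoc]
        _ = ρ (k * h) * (e' * e') * ρ (k * h)⁻¹ := by
            rw [← map_mul, inv_mul_cancel, map_one, mul_one, mul_assoc _ e' e']
        _ = ρ (k * h) * e' * ρ (k * h)⁻¹ := by rw [heid]
    · rw [LinearMap.trace_mul_cycle, ← map_mul, inv_mul_cancel, map_one, one_mul]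
  obtain ⟨J, ψ', hJ, hmemJ, hψ', hind'⟩ := exists_indFun_of_idempotent ρ heid he0 he1 horth
  have hKJ : K ≤ J := fun k hk => hmemJ k (hAK e' heA ⟨k, hk⟩).symm
  exact ⟨J, ψ', hJ, (hLN.trans hNK.le).trans hKJ,
    lt_of_lt_of_le hNK (Subgroup.normal_le_normalCore.mpr hKJ), hψ', hind'⟩

theorem exists_irr_of_indFun_eq {H : Subgroup G} {ψ : H → ℂ} (hψ : IsCharacter H ψ) {χ : G → ℂ}
    (hχ : IsIrrCharacter G χ) (hind : indFun H ψ = χ) : IsIrrCharacter H ψ := by
  haveI := Fintype.ofFinite H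
  haveI := Fintype.ofFinite (IrrCharacter H)
  obtain ⟨m, -, hm⟩ := IsCharacter.exists_nat_decomp hψ
  obtain ⟨k, hk⟩ := IsCharacter.exists_classInner_nat hψ hψ
  obtain ⟨j, hj⟩ := IsCharacter.exists_classInner_nat
    (IsCharacter.restrict (IsIrrCharacter.isCharacter hχ) H) hψ
  rw [IsCharacter.isIrr_iff hψ]
  have h1 := IsIrrCharacter.classInner_self hχ
  conv_lhs at h1 => arg 2; rw [← hind]
  rw [classInner_indFun_right H ψ (IsCharacter.isClassFunction (IsIrrCharacter.isCharacter hχ))] at h1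
  obtain ⟨θ, hθ⟩ := IsCharacter.exists_constituent hψ fun h => by
    rw [h, indFun_zero] at hind
    exact IsIrrCharacter.ne_zero hχ hind.symm
  obtain ⟨ψ₂, hψ₂, heq⟩ := IsCharacter.exists_add_of_classInner_ne_zero hψ θ.2 hθ
  rw [heq, indFun_add] at hind
  obtain ⟨a, ha⟩ := IsCharacter.exists_classInner_nat (IsCharacter.indFun H (irr_isCharacter θ))
    (IsCharacter.indFun H (irr_isCharacter θ))
  obtain ⟨b, hb⟩ := IsCharacter.exists_classInner_nat (IsCharacter.indFun H hψ₂)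
    (IsCharacter.indFun H hψ₂)
  obtain ⟨ab, hab⟩ := IsCharacter.exists_classInner_nat (IsCharacter.indFun H (irr_isCharacter θ))
    (IsCharacter.indFun H hψ₂)
  have hba : classInner (indFun H ψ₂) (indFun H (θ : H → ℂ)) = (ab : ℂ) := by
    rw [← classInner_conj_symm, hab, map_natCast]
  have h2 := IsIrrCharacter.classInner_self hχ
  rw [← hind, classInner_add_left, classInner_add_right, classInner_add_right, ha, hb, hab, hba] at h2
  have h2' : a + ab + (ab + b) = 1 := by exact_mod_cast h2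
  have ha0 : a ≠ 0 := fun h0 => by
    rw [h0, Nat.cast_zero] at ha
    have h := congrFun (classInner_self_eq_zero ha) 1
    rw [indFun_one, Pi.zero_apply, mul_eq_zero] at h
    exact h.elim (fun h => Subgroup.index_ne_zero_of_finite (by exact_mod_cast h))
      (IsIrrCharacter.apply_one_ne_zero θ.2)
  have hb0 : b = 0 := by omega
  rw [hb0, Nat.cast_zero] at hb
  have h3 := congrFun (classInner_self_eq_zero hb) 1
  rw [indFun_one, Pi.zero_apply, mul_eq_zero] at h3
  obtain ⟨d, σ, hσ⟩ := hψ₂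
  have hd : d = 0 := by
    have h4 := h3.resolve_left (by exact_mod_cast Subgroup.index_ne_zero_of_finite)
    rw [← hσ, σ.char_one, finrank_fin_fun] at h4
    exact_mod_cast h4
  subst hd
  have hz : ψ₂ = 0 := by
    rw [← hσ]
    funext g
    show LinearMap.trace ℂ _ (σ g) = 0
    rw [show σ g = 0 from LinearMap.ext fun x => Subsingleton.elim _ _, map_zero]
  rw [heq, hz, add_zero]
  exact IsIrrCharacter.classInner_self θ.2

/-- Berger's theorem, relative to a normal subgroup with solvable quotient. -/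
theorem indFun_ne_of_quasiPrimitive (L : Subgroup G) [L.Normal] (hsolv : Group.IsSolvable (G ⧸ L))
    {χ : G → ℂ} (hχ : IsIrrCharacter G χ)
    (hqp : ∀ M : Subgroup G, M.Normal → L ≤ M → ∃ (φ : M → ℂ) (e : ℕ), IsIrrCharacter M φ ∧
      (fun x : M => χ x) = (e : ℂ) • φ)
    (H : Subgroup G) (hH : H ≠ ⊤) (hLH : L ≤ H) (ψ : H → ℂ) (hψ : IsCharacter H ψ) :
    indFun H ψ ≠ χ := by
  classical
  intro hind
  obtain ⟨m, ρ, hρ, rfl⟩ := hχ
  haveI := hρ
  have hbig : ∀ (J : Subgroup G) (ψ : J → ℂ), J ≠ ⊤ → L ≤ J → IsCharacter J ψ →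
      indFun J ψ = ρ.character → ∃ (H' : Subgroup G) (ψ' : H' → ℂ), IsCoatom H' ∧ L ≤ H' ∧
        J ≤ H' ∧ IsIrrCharacter H' ψ' ∧ indFun H' ψ' = ρ.character := by
    intro J ψ hJ hLJ hψ hind
    obtain ⟨H', hH', hJH⟩ := (eq_top_or_exists_le_coatom J).resolve_left hJ
    haveI := Fintype.ofFinite H'
    haveI := Fintype.ofFinite (J.subgroupOf H')
    have hc : IsCharacter H' (indFun (J.subgroupOf H')
        (fun x => ψ (Subgroup.subgroupOfEquivOfLe hJH x))) :=
      IsCharacter.indFun _ (IsCharacter.comp hψ (Subgroup.subgroupOfEquivOfLe hJH).toMonoidHom)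
    have h2 : indFun H' (indFun (J.subgroupOf H')
        (fun x => ψ (Subgroup.subgroupOfEquivOfLe hJH x))) = ρ.character := by
      rw [← hind]
      exact indFun_trans J H' hJH ψ
    exact ⟨H', _, hH', hLJ.trans hJH, hJH, exists_irr_of_indFun_eq hc (isIrrCharacter_of_rep ρ) h2, h2⟩
  obtain ⟨H₀, ψ₀, hH₀, hL₀, -, hψ₀, hind₀⟩ := hbig H ψ hH hLH hψ hind
  let 𝒮 : Set (Subgroup G) :=
    {X | IsCoatom X ∧ L ≤ X ∧ ∃ ψ' : X → ℂ, IsIrrCharacter X ψ' ∧ indFun X ψ' = ρ.character}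
  obtain ⟨X, hX, hmax⟩ := Finset.exists_max_image 𝒮.toFinite.toFinset
    (fun X => Nat.card X.normalCore)
    ⟨H₀, (Set.Finite.mem_toFinset _).mpr ⟨hH₀, hL₀, ψ₀, hψ₀, hind₀⟩⟩
  rw [Set.Finite.mem_toFinset] at hX
  obtain ⟨hXc, hXL, ψX, hψX, hindX⟩ := hX
  obtain ⟨J, ψJ, hJ, hLJ, hlt, hψJ, hindJ⟩ :=
    exists_induced_above_core L hsolv ρ hqp hXc hXL hψX hindX
  obtain ⟨Y, ψY, hY, hLY, hJY, hψY, hindY⟩ := hbig J ψJ hJ hLJ hψJ hindJ
  have hlt' := lt_of_lt_of_le hlt (Subgroup.normalCore_mono hJY)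
  have hle := hmax Y ((Set.Finite.mem_toFinset _).mpr ⟨hY, hLY, ψY, hψY, hindY⟩)
  exact hlt'.ne (Subgroup.eq_of_le_of_card_ge hlt'.le hle)

end Cfsg.Agent.Lib.Characters
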