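import Cfsg.Agent.Lib.Characters.Ortho

/-!
# Averaging class functions over an abelian normal subgroup

For an abelian normal subgroup `P` of a finite group `N`, the operator `avgFun P` sends a character
to the character of the fixed points of `P`.  At elements acting without fixed points on `P` it
leaves class functions unchanged.  Together with the function `cenFun`, induced from a central
subgroup, this gives the inequalities used in the proof of the Blichfeldt–Feit–Thompson theorem.
-/

namespace Cfsg.Agent.Lib.Characters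

open scoped ComplexConjugate

set_option linter.unusedSectionVars false
set_option linter.unusedSimpArgs false
set_option linter.unusedFintypeInType false
set_option linter.style.haveILetI false

universe u

variable {N : Type u} [Group N]

/-- The average of a function over the cosets of a subgroup. -/
noncomputable def avgFun (P : Subgroup N) [Fintype P] (f : N → ℂ) : N → ℂ :=
  fun g => (Nat.card P : ℂ)⁻¹ * ∑ y : P, f (g * (y : N))

/-- `g` centralises no nontrivial element of `P`. -/
def IsFixedPointFreeOn (P : Subgroup N) (g : N) : Prop :=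
  ∀ y ∈ P, g * y = y * g → y = 1

/-- `f` transforms under left multiplication by `Z` through `ω`. -/
def IsCovariant (Z : Subgroup N) (ω : N → ℂ) (f : N → ℂ) : Prop :=
  ∀ z ∈ Z, ∀ g, f (z * g) = ω z * f g

/-- The class function induced from the function `ω` on a central subgroup `Z`. -/
noncomputable def cenFun (Z : Subgroup N) (ω : N → ℂ) : N → ℂ :=
  fun g => haveI := Classical.propDecidable (g ∈ Z); if g ∈ Z then (Z.index : ℂ) * ω g else 0

section Avg

variable (P : Subgroup N) [Fintype P]

theorem avgFun_apply_mul (f : N → ℂ) (g : N) {y : N} (hy : y ∈ P) :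
    avgFun P f (g * y) = avgFun P f g := by
  unfold avgFun
  congr 1
  exact Fintype.sum_equiv (Equiv.mulLeft (⟨y, hy⟩ : P)) _ _ fun x => by simp [mul_assoc]

theorem avgFun_of_invariant {f : N → ℂ} (h : ∀ g, ∀ y ∈ P, f (g * y) = f g) :
    avgFun P f = f := by
  funext g
  have hP : (Nat.card P : ℂ) ≠ 0 := by exact_mod_cast Nat.card_pos.ne'
  unfold avgFun
  rw [Finset.sum_congr rfl fun (y : P) _ => h g (y : N) y.2, Finset.sum_const, Finset.card_univ,
    ← Nat.card_eq_fintype_card, nsmul_eq_mul, inv_mul_cancel_left₀ hP]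

theorem avgFun_avgFun (f : N → ℂ) : avgFun P (avgFun P f) = avgFun P f :=
  avgFun_of_invariant P fun g _ hy => avgFun_apply_mul P f g hy

theorem avgFun_sub (f h : N → ℂ) : avgFun P (f - h) = avgFun P f - avgFun P h := by
  funext g
  simp [avgFun, Finset.sum_sub_distrib, mul_sub]

theorem avgFun_smul (c : ℂ) (f : N → ℂ) : avgFun P (c • f) = c • avgFun P f := by
  funext g
  simp only [avgFun, Pi.smul_apply, smul_eq_mul, ← Finset.mul_sum]
  ring

theorem avgFun_sum {ι : Type*} (s : Finset ι) (f : ι → N → ℂ) :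
    avgFun P (∑ i ∈ s, f i) = ∑ i ∈ s, avgFun P (f i) := by
  funext g
  simp only [avgFun, Finset.sum_apply, ← Finset.mul_sum]
  rw [Finset.sum_comm]

theorem avgFun_mul_of_invariant {h : N → ℂ} (hh : ∀ g, ∀ y ∈ P, h (g * y) = h g) (f : N → ℂ) :
    avgFun P (f * h) = avgFun P f * h := by
  funext g
  simp only [avgFun, Pi.mul_apply]
  rw [Finset.sum_congr rfl fun (y : P) _ => by rw [hh g (y : N) y.2], ← Finset.sum_mul, mul_assoc]

theorem avgFun_isCovariant {Z : Subgroup N} {ω f : N → ℂ} (h : IsCovariant Z ω f) :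
    IsCovariant Z ω (avgFun P f) := by
  intro z hz g
  simp only [avgFun, mul_assoc z g, h z hz, ← Finset.mul_sum]
  ring

theorem IsClassFunction.avgFun [hP : P.Normal] {f : N → ℂ} (hf : IsClassFunction N f) :
    IsClassFunction N (avgFun P f) := by
  intro g h
  unfold Characters.avgFun
  congr 1
  refine Fintype.sum_equiv ((MulEquiv.toEquiv (MulAut.conjNormal (H := P) h⁻¹))) _ _ fun y => ?_
  rw [← hf (g * _) h]
  simp [mul_assoc]

theorem classInner_avgFun_left [Fintype N] (f h : N → ℂ) :
    classInner (avgFun P f) h = classInner f (avgFun P h) := by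
  simp only [classInner, avgFun, map_mul, map_inv₀, map_natCast, map_sum, Finset.mul_sum,
    Finset.sum_mul]
  rw [Finset.sum_comm, Finset.sum_comm (t := (Finset.univ : Finset P))]
  refine Fintype.sum_equiv (Equiv.inv P) _ _ fun y => ?_
  refine Fintype.sum_equiv (Equiv.mulRight (y : N)) _ _ fun g => ?_
  simp only [Equiv.coe_mulRight, Equiv.inv_apply, InvMemClass.coe_inv, mul_inv_cancel_right]
  ring

/-- At a fixed-point-free element, a class function is constant on the coset. -/
theorem avgFun_eq_self_of_fixedPointFree [hP : P.Normal]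
    (hc : ∀ x ∈ P, ∀ y ∈ P, x * y = y * x) {f : N → ℂ} (hf : IsClassFunction N f) {g : N}
    (hg : IsFixedPointFreeOn P g) : avgFun P f g = f g := by
  have hmem : ∀ y : P, g⁻¹ * (y : N)⁻¹ * g * (y : N) ∈ P := fun y => P.mul_mem (by
    simpa using hP.conj_mem _ (P.inv_mem y.2) g⁻¹) y.2
  let c : P → P := fun y => ⟨_, hmem y⟩
  have hinj : Function.Injective c := by
    intro a b hab
    have h1 : g⁻¹ * (a : N)⁻¹ * g * (a : N) = g⁻¹ * (b : N)⁻¹ * g * (b : N) :=
      congrArg Subtype.val hab
    have h2 : (a : N)⁻¹ * g * (a : N) = (b : N)⁻¹ * g * (b : N) := by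
      simpa [mul_assoc] using h1
    have h3 : g * ((a : N) * (b : N)⁻¹) = ((a : N) * (b : N)⁻¹) * g := by
      calc g * ((a : N) * (b : N)⁻¹)
          = (a : N) * ((a : N)⁻¹ * g * (a : N)) * (b : N)⁻¹ := by group
        _ = (a : N) * ((b : N)⁻¹ * g * (b : N)) * (b : N)⁻¹ := by rw [h2]
        _ = ((a : N) * (b : N)⁻¹) * g := by group
    exact Subtype.ext (mul_inv_eq_one.mp (hg _ (P.mul_mem a.2 (P.inv_mem b.2)) h3))
  have hbij : Function.Bijective c := hinj.bijective_of_finite
  have hcst : ∀ y : P, f (g * (y : N)) = f g := by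
    intro y
    obtain ⟨a, rfl⟩ := hbij.2 y
    show f (g * (g⁻¹ * (a : N)⁻¹ * g * (a : N))) = f g
    rw [show g * (g⁻¹ * (a : N)⁻¹ * g * (a : N)) = (a : N)⁻¹ * g * ((a : N)⁻¹)⁻¹ by group]
    exact hf g _
  have hP0 : (Nat.card P : ℂ) ≠ 0 := by exact_mod_cast Nat.card_pos.ne'
  unfold avgFun
  rw [Finset.sum_congr rfl fun y _ => hcst y, Finset.sum_const, Finset.card_univ,
    ← Nat.card_eq_fintype_card, nsmul_eq_mul, inv_mul_cancel_left₀ hP0]

/-- The average of an irreducible character is the character or zero. -/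
theorem avgFun_irr [Finite N] [hP : P.Normal] (θ : IrrCharacter N) :
    avgFun P (θ : N → ℂ) = (θ : N → ℂ) ∨ avgFun P (θ : N → ℂ) = 0 := by
  obtain ⟨d, σ, hσ, hσθ⟩ := θ.2
  haveI := hσ
  set E : Module.End ℂ (Fin d → ℂ) := (Nat.card P : ℂ)⁻¹ • ∑ y : P, σ (y : N) with hE
  have hcomm : ∀ g, E * σ g = σ g * E := by
    intro g
    simp only [hE, smul_mul_assoc, mul_smul_comm, Finset.sum_mul, Finset.mul_sum, ← map_mul]
    congr 1
    refine Fintype.sum_equiv ((MulEquiv.toEquiv (MulAut.conjNormal (H := P) g⁻¹))) _ _ fun y => ?_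
    simp [mul_assoc]
  obtain ⟨c, hc⟩ := exists_smul_of_commute σ E hcomm
  have hval : avgFun P (θ : N → ℂ) = c • (θ : N → ℂ) := by
    funext g
    have h1 : LinearMap.trace ℂ _ (σ g * E) = c * (θ : N → ℂ) g := by
      rw [hc, ← hσθ]
      simp [Representation.character, ← Module.End.one_eq_id]
    rw [Pi.smul_apply, smul_eq_mul, ← h1, hE]
    simp [avgFun, ← hσθ, Representation.character, Finset.mul_sum, mul_smul_comm, map_mul]
  have hidem := avgFun_avgFun P (θ : N → ℂ)
  rw [hval, avgFun_smul, hval, smul_smul] at hidem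
  have h2 : c * c = c := by
    have h1 := congrFun hidem 1
    simp only [Pi.smul_apply, smul_eq_mul] at h1
    exact mul_right_cancel₀ (IsIrrCharacter.apply_one_ne_zero θ.2) h1
  rcases mul_eq_zero.mp (show c * (c - 1) = 0 by rw [mul_sub, h2, mul_one, sub_self]) with h | h
  · right; rw [hval, h, zero_smul]
  · left; rw [hval, sub_eq_zero.mp h, one_smul]

theorem IsCharacter.avgFun [Finite N] [hP : P.Normal] {f : N → ℂ} (hf : IsCharacter N f) :
    IsCharacter N (avgFun P f) := by
  haveI := Fintype.ofFinite N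
  haveI := Fintype.ofFinite (IrrCharacter N)
  obtain ⟨m, hm, -⟩ := IsCharacter.exists_nat_decomp hf
  rw [hm, avgFun_sum]
  refine IsCharacter.sum _ fun θ _ => ?_
  rw [avgFun_smul]
  refine IsCharacter.natCast_smul ?_ _
  rcases avgFun_irr P θ with h | h <;> rw [h]
  · exact irr_isCharacter θ
  · exact isCharacter_zero

theorem IsCharacter.sub_avgFun [Finite N] [hP : P.Normal] {f : N → ℂ} (hf : IsCharacter N f) :
    IsCharacter N (f - Characters.avgFun P f) := by
  haveI := Fintype.ofFinite N
  haveI := Fintype.ofFinite (IrrCharacter N)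
  obtain ⟨m, hm, -⟩ := IsCharacter.exists_nat_decomp hf
  rw [hm, avgFun_sum, ← Finset.sum_sub_distrib]
  refine IsCharacter.sum _ fun θ _ => ?_
  rw [avgFun_smul, ← smul_sub]
  refine IsCharacter.natCast_smul ?_ _
  rcases avgFun_irr P θ with h | h <;> rw [h]
  · rw [sub_self]; exact isCharacter_zero
  · rw [sub_zero]; exact irr_isCharacter θ

theorem classInner_avg_sub [Fintype N] (f h : N → ℂ) :
    classInner (avgFun P f) (h - avgFun P h) = 0 := by
  rw [classInner_avgFun_left, avgFun_sub, avgFun_avgFun, sub_self, classInner_zero_right]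

theorem classInner_avg_sub' [Fintype N] (f h : N → ℂ) :
    classInner (h - avgFun P h) (avgFun P f) = 0 := by
  rw [← classInner_conj_symm, classInner_avg_sub, map_zero]

theorem classInner_sub_avg [Fintype N] (f h : N → ℂ) :
    classInner f (h - avgFun P h) = classInner (f - avgFun P f) (h - avgFun P h) := by
  rw [classInner_sub_left f, classInner_avg_sub, sub_zero]

end Avg

section Cen

variable (Z : Subgroup N) (ω : N → ℂ)

theorem isClassFunction_cenFun (hZ : Z ≤ Subgroup.center N) :
    IsClassFunction N (cenFun Z ω) := by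
  classical
  intro g h
  by_cases hg : g ∈ Z
  · rw [show h * g * h⁻¹ = g by rw [Subgroup.mem_center_iff.mp (hZ hg) h, mul_inv_cancel_right]]
  · have : h * g * h⁻¹ ∉ Z := fun h' => hg (by
      have hh := Subgroup.mem_center_iff.mp (hZ h') h
      have h2 : g = h * g * h⁻¹ := by
        calc g = h⁻¹ * (h * (h * g * h⁻¹) * h⁻¹) * h := by rw [hh]; group
          _ = h * g * h⁻¹ := by group
      exact h2 ▸ h')
    simp only [cenFun, if_neg hg, if_neg this]

theorem cenFun_isCovariant (hmul : ∀ z ∈ Z, ∀ z' ∈ Z, ω (z * z') = ω z * ω z') :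
    IsCovariant Z ω (cenFun Z ω) := by
  classical
  intro z hz g
  by_cases hg : g ∈ Z
  · simp only [cenFun, if_pos hg, if_pos (Z.mul_mem hz hg), hmul z hz g hg]
    ring
  · have : z * g ∉ Z := fun h => hg ((Z.mul_mem_cancel_left hz).mp h)
    simp only [cenFun, if_neg hg, if_neg this, mul_zero]

theorem classInner_cenFun [Fintype N] (hnorm : ∀ z ∈ Z, ω z * conj (ω z) = 1) {F : N → ℂ}
    (hF : IsCovariant Z ω F) : classInner F (cenFun Z ω) = F 1 := by
  classical
  have hterm : ∀ g, F g * conj (cenFun Z ω g) = if g ∈ Z then (Z.index : ℂ) * F 1 else 0 := by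
    intro g
    by_cases hg : g ∈ Z
    · simp only [cenFun, if_pos hg, map_mul, map_natCast]
      have := hF g hg 1
      rw [mul_one] at this
      rw [this]
      linear_combination (Z.index : ℂ) * F 1 * hnorm g hg
    · simp [cenFun, if_neg hg]
  unfold classInner
  rw [Finset.sum_congr rfl fun g _ => hterm g, ← Finset.sum_filter, Finset.sum_const,
    nsmul_eq_mul, ← Fintype.card_subtype, ← Nat.card_eq_fintype_card,
    ← Z.card_mul_index, Nat.cast_mul]
  have h1 : (Nat.card Z : ℂ) ≠ 0 := by exact_mod_cast Nat.card_pos.ne'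
  have h2 : (Z.index : ℂ) ≠ 0 := by exact_mod_cast Subgroup.index_ne_zero_of_finite
  field_simp

end Cen

end Cfsg.Agent.Lib.Characters
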