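import Cfsg.Agent.Lib.Characters.BlichfeldtAvg

/-!
# The numerical core of the Blichfeldt–Feit–Thompson theorem

Everything here takes place in the normaliser `N` of the abelian subgroup `P`: the hypotheses on
the ambient group enter through Bessel inequalities for class functions vanishing on the centre
and at fixed-point-free elements.
-/

namespace Cfsg.Agent.Lib.Characters

open scoped ComplexConjugate

set_option linter.unusedSectionVars false
set_option linter.unusedSimpArgs false
set_option linter.unusedFintypeInType false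
set_option linter.style.haveILetI false

universe u

variable {N : Type u} [Group N] [Fintype N]

/-- Elementary consequence of a two-vector Bessel inequality. -/
theorem gram_sq_le {q s K μ : ℝ} (h : ∀ a b : ℝ, (a * q + b * s) ^ 2 ≤ a ^ 2 * q + b ^ 2 * K)
    (hq : 1 - μ ≤ q) : s ^ 2 ≤ μ * K := by
  have hs : s ^ 2 ≤ K := by simpa using h 0 1
  have hK : 0 ≤ K := (sq_nonneg s).trans hs
  have hq1 : q ≤ 1 := by
    have h1 : q ^ 2 ≤ q := by simpa using h 1 0
    nlinarith
  rcases le_or_gt 1 μ with hμ | hμ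
  · exact hs.trans (le_mul_of_one_le_left hK hμ)
  rcases lt_or_eq_of_le hq1 with hlt | rfl
  · have h1 := h s (1 - q)
    have h2 : s ^ 2 * (1 - q) ≤ (1 - q) * K * (1 - q) := by nlinarith
    have h3 := le_of_mul_le_mul_right h2 (by linarith)
    exact h3.trans (mul_le_mul_of_nonneg_right (by linarith) hK)
  · have h1 := h (K + 1) s
    have h2 : s ^ 2 ≤ 0 := by nlinarith [sq_nonneg (s ^ 2), sq_nonneg s]
    exact h2.trans (mul_nonneg (by linarith) hK)

/-- A character of degree zero vanishes. -/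
theorem IsCharacter.eq_zero_of_apply_one {f : N → ℂ} (h : IsCharacter N f) (h1 : f 1 = 0) :
    f = 0 := by
  funext g
  have := IsCharacter.norm_le h g
  rw [h1, norm_zero] at this
  exact norm_le_zero_iff.mp this

/-- A positive multiplicity of the trivial character gives a lower bound on inner products. -/
theorem classInner_char_ge_mul {f h : N → ℂ} (hf : IsCharacter N f) (hh : IsCharacter N h)
    {a b k : ℕ} (ha : classInner f (fun _ => 1) = (a : ℂ))
    (hb : classInner h (fun _ => 1) = (b : ℂ)) (hk : classInner f h = (k : ℂ)) : a * b ≤ k := by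
  classical
  haveI := Fintype.ofFinite (IrrCharacter N)
  obtain ⟨mf, -, hmf⟩ := IsCharacter.exists_nat_decomp hf
  obtain ⟨mh, -, hmh⟩ := IsCharacter.exists_nat_decomp hh
  rw [classInner_eq_sum_irr (IsCharacter.isClassFunction hf) (IsCharacter.isClassFunction hh)]
    at hk
  simp only [hmf, hmh, map_natCast] at hk
  have hk' : k = ∑ χ, mf χ * mh χ := by exact_mod_cast hk.symm
  have e1 : mf (trivIrr N) = a := by exact_mod_cast (hmf (trivIrr N)).symm.trans ha
  have e2 : mh (trivIrr N) = b := by exact_mod_cast (hmh (trivIrr N)).symm.trans hb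
  rw [hk', ← e1, ← e2]
  exact Finset.single_le_sum (f := fun χ => mf χ * mh χ) (fun χ _ => Nat.zero_le _)
    (Finset.mem_univ (trivIrr N))

/-- The inner product of a real function with itself. -/
theorem classInner_ofReal_ofReal {x y : N → ℝ} :
    classInner (fun g => (x g : ℂ)) (fun g => (y g : ℂ)) =
      (((Nat.card N : ℝ)⁻¹ * ∑ g, x g * y g : ℝ) : ℂ) := by
  simp [classInner, Complex.conj_ofReal]

variable (P Z : Subgroup N) [Fintype P]

/-- Class functions vanishing on `Z` and at all elements acting without fixed points on `P`. -/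
def IsSingularSupported (F : N → ℂ) : Prop :=
  (∀ g, IsFixedPointFreeOn P g → F g = 0) ∧ ∀ z ∈ Z, F z = 0

/-- The data shared by the lemmas below. -/
structure BlichfeldtSetting (ω : N → ℂ) : Prop where
  normal : P.Normal
  comm : ∀ x ∈ P, ∀ y ∈ P, x * y = y * x
  central : Z ≤ Subgroup.center N
  disjoint : ∀ y ∈ P, y ∈ Z → y = 1
  mul : ∀ z ∈ Z, ∀ z' ∈ Z, ω (z * z') = ω z * ω z'
  norm : ∀ z ∈ Z, ω z * conj (ω z) = 1

/-- The real number `|N : Z|(1 - 1/|P|)`. -/
noncomputable def movedDim : ℝ := (Z.index : ℝ) * (1 - (Nat.card P : ℝ)⁻¹)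

variable {P Z} {ω : N → ℂ}

theorem BlichfeldtSetting.omega_one (S : BlichfeldtSetting P Z ω) : ω 1 = 1 := by
  have h1 := S.mul 1 Z.one_mem 1 Z.one_mem
  have h2 := S.norm 1 Z.one_mem
  rw [one_mul] at h1
  have h3 : ω 1 ≠ 0 := fun h => by simp [h] at h2
  exact (mul_eq_left₀ h3).mp h1.symm

theorem BlichfeldtSetting.regE_one (S : BlichfeldtSetting P Z ω) :
    (cenFun Z ω - avgFun P (cenFun Z ω)) 1 = (movedDim P Z : ℂ) := by
  classical
  have h1 : ∀ y : P, cenFun Z ω (1 * (y : N)) = if y = 1 then (Z.index : ℂ) else 0 := by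
    intro y
    by_cases hy : y = 1
    · simp [hy, cenFun, Z.one_mem, S.omega_one]
    · have : (y : N) ∉ Z := fun h => hy (Subtype.ext (S.disjoint _ y.2 h))
      simp [hy, cenFun, this]
  rw [Pi.sub_apply, avgFun, Finset.sum_congr rfl fun y _ => h1 y, Finset.sum_ite_eq',
    if_pos (Finset.mem_univ _)]
  simp [cenFun, Z.one_mem, S.omega_one, movedDim]
  ring

theorem BlichfeldtSetting.classInner_regE (S : BlichfeldtSetting P Z ω) {F : N → ℂ}
    (hF : IsCovariant Z ω F) :
    classInner F (cenFun Z ω - avgFun P (cenFun Z ω)) = (F - avgFun P F) 1 := by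
  rw [classInner_sub_right, ← classInner_avgFun_left, classInner_cenFun Z ω S.norm hF,
    classInner_cenFun Z ω S.norm (avgFun_isCovariant P hF)]
  rfl

/-- The two-vector Bessel inequality. -/
theorem BlichfeldtSetting.bessel_quadratic (S : BlichfeldtSetting P Z ω) {f u τ : N → ℂ}
    (hf : IsCharacter N f) (hu : IsCharacter N u)
    (hfω : IsCovariant Z ω f) (huω : IsCovariant Z ω u) (hτω : IsCovariant Z ω τ)
    (huA : avgFun P u = u) (hτA : avgFun P τ = τ)
    (hu0 : ∀ g, IsFixedPointFreeOn P g → u g = 0)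
    (hB : ∀ F, IsClassFunction N F → IsSingularSupported P Z F →
      Complex.normSq (classInner f F) + Complex.normSq (classInner τ F) ≤ (classInner F F).re)
    {a m D r K t : ℕ} (ha : classInner (f - avgFun P f) (f - avgFun P f) = (a : ℂ))
    (hm : (f - avgFun P f) 1 = (m : ℂ)) (hD : u 1 = (D : ℂ)) (hr : classInner f u = (r : ℂ))
    (hK : classInner u u = (K : ℂ)) (ht : classInner τ u = (t : ℂ)) (hM : 0 < movedDim P Z)
    (α γ : ℝ) :
    (α * (a - (m : ℝ) ^ 2 / movedDim P Z) + γ * (r - D * m / movedDim P Z)) ^ 2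
        + γ ^ 2 * (t : ℝ) ^ 2
      ≤ α ^ 2 * (a - (m : ℝ) ^ 2 / movedDim P Z)
        + γ ^ 2 * (K + (D : ℝ) ^ 2 / movedDim P Z) := by
  classical
  haveI := S.normal
  set M1 := movedDim P Z with hM1
  set φ := f - avgFun P f with hφ
  set R := cenFun Z ω - avgFun P (cenFun Z ω) with hR
  have hRω : IsCovariant Z ω R := by
    intro z hz g
    simp only [hR, Pi.sub_apply, cenFun_isCovariant Z ω S.mul z hz g,
      avgFun_isCovariant P (cenFun_isCovariant Z ω S.mul) z hz g]
    ring
  have hφω : IsCovariant Z ω φ := by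
    intro z hz g
    simp only [hφ, Pi.sub_apply, hfω z hz g, avgFun_isCovariant P hfω z hz g]
    ring
  have hRA : avgFun P R = 0 := by rw [hR, avgFun_sub, avgFun_avgFun, sub_self]
  have hφA : avgFun P φ = 0 := by rw [hφ, avgFun_sub, avgFun_avgFun, sub_self]
  have hRcl : IsClassFunction N R :=
    IsClassFunction.sub (isClassFunction_cenFun Z ω S.central)
      (IsClassFunction.avgFun P (isClassFunction_cenFun Z ω S.central))
  have hφcl : IsClassFunction N φ :=
    IsClassFunction.sub (IsCharacter.isClassFunction hf)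
      (IsClassFunction.avgFun P (IsCharacter.isClassFunction hf))
  have hRfpf : ∀ g, IsFixedPointFreeOn P g → R g = 0 := fun g hg => by
    rw [hR, Pi.sub_apply, avgFun_eq_self_of_fixedPointFree P S.comm
      (isClassFunction_cenFun Z ω S.central) hg, sub_self]
  have hφfpf : ∀ g, IsFixedPointFreeOn P g → φ g = 0 := fun g hg => by
    rw [hφ, Pi.sub_apply, avgFun_eq_self_of_fixedPointFree P S.comm
      (IsCharacter.isClassFunction hf) hg, sub_self]
  have hR1 : R 1 = (M1 : ℂ) := S.regE_one
  set β : ℝ := (α * m + γ * D) / M1 with hβ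
  set F : N → ℂ := (α : ℂ) • φ + (γ : ℂ) • u - (β : ℂ) • R with hF
  have hFcl : IsClassFunction N F :=
    IsClassFunction.sub (IsClassFunction.add (IsClassFunction.smul hφcl _)
      (IsClassFunction.smul (IsCharacter.isClassFunction hu) _)) (IsClassFunction.smul hRcl _)
  have hF1 : F 1 = 0 := by
    simp only [hF, Pi.add_apply, Pi.sub_apply, Pi.smul_apply, smul_eq_mul, hm, hD, hR1]
    rw [hβ]
    have : (M1 : ℂ) ≠ 0 := by exact_mod_cast hM.ne'
    push_cast
    field_simp
    ring
  have hFsupp : IsSingularSupported P Z F := by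
    refine ⟨fun g hg => ?_, fun z hz => ?_⟩
    · simp [hF, hφfpf g hg, hRfpf g hg, hu0 g hg]
    · have hFω : F (z * 1) = ω z * F 1 := by
        simp only [hF, Pi.add_apply, Pi.sub_apply, Pi.smul_apply, smul_eq_mul, hφω z hz,
          huω z hz, hRω z hz]
        ring
      rw [mul_one, hF1, mul_zero] at hFω
      exact hFω
  have key := hB F hFcl hFsupp
  -- the basic inner products
  have hφR : classInner φ R = (m : ℂ) := by
    rw [hR, S.classInner_regE hφω, hφA, sub_zero, hm]
  have hRφ : classInner R φ = (m : ℂ) := by rw [← classInner_conj_symm, hφR, map_natCast]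
  have hfR : classInner f R = (m : ℂ) := by
    rw [hR, S.classInner_regE hfω]; exact hm
  have hRR : classInner R R = (M1 : ℂ) := by
    have h := S.classInner_regE hRω
    rw [← hR, hRA, sub_zero] at h
    rw [h, hR1]
  have huR : classInner u R = 0 := by
    rw [hR, S.classInner_regE huω, huA, sub_self, Pi.zero_apply]
  have hRu : classInner R u = 0 := by rw [← classInner_conj_symm, huR, map_zero]
  have hτR : classInner τ R = 0 := by
    rw [hR, S.classInner_regE hτω, hτA, sub_self, Pi.zero_apply]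
  have huφ : classInner u φ = 0 := by rw [← huA, hφ]; exact classInner_avg_sub P u f
  have hφu : classInner φ u = 0 := by rw [← classInner_conj_symm, huφ, map_zero]
  have hτφ : classInner τ φ = 0 := by rw [← hτA, hφ]; exact classInner_avg_sub P τ f
  have hfφ : classInner f φ = (a : ℂ) := by rw [hφ, classInner_sub_avg]; exact ha
  have e1 : classInner f F = ((α * a + γ * r - β * m : ℝ) : ℂ) := by
    simp only [hF, classInner_sub_right, classInner_add_right, classInner_smul_right,
      Complex.conj_ofReal, hfφ, hr, hfR]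
    push_cast; ring
  have e2 : classInner τ F = ((γ * t : ℝ) : ℂ) := by
    simp only [hF, classInner_sub_right, classInner_add_right, classInner_smul_right,
      Complex.conj_ofReal, hτφ, ht, hτR]
    push_cast; ring
  have e3 : classInner F F = ((α ^ 2 * a + γ ^ 2 * K + β ^ 2 * M1 - 2 * α * β * m : ℝ) : ℂ) := by
    simp only [hF, classInner_sub_right, classInner_add_right, classInner_smul_right,
      classInner_sub_left, classInner_add_left, classInner_smul_left,
      Complex.conj_ofReal, ha, hφu, huφ, hK, hφR, hRφ, huR, hRu, hRR]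
    push_cast; ring
  rw [e1, e2, e3, Complex.normSq_ofReal, Complex.normSq_ofReal, Complex.ofReal_re] at key
  have h4 : α * a + γ * r - β * m =
      α * (a - (m : ℝ) ^ 2 / M1) + γ * (r - D * m / M1) := by rw [hβ]; field_simp; ring
  have h5 : α ^ 2 * a + γ ^ 2 * K + β ^ 2 * M1 - 2 * α * β * m =
      α ^ 2 * (a - (m : ℝ) ^ 2 / M1) + γ ^ 2 * (K + (D : ℝ) ^ 2 / M1) := by
    rw [hβ]; field_simp; ring
  rw [h4, h5] at key
  linarith

/-- The consequence of the Bessel inequality used below. -/
theorem BlichfeldtSetting.bessel_bound (S : BlichfeldtSetting P Z ω) {f u τ : N → ℂ}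
    (hf : IsCharacter N f) (hu : IsCharacter N u)
    (hfω : IsCovariant Z ω f) (huω : IsCovariant Z ω u) (hτω : IsCovariant Z ω τ)
    (huA : avgFun P u = u) (hτA : avgFun P τ = τ)
    (hu0 : ∀ g, IsFixedPointFreeOn P g → u g = 0)
    (hB : ∀ F, IsClassFunction N F → IsSingularSupported P Z F →
      Complex.normSq (classInner f F) + Complex.normSq (classInner τ F) ≤ (classInner F F).re)
    {a m D r K t : ℕ} (ha : classInner (f - avgFun P f) (f - avgFun P f) = (a : ℂ))
    (hm : (f - avgFun P f) 1 = (m : ℂ)) (hD : u 1 = (D : ℂ)) (hr : classInner f u = (r : ℂ))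
    (hK : classInner u u = (K : ℂ)) (ht : classInner τ u = (t : ℂ)) (hM : 0 < movedDim P Z)
    (ha1 : 1 ≤ a) :
    ((r : ℝ) * movedDim P Z - D * m) ^ 2 ≤
      (m : ℝ) ^ 2 * (((K : ℝ) - (t : ℝ) ^ 2) * movedDim P Z + (D : ℝ) ^ 2) := by
  set M1 := movedDim P Z
  have h := gram_sq_le (q := (a : ℝ) - (m : ℝ) ^ 2 / M1) (s := (r : ℝ) - D * m / M1)
    (K := (K : ℝ) + (D : ℝ) ^ 2 / M1 - (t : ℝ) ^ 2) (μ := (m : ℝ) ^ 2 / M1)
    (fun α γ => by
      have := S.bessel_quadratic hf hu hfω huω hτω huA hτA hu0 hB ha hm hD hr hK ht hM α γ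
      linarith)
    (by have : (1 : ℝ) ≤ a := by exact_mod_cast ha1
        linarith)
  have hM0 : M1 ≠ 0 := hM.ne'
  calc ((r : ℝ) * M1 - D * m) ^ 2 = ((r : ℝ) - D * m / M1) ^ 2 * M1 ^ 2 := by field_simp
    _ ≤ (m : ℝ) ^ 2 / M1 * ((K : ℝ) + (D : ℝ) ^ 2 / M1 - (t : ℝ) ^ 2) * M1 ^ 2 :=
        mul_le_mul_of_nonneg_right h (sq_nonneg _)
    _ = _ := by field_simp; ring

/-- The number of elements of `ZP` bounds sums of nonnegative functions from below. -/
theorem BlichfeldtSetting.card_mul_le_sum (S : BlichfeldtSetting P Z ω) (x : N → ℝ)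
    (hx : ∀ g, 0 ≤ x g) {c : ℝ} (hc : ∀ z ∈ Z, ∀ y ∈ P, x (z * y) = c) :
    (Nat.card Z : ℝ) * Nat.card P * c ≤ ∑ g, x g ∧
      ∃ T : Finset N, (T.card : ℝ) = Nat.card Z * Nat.card P ∧
        ∀ g ∈ T, ∃ z ∈ Z, ∃ y ∈ P, g = z * y := by
  classical
  have hinj : Function.Injective (fun a : Z × P => (a.1 : N) * (a.2 : N)) := by
    rintro ⟨z, y⟩ ⟨z', y'⟩ h
    dsimp only at h
    have h1 : ((z' : N))⁻¹ * (z : N) = (y' : N) * (y : N)⁻¹ := by
      calc ((z' : N))⁻¹ * (z : N) = (z' : N)⁻¹ * ((z : N) * (y : N)) * (y : N)⁻¹ := by group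
        _ = _ := by rw [h]; group
    have h2 : (y' : N) * (y : N)⁻¹ = 1 :=
      S.disjoint _ (P.mul_mem y'.2 (P.inv_mem y.2)) (h1 ▸ Z.mul_mem (Z.inv_mem z'.2) z.2)
    rw [h2] at h1
    exact Prod.ext (Subtype.ext (inv_mul_eq_one.mp h1).symm)
      (Subtype.ext (mul_inv_eq_one.mp h2).symm)
  set T := (Finset.univ : Finset (Z × P)).image fun a => (a.1 : N) * (a.2 : N) with hT
  have hcard : (T.card : ℝ) = Nat.card Z * Nat.card P := by
    rw [hT, Finset.card_image_of_injective _ hinj, Finset.card_univ, Fintype.card_prod]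
    simp [Nat.card_eq_fintype_card]
  have hval : ∀ g ∈ T, x g = c := by
    intro g hg
    obtain ⟨a, -, rfl⟩ := Finset.mem_image.mp hg
    exact hc _ a.1.2 _ a.2.2
  refine ⟨?_, T, hcard, fun g hg => by
    obtain ⟨a, -, rfl⟩ := Finset.mem_image.mp hg
    exact ⟨_, a.1.2, _, a.2.2, rfl⟩⟩
  calc (Nat.card Z : ℝ) * Nat.card P * c = ∑ g ∈ T, x g := by
        rw [Finset.sum_congr rfl hval, Finset.sum_const, nsmul_eq_mul, hcard]
    _ ≤ _ := Finset.sum_le_sum_of_subset_of_nonneg (Finset.subset_univ _) fun g _ _ => hx g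

end Cfsg.Agent.Lib.Characters
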