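import Cfsg.Agent.Lib.Characters.Kernel
import Cfsg.Agent.Lib.Characters.Induced

/-!
# A degree bound for groups with a normal `p`-complement (Ito)

If `G = ⟨x⟩K` with `K` a normal `p'`-subgroup, `x` a `p`-element with `x ^ p` central, then in an
irreducible representation of degree less than `p - 1` the images of `x` and of `K` commute.
-/

namespace Cfsg.Agent.Lib.Characters

open scoped ComplexConjugate
open Module

set_option linter.unusedSectionVars false
set_option linter.unusedSimpArgs false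
set_option linter.unusedFintypeInType false
set_option linter.style.haveILetI false

universe u v

variable {G : Type u} [Group G]

/-- A periodic sum. -/
theorem sum_range_mul_periodic {R : Type*} [Semiring R] (f : ℕ → R) (p : ℕ)
    (hf : ∀ i, f (p + i) = f i) (M : ℕ) :
    ∑ i ∈ Finset.range (p * M), f i = (M : R) * ∑ i ∈ Finset.range p, f i := by
  induction M with
  | zero => simp
  | succ k ih =>
    rw [Nat.mul_succ, add_comm (p * k) p, Finset.sum_range_add]
    simp only [hf, ih, Nat.cast_succ, add_mul, one_mul]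
    rw [add_comm]

/-- The sum of a function over a group `⟨x⟩K`. -/
theorem sum_eq_sum_range_sum {R : Type*} [AddCommMonoid R] [Fintype G] (x : G) (K : Subgroup G)
    [Fintype K] (hdisj : ∀ i : ℕ, x ^ i ∈ K → x ^ i = 1)
    (hgen : ∀ g : G, ∃ i : ℕ, ∃ k ∈ K, g = x ^ i * k) (F : G → R) :
    ∑ g, F g = ∑ i ∈ Finset.range (orderOf x), ∑ k : K, F (x ^ i * (k : G)) := by
  classical
  have hpos : 0 < orderOf x := (isOfFinOrder_of_finite x).orderOf_pos
  rw [← Fin.sum_univ_eq_sum_range (fun i => ∑ k : K, F (x ^ i * (k : G))),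
    ← Fintype.sum_prod_type' (fun (i : Fin (orderOf x)) (k : K) => F (x ^ (i : ℕ) * (k : G)))]
  refine (Fintype.sum_bijective (fun a : Fin (orderOf x) × K => x ^ (a.1 : ℕ) * (a.2 : G))
    ⟨?_, ?_⟩ _ _ fun a => rfl).symm
  · rintro ⟨i, k⟩ ⟨j, k'⟩ h
    dsimp only at h
    -- `x ^ (i + (orderOf x - j)) ∈ K`
    have hj : x ^ (orderOf x - (j : ℕ)) * x ^ (j : ℕ) = 1 := by
      rw [← pow_add, Nat.sub_add_cancel j.2.le, pow_orderOf_eq_one]
    have hmem : x ^ (orderOf x - (j : ℕ) + (i : ℕ)) ∈ K := by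
      have : x ^ (orderOf x - (j : ℕ) + (i : ℕ)) = (k' : G) * (k : G)⁻¹ := by
        have h2 := congrArg (fun y => x ^ (orderOf x - (j : ℕ)) * y * (k : G)⁻¹) h
        simp only [← mul_assoc, hj, one_mul, mul_inv_cancel_right] at h2
        rw [pow_add]; exact h2
      rw [this]
      exact K.mul_mem k'.2 (K.inv_mem k.2)
    have h1 := hdisj _ hmem
    have hxij : x ^ (i : ℕ) = x ^ (j : ℕ) := by
      have h3 : x ^ (j : ℕ) * x ^ (orderOf x - (j : ℕ) + (i : ℕ)) = x ^ (j : ℕ) := by
        rw [h1, mul_one]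
      rw [← pow_add] at h3
      rw [← h3, show (j : ℕ) + (orderOf x - (j : ℕ) + (i : ℕ)) = orderOf x + i from by omega,
        pow_add, pow_orderOf_eq_one, one_mul]
    have hij : i = j := Fin.ext (pow_injOn_Iio_orderOf i.2 j.2 hxij)
    subst hij
    exact Prod.ext rfl (Subtype.ext (mul_left_cancel h))
  · intro g
    obtain ⟨i, k, hk, rfl⟩ := hgen g
    exact ⟨(⟨i % orderOf x, Nat.mod_lt _ hpos⟩, ⟨k, hk⟩), by
      show x ^ (i % orderOf x) * k = x ^ i * k
      rw [pow_mod_orderOf]⟩

/-- Each element of the coset `yK` is conjugate under `K` to an element of `yC_K(y)`, with the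
same multiplicity. -/
theorem card_mul_sum_centralizer_coset {R : Type*} [Semiring R] [Finite G] (K : Subgroup G)
    [K.Normal] [Fintype K] (y : G) (C : Subgroup G) [Fintype C]
    (hC : ∀ g, g ∈ C ↔ g ∈ K ∧ g * y = y * g) (hcop : (orderOf y).Coprime (Nat.card K))
    (F : G → R) (hF : ∀ g h : G, F (h * g * h⁻¹) = F g) :
    (Nat.card K : R) * ∑ c : C, F (y * (c : G)) = (Nat.card C : R) * ∑ k : K, F (y * (k : G)) := by
  classical
  have hmem : ∀ a : K × C, y⁻¹ * ((a.1 : G) * (y * (a.2 : G)) * (a.1 : G)⁻¹) ∈ K := by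
    intro a
    have h1 := Subgroup.Normal.conj_mem ‹K.Normal› _ a.1.2 y⁻¹
    rw [inv_inv] at h1
    have h2 := K.mul_mem (K.mul_mem h1 ((hC _).mp a.2.2).1) (K.inv_mem a.1.2)
    simpa [mul_assoc] using h2
  let Φ : K × C → K := fun a => ⟨_, hmem a⟩
  obtain ⟨e, he1, he2⟩ := Nat.chineseRemainder hcop 1 0
  have hye : y ^ e = y := by
    rw [← pow_mod_orderOf, he1, pow_mod_orderOf, pow_one]
  have hce : ∀ c : C, (c : G) ^ e = 1 := fun c => by
    have hd : Nat.card K ∣ e := Nat.modEq_zero_iff_dvd.mp he2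
    obtain ⟨d, rfl⟩ := hd
    have : (⟨(c : G), ((hC _).mp c.2).1⟩ : K) ^ Nat.card K = 1 := pow_card_eq_one'
    rw [pow_mul, show (c : G) ^ Nat.card K = 1 from congrArg Subtype.val this, one_pow]
  have hcomm : ∀ c : C, Commute y (c : G) := fun c => ((hC _).mp c.2).2.symm
  have key : ∀ (a b : K × C), Φ a = Φ b →
      ((b.1 : G)⁻¹ * (a.1 : G)) ∈ C ∧
        (b.2 : G) = ((b.1 : G)⁻¹ * (a.1 : G)) * (a.2 : G) * ((b.1 : G)⁻¹ * (a.1 : G))⁻¹ := by
    intro a b hab
    have h0 : (a.1 : G) * (y * (a.2 : G)) * (a.1 : G)⁻¹ =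
        (b.1 : G) * (y * (b.2 : G)) * (b.1 : G)⁻¹ :=
      mul_left_cancel (congrArg Subtype.val hab)
    set h := (b.1 : G)⁻¹ * (a.1 : G) with hh
    have h1 : h * (y * (a.2 : G)) * h⁻¹ = y * (b.2 : G) := by
      calc h * (y * (a.2 : G)) * h⁻¹
          = (b.1 : G)⁻¹ * ((a.1 : G) * (y * (a.2 : G)) * (a.1 : G)⁻¹) * (b.1 : G) := by
            rw [hh]; group
        _ = y * (b.2 : G) := by rw [h0]; group
    have h2 := congrArg (fun g => g ^ e) h1
    simp only [conj_pow, (hcomm _).mul_pow, hye, hce, mul_one] at h2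
    have hhy : h * y = y * h := by
      have := congrArg (· * h) h2
      simpa [mul_assoc] using this
    refine ⟨(hC _).mpr ⟨K.mul_mem (K.inv_mem b.1.2) a.1.2, hhy⟩, ?_⟩
    have h3 : h * (y * (a.2 : G)) * h⁻¹ = y * (h * (a.2 : G) * h⁻¹) := by
      rw [← mul_assoc h y, hhy]; group
    rw [h3] at h1
    exact (mul_left_cancel h1).symm
  have hfib : ∀ k : K, Fintype.card {a : K × C // Φ a = k} ≤ Fintype.card C := by
    intro k
    by_cases hne : Nonempty {a : K × C // Φ a = k}
    · obtain ⟨⟨b, hb⟩⟩ := hne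
      refine Fintype.card_le_of_injective
        (fun a => ⟨_, (key a.1 b (a.2.trans hb.symm)).1⟩) fun a a' haa => ?_
      have h1 : ((b.1 : G)⁻¹ * (a.1.1 : G)) = (b.1 : G)⁻¹ * (a'.1.1 : G) :=
        congrArg Subtype.val haa
      have h2 := (key a.1 b (a.2.trans hb.symm)).2
      rw [(key a'.1 b (a'.2.trans hb.symm)).2, ← h1] at h2
      exact Subtype.ext (Prod.ext (Subtype.ext (mul_left_cancel h1))
        (Subtype.ext (mul_left_cancel (mul_right_cancel h2)).symm))
    · rw [not_nonempty_iff] at hne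
      simp
  have htot : ∑ k : K, Fintype.card {a : K × C // Φ a = k} = ∑ _k : K, Fintype.card C := by
    rw [← Fintype.card_sigma, Fintype.card_congr (Equiv.sigmaFiberEquiv Φ), Fintype.card_prod,
      Finset.sum_const, Finset.card_univ, smul_eq_mul]
  have heq := (Finset.sum_eq_sum_iff_of_le fun k _ => hfib k).mp htot
  have hFΦ : ∀ a : K × C, F (y * (Φ a : G)) = F (y * (a.2 : G)) := fun a => by
    show F (y * (y⁻¹ * ((a.1 : G) * (y * (a.2 : G)) * (a.1 : G)⁻¹))) = _
    rw [mul_inv_cancel_left, hF]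
  calc (Nat.card K : R) * ∑ c : C, F (y * (c : G))
      = ∑ a : K × C, F (y * (a.2 : G)) := by
        rw [Fintype.sum_prod_type]
        simp [Nat.card_eq_fintype_card, nsmul_eq_mul]
    _ = ∑ a : K × C, F (y * (Φ a : G)) := Finset.sum_congr rfl fun a _ => (hFΦ a).symm
    _ = ∑ k : K, ∑ a : {a : K × C // Φ a = k}, F (y * (Φ a.1 : G)) :=
        (Fintype.sum_fiberwise Φ fun a => F (y * (Φ a : G))).symm
    _ = ∑ k : K, ∑ _a : {a : K × C // Φ a = k}, F (y * (k : G)) :=
        Finset.sum_congr rfl fun k _ => Finset.sum_congr rfl fun a _ => by rw [a.2]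
    _ = (Nat.card C : R) * ∑ k : K, F (y * (k : G)) := by
        rw [Finset.mul_sum]
        refine Finset.sum_congr rfl fun k hk => ?_
        rw [Finset.sum_const, Finset.card_univ, heq k hk, nsmul_eq_mul, Nat.card_eq_fintype_card]

/-- The inner product of a function with itself, as a real sum. -/
theorem classInner_self_eq_sum_normSq {H : Type u} [Group H] [Fintype H] (φ : H → ℂ) :
    classInner φ φ = (((Nat.card H : ℝ)⁻¹ * ∑ h, Complex.normSq (φ h) : ℝ) : ℂ) := by
  unfold classInner
  push_cast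
  refine congrArg _ (Finset.sum_congr rfl fun h _ => ?_)
  rw [Complex.mul_conj]

/-- **Ito**: in an irreducible representation of degree less than `p - 1` of `⟨x⟩K`, the image
of `x` is a scalar, in particular it commutes with the image of every element. -/
theorem ito_commute [Finite G] {p : ℕ} (hp : p.Prime) (K : Subgroup G) [K.Normal] (x : G) {a : ℕ}
    (hK : (Nat.card K).Coprime p) (hx : orderOf x = p ^ a) (hxp : x ^ p ∈ Subgroup.center G)
    (hgen : ∀ g : G, ∃ i : ℕ, ∃ k ∈ K, g = x ^ i * k)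
    {n : ℕ} (ρ : Representation ℂ G (Fin n → ℂ)) [ρ.IsIrreducible] (hn : n + 1 < p)
    (k : G) : ρ x * ρ k = ρ k * ρ x := by
  classical
  rcases Nat.eq_zero_or_pos a with ha | ha
  · have hx1 : x = 1 := orderOf_eq_one_iff.mp (by rw [hx, ha, pow_zero])
    simp [hx1]
  haveI := Fintype.ofFinite G
  obtain ⟨b, rfl⟩ : ∃ b, a = b + 1 := ⟨a - 1, by omega⟩
  have hord : orderOf x = p * p ^ b := by rw [hx, pow_succ, mul_comm]
  set M := p ^ b with hM
  set χ := ρ.character with hχdef
  have hχ : IsIrrCharacter G χ := isIrrCharacter_of_rep ρ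
  have hdeg : χ 1 = n := by rw [hχdef, ρ.char_one, Module.finrank_fin_fun]
  obtain ⟨c, hc⟩ := exists_smul_of_commute ρ (ρ (x ^ p)) fun g => by
    rw [← map_mul, ← map_mul, Subgroup.mem_center_iff.mp hxp g]
  have hχc : ∀ g, χ (x ^ p * g) = c * χ g := fun g => by
    simp [hχdef, Representation.character, map_mul, hc, ← Module.End.one_eq_id]
  have hn0 : 0 < n := by
    obtain ⟨d, hd, hd'⟩ := IsIrrCharacter.exists_apply_one hχ
    rw [hdeg, Nat.cast_inj] at hd'
    omega
  have hc1 : Complex.normSq c = 1 := by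
    have hpow : ∀ j : ℕ, χ ((x ^ p) ^ j) = c ^ j * χ 1 := by
      intro j
      induction j with
      | zero => simp
      | succ j ih => rw [pow_succ', hχc, ih, pow_succ]; ring
    have h1 := hpow M
    rw [← pow_mul, ← hord, pow_orderOf_eq_one] at h1
    have hne : χ 1 ≠ 0 := IsIrrCharacter.apply_one_ne_zero hχ
    have hcM : c ^ M = 1 := mul_right_cancel₀ hne (h1.symm.trans (one_mul _).symm)
    have : ‖c‖ = 1 := by
      refine (pow_eq_one_iff_of_nonneg (norm_nonneg c) (pow_ne_zero b hp.pos.ne')).mp ?_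
      rw [← norm_pow, ← hM, hcM, norm_one]
    rw [Complex.normSq_eq_norm_sq, this, one_pow]
  set C := K ⊓ Subgroup.centralizer ({x} : Set G) with hCdef
  set L := Subgroup.centralizer ({x} : Set G) with hLdef
  have hCL : C ≤ L := inf_le_right
  have hxL : x ∈ L := Subgroup.mem_centralizer_singleton_iff.mpr rfl
  have hdisj : ∀ i : ℕ, x ^ i ∈ K → x ^ i = 1 := by
    intro i hi
    have h1 : orderOf (x ^ i) ∣ Nat.card K := Subgroup.orderOf_dvd_natCard K hi
    have h2 : orderOf (x ^ i) ∣ p ^ (b + 1) := hx ▸ orderOf_pow_dvd i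
    have h3 : (Nat.card K).Coprime (p ^ (b + 1)) := Nat.Coprime.pow_right _ hK
    exact orderOf_eq_one_iff.mp (Nat.eq_one_of_dvd_coprimes h3 h1 h2)
  have hxdisjC : ∀ i : ℕ, x ^ i ∈ C → x ^ i = 1 := fun i hi => hdisj i hi.1
  have hgenL : ∀ g ∈ L, ∃ i : ℕ, ∃ k ∈ C, g = x ^ i * k := by
    intro g hg
    obtain ⟨i, k, hk, rfl⟩ := hgen g
    refine ⟨i, k, ⟨hk, ?_⟩, rfl⟩
    exact (Subgroup.mul_mem_cancel_left _ (pow_mem hxL i)).mp hg
  -- the sums over the cosets
  set SK : ℕ → ℝ := fun i => ∑ k : K, Complex.normSq (χ (x ^ i * (k : G))) with hSKdef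
  set SC : (G → ℂ) → ℕ → ℝ := fun θ i => ∑ k : C, Complex.normSq (θ (x ^ i * (k : G))) with hSCdef
  have hper : ∀ (g : G) i, Complex.normSq (χ (x ^ (p + i) * g)) =
      Complex.normSq (χ (x ^ i * g)) := fun g i => by
    rw [pow_add, mul_assoc, hχc, map_mul, hc1, one_mul]
  have hsumG : ∑ g : G, Complex.normSq (χ g) = M * ∑ i ∈ Finset.range p, SK i := by
    rw [sum_eq_sum_range_sum x K hdisj hgen, hord]
    exact sum_range_mul_periodic _ p (fun i => Finset.sum_congr rfl fun k _ => hper _ i) M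
  let xL : L := ⟨x, hxL⟩
  let CL : Subgroup L := C.subgroupOf L
  let eC : CL ≃ C := (Subgroup.subgroupOfEquivOfLe hCL).toEquiv
  have hsumL : ∀ F : G → ℝ, ∑ g : L, F (g : G) =
      ∑ i ∈ Finset.range (p * M), ∑ k : C, F (x ^ i * (k : G)) := by
    intro F
    rw [sum_eq_sum_range_sum xL CL (fun i hi => Subtype.ext (by
        simpa [xL] using hxdisjC i (by simpa [xL, CL, Subgroup.mem_subgroupOf] using hi)))
      (fun g => by
        obtain ⟨i, k, hk, hgk⟩ := hgenL _ g.2
        exact ⟨i, ⟨k, hCL hk⟩, by simpa [CL, Subgroup.mem_subgroupOf] using hk,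
          Subtype.ext (by simpa [xL] using hgk)⟩) (fun g => F (g : G)),
      show orderOf xL = p * M from by rw [← hord, ← Subgroup.orderOf_coe]]
    refine Finset.sum_congr rfl fun i _ => Fintype.sum_equiv eC _ _ fun k => ?_
    simp [xL, eC, Subgroup.subgroupOfEquivOfLe]
  have hcardG : (Nat.card G : ℝ) = p * M * Nat.card K := by
    have := sum_eq_sum_range_sum x K hdisj hgen (fun _ => (1 : ℝ))
    simpa [hord, Nat.card_eq_fintype_card, mul_assoc] using this
  have hcardL : (Nat.card L : ℝ) = p * M * Nat.card C := by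
    have := hsumL (fun _ => (1 : ℝ))
    simpa [Nat.card_eq_fintype_card, mul_assoc] using this
  have hpM : (p : ℝ) * M ≠ 0 := by
    have := hp.pos
    positivity
  have hKpos : (0 : ℝ) < Nat.card K := by exact_mod_cast Nat.card_pos
  have hCpos : (0 : ℝ) < Nat.card C := by exact_mod_cast Nat.card_pos
  have hχK : IsCharacter K fun g : K => χ g :=
    IsCharacter.restrict (IsIrrCharacter.isCharacter hχ) K
  have hχC : IsCharacter C fun g : C => χ g :=
    IsCharacter.restrict (IsIrrCharacter.isCharacter hχ) C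
  have hχL : IsCharacter L fun g : L => χ g :=
    IsCharacter.restrict (IsIrrCharacter.isCharacter hχ) L
  obtain ⟨s, hs⟩ := IsCharacter.exists_classInner_nat hχK hχK
  obtain ⟨sC, hsC⟩ := IsCharacter.exists_classInner_nat hχC hχC
  obtain ⟨T, hT⟩ := IsCharacter.exists_classInner_nat hχL hχL
  have hs1 : 1 ≤ s := by
    rcases Nat.eq_zero_or_pos s with rfl | h
    · have := congrFun (classInner_self_eq_zero (hs.trans Nat.cast_zero)) 1
      exact absurd this (IsIrrCharacter.apply_one_ne_zero hχ)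
    · exact h
  have toReal : ∀ {H : Subgroup G} {j : ℕ},
      classInner (fun g : H => χ g) (fun g : H => χ g) = (j : ℂ) →
      ∑ g : H, Complex.normSq (χ g) = Nat.card H * (j : ℝ) := by
    intro H j hj
    rw [classInner_self_eq_sum_normSq] at hj
    have hj' : (Nat.card H : ℝ)⁻¹ * ∑ g : H, Complex.normSq (χ g) = (j : ℝ) := by
      exact_mod_cast hj
    rw [← hj', mul_inv_cancel_left₀]
    exact_mod_cast Nat.card_pos.ne'
  have eG : ∑ i ∈ Finset.range p, SK i = p * Nat.card K := by
    have h1 := IsIrrCharacter.classInner_self hχ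
    rw [classInner_self_eq_sum_normSq, hsumG, hcardG] at h1
    have h2 : ((p : ℝ) * M * Nat.card K)⁻¹ * (M * ∑ i ∈ Finset.range p, SK i) = 1 := by
      exact_mod_cast h1
    rw [inv_mul_eq_one₀ (mul_ne_zero hpM hKpos.ne')] at h2
    have hM0 : (M : ℝ) ≠ 0 := fun h => hpM (by rw [h, mul_zero])
    exact mul_left_cancel₀ hM0 (h2.symm.trans (by ring))
  have eL : ∑ i ∈ Finset.range p, SC χ i = p * Nat.card C * T := by
    have h1 := toReal hT
    rw [hsumL (fun g => Complex.normSq (χ g)), hcardL,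
      sum_range_mul_periodic _ p (fun i => Finset.sum_congr rfl fun k _ => hper _ i) M] at h1
    have hM0 : (M : ℝ) ≠ 0 := fun h => hpM (by rw [h, mul_zero])
    exact mul_left_cancel₀ hM0 (h1.trans (by ring))
  have eK0 : SK 0 = Nat.card K * s := by
    simpa [hSKdef] using toReal hs
  have eC0 : SC χ 0 = Nat.card C * sC := by
    simpa [hSCdef] using toReal hsC
  have hcoset : ∀ i ∈ Finset.range p, i ≠ 0 → (Nat.card C : ℝ) * SK i = Nat.card K * SC χ i := by
    intro i hi hi0
    have hip : i.Coprime (orderOf x) := by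
      rw [hx]
      exact Nat.Coprime.pow_right _
        ((hp.coprime_iff_not_dvd.mpr fun hd =>
          absurd (Nat.le_of_dvd (Nat.pos_of_ne_zero hi0) hd)
            (by have := Finset.mem_range.mp hi; omega)).symm)
    refine (card_mul_sum_centralizer_coset K (x ^ i) C (fun g => ?_) ?_
      (fun g => Complex.normSq (χ g)) (fun g h => ?_)).symm
    · rw [hCdef, Subgroup.mem_inf, Subgroup.mem_centralizer_singleton_iff]
      refine and_congr_right fun _ => ⟨fun h => ?_, fun h => ?_⟩
      · exact (Commute.pow_right (show Commute g x from h) i).eq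
      · obtain ⟨j, hj⟩ := exists_pow_eq_self_of_coprime hip
        show g * x = x * g
        rw [← hj]
        exact (Commute.pow_right (show Commute g (x ^ i) from h) j).eq
    · exact Nat.Coprime.coprime_dvd_left (orderOf_pow_dvd i)
        (hx ▸ (Nat.Coprime.pow_right _ hK).symm)
    · rw [IsCharacter.conj_apply (IsIrrCharacter.isCharacter hχ)]
  have hrel : p * T + s = p + sC := by
    have e1 : ∑ i ∈ Finset.range p, ((Nat.card C : ℝ) * SK i - Nat.card K * SC χ i) =
        (Nat.card C : ℝ) * SK 0 - Nat.card K * SC χ 0 :=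
      Finset.sum_eq_single_of_mem 0 (Finset.mem_range.mpr hp.pos)
        fun i hi hi0 => by rw [hcoset i hi hi0, sub_self]
    rw [Finset.sum_sub_distrib, ← Finset.mul_sum, ← Finset.mul_sum, eG, eL, eK0, eC0] at e1
    have e2 : (Nat.card C : ℝ) * Nat.card K * ((p : ℝ) * T + s) =
        (Nat.card C : ℝ) * Nat.card K * ((p : ℝ) + sC) := by linarith
    exact_mod_cast mul_left_cancel₀ (by positivity) e2
  -- constituents of the restriction to the centralizer
  haveI := Fintype.ofFinite (IrrCharacter L)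
  obtain ⟨m, hm, hm'⟩ := IsCharacter.exists_nat_decomp hχL
  have hTm : T = ∑ θ, m θ * m θ := by
    have h1 := hT
    rw [classInner_eq_sum_irr (IsCharacter.isClassFunction hχL)
      (IsCharacter.isClassFunction hχL)] at h1
    simp only [hm', map_natCast] at h1
    exact_mod_cast h1.symm
  have hnm : ∑ θ, m θ ≤ n := by
    have h1 := congrFun hm 1
    simp only [OneMemClass.coe_one, hdeg, Finset.sum_apply, Pi.smul_apply, smul_eq_mul] at h1
    choose d hd hd' using fun θ : IrrCharacter L => IsIrrCharacter.exists_apply_one θ.2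
    simp only [hd'] at h1
    have h2 : n = ∑ θ, m θ * d θ := by exact_mod_cast h1
    rw [h2]
    exact Finset.sum_le_sum fun θ _ => Nat.le_mul_of_pos_right _ (hd θ)
  have hirrC : ∀ θ : IrrCharacter L,
      IsIrrCharacter CL fun g : CL => (θ : L → ℂ) g := by
    intro θ
    obtain ⟨d, σ, hσ, hσθ⟩ := θ.2
    haveI := hσ
    have hθC : IsCharacter CL fun g : CL => (θ : L → ℂ) g :=
      IsCharacter.restrict (irr_isCharacter θ) CL
    rw [IsCharacter.isIrr_iff hθC]
    obtain ⟨c', hc'⟩ := exists_smul_of_commute σ (σ xL) fun g => by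
      rw [← map_mul, ← map_mul]
      congr 1
      exact Subtype.ext (Subgroup.mem_centralizer_singleton_iff.mp g.2).symm
    have hθc : ∀ g, (θ : L → ℂ) (xL * g) = c' * (θ : L → ℂ) g := fun g => by
      rw [← hσθ]
      simp [Representation.character, map_mul, hc', ← Module.End.one_eq_id]
    have hθpow : ∀ (j : ℕ) g, (θ : L → ℂ) (xL ^ j * g) = c' ^ j * (θ : L → ℂ) g := by
      intro j
      induction j with
      | zero => simp
      | succ j ih => intro g; rw [pow_succ', mul_assoc, hθc, ih, pow_succ]; ring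
    have hc'1 : Complex.normSq c' = 1 := by
      have h1 := hθpow (orderOf xL) 1
      rw [pow_orderOf_eq_one, one_mul] at h1
      have hne : (θ : L → ℂ) 1 ≠ 0 := IsIrrCharacter.apply_one_ne_zero θ.2
      have hcM : c' ^ orderOf xL = 1 := mul_right_cancel₀ hne (h1.symm.trans (one_mul _).symm)
      have : ‖c'‖ = 1 := by
        refine (pow_eq_one_iff_of_nonneg (norm_nonneg c')
          (isOfFinOrder_of_finite xL).orderOf_pos.ne').mp ?_
        rw [← norm_pow, hcM, norm_one]
      rw [Complex.normSq_eq_norm_sq, this, one_pow]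
    have h2 := IsIrrCharacter.classInner_self θ.2
    have hsum : ∑ g : L, Complex.normSq ((θ : L → ℂ) g) =
        (orderOf xL : ℝ) * ∑ g : CL, Complex.normSq ((θ : L → ℂ) g) := by
      rw [sum_eq_sum_range_sum xL CL (fun i hi => Subtype.ext (by
        simpa [xL] using hxdisjC i (by simpa [xL, CL, Subgroup.mem_subgroupOf] using hi)))
        (fun g => by
          obtain ⟨i, k, hk, hgk⟩ := hgenL _ g.2
          exact ⟨i, ⟨k, hCL hk⟩, by simpa [CL, Subgroup.mem_subgroupOf] using hk,
            Subtype.ext (by simpa [xL] using hgk)⟩)]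
      rw [Finset.sum_congr rfl (g := fun _ => ∑ g : CL, Complex.normSq ((θ : L → ℂ) g))
        fun i _ => Finset.sum_congr rfl fun k _ => by
          rw [hθpow, map_mul, map_pow, hc'1, one_pow, one_mul]]
      rw [Finset.sum_const, Finset.card_range, nsmul_eq_mul]
    have hcardL' : (Nat.card L : ℝ) = orderOf xL * Nat.card CL := by
      rw [hcardL, Nat.card_congr eC, ← Subgroup.orderOf_coe, show ((xL : G)) = x from rfl, hord]
      push_cast
      ring
    rw [classInner_self_eq_sum_normSq] at h2 ⊢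
    rw [hsum, hcardL', mul_inv, mul_mul_mul_comm, inv_mul_cancel₀, one_mul] at h2
    · exact h2
    · exact_mod_cast (isOfFinOrder_of_finite xL).orderOf_pos.ne'
  have hsCm : sC ≤ (∑ θ, m θ) * (∑ θ, m θ) := by
    have hsame : classInner (fun g : CL => χ ((g : L) : G)) (fun g : CL => χ ((g : L) : G)) =
        (sC : ℂ) := by
      rw [← hsC]
      exact classInner_comp_equiv (Subgroup.subgroupOfEquivOfLe hCL)
        (fun g : C => χ g) (fun g : C => χ g)
    choose e he using fun θ η : IrrCharacter L => IsCharacter.exists_classInner_nat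
      (IsIrrCharacter.isCharacter (hirrC θ)) (IsIrrCharacter.isCharacter (hirrC η))
    have he1 : ∀ θ η, e θ η ≤ 1 := by
      intro θ η
      by_cases h : (fun g : CL => (θ : L → ℂ) g) = fun g : CL => (η : L → ℂ) g
      · have h1 := IsIrrCharacter.classInner_self (hirrC η)
        rw [← h] at h1
        have := (he θ η).symm.trans (by rw [← h, h1] : _ = (1 : ℂ))
        have h2 : e θ η = 1 := by exact_mod_cast this
        omega
      · have h1 := (he θ η).symm.trans (IsIrrCharacter.classInner_ne (hirrC θ) (hirrC η) h)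
        have h2 : e θ η = 0 := by exact_mod_cast h1
        omega
    have hexp : (fun g : CL => χ ((g : L) : G)) =
        ∑ θ : IrrCharacter L, (m θ : ℂ) • fun g : CL => (θ : L → ℂ) g := by
      funext g
      simpa [Finset.sum_apply] using congrFun hm (g : L)
    rw [hexp, classInner_sum_left] at hsame
    simp only [classInner_smul_left, classInner_sum_right, classInner_smul_right, map_natCast,
      he, Finset.mul_sum] at hsame
    have hsame' : sC = ∑ θ, ∑ η, m η * (m θ * e θ η) := by exact_mod_cast hsame.symm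
    rw [hsame', Finset.sum_mul]
    refine Finset.sum_le_sum fun θ _ => ?_
    rw [Finset.mul_sum]
    refine Finset.sum_le_sum fun η _ => ?_
    calc m η * (m θ * e θ η) ≤ m η * (m θ * 1) :=
          Nat.mul_le_mul le_rfl (Nat.mul_le_mul le_rfl (he1 θ η))
      _ = m θ * m η := by ring
  have hCS : (∑ θ, m θ) * (∑ θ, m θ) ≤ n * T := by
    have hmT : ∑ θ, m θ ≤ T := hTm ▸ Finset.sum_le_sum fun θ _ => Nat.le_mul_self _
    exact Nat.mul_le_mul hnm hmT
  have hmT : ∑ θ, m θ ≤ T := hTm ▸ Finset.sum_le_sum fun θ _ => Nat.le_mul_self _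
  have hTT : sC ≤ T * T := hsCm.trans (Nat.mul_le_mul hmT hmT)
  have hnT : sC ≤ n * T := hsCm.trans hCS
  have hT1 : T = 1 := by
    have hT0 : T ≠ 0 := by
      rintro rfl
      have := congrFun (classInner_self_eq_zero (hT.trans Nat.cast_zero)) 1
      exact IsIrrCharacter.apply_one_ne_zero hχ this
    by_contra hne
    have h1 : p * T + 1 ≤ p + n * T := by omega
    have h2 : p * T + 1 ≤ p + T * T := by omega
    have h3 : (n + 2) * T ≤ p * T := Nat.mul_le_mul (by omega) le_rfl
    have h4 : 2 * T + 1 ≤ p := by nlinarith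
    obtain ⟨t, rfl⟩ : ∃ t, T = t + 2 := ⟨T - 2, by omega⟩
    nlinarith
  let σ : Representation ℂ L (Fin n → ℂ) := ρ.comp L.subtype
  have hσ : σ.character = fun g : L => χ g := rfl
  haveI : σ.IsIrreducible := isIrreducible_of_isIrrCharacter σ (by
    rw [hσ, IsCharacter.isIrr_iff hχL, hT, hT1, Nat.cast_one])
  obtain ⟨c', hc'⟩ := exists_smul_of_commute σ (ρ x) fun g => by
    show ρ x * ρ (g : G) = ρ (g : G) * ρ x
    rw [← map_mul, ← map_mul, Subgroup.mem_centralizer_singleton_iff.mp g.2]
  rw [hc']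
  simp [← Module.End.one_eq_id]

end Cfsg.Agent.Lib.Characters
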