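import Cfsg.Agent.Lib.Characters.BlichfeldtBessel
import Cfsg.Agent.Lib.Characters.Kernel
import Mathlib.Algebra.Order.Chebyshev

/-!
# A small character is impossible (inside the normaliser)
-/

namespace Cfsg.Agent.Lib.Characters

open scoped ComplexConjugate

set_option linter.unusedSectionVars false
set_option linter.unusedSimpArgs false
set_option linter.unusedFintypeInType false
set_option linter.style.haveILetI false

universe u v

variable {N : Type u} [Group N] [Fintype N] {P Z : Subgroup N} [Fintype P] {ω : N → ℂ}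

/-- The square of the absolute value of a function. -/
theorem mul_conj_self_eq (φ : N → ℂ) :
    (fun g => φ g * conj (φ g)) = fun g => (Complex.normSq (φ g) : ℂ) :=
  funext fun g => Complex.mul_conj _

/-- Averages of real functions. -/
theorem avgFun_ofReal (x : N → ℝ) :
    avgFun P (fun g => (x g : ℂ)) =
      fun g => (((Nat.card P : ℝ)⁻¹ * ∑ y : P, x (g * (y : N)) : ℝ) : ℂ) := by
  funext g
  simp [avgFun]

/-- The character `ξ = avg |φ|²`, with its basic properties. -/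
theorem BlichfeldtSetting.exists_xi (S : BlichfeldtSetting P Z ω) {φ : N → ℂ}
    (hφ : IsCharacter N φ) (hφω : IsCovariant Z ω φ)
    (hφ0 : ∀ g, IsFixedPointFreeOn P g → φ g = 0) (hφ1 : classInner φ φ = 1) :
    ∃ (ξ : N → ℂ) (x : N → ℝ) (D K : ℕ),
      ξ = avgFun P (fun g => φ g * conj (φ g)) ∧ IsCharacter N ξ ∧
      IsCovariant Z (fun _ => 1) ξ ∧ avgFun P ξ = ξ ∧
      (∀ g, IsFixedPointFreeOn P g → ξ g = 0) ∧ classInner ξ (fun _ => 1) = 1 ∧
      (∀ g, ξ g = (x g : ℂ)) ∧ (∀ g, 0 ≤ x g ∧ x g ≤ D) ∧ ξ 1 = (D : ℂ) ∧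
      classInner ξ ξ = (K : ℂ) ∧ (K : ℝ) ≤ D ∧
      (∀ z ∈ Z, ∀ y ∈ P, x (z * y) = D) := by
  haveI := S.normal
  set ψ : N → ℂ := fun g => φ g * conj (φ g) with hψ
  have hψc : IsCharacter N ψ := IsCharacter.mul hφ (IsCharacter.conjugate hφ)
  have hξc : IsCharacter N (avgFun P ψ) := IsCharacter.avgFun P hψc
  have hψω : IsCovariant Z (fun _ => 1) ψ := by
    intro z hz g
    simp only [hψ, hφω z hz g, map_mul, one_mul]
    linear_combination φ g * conj (φ g) * S.norm z hz
  obtain ⟨D, hD⟩ := IsCharacter.exists_apply_one hξc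
  obtain ⟨K, hK⟩ := IsCharacter.exists_classInner_nat hξc hξc
  set x : N → ℝ := fun g => (Nat.card P : ℝ)⁻¹ * ∑ y : P, Complex.normSq (φ (g * (y : N))) with hx
  have hval : ∀ g, avgFun P ψ g = (x g : ℂ) := fun g => by
    rw [hψ, mul_conj_self_eq, avgFun_ofReal]
  have hx0 : ∀ g, 0 ≤ x g := fun g =>
    mul_nonneg (by positivity) (Finset.sum_nonneg fun y _ => Complex.normSq_nonneg _)
  have hxD : ∀ g, x g ≤ D := fun g => by
    have h := IsCharacter.norm_le hξc g
    rw [hval g, hD, Complex.norm_real, Complex.norm_natCast] at h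
    exact (le_abs_self _).trans h
  have hinv : avgFun P (avgFun P ψ) = avgFun P ψ := avgFun_avgFun P ψ
  have hone : classInner (avgFun P ψ) (fun _ => (1 : ℂ)) = 1 := by
    rw [classInner_avgFun_left, avgFun_of_invariant P (f := fun _ => (1 : ℂ)) fun _ _ _ => rfl]
    refine Eq.trans ?_ hφ1
    simp [classInner, hψ]
  refine ⟨avgFun P ψ, x, D, K, rfl, hξc, avgFun_isCovariant P hψω, hinv,
    fun g hg => ?_, hone, hval, fun g => ⟨hx0 g, hxD g⟩, hD, hK, ?_, fun z hz y hy => ?_⟩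
  · rw [avgFun_eq_self_of_fixedPointFree P S.comm (IsCharacter.isClassFunction hψc) hg]
    simp [hψ, hφ0 g hg]
  · rw [funext hval] at hK hone
    rw [classInner_ofReal_ofReal] at hK
    have h1 : classInner (fun g => (x g : ℂ)) (fun g => ((1 : ℝ) : ℂ)) = 1 := by simpa using hone
    rw [classInner_ofReal_ofReal] at h1
    have hK' : (Nat.card N : ℝ)⁻¹ * ∑ g, x g * x g = K := by exact_mod_cast hK
    have h1' : (Nat.card N : ℝ)⁻¹ * ∑ g, x g * 1 = 1 := by exact_mod_cast h1
    calc (K : ℝ) = (Nat.card N : ℝ)⁻¹ * ∑ g, x g * x g := hK'.symm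
      _ ≤ (Nat.card N : ℝ)⁻¹ * ∑ g, (D : ℝ) * (x g * 1) := by
          refine mul_le_mul_of_nonneg_left (Finset.sum_le_sum fun g _ => ?_) (by positivity)
          rw [mul_one]
          exact mul_le_mul_of_nonneg_right (hxD g) (hx0 g)
      _ = D := by rw [← Finset.mul_sum, mul_left_comm, h1', mul_one]
  · have h : avgFun P ψ (z * y) = (D : ℂ) := by
      rw [avgFun_apply_mul P ψ z hy]
      have := avgFun_isCovariant P hψω z hz 1
      rw [mul_one, one_mul] at this
      rw [this, hD]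
    rw [hval] at h
    exact_mod_cast h

/-- `h = |N| / |ZP|` is at least one. -/
theorem BlichfeldtSetting.ratio_facts (S : BlichfeldtSetting P Z ω) {h : ℝ}
    (hhdef : h = (Z.index : ℝ) / Nat.card P) :
    (Nat.card N : ℝ) = h * (Nat.card Z * Nat.card P) ∧
      movedDim P Z = h * ((Nat.card P : ℝ) - 1) ∧ 1 ≤ h := by
  have hP0 : (0 : ℝ) < Nat.card P := by exact_mod_cast Nat.card_pos
  have hZ0 : (0 : ℝ) < Nat.card Z := by exact_mod_cast Nat.card_pos
  have hidx : (Z.index : ℝ) = h * Nat.card P := by rw [hhdef]; field_simp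
  have hN : (Nat.card N : ℝ) = h * (Nat.card Z * Nat.card P) := by
    have : (Nat.card Z : ℝ) * Z.index = Nat.card N := by exact_mod_cast Z.card_mul_index
    rw [← this, hidx]; ring
  have hM1 : movedDim P Z = h * ((Nat.card P : ℝ) - 1) := by
    rw [movedDim, hidx]; field_simp
  have hh1 : 1 ≤ h := by
    obtain ⟨h1, -⟩ := S.card_mul_le_sum (fun _ => 1) (fun _ => zero_le_one) (c := 1)
      fun _ _ _ _ => rfl
    have h1' : (Nat.card Z : ℝ) * Nat.card P * 1 ≤ h * (Nat.card Z * Nat.card P) := by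
      rw [← hN]; simpa [Nat.card_eq_fintype_card] using h1
    nlinarith [mul_pos hZ0 hP0]
  exact ⟨hN, hM1, hh1⟩

/-- The moved part of a small character is irreducible. -/
theorem BlichfeldtSetting.eq_one_of_lt (S : BlichfeldtSetting P Z ω) {f : N → ℂ}
    (hf : IsCharacter N f) (hfω : IsCovariant Z ω f)
    (hB : ∀ F, IsClassFunction N F → IsSingularSupported P Z F →
      Complex.normSq (classInner f F) ≤ (classInner F F).re) {a m : ℕ}
    (ha : classInner (f - avgFun P f) (f - avgFun P f) = (a : ℂ))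
    (hm : (f - avgFun P f) 1 = (m : ℂ)) (ha1 : 1 ≤ a)
    (hM0 : 0 < movedDim P Z) (hmM : (m : ℝ) ^ 2 < movedDim P Z) : a = 1 := by
  set M1 := movedDim P Z with hM1def
  have key := S.bessel_quadratic (f := f) (u := 0) (τ := 0) hf isCharacter_zero hfω
    (fun z _ g => by simp) (fun z _ g => by simp)
    (avgFun_of_invariant P fun _ _ _ => rfl) (avgFun_of_invariant P fun _ _ _ => rfl)
    (fun _ _ => rfl) (fun F hF hF' => by simpa using hB F hF hF')
    (a := a) (m := m) (D := 0) (r := 0) (K := 0) (t := 0) ha hm (by simp)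
    (by simp) (by simp) (by simp) hM0 1 0
  simp only [one_mul, zero_mul, add_zero, one_pow, ne_eq, OfNat.ofNat_ne_zero,
    not_false_eq_true, zero_pow, Nat.cast_zero, mul_zero] at key
  have hμ : (m : ℝ) ^ 2 / M1 < 1 := (div_lt_one hM0).mpr hmM
  have hμ0 : 0 ≤ (m : ℝ) ^ 2 / M1 := div_nonneg (sq_nonneg _) hM0.le
  have h2 : (a : ℝ) < 2 := by
    have : (1 : ℝ) ≤ a := by exact_mod_cast ha1
    nlinarith
  have h3 : a < 2 := by exact_mod_cast h2
  omega

/-- A nonzero fixed part gives an upper bound for `movedDim`. -/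
theorem BlichfeldtSetting.movedDim_le_of_fixed (S : BlichfeldtSetting P Z ω) {f : N → ℂ}
    (hf : IsCharacter N f) (hfω : IsCovariant Z ω f)
    (hB : ∀ F, IsClassFunction N F → IsSingularSupported P Z F →
      Complex.normSq (classInner f F) ≤ (classInner F F).re) {m d D : ℕ}
    (ha : classInner (f - avgFun P f) (f - avgFun P f) = 1)
    (hm : (f - avgFun P f) 1 = (m : ℂ)) (hd : avgFun P f 1 = (d : ℂ)) (hd0 : d ≠ 0)
    {ξ : N → ℂ} {x : N → ℝ} (hξc : IsCharacter N ξ) (hξω : IsCovariant Z (fun _ => 1) ξ)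
    (hξA : avgFun P ξ = ξ) (hξ0 : ∀ g, IsFixedPointFreeOn P g → ξ g = 0)
    (hξ1 : classInner ξ (fun _ => 1) = 1) (hξx : ∀ g, ξ g = (x g : ℂ))
    (hx : ∀ g, 0 ≤ x g ∧ x g ≤ D) (hD : ξ 1 = (D : ℂ)) (hM0 : 0 < movedDim P Z) :
    movedDim P Z ≤ D * ((m : ℝ) + d) ^ 2 := by
  haveI := S.normal
  set M1 := movedDim P Z with hM1def
  have hAc : IsCharacter N (avgFun P f) := IsCharacter.avgFun P hf
  set u := avgFun P f * ξ with hudef
  have huc : IsCharacter N u := IsCharacter.mul hAc hξc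
  have hinvA : ∀ g, ∀ y ∈ P, avgFun P f (g * y) = avgFun P f g := fun g y hy =>
    avgFun_apply_mul P f g hy
  have hinvξ : ∀ g, ∀ y ∈ P, ξ (g * y) = ξ g := fun g y hy => by
    rw [← hξA]; exact avgFun_apply_mul P ξ g hy
  have huinv : ∀ g, ∀ y ∈ P, u (g * y) = u g := fun g y hy => by
    simp [hudef, hinvA g y hy, hinvξ g y hy]
  have huA := avgFun_of_invariant P huinv
  have huω : IsCovariant Z ω u := by
    intro z hz g
    simp only [hudef, Pi.mul_apply, avgFun_isCovariant P hfω z hz g, hξω z hz g]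
    ring
  obtain ⟨r, hr⟩ := IsCharacter.exists_classInner_nat hf huc
  obtain ⟨L, hL⟩ := IsCharacter.exists_classInner_nat huc huc
  have huval : u 1 = ((d * D : ℕ) : ℂ) := by simp [hudef, hd, hD]
  have key := S.bessel_bound (τ := 0) hf huc hfω huω (fun z _ g => by simp) huA
    (avgFun_of_invariant P fun _ _ _ => rfl) (fun g hg => by simp [hudef, hξ0 g hg])
    (fun F hF hF' => by simpa using hB F hF hF') (a := 1) (m := m) (t := 0)
    (by rw [Nat.cast_one]; exact ha) hm huval hr hL (by simp) hM0 le_rfl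
  have hr' : classInner f u = classInner (avgFun P f) u := by
    conv_lhs => rw [← huA]
    rw [← classInner_avgFun_left]
  set y : N → ℝ := fun g => Complex.normSq (avgFun P f g) with hy
  have hrsum : (r : ℝ) = (Nat.card N : ℝ)⁻¹ * ∑ g, y g * x g := by
    have h1 : classInner f u = classInner (fun g => (y g : ℂ)) (fun g => (x g : ℂ)) := by
      rw [hr']
      simp only [classInner, hudef, Pi.mul_apply, hξx, map_mul, Complex.conj_ofReal, hy,
        ← Complex.mul_conj]
      refine congrArg _ (Finset.sum_congr rfl fun g _ => by ring)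
    rw [hr, classInner_ofReal_ofReal] at h1
    exact_mod_cast h1
  have hLsum : (L : ℝ) = (Nat.card N : ℝ)⁻¹ * ∑ g, y g * x g * x g := by
    have h1 : classInner u u = classInner (fun g => ((y g * x g : ℝ) : ℂ))
        (fun g => (x g : ℂ)) := by
      simp only [classInner, hudef, Pi.mul_apply, hξx, map_mul, Complex.conj_ofReal, hy,
        Complex.ofReal_mul, ← Complex.mul_conj]
      refine congrArg _ (Finset.sum_congr rfl fun g _ => by ring)
    rw [hL, classInner_ofReal_ofReal] at h1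
    exact_mod_cast h1
  have hLr : (L : ℝ) ≤ D * r := by
    rw [hLsum, hrsum, mul_left_comm, Finset.mul_sum (a := (D : ℝ))]
    refine mul_le_mul_of_nonneg_left (Finset.sum_le_sum fun g _ => ?_) (by positivity)
    rw [mul_comm (D : ℝ) _]
    exact mul_le_mul_of_nonneg_left (hx g).2 (mul_nonneg (Complex.normSq_nonneg _) (hx g).1)
  have hr1 : (1 : ℝ) ≤ r := by
    have hAA := IsCharacter.mul hAc (IsCharacter.conjugate hAc)
    have h1 : classInner f u = classInner (avgFun P f * fun g => conj (avgFun P f g)) ξ := by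
      rw [hr']
      simp only [classInner, hudef, Pi.mul_apply, map_mul, hξx, Complex.conj_ofReal]
      refine congrArg _ (Finset.sum_congr rfl fun g _ => by ring)
    obtain ⟨e, he⟩ := IsCharacter.exists_classInner_nat hAc hAc
    have he' : classInner (avgFun P f * fun g => conj (avgFun P f g)) (fun _ => 1) = (e : ℂ) := by
      rw [← he]; simp [classInner]
    have h2 := classInner_char_ge_mul hAA hξc he' (b := 1) (by rw [Nat.cast_one]; exact hξ1)
      (h1 ▸ hr)
    have he1 : e ≠ 0 := by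
      rintro rfl
      have := congrFun (classInner_self_eq_zero (he.trans Nat.cast_zero)) 1
      rw [hd] at this
      simp only [Pi.zero_apply, Nat.cast_eq_zero] at this
      exact hd0 this
    exact_mod_cast le_trans (Nat.pos_of_ne_zero he1) (by simpa using h2)
  push_cast at key
  have h3 : (r : ℝ) ^ 2 * M1 ≤ (m : ℝ) ^ 2 * L + 2 * r * (d * D) * m := by
    refine le_of_mul_le_mul_right ?_ hM0
    linarith [key, show ((r : ℝ) * M1 - d * D * m) ^ 2 =
      (r : ℝ) ^ 2 * M1 * M1 - 2 * r * (d * D) * m * M1 + (d * D * m) ^ 2 from by ring,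
      show (m : ℝ) ^ 2 * (((L : ℝ) - 0 ^ 2) * M1 + (d * D) ^ 2) =
      (m : ℝ) ^ 2 * L * M1 + (d * D * m) ^ 2 from by ring]
  have h4 : (r : ℝ) ^ 2 * M1 ≤ r * (D * ((m : ℝ) + d) ^ 2) := by
    have : (m : ℝ) ^ 2 * L ≤ (m : ℝ) ^ 2 * (D * r) :=
      mul_le_mul_of_nonneg_left hLr (sq_nonneg _)
    nlinarith [mul_nonneg (mul_nonneg (Nat.cast_nonneg (α := ℝ) r) (Nat.cast_nonneg (α := ℝ) D))
      (sq_nonneg (d : ℝ))]
  have h5 : M1 ≤ D * ((m : ℝ) + d) ^ 2 := by
    have h6 : (r : ℝ) * M1 ≤ D * ((m : ℝ) + d) ^ 2 :=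
      le_of_mul_le_mul_left (by linarith) (by linarith : (0 : ℝ) < r)
    exact (le_mul_of_one_le_left hM0.le hr1).trans h6
  exact h5

/-- The degree is at most the norm of the restriction to `P`. -/
theorem BlichfeldtSetting.degree_le (S : BlichfeldtSetting P Z ω) {f ξ : N → ℂ}
    (hf : IsCharacter N f) {n D : ℕ} (hn : f 1 = (n : ℂ))
    (hξ : ξ = avgFun P (fun g => f g * conj (f g))) (hD : ξ 1 = (D : ℂ)) : n ≤ D := by
  haveI := Fintype.ofFinite (IrrCharacter P)
  have hres : IsCharacter P fun y : P => f y := IsCharacter.restrict hf P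
  obtain ⟨e, he, he'⟩ := IsCharacter.exists_nat_decomp hres
  have h1 : classInner (fun y : P => f y) (fun y : P => f y) = (D : ℂ) := by
    rw [← hD, hξ]
    simp [classInner, avgFun]
  rw [classInner_eq_sum_irr (IsCharacter.isClassFunction hres)
    (IsCharacter.isClassFunction hres)] at h1
  simp only [he', map_natCast] at h1
  have h1' : D = ∑ χ, e χ * e χ := by exact_mod_cast h1.symm
  have h2 := congrFun he 1
  simp only [OneMemClass.coe_one, hn, Finset.sum_apply, Pi.smul_apply, smul_eq_mul] at h2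
  have hlin : ∀ χ : IrrCharacter P, (χ : P → ℂ) 1 = 1 := fun χ =>
    IsIrrCharacter.apply_one_of_comm (fun a b => Subtype.ext (S.comm _ a.2 _ b.2)) χ.2
  simp only [hlin, mul_one] at h2
  have h2' : n = ∑ χ, e χ := by exact_mod_cast h2
  rw [h1', h2']
  exact Finset.sum_le_sum fun χ _ => Nat.le_mul_self _

/-- The variance of `ξ`. -/
theorem BlichfeldtSetting.variance_bound (S : BlichfeldtSetting P Z ω) {ξ : N → ℂ} {x : N → ℝ}
    {D K : ℕ} (hξ1 : classInner ξ (fun _ => 1) = 1) (hξx : ∀ g, ξ g = (x g : ℂ))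
    (hx : ∀ g, 0 ≤ x g) (hD2 : (2 : ℝ) ≤ D) (hK : classInner ξ ξ = (K : ℂ))
    (hxZP : ∀ z ∈ Z, ∀ y ∈ P, x (z * y) = D) {h : ℝ} (hh1 : 1 ≤ h)
    (hN : (Nat.card N : ℝ) = h * (Nat.card Z * Nat.card P)) :
    1 ≤ (K : ℝ) - 1 ∧ ((D : ℝ) - 1) ^ 2 + 1 ≤ ((K : ℝ) - 1) * h := by
  classical
  have hP0 : (0 : ℝ) < Nat.card P := by exact_mod_cast Nat.card_pos
  have hZ0 : (0 : ℝ) < Nat.card Z := by exact_mod_cast Nat.card_pos
  have hN0 : (0 : ℝ) < Nat.card N := by exact_mod_cast Nat.card_pos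
  have hcast : (Nat.card N : ℝ)⁻¹ * ∑ g, x g * x g = K := by
    have h1 := hK
    rw [funext hξx, classInner_ofReal_ofReal] at h1
    exact_mod_cast h1
  have hsumK : ∑ g, x g * x g = Nat.card N * (K : ℝ) := by
    rw [← hcast, mul_inv_cancel_left₀ hN0.ne']
  obtain ⟨hKsum, T, hTcard, hTval⟩ := S.card_mul_le_sum (fun g => (x g - 1) * (x g - 1))
    (fun g => mul_self_nonneg _) (c := ((D : ℝ) - 1) * ((D : ℝ) - 1))
    fun z hz y hy => by rw [hxZP z hz y hy]
  have hsum1 : ∑ g, x g = Nat.card N := by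
    have h1 : classInner ξ (fun _ => ((1 : ℝ) : ℂ)) = 1 := by simpa using hξ1
    rw [funext hξx, classInner_ofReal_ofReal] at h1
    have h1' : (Nat.card N : ℝ)⁻¹ * ∑ g, x g * 1 = 1 := by exact_mod_cast h1
    simp only [mul_one] at h1'
    exact (inv_mul_eq_one₀ hN0.ne').mp h1' |>.symm
  set R : ℝ := (K : ℝ) - 1 with hR
  have hsumR : ∑ g, (x g - 1) * (x g - 1) = Nat.card N * R := by
    simp only [sub_mul, mul_sub, Finset.sum_sub_distrib, mul_one, one_mul, hsumK, hsum1,
      Finset.sum_const, Finset.card_univ, nsmul_eq_mul, Nat.card_eq_fintype_card, hR]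
    ring
  have hR1 : 1 ≤ R := by
    have hpos : 0 < (Nat.card N : ℝ) * R :=
      lt_of_lt_of_le (mul_pos (mul_pos hZ0 hP0) (by nlinarith)) (hsumR ▸ hKsum)
    have : (1 : ℝ) < K := by
      have := (mul_pos_iff_of_pos_left hN0).mp hpos
      linarith
    have hK2 : 2 ≤ K := by exact_mod_cast this
    have : (2 : ℝ) ≤ K := by exact_mod_cast hK2
    linarith
  refine ⟨hR1, ?_⟩
  have hxT : ∀ g ∈ T, x g = D := fun g hg => by
    obtain ⟨z, hz, y, hy, rfl⟩ := hTval g hg
    exact hxZP z hz y hy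
  have hout : ∑ g ∈ Finset.univ \ T, (x g - 1) = -((T.card : ℝ) * ((D : ℝ) - 1)) := by
    rw [eq_neg_iff_add_eq_zero]
    have hTv : ∑ g ∈ T, (x g - 1) = (T.card : ℝ) * ((D : ℝ) - 1) := by
      rw [Finset.sum_congr rfl fun g hg => ?_, Finset.sum_const, nsmul_eq_mul]
      rw [hxT g hg]
    rw [← hTv, Finset.sum_sdiff (Finset.subset_univ T), Finset.sum_sub_distrib, hsum1]
    simp [Nat.card_eq_fintype_card]
  have hout2 : ∑ g ∈ Finset.univ \ T, (x g - 1) ^ 2 =
      Nat.card N * R - (T.card : ℝ) * ((D : ℝ) - 1) ^ 2 := by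
    rw [eq_sub_iff_add_eq, ← hsumR, ← Finset.sum_sdiff (Finset.subset_univ T)]
    simp only [← sq]
    congr 1
    rw [Finset.sum_congr rfl fun g hg => by
        show (x g - 1) ^ 2 = ((D : ℝ) - 1) ^ 2
        rw [hxT g hg],
      Finset.sum_const, nsmul_eq_mul]
  have hcardout : ((Finset.univ \ T).card : ℝ) = Nat.card N - T.card := by
    rw [Finset.card_sdiff, Finset.inter_univ, Finset.card_univ, Nat.cast_sub (by
      exact Finset.card_le_univ T), Nat.card_eq_fintype_card]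
  have hcs := sq_sum_le_card_mul_sum_sq (s := Finset.univ \ T) (f := fun g => x g - 1)
  rw [hout, hout2, hcardout, hTcard, hN] at hcs
  set t : ℝ := (Nat.card Z : ℝ) * Nat.card P
  have ht : 0 < t := mul_pos hZ0 hP0
  set e : ℝ := ((D : ℝ) - 1) ^ 2
  have h1 : t ^ 2 * e ≤ t ^ 2 * ((h - 1) * (h * R - e)) := by
    calc t ^ 2 * e = (-(t * ((D : ℝ) - 1))) ^ 2 := by ring
      _ ≤ (h * t - t) * (h * t * R - t * e) := hcs
      _ = _ := by ring
  have h2 := le_of_mul_le_mul_left h1 (pow_pos ht 2)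
  have h3 : e ≤ (h - 1) * R := by
    refine le_of_mul_le_mul_left (?_ : h * e ≤ h * ((h - 1) * R)) (by linarith)
    nlinarith
  nlinarith

/-- The final arithmetic. -/
theorem false_of_ineq {n D B X0 s : ℝ} (hn : 2 ≤ n) (hnD : n ≤ D) (hB0 : 0 ≤ B)
    (hB : B = n ^ 2 - D) (hX : ((D - 1) ^ 2 + 1) * (n + 1) ^ 2 ≤ X0)
    (hs : s = Real.sqrt (X0 + D ^ 2)) (hle : X0 ≤ B * (D + s)) : False := by
  have e1 : ((n - 1) ^ 2 + 1) * (n + 1) ^ 2 ≤ ((D - 1) ^ 2 + 1) * (n + 1) ^ 2 :=
    mul_le_mul_of_nonneg_right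
      (by have := pow_le_pow_left₀ (by linarith : (0 : ℝ) ≤ n - 1) (by linarith : n - 1 ≤ D - 1) 2
          linarith) (sq_nonneg _)
  have e2 : n ^ 2 ≤ D ^ 2 := pow_le_pow_left₀ (by linarith) hnD 2
  have e3 : ((n - 1) ^ 2 + 1) * (n + 1) ^ 2 = n ^ 4 - n ^ 2 + (2 * n + 2) := by ring
  have e4 : B ^ 2 + 2 * B * D = n ^ 4 - D ^ 2 := by rw [hB]; ring
  have hBD : 0 ≤ B * D := mul_nonneg hB0 (by linarith)
  have hgap : B ^ 2 + 2 * B * D < X0 := by linarith
  have hB2 : 0 ≤ B ^ 2 := sq_nonneg B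
  have hsq : s ^ 2 = X0 + D ^ 2 := by
    rw [hs]; exact Real.sq_sqrt (by linarith [sq_nonneg D])
  have h0 : 0 ≤ X0 - B * D := by linarith
  have h2 := mul_self_le_mul_self h0 (show X0 - B * D ≤ B * s by linarith)
  have h3 : (B * s) * (B * s) = B ^ 2 * (X0 + D ^ 2) := by rw [← hsq]; ring
  have h4 : 0 < X0 * (X0 - (B ^ 2 + 2 * B * D)) := mul_pos (by linarith) (sub_pos.mpr hgap)
  nlinarith

/-- The moved degree of a combination plus the trivial character. -/
theorem moved_one_add_sum {ι : Type v} [Fintype ι] (P : Subgroup N) [Fintype P] (c : ι → ℂ)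
    (ψ : ι → N → ℂ) (g : N) :
    ((fun g => 1 + ∑ i, c i * ψ i g) - avgFun P (fun g => 1 + ∑ i, c i * ψ i g)) g =
      ∑ i, c i * (ψ i - avgFun P (ψ i)) g := by
  have he : (fun g => 1 + ∑ i, c i * ψ i g) = (fun _ => (1 : ℂ)) + ∑ i, c i • ψ i := by
    funext g
    simp [Finset.sum_apply]
  have h1 : avgFun P ((fun _ => (1 : ℂ)) + ∑ i, c i • ψ i) =
      (fun _ => (1 : ℂ)) + ∑ i, c i • avgFun P (ψ i) := by
    funext g
    have hP : (Nat.card P : ℂ) ≠ 0 := by exact_mod_cast Nat.card_pos.ne'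
    have h2 := congrFun (avgFun_sum P Finset.univ fun i => c i • ψ i) g
    simp only [avgFun_smul] at h2
    rw [Pi.add_apply, ← h2]
    simp only [avgFun, Pi.add_apply, Finset.sum_add_distrib, Finset.sum_const, Finset.card_univ,
      nsmul_eq_mul, mul_one, mul_add, ← Nat.card_eq_fintype_card, inv_mul_cancel₀ hP]
  rw [he, h1]
  simp [Finset.sum_apply, Finset.sum_sub_distrib, mul_sub]

/-- **The numerical core**: there is no character of degree `n` with `(n + 1)² < |P|`. -/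
theorem BlichfeldtSetting.false_of_small {ι : Type v} [Fintype ι]
    (S : BlichfeldtSetting P Z ω) (S1 : BlichfeldtSetting P Z (fun _ => 1))
    {f : N → ℂ} (hf : IsCharacter N f) (hfω : IsCovariant Z ω f) {n : ℕ} (hn : f 1 = (n : ℂ))
    (hn2 : 2 ≤ n) (hP : (n + 1) ^ 2 < Nat.card P)
    (hmoved : avgFun P f ≠ f)
    (hB : ∀ F, IsClassFunction N F → IsSingularSupported P Z F →
      Complex.normSq (classInner f F) ≤ (classInner F F).re)
    (c : ι → ℕ) (ψ : ι → N → ℂ)
    (hdec : (fun g => f g * conj (f g)) = fun g => 1 + ∑ i, (c i : ℂ) * ψ i g)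
    (hψ : ∀ i, c i ≠ 0 → IsCharacter N (ψ i) ∧ IsCovariant Z (fun _ => 1) (ψ i) ∧
      avgFun P (ψ i) ≠ ψ i ∧ ∀ F, IsClassFunction N F → IsSingularSupported P Z F →
        Complex.normSq (classInner (ψ i) F) + Complex.normSq (classInner (fun _ => 1) F) ≤
          (classInner F F).re) : False := by
  classical
  haveI := S.normal
  set M1 := movedDim P Z with hM1def
  have hPn : ((n : ℝ) + 1) ^ 2 + 1 ≤ (Nat.card P : ℝ) := by
    exact_mod_cast (Nat.succ_le_of_lt hP)
  have hP0 : (0 : ℝ) < Nat.card P := by exact_mod_cast Nat.card_pos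
  have hZ0 : (0 : ℝ) < Nat.card Z := by exact_mod_cast Nat.card_pos
  -- `h = |N| / |ZP|`
  set h : ℝ := (Z.index : ℝ) / Nat.card P with hhdef
  obtain ⟨hN, hM1', hh1⟩ := S.ratio_facts hhdef
  have hM1 : M1 = h * ((Nat.card P : ℝ) - 1) := hM1'
  have hX : ((n : ℝ) + 1) ^ 2 ≤ (Nat.card P : ℝ) - 1 := by linarith
  have hM0 : 0 < M1 := by
    rw [hM1]
    exact mul_pos (by linarith) (lt_of_lt_of_le (pow_pos (by positivity) 2) hX)
  -- the moved and fixed parts of `f`
  set φ := f - avgFun P f with hφdef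
  have hφc : IsCharacter N φ := IsCharacter.sub_avgFun P hf
  have hAc : IsCharacter N (avgFun P f) := IsCharacter.avgFun P hf
  obtain ⟨m, hm⟩ := IsCharacter.exists_apply_one hφc
  obtain ⟨d, hd⟩ := IsCharacter.exists_apply_one hAc
  obtain ⟨a, ha⟩ := IsCharacter.exists_classInner_nat hφc hφc
  have hmd : n = m + d := by
    have : (n : ℂ) = (m : ℂ) + d := by
      rw [← hn, ← hm, ← hd, hφdef, Pi.sub_apply]; ring
    exact_mod_cast this
  have ha1 : 1 ≤ a := by
    rcases Nat.eq_zero_or_pos a with rfl | ha'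
    · have h0 := classInner_self_eq_zero (ha.trans Nat.cast_zero)
      exact absurd (sub_eq_zero.mp h0).symm hmoved
    · exact ha'
  have hmn : (m : ℝ) ≤ n := by exact_mod_cast (show m ≤ n by omega)
  have hmM : (m : ℝ) ^ 2 < M1 := by
    rw [hM1]
    have h1 : (Nat.card P : ℝ) - 1 ≤ h * ((Nat.card P : ℝ) - 1) :=
      le_mul_of_one_le_left (by nlinarith) hh1
    nlinarith [Nat.cast_nonneg (α := ℝ) m]
  -- `φ` is irreducible
  have haone : a = 1 := S.eq_one_of_lt hf hfω hB ha hm ha1 hM0 hmM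
  subst haone
  rw [Nat.cast_one] at ha
  have hφω : IsCovariant Z ω φ := by
    intro z hz g
    simp only [hφdef, Pi.sub_apply, hfω z hz g, avgFun_isCovariant P hfω z hz g]
    ring
  have hφ0 : ∀ g, IsFixedPointFreeOn P g → φ g = 0 := fun g hg => by
    rw [hφdef, Pi.sub_apply, avgFun_eq_self_of_fixedPointFree P S.comm
      (IsCharacter.isClassFunction hf) hg, sub_self]
  obtain ⟨ξ, x, D, K, hξ, hξc, hξω, hξA, hξ0, hξ1, hξx, hx, hD, hK, hKD, hxZP⟩ :=
    S.exists_xi hφc hφω hφ0 ha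
  have hcast : (Nat.card N : ℝ)⁻¹ * ∑ g, x g * x g = K := by
    have h1 := hK
    rw [funext hξx, classInner_ofReal_ofReal] at h1
    exact_mod_cast h1
  have hN0 : (0 : ℝ) < Nat.card N := by exact_mod_cast Nat.card_pos
  have hsumK : ∑ g, x g * x g = Nat.card N * (K : ℝ) := by
    rw [← hcast, mul_inv_cancel_left₀ hN0.ne']
  have hDh : (D : ℝ) ≤ h := by
    obtain ⟨h1, -⟩ := S.card_mul_le_sum (fun g => x g * x g) (fun g => mul_self_nonneg _)
      (c := (D : ℝ) * D) fun z hz y hy => by rw [hxZP z hz y hy]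
    rw [hsumK, hN] at h1
    have h2 : (D : ℝ) * D ≤ h * D := by
      refine le_of_mul_le_mul_left (?_ : (Nat.card Z : ℝ) * Nat.card P * ((D : ℝ) * D) ≤ _)
        (mul_pos hZ0 hP0)
      calc (Nat.card Z : ℝ) * Nat.card P * ((D : ℝ) * D)
          ≤ h * (Nat.card Z * Nat.card P) * K := h1
        _ ≤ h * (Nat.card Z * Nat.card P) * D := mul_le_mul_of_nonneg_left hKD (by positivity)
        _ = _ := by ring
    nlinarith [Nat.cast_nonneg (α := ℝ) D]
  -- the fixed part vanishes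
  have hd0 : d = 0 := by
    by_contra hd0
    have h5 := S.movedDim_le_of_fixed hf hfω hB ha hm hd hd0 hξc hξω hξA hξ0 hξ1 hξx hx hD hM0
    rw [← hM1def] at h5
    have h6 : (n : ℝ) = m + d := by exact_mod_cast hmd
    rw [hM1, ← h6] at h5
    have h7 : (D : ℝ) * (n : ℝ) ^ 2 ≤ h * (n : ℝ) ^ 2 :=
      mul_le_mul_of_nonneg_right hDh (sq_nonneg _)
    have h8 : h * ((n : ℝ) + 1) ^ 2 ≤ h * ((Nat.card P : ℝ) - 1) :=
      mul_le_mul_of_nonneg_left hX (by linarith)
    nlinarith [Nat.cast_nonneg (α := ℝ) n]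
  have hAzero : avgFun P f = 0 := IsCharacter.eq_zero_of_apply_one hAc (by rw [hd, hd0, Nat.cast_zero])
  have hφf : φ = f := by rw [hφdef, hAzero, sub_zero]
  rw [hφf] at hξ
  -- `n ≤ D`
  have hnD : n ≤ D := S.degree_le hf hn hξ hD
  -- `R = K - 1`
  have hKeq : ∀ F : N → ℂ, avgFun P F = F →
      classInner (fun g => f g * conj (f g)) F = classInner ξ F := fun F hF => by
    rw [hξ, classInner_avgFun_left, hF]
  have hD2 : (2 : ℝ) ≤ D := by exact_mod_cast hn2.trans hnD
  obtain ⟨hR1, hRh⟩ := S.variance_bound hξ1 hξx (fun g => (hx g).1) hD2 hK hxZP hh1 hN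
  set R : ℝ := (K : ℝ) - 1 with hR
  have hRhX : (((D : ℝ) - 1) ^ 2 + 1) * ((n : ℝ) + 1) ^ 2 ≤ R * M1 := by
    rw [hM1, ← mul_assoc]
    exact mul_le_mul hRh hX (sq_nonneg _) (by linarith [sq_nonneg ((D : ℝ) - 1)])
  -- the constituents of `f * conj f`
  set B : ℝ := (n : ℝ) ^ 2 - D with hB'
  set s : ℝ := Real.sqrt (R * M1 + (D : ℝ) ^ 2) with hs
  have hterm : ∀ i, ∃ r m' : ℕ, (c i ≠ 0 → classInner (ψ i) ξ = (r : ℂ) ∧
      (ψ i - avgFun P (ψ i)) 1 = (m' : ℂ)) ∧
      (c i : ℝ) * ((r : ℝ) * M1) ≤ (c i : ℝ) * ((m' : ℝ) * (D + s)) := by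
    intro i
    by_cases hci : c i = 0
    · exact ⟨0, 0, fun h => absurd hci h, by simp [hci]⟩
    obtain ⟨hψc, hψω, hψne, hψB⟩ := hψ i hci
    obtain ⟨r, hr⟩ := IsCharacter.exists_classInner_nat hψc hξc
    have hψφ := IsCharacter.sub_avgFun P hψc
    obtain ⟨m', hm'⟩ := IsCharacter.exists_apply_one hψφ
    obtain ⟨a', ha'⟩ := IsCharacter.exists_classInner_nat hψφ hψφ
    have ha'1 : 1 ≤ a' := by
      rcases Nat.eq_zero_or_pos a' with rfl | h'
      · exact absurd (sub_eq_zero.mp (classInner_self_eq_zero (ha'.trans Nat.cast_zero))).symm hψne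
      · exact h'
    have key := S1.bessel_bound (τ := fun _ => 1) hψc hξc hψω hξω (fun z _ g => by simp) hξA
      (avgFun_of_invariant P fun _ _ _ => rfl) hξ0 hψB (t := 1) ha' hm' hD hr hK
      (by rw [← classInner_conj_symm ξ (fun _ => (1 : ℂ)), hξ1, map_one, Nat.cast_one]) hM0 ha'1
    refine ⟨r, m', fun _ => ⟨hr, hm'⟩, mul_le_mul_of_nonneg_left ?_ (Nat.cast_nonneg _)⟩
    have hnn : 0 ≤ R * M1 + (D : ℝ) ^ 2 := by positivity
    have hsq : s ^ 2 = R * M1 + (D : ℝ) ^ 2 := Real.sq_sqrt hnn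
    have h1 : ((r : ℝ) * M1 - D * m') ^ 2 ≤ ((m' : ℝ) * s) ^ 2 := by
      rw [mul_pow, hsq, hR]
      simpa using key
    have h2 := (sq_le_sq.mp h1 |> fun h => (le_abs_self _).trans h)
    rw [abs_of_nonneg (mul_nonneg (Nat.cast_nonneg m') (Real.sqrt_nonneg _))] at h2
    nlinarith
  choose r m' hrm hle using hterm
  have hsumr : ∑ i, (c i : ℝ) * r i = R := by
    have h1 : classInner (fun g => f g * conj (f g)) ξ = (K : ℂ) := by rw [hKeq ξ hξA, hK]
    rw [hdec] at h1
    have h2 : classInner (fun g => 1 + ∑ i, (c i : ℂ) * ψ i g) ξ =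
        classInner (fun _ => 1) ξ + ∑ i, (c i : ℂ) * classInner (ψ i) ξ := by
      simp only [← classInner_smul_left, ← classInner_sum_left, ← classInner_add_left]
      refine congrArg (classInner · ξ) (funext fun g => ?_)
      simp [Finset.sum_apply]
    rw [h2, ← classInner_conj_symm ξ (fun _ => (1 : ℂ)), hξ1, map_one] at h1
    have h3 : ∀ i, (c i : ℂ) * classInner (ψ i) ξ = ((c i * r i : ℕ) : ℂ) := fun i => by
      by_cases hci : c i = 0
      · simp [hci]
      · rw [(hrm i hci).1]; push_cast; rfl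
    simp only [h3] at h1
    have h4 : 1 + ∑ i, c i * r i = K := by exact_mod_cast h1
    rw [hR, ← h4]
    push_cast
    ring
  have hsumm : ∑ i, (c i : ℝ) * m' i = B := by
    have h3 : ∀ i, (c i : ℂ) * (ψ i - avgFun P (ψ i)) 1 = ((c i * m' i : ℕ) : ℂ) := fun i => by
      by_cases hci : c i = 0
      · simp [hci]
      · rw [(hrm i hci).2]; push_cast; rfl
    have h1 : ((fun g => f g * conj (f g)) - avgFun P (fun g => f g * conj (f g))) 1 =
        ((n : ℂ) * n - D) := by
      rw [Pi.sub_apply, ← hξ, hD]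
      simp [hn]
    rw [hdec] at h1
    have h2 := moved_one_add_sum P (fun i => (c i : ℂ)) ψ 1
    rw [h2] at h1
    simp only [h3] at h1
    have h4 : ((∑ i, c i * m' i + D : ℕ) : ℂ) = ((n * n : ℕ) : ℂ) := by
      push_cast at h1 ⊢
      rw [h1]; ring
    have h5 : ∑ i, c i * m' i + D = n * n := by exact_mod_cast h4
    have h6 : ((∑ i, c i * m' i + D : ℕ) : ℝ) = ((n * n : ℕ) : ℝ) := by rw [h5]
    push_cast at h6
    rw [hB']
    linarith
  have hmain : R * M1 ≤ B * (D + s) := by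
    rw [← hsumr, ← hsumm, Finset.sum_mul, Finset.sum_mul]
    refine Finset.sum_le_sum fun i _ => ?_
    rw [mul_assoc, mul_assoc]
    exact hle i
  have hB0 : 0 ≤ B := by
    rw [← hsumm]
    exact Finset.sum_nonneg fun i _ => by positivity
  -- the final contradiction
  exact false_of_ineq (by exact_mod_cast hn2) (by exact_mod_cast hnD) hB0 hB' hRhX hs hmain

end Cfsg.Agent.Lib.Characters
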