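import Cfsg.Agent.Lib.Characters.BlichfeldtCore
import Cfsg.Agent.Lib.Characters.BlichfeldtIto
import Cfsg.Agent.Lib.Transfer.Frobenius
import Cfsg.Agent.S0185

/-!
# The theorem of Blichfeldt, Feit and Thompson on normal Sylow subgroups

The reduction to `false_of_small_character` and `ito_commute`.
-/

namespace Cfsg.Agent.Lib.Characters

open scoped ComplexConjugate
open Module

set_option linter.unusedSectionVars false
set_option linter.unusedSimpArgs false
set_option linter.unusedFintypeInType false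
set_option linter.style.haveILetI false

universe u

variable {G : Type u} [Group G] [Finite G] {p : ℕ} [Fact p.Prime]

/-- A Sylow subgroup is normal if it is the only one. -/
theorem sylow_normal_of_forall_eq (P : Sylow p G) (h : ∀ Q : Sylow p G, Q = P) :
    (P : Subgroup G).Normal :=
  Subgroup.normalizer_eq_top_iff.mp
    (eq_top_iff.mpr fun g _ => Sylow.smul_eq_iff_mem_normalizer.mp (h (g • P)))

/-- In a subgroup with normal Sylow subgroups, two Sylow subgroups of the whole group agree. -/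
theorem sylow_eq_of_le {H : Subgroup G} (hH : ∀ R : Sylow p H, (R : Subgroup H).Normal)
    {P Q : Sylow p G} (hP : (P : Subgroup G) ≤ H) (hQ : (Q : Subgroup G) ≤ H) : P = Q := by
  haveI := Sylow.unique_of_normal (P.subtype hP) (hH _)
  have h1 : P.subtype hP = Q.subtype hQ := Subsingleton.elim _ _
  have h2 := congrArg (fun R : Sylow p H => (R : Subgroup H)) h1
  simp only [Sylow.coe_subtype, Subgroup.subgroupOf_inj, inf_of_le_left hP, inf_of_le_left hQ]
    at h2
  exact Sylow.ext h2

/-- The `p`-elements of a subgroup with normal Sylow subgroups lie in one `p`-subgroup. -/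
theorem exists_sylow_forall_mem {H : Subgroup G} (hH : ∀ R : Sylow p H, (R : Subgroup H).Normal) :
    ∃ R : Subgroup G, R ≤ H ∧ IsPGroup p R ∧ (∀ h ∈ H, ∀ r ∈ R, h * r * h⁻¹ ∈ R) ∧
      ∀ g ∈ H, (∃ k, orderOf g = p ^ k) → g ∈ R := by
  obtain ⟨S⟩ : Nonempty (Sylow p H) := inferInstance
  haveI := Sylow.unique_of_normal S (hH S)
  refine ⟨(S : Subgroup H).map H.subtype, Subgroup.map_subtype_le _, S.2.map _, ?_, ?_⟩
  · rintro h hh r ⟨s, hs, rfl⟩
    exact ⟨⟨h, hh⟩ * s * ⟨h, hh⟩⁻¹, (hH S).conj_mem s hs _, rfl⟩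
  · rintro g hg ⟨k, hk⟩
    have hp' : IsPGroup p (Subgroup.zpowers (⟨g, hg⟩ : H)) := by
      refine IsPGroup.of_card (n := k) ?_
      rw [Nat.card_zpowers, ← hk, ← Subgroup.orderOf_coe]
    obtain ⟨R, hR⟩ := hp'.exists_le_sylow
    rw [Subsingleton.elim R S] at hR
    exact ⟨⟨g, hg⟩, hR (Subgroup.mem_zpowers _), rfl⟩

/-- A `p`-element of a proper normal subgroup with normal Sylow subgroups is in every Sylow
subgroup. -/
theorem mem_sylow_of_mem_normal {K : Subgroup G} [K.Normal]
    (hK : ∀ R : Sylow p K, (R : Subgroup K).Normal) {g : G} (hg : g ∈ K)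
    (hgp : ∃ k, orderOf g = p ^ k) (Q : Sylow p G) : g ∈ (Q : Subgroup G) := by
  obtain ⟨R, hRK, hRp, -, hR⟩ := exists_sylow_forall_mem (p := p) hK
  have hconj : ∀ r ∈ R, ∀ x : G, x * r * x⁻¹ ∈ R := by
    intro r hr x
    refine hR _ (Subgroup.Normal.conj_mem inferInstance r (hRK hr) x) ?_
    obtain ⟨k, hk⟩ := IsPGroup.iff_orderOf.mp hRp ⟨r, hr⟩
    refine ⟨k, ?_⟩
    rw [show x * r * x⁻¹ = MulAut.conj x r from (MulAut.conj_apply x r).symm,
      MulEquiv.orderOf_eq, ← hk, ← Subgroup.orderOf_coe]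
  obtain ⟨Q', hQ'⟩ := hRp.exists_le_sylow
  obtain ⟨x, rfl⟩ := MulAction.exists_smul_eq G Q' Q
  have h1 : x⁻¹ * g * x ∈ (Q' : Subgroup G) := hQ' (by
    simpa using hconj g (hR g hg hgp) x⁻¹)
  rw [Sylow.coe_subgroup_smul, Subgroup.mem_pointwise_smul_iff_inv_smul_mem]
  simpa [MulAut.smul_def] using h1

/-- Elements on which all constituents of a faithful character are trivial are trivial. -/
theorem eq_one_of_constituents [Fintype (IrrCharacter G)] {n : ℕ}
    (ρ : Representation ℂ G (Fin n → ℂ)) (hρ : Function.Injective ρ)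
    (m : IrrCharacter G → ℕ)
    (hm : ρ.character = ∑ χ : IrrCharacter G, (m χ : ℂ) • (χ : G → ℂ)) {g : G}
    (hg : ∀ χ : IrrCharacter G, m χ ≠ 0 → (χ : G → ℂ) g = (χ : G → ℂ) 1) : g = 1 := by
  have h : ρ.character g = ρ.character 1 := by
    rw [hm]
    simp only [Finset.sum_apply, Pi.smul_apply, smul_eq_mul]
    refine Finset.sum_congr rfl fun χ _ => ?_
    by_cases h0 : m χ = 0
    · simp [h0]
    · rw [hg χ h0]
  rw [ρ.char_one, char_eq_finrank_iff] at h
  exact hρ (h.trans (map_one ρ).symm)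

/-- The degrees of the constituents are at most the degree. -/
theorem constituent_degree_le [Fintype (IrrCharacter G)] {n : ℕ}
    (ρ : Representation ℂ G (Fin n → ℂ)) (m : IrrCharacter G → ℕ)
    (hm : ρ.character = ∑ χ : IrrCharacter G, (m χ : ℂ) • (χ : G → ℂ)) {χ : IrrCharacter G}
    (hχ : m χ ≠ 0) {d : ℕ} (hd : (χ : G → ℂ) 1 = (d : ℂ)) : d ≤ n := by
  choose e he he' using fun θ : IrrCharacter G => IsIrrCharacter.exists_apply_one θ.2
  have h := congrFun hm 1
  rw [ρ.char_one, Module.finrank_fin_fun] at h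
  simp only [Finset.sum_apply, Pi.smul_apply, smul_eq_mul, he'] at h
  have h' : n = ∑ θ, m θ * e θ := by exact_mod_cast h
  have hde : d = e χ := by exact_mod_cast hd.symm.trans (he' χ)
  rw [h', hde]
  exact (Nat.le_mul_of_pos_left _ (Nat.pos_of_ne_zero hχ)).trans
    (Finset.single_le_sum (f := fun θ => m θ * e θ) (fun _ _ => Nat.zero_le _)
      (Finset.mem_univ χ))

/-- A central `p`-element of the derived group is trivial in small degree. -/
theorem eq_one_of_central_of_mem_commutator {n : ℕ} (ρ : Representation ℂ G (Fin n → ℂ))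
    (hρ : Function.Injective ρ) (hn : n < p) {z : G} (hz : z ∈ Subgroup.center G)
    (hzG : z ∈ commutator G) (hzp : ∃ k, orderOf z = p ^ k) : z = 1 := by
  classical
  haveI := Fintype.ofFinite G
  haveI := Fintype.ofFinite (IrrCharacter G)
  obtain ⟨m, hm, -⟩ := IsCharacter.exists_nat_decomp (isCharacter_of_rep ρ)
  refine eq_one_of_constituents ρ hρ m hm fun χ hχ => ?_
  obtain ⟨d, σ, hσ, hσχ⟩ := χ.2
  haveI := hσ
  have hd : (χ : G → ℂ) 1 = (d : ℂ) := by rw [← hσχ, σ.char_one, Module.finrank_fin_fun]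
  have hdn : d ≤ n := constituent_degree_le ρ m hm hχ hd
  have hd0 : d ≠ 0 := fun h =>
    IsIrrCharacter.apply_one_ne_zero χ.2 (by rw [hd, h, Nat.cast_zero])
  obtain ⟨c, hc⟩ := exists_smul_of_commute σ (σ z) fun g => by
    rw [← map_mul, ← map_mul, Subgroup.mem_center_iff.mp hz g]
  let dt : G →* ℂˣ := (LinearMap.det.comp (σ : G →* Module.End ℂ (Fin d → ℂ))).toHomUnits
  have h1 : dt z = 1 := MonoidHom.mem_ker.mp (Abelianization.commutator_subset_ker dt hzG)
  have h2 : LinearMap.det (σ z) = 1 := by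
    simpa [dt] using congrArg (fun u : ℂˣ => (u : ℂ)) h1
  have hcd : c ^ d = 1 := by
    rwa [hc, LinearMap.det_smul, LinearMap.det_id, mul_one, Module.finrank_fin_fun] at h2
  obtain ⟨k, hk⟩ := hzp
  have hpow : ∀ j : ℕ, σ (z ^ j) = c ^ j • (1 : Module.End ℂ (Fin d → ℂ)) := fun j => by
    rw [map_pow, hc, ← Module.End.one_eq_id, smul_pow, one_pow]
  have hco : c ^ (p ^ k) = 1 := by
    have h3 := hpow (p ^ k)
    rw [← hk, pow_orderOf_eq_one, map_one] at h3
    rw [← hk]
    have h4 := congrArg (LinearMap.trace ℂ (Fin d → ℂ)) h3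
    rw [map_smul, LinearMap.trace_one, Module.finrank_fin_fun, smul_eq_mul] at h4
    exact mul_right_cancel₀ (Nat.cast_ne_zero.mpr hd0) ((one_mul (d : ℂ)).trans h4).symm
  have hcop : Nat.Coprime d (p ^ k) :=
    Nat.Coprime.pow_right _ (((Fact.out (p := p.Prime)).coprime_iff_not_dvd.mpr fun hdvd =>
      absurd (Nat.le_of_dvd (Nat.pos_of_ne_zero hd0) hdvd) (by omega)).symm)
  have hc1 : c = 1 := by
    have h5 := pow_gcd_eq_one.mpr ⟨hcd, hco⟩
    rwa [hcop, pow_one] at h5
  rw [← hσχ, σ.char_one]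
  have : σ z = 1 := by rw [hc, hc1, one_smul, ← Module.End.one_eq_id]
  simp [Representation.character, this]

/-- The hypothesis of the theorem. -/
def BlichfeldtHyp (G : Type u) [Group G] (n p : ℕ) [Fact p.Prime] : Prop :=
  (n + 1) ^ 2 ≤ p ∨
    (n + 1 < p ∧ ∀ K : Subgroup G, ¬ p ^ 2 ∣ Nat.card K → ∀ Q : Sylow p K, (Q : Subgroup K).Normal)

theorem BlichfeldtHyp.subgroup {n : ℕ} (h : BlichfeldtHyp G n p) (H : Subgroup G) :
    BlichfeldtHyp H n p := by
  rcases h with h | ⟨h1, h2⟩
  · exact Or.inl h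
  · refine Or.inr ⟨h1, fun K hK Q => ?_⟩
    let e : K ≃* K.map H.subtype := K.equivMapOfInjective H.subtype H.subtype_injective
    have hK' : ¬ p ^ 2 ∣ Nat.card (K.map H.subtype) := by
      rwa [← Nat.card_congr e.toEquiv]
    have hN := h2 _ hK' (Q.mapSurjective (f := e.toMonoidHom) e.surjective)
    have hN' : ((Q : Subgroup K).map e.toMonoidHom).Normal := hN
    have : ((Q : Subgroup K).map e.toMonoidHom).comap e.toMonoidHom = (Q : Subgroup K) :=
      Subgroup.comap_map_eq_self_of_injective e.injective _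
    rw [← this]
    exact hN'.comap _

theorem BlichfeldtHyp.lt {n : ℕ} (h : BlichfeldtHyp G n p) : n + 1 < p := by
  have hp : p.Prime := Fact.out
  rcases h with h | ⟨h, -⟩
  · rcases Nat.eq_zero_or_pos n with rfl | hn
    · exact hp.one_lt
    · have : n + 1 < (n + 1) ^ 2 := by nlinarith
      omega
  · exact h

variable {n : ℕ}

/-- The case of a group that is not perfect. -/
theorem normal_sylow_of_not_perfect (ρ : Representation ℂ G (Fin n → ℂ))
    (hρ : Function.Injective ρ) (hn : n + 1 < p)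
    (ih : ∀ H : Subgroup G, H ≠ ⊤ → ∀ R : Sylow p H, (R : Subgroup H).Normal)
    (P : Sylow p G) (hc : ∀ Q : Sylow p G, ∀ x ∈ (Q : Subgroup G), ∀ y ∈ (Q : Subgroup G),
      x * y = y * x) (hG : commutator G ≠ ⊤) : (P : Subgroup G).Normal := by
  classical
  by_contra hnot
  have hp : p.Prime := Fact.out
  have hporder : ∀ x ∈ (P : Subgroup G), ∃ k, orderOf x = p ^ k := fun x hx => by
    obtain ⟨k, hk⟩ := IsPGroup.iff_orderOf.mp P.2 ⟨x, hx⟩
    exact ⟨k, by rw [← hk, ← Subgroup.orderOf_coe]⟩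
  -- `P ∩ G' = 1`
  have hPG : ∀ x ∈ (P : Subgroup G), x ∈ commutator G → x = 1 := by
    intro x hx hxG
    have hall : ∀ Q : Sylow p G, x ∈ (Q : Subgroup G) := fun Q =>
      mem_sylow_of_mem_normal (ih _ hG) hxG (hporder x hx) Q
    refine eq_one_of_central_of_mem_commutator ρ hρ (p := p) (by omega) ?_ hxG (hporder x hx)
    by_contra hz
    have hC : Subgroup.centralizer ({x} : Set G) ≠ ⊤ := fun h => hz
      (Subgroup.mem_center_iff.mpr fun g =>
        Subgroup.mem_centralizer_singleton_iff.mp (h ▸ Subgroup.mem_top g))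
    refine hnot (sylow_normal_of_forall_eq P fun Q => sylow_eq_of_le (ih _ hC) ?_ ?_)
    · exact fun y hy => Subgroup.mem_centralizer_singleton_iff.mpr (hc Q y hy x (hall Q))
    · exact fun y hy => Subgroup.mem_centralizer_singleton_iff.mpr (hc P y hy x (hall P))
  -- a normal `p`-complement
  obtain ⟨P0, K, hKn, hKc⟩ := Transfer.hasNormalPComplement_of_normalizer_le_centralizer P
    (fun g hg => Subgroup.mem_centralizer_iff.mpr fun y hy => by
      have h1 : g * y * g⁻¹ * y⁻¹ ∈ (P : Subgroup G) :=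
        (P : Subgroup G).mul_mem ((Subgroup.mem_normalizer_iff.mp hg y).mp hy)
          ((P : Subgroup G).inv_mem hy)
      have h2 : g * y * g⁻¹ * y⁻¹ ∈ commutator G :=
        Subgroup.commutator_mem_commutator (Subgroup.mem_top g) (Subgroup.mem_top y)
      calc y * g = 1 * y * g := by rw [one_mul]
        _ = g * y * g⁻¹ * y⁻¹ * y * g := by rw [hPG _ h1 h2]
        _ = g * y := by group)
  haveI := hKn
  have hKP : Subgroup.IsComplement' K (P : Subgroup G) := by
    have h1 := hKc.card_mul_card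
    have h2 : Nat.card P0 = Nat.card P := by rw [P0.card_eq_multiplicity, P.card_eq_multiplicity]
    have h3 : (Nat.card K).Coprime (Nat.card P0) := by
      have h4 : (P0 : Subgroup G).index = Nat.card K := by
        have h5 := (P0 : Subgroup G).card_mul_index
        rw [← h1, mul_comm (Nat.card K)] at h5
        exact Nat.eq_of_mul_eq_mul_left Nat.card_pos h5
      rw [← h4]
      obtain ⟨k, hk⟩ := IsPGroup.iff_card.mp P0.2
      rw [hk]
      exact Nat.Coprime.pow_right _ ((hp.coprime_iff_not_dvd.mpr P0.not_dvd_index).symm)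
    refine Subgroup.isComplement'_of_coprime ?_ ?_
    · rw [← h2]; exact h1
    · rw [← h2]; exact h3
  have hKcop : ∀ {y : G}, y ∈ K → (∃ k, orderOf y = p ^ k) → y = 1 := by
    rintro y hy ⟨k, hk⟩
    have h1 : orderOf y ∣ Nat.card K := Subgroup.orderOf_dvd_natCard K hy
    obtain ⟨P1, hP1⟩ := (IsPGroup.of_card (p := p) (G := Subgroup.zpowers y) (n := k)
      (by rw [Nat.card_zpowers, hk])).exists_le_sylow
    rcases Nat.eq_zero_or_pos k with rfl | hk0
    · exact orderOf_eq_one_iff.mp (by rw [hk, pow_zero])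
    · exfalso
      have hdvd : p ∣ Nat.card K := (dvd_pow_self p hk0.ne').trans (hk ▸ h1)
      have h4 : (P : Subgroup G).index = Nat.card K := by
        have h5 := (P : Subgroup G).card_mul_index
        rw [← hKP.card_mul_card, mul_comm (Nat.card K)] at h5
        exact Nat.eq_of_mul_eq_mul_left Nat.card_pos h5
      exact P.not_dvd_index (h4.symm ▸ hdvd)
  -- elements generating a proper subgroup with `K` centralise `K`
  have hlocal : ∀ x : G, (∃ k, orderOf x = p ^ k) → K ⊔ Subgroup.zpowers x ≠ ⊤ →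
      ∀ k ∈ K, k * x = x * k := by
    intro x hxp hne k hk
    obtain ⟨R, -, hRp, hRc, hR⟩ := exists_sylow_forall_mem (p := p) (ih _ hne)
    have hxH : x ∈ K ⊔ Subgroup.zpowers x :=
      Subgroup.mem_sup_right (Subgroup.mem_zpowers x)
    have hxR := hR x hxH hxp
    have h1 : k * x * k⁻¹ * x⁻¹ ∈ R :=
      R.mul_mem (hRc k (Subgroup.mem_sup_left hk) x hxR) (R.inv_mem hxR)
    have h2 : k * x * k⁻¹ * x⁻¹ ∈ K := by
      have := K.mul_mem hk (hKn.conj_mem _ (K.inv_mem hk) x)
      simpa [mul_assoc] using this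
    obtain ⟨e, he⟩ := IsPGroup.iff_orderOf.mp hRp ⟨_, h1⟩
    have h3 := hKcop h2 ⟨e, by rw [← he, ← Subgroup.orderOf_coe]⟩
    calc k * x = (k * x * k⁻¹ * x⁻¹) * x * k := by group
      _ = x * k := by rw [h3, one_mul]
  have hcommK : ∀ x ∈ (P : Subgroup G), ∀ k ∈ K, k * x = x * k := by
    intro x hx
    by_cases htop : K ⊔ Subgroup.zpowers x ≠ ⊤
    · exact hlocal x (hporder x hx) htop
    push Not at htop
    obtain ⟨a, ha⟩ := hporder x hx
    have hgen : ∀ g : G, ∃ i : ℕ, ∃ k ∈ K, g = x ^ i * k := by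
      intro g
      have hg : g ∈ Subgroup.zpowers x ⊔ K := by rw [sup_comm, htop]; trivial
      obtain ⟨y, hy, k, hk, rfl⟩ := Subgroup.mem_sup_of_normal_right.mp hg
      obtain ⟨i, rfl⟩ := (isOfFinOrder_of_finite x).mem_powers_iff_mem_zpowers.mpr hy
      exact ⟨i, k, hk, rfl⟩
    have hxpC : x ^ p ∈ Subgroup.center G := by
      have hxpK : ∀ k ∈ K, k * x ^ p = x ^ p * k := by
        refine hlocal _ (hporder _ ((P : Subgroup G).pow_mem hx p)) fun h => ?_
        have hxm : x ∈ Subgroup.zpowers (x ^ p) ⊔ K := by rw [sup_comm, h]; trivial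
        obtain ⟨y, hy, k, hk, hyk⟩ := Subgroup.mem_sup_of_normal_right.mp hxm
        obtain ⟨i, rfl⟩ := (isOfFinOrder_of_finite _).mem_powers_iff_mem_zpowers.mpr hy
        simp only at hyk
        have hk1 : k = 1 := hKcop hk (hporder k (by
          rw [show k = ((x ^ p) ^ i)⁻¹ * x from eq_inv_mul_of_mul_eq hyk]
          exact (P : Subgroup G).mul_mem ((P : Subgroup G).inv_mem
            ((P : Subgroup G).pow_mem ((P : Subgroup G).pow_mem hx p) i)) hx))
        rw [hk1, mul_one, ← pow_mul] at hyk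
        rcases Nat.eq_zero_or_pos a with rfl | ha0
        · rw [pow_zero, orderOf_eq_one_iff] at ha
          rw [ha, Subgroup.zpowers_one_eq_bot, sup_bot_eq] at htop
          have hbot : (P : Subgroup G) = ⊥ := by
            rw [eq_bot_iff]
            intro y hy
            exact hKcop (htop ▸ Subgroup.mem_top y) (hporder y hy)
          exact hnot (hbot ▸ inferInstance)
        · have h6 : x ^ (p * i) = x ^ 1 := by rw [pow_one]; exact hyk
          have h7 := (pow_eq_pow_iff_modEq.mp h6).of_dvd (ha ▸ dvd_pow_self p ha0.ne')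
          have h8 : 0 % p = 1 % p := by
            simpa [Nat.ModEq, Nat.mul_mod_right] using h7
          rw [Nat.zero_mod, Nat.mod_eq_of_lt hp.one_lt] at h8
          exact zero_ne_one h8
      rw [Subgroup.mem_center_iff]
      intro g
      obtain ⟨i, k, hk, rfl⟩ := hgen g
      rw [mul_assoc, hxpK k hk, ← mul_assoc, ← pow_add, add_comm, pow_add, mul_assoc]
    haveI := Fintype.ofFinite G
    haveI := Fintype.ofFinite (IrrCharacter G)
    obtain ⟨m, hm, -⟩ := IsCharacter.exists_nat_decomp (isCharacter_of_rep ρ)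
    intro k hk
    have h1 : k * x * k⁻¹ * x⁻¹ = 1 := by
      refine eq_one_of_constituents ρ hρ m hm fun χ hχ => ?_
      obtain ⟨d, σ, hσ, hσχ⟩ := χ.2
      haveI := hσ
      have hdn : d ≤ n := constituent_degree_le ρ m hm hχ
        (by rw [← hσχ, σ.char_one, Module.finrank_fin_fun])
      have hcomm := ito_commute hp K x (a := a)
        (((hp.coprime_iff_not_dvd).mpr fun hdvd => P.not_dvd_index (by
          have h5 := (P : Subgroup G).card_mul_index
          rw [← hKP.card_mul_card, mul_comm (Nat.card K)] at h5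
          rwa [Nat.eq_of_mul_eq_mul_left Nat.card_pos h5])).symm)
        ha hxpC hgen σ (by omega) k
      rw [← hσχ]
      simp only [Representation.character]
      congr 1
      rw [map_mul, map_mul, map_mul, ← hcomm, mul_assoc (σ x), ← map_mul σ k, mul_inv_cancel,
        map_one, mul_one, ← map_mul, mul_inv_cancel, map_one]
    exact (mul_inv_eq_iff_eq_mul.mp (mul_inv_eq_one.mp h1))
  refine hnot ⟨fun y hy g => ?_⟩
  have hg : g ∈ (P : Subgroup G) ⊔ K := by
    rw [sup_comm, hKP.sup_eq_top]; trivial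
  obtain ⟨q, hq, k, hk, rfl⟩ := Subgroup.mem_sup_of_normal_right.mp hg
  rw [show q * k * y * (q * k)⁻¹ = q * (k * y * k⁻¹) * q⁻¹ by group, hcommK y hy k hk,
    mul_inv_cancel_right]
  exact (P : Subgroup G).mul_mem ((P : Subgroup G).mul_mem hq hy) ((P : Subgroup G).inv_mem hq)

/-- The case of a perfect group. -/
theorem normal_sylow_of_perfect (ρ : Representation ℂ G (Fin n → ℂ))
    (hρ : Function.Injective ρ) (hn : n < p)
    (ih : ∀ H : Subgroup G, H ≠ ⊤ → ∀ R : Sylow p H, (R : Subgroup H).Normal)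
    (P : Sylow p G) (hc : ∀ Q : Sylow p G, ∀ x ∈ (Q : Subgroup G), ∀ y ∈ (Q : Subgroup G),
      x * y = y * x) (hG : commutator G = ⊤) (hbig : (n + 1) ^ 2 < Nat.card P) :
    (P : Subgroup G).Normal := by
  classical
  by_contra hnot
  haveI := Fintype.ofFinite G
  haveI := Fintype.ofFinite (IrrCharacter G)
  have hporder : ∀ x ∈ (P : Subgroup G), ∃ k, orderOf x = p ^ k := fun x hx => by
    obtain ⟨k, hk⟩ := IsPGroup.iff_orderOf.mp P.2 ⟨x, hx⟩
    exact ⟨k, by rw [← hk, ← Subgroup.orderOf_coe]⟩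
  have hPZ : ∀ y ∈ (P : Subgroup G), y ∈ Subgroup.center G → y = 1 := fun y hy hz =>
    eq_one_of_central_of_mem_commutator ρ hρ hn hz (hG ▸ Subgroup.mem_top y) (hporder y hy)
  -- trivial intersections
  have hTI1 : ∀ Q : Sylow p G, ∀ z ∈ (P : Subgroup G), z ∈ (Q : Subgroup G) → z ≠ 1 → Q = P := by
    intro Q z hzP hzQ hz1
    have hC : Subgroup.centralizer ({z} : Set G) ≠ ⊤ := fun h => hz1 (hPZ z hzP
      (Subgroup.mem_center_iff.mpr fun g =>
        Subgroup.mem_centralizer_singleton_iff.mp (h ▸ Subgroup.mem_top g)))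
    exact sylow_eq_of_le (ih _ hC)
      (fun y hy => Subgroup.mem_centralizer_singleton_iff.mpr (hc Q y hy z hzQ))
      (fun y hy => Subgroup.mem_centralizer_singleton_iff.mpr (hc P y hy z hzP))
  have hTI : IsBlichfeldtTI (P : Subgroup G) := by
    rintro g - hgZ ⟨x, hx, hx1, hgx⟩ h - ⟨x', hx', hx1', hgx'⟩
    have hC : Subgroup.centralizer ({g} : Set G) ≠ ⊤ := fun h => hgZ
      (Subgroup.mem_center_iff.mpr fun a =>
        Subgroup.mem_centralizer_singleton_iff.mp (h ▸ Subgroup.mem_top a))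
    obtain ⟨R, -, hRp, -, hR⟩ := exists_sylow_forall_mem (p := p) (ih _ hC)
    obtain ⟨Q, hQ⟩ := hRp.exists_le_sylow
    have hxQ : x ∈ (Q : Subgroup G) :=
      hQ (hR x (Subgroup.mem_centralizer_singleton_iff.mpr hgx.symm) (hporder x hx))
    have hQP : Q = P := hTI1 Q x hx hxQ hx1
    have hy : h⁻¹ * x' * h ∈ Subgroup.centralizer ({g} : Set G) := by
      refine Subgroup.mem_centralizer_singleton_iff.mpr ?_
      calc h⁻¹ * x' * h * g = h⁻¹ * (x' * (h * g * h⁻¹)) * h := by group
        _ = h⁻¹ * (h * g * h⁻¹ * x') * h := by rw [hgx']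
        _ = g * (h⁻¹ * x' * h) := by group
    have hyP : h⁻¹ * x' * h ∈ (P : Subgroup G) := by
      refine hQP ▸ hQ (hR _ hy ?_)
      obtain ⟨k, hk⟩ := hporder x' hx'
      refine ⟨k, ?_⟩
      rw [show h⁻¹ * x' * h = MulAut.conj h⁻¹ x' by simp [MulAut.conj_apply],
        MulEquiv.orderOf_eq, hk]
    have hx'mem : x' ∈ ((h • P : Sylow p G) : Subgroup G) := by
      rw [Sylow.coe_subgroup_smul, Subgroup.mem_pointwise_smul_iff_inv_smul_mem]
      simpa [MulAut.smul_def] using hyP
    exact Sylow.smul_eq_iff_mem_normalizer.mp (hTI1 _ x' hx' hx'mem hx1')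
  have hker : ∀ ψ : IrrCharacter G,
      (∀ y ∈ (P : Subgroup G), (ψ : G → ℂ) y = (ψ : G → ℂ) 1) → ψ = trivIrr G := by
    intro ψ hψ
    by_cases hK : charKernel (irr_isCharacter ψ) = ⊤
    · obtain ⟨d, hd, hd'⟩ := IsIrrCharacter.exists_apply_one ψ.2
      have hconst : (ψ : G → ℂ) = fun _ => (d : ℂ) := funext fun g => by
        rw [← hd']
        exact (mem_charKernel (irr_isCharacter ψ)).mp (hK ▸ Subgroup.mem_top g)
      have h1 := IsIrrCharacter.classInner_self ψ.2
      rw [hconst] at h1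
      simp only [classInner, map_natCast, Finset.sum_const, Finset.card_univ, nsmul_eq_mul,
        ← Nat.card_eq_fintype_card] at h1
      rw [inv_mul_cancel_left₀ (by exact_mod_cast Nat.card_pos.ne')] at h1
      have h2 : d * d = 1 := by exact_mod_cast h1
      refine Subtype.ext ?_
      rw [hconst, (mul_eq_one.mp h2).1, Nat.cast_one]
      rfl
    · exfalso
      refine hnot (sylow_normal_of_forall_eq P fun Q => ?_)
      refine Sylow.ext (P.3 Q.2 fun y hy => ?_)
      exact mem_sylow_of_mem_normal (ih _ hK)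
        ((mem_charKernel (irr_isCharacter ψ)).mpr (hψ y hy)) (hporder y hy) Q
  obtain ⟨m, hm, -⟩ := IsCharacter.exists_nat_decomp (isCharacter_of_rep ρ)
  obtain ⟨χ, hmχ, y, hy, hχy⟩ : ∃ χ : IrrCharacter G, m χ ≠ 0 ∧
      ∃ y ∈ (P : Subgroup G), (χ : G → ℂ) y ≠ (χ : G → ℂ) 1 := by
    by_contra hcon
    push Not at hcon
    have hbot : (P : Subgroup G) = ⊥ := (Subgroup.eq_bot_iff_forall _).mpr fun y hy =>
      eq_one_of_constituents ρ hρ m hm fun χ hχ => hcon χ hχ y hy
    exact hnot (hbot ▸ inferInstance)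
  obtain ⟨d, hd, hd'⟩ := IsIrrCharacter.exists_apply_one χ.2
  have hdn : d ≤ n := constituent_degree_le ρ m hm hmχ hd'
  have hd2 : 2 ≤ d := by
    by_contra hlt
    have h1 : (χ : G → ℂ) 1 = 1 := by rw [hd', show d = 1 by omega, Nat.cast_one]
    have h2 := IsCharacter.apply_of_mem_commutator (irr_isCharacter χ) h1
      (g := y) (hG ▸ Subgroup.mem_top y)
    exact hχy (h2.trans h1.symm)
  exact false_of_small_character (P : Subgroup G) (hc P) hPZ hTI hker χ.2 hd' hd2
    (lt_of_le_of_lt (Nat.pow_le_pow_left (by omega) 2) hbig)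

/-- **Blichfeldt, Feit–Thompson**. -/
theorem normal_sylow_of_small_degree : ∀ {N : ℕ} {G : Type u} [Group G] [Finite G]
    (_ : Nat.card G = N) (n : ℕ) (ρ : Representation ℂ G (Fin n → ℂ)),
    Function.Injective ρ → ∀ {p : ℕ} [Fact p.Prime], BlichfeldtHyp G n p →
      ∀ P : Sylow p G, (P : Subgroup G).Normal := by
  intro N
  induction N using Nat.strong_induction_on with
  | _ N ih =>
    intro G _ _ hN n ρ hρ p _ h P
    classical
    by_contra hnot
    have hp : p.Prime := Fact.out
    have hlt := h.lt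
    have hsub : ∀ H : Subgroup G, H ≠ ⊤ → ∀ R : Sylow p H, (R : Subgroup H).Normal :=
      fun H hH R => ih (Nat.card H) (hN ▸ lt_of_le_of_ne
        (Subgroup.card_le_card_group H) (fun he => hH (Subgroup.eq_top_of_card_eq H he))) rfl n
        (ρ.comp H.subtype) (hρ.comp H.subtype_injective) (h.subgroup H) R
    have hc : ∀ Q : Sylow p G, ∀ x ∈ (Q : Subgroup G), ∀ y ∈ (Q : Subgroup G),
        x * y = y * x := by
      intro Q x hx y hy
      let σ : Representation ℂ (Q : Subgroup G) (Fin n → ℂ) := ρ.comp (Q : Subgroup G).subtype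
      have := Cfsg.Agent.S0185.result σ (hρ.comp (Q : Subgroup G).subtype_injective)
        (fun q hq hqd => by
          obtain ⟨k, hk⟩ := IsPGroup.iff_card.mp Q.2
          rw [hk] at hqd
          rw [(Nat.prime_dvd_prime_iff_eq hq hp).mp (hq.dvd_of_dvd_pow hqd),
            Module.finrank_fin_fun]
          omega) ⟨x, hx⟩ ⟨y, hy⟩
      exact congrArg Subtype.val this
    have hbig : (n + 1) ^ 2 < Nat.card P := by
      obtain ⟨k, hk⟩ := IsPGroup.iff_card.mp P.2
      have hk0 : k ≠ 0 := by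
        rintro rfl
        rw [pow_zero, Subgroup.card_eq_one] at hk
        exact hnot (hk ▸ inferInstance)
      rcases h with h1 | ⟨h1, h2⟩
      · have hne : (n + 1) ^ 2 ≠ p := fun he => by
          have := hp
          rw [← he] at this
          exact (Prime.not_isSquare this.prime) ⟨n + 1, sq _⟩
        calc (n + 1) ^ 2 < p := lt_of_le_of_ne h1 hne
          _ ≤ p ^ k := Nat.le_self_pow hk0 p
          _ = Nat.card P := hk.symm
      · by_cases hdiv : p ^ 2 ∣ Nat.card G
        · have hk2 : 2 ≤ k := by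
            have h3 : p ^ 2 ∣ Nat.card P := P.pow_dvd_card_of_pow_dvd_card hdiv
            rw [hk] at h3
            exact (Nat.pow_dvd_pow_iff_le_right hp.one_lt).mp h3
          calc (n + 1) ^ 2 < p ^ 2 := Nat.pow_lt_pow_left h1 two_ne_zero
            _ ≤ p ^ k := Nat.pow_le_pow_right hp.pos hk2
            _ = Nat.card P := hk.symm
        · exfalso
          refine hnot (sylow_normal_of_forall_eq P fun Q => ?_)
          exact sylow_eq_of_le (h2 ⊤ (by rwa [Subgroup.card_top])) le_top le_top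
    by_cases hG : commutator G = ⊤
    · exact hnot (normal_sylow_of_perfect ρ hρ (by omega) hsub P hc hG hbig)
    · exact hnot (normal_sylow_of_not_perfect ρ hρ hlt hsub P hc hG)

end Cfsg.Agent.Lib.Characters
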