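import Cfsg.Agent.Lib.Characters.Sections
import Cfsg.Agent.Lib.Characters.Monomial

/-!
# The Brauer–Suzuki normal complement theorem
-/

namespace Cfsg.Agent.Lib.Characters

open scoped ComplexConjugate

set_option linter.unusedSectionVars false
set_option linter.unusedSimpArgs false
set_option linter.unusedVariables false
set_option linter.style.haveILetI false

universe u

variable {G : Type u} [Group G]

/-- Frobenius' divisibility for a Hall divisor. -/
theorem dvd_card_pow_eq_one [Fintype G] {m n : ℕ} (hmn : Nat.card G = m * n) (hcop : m.Coprime n) :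
    m ∣ Nat.card {x : G // x ^ m = 1} := by
  classical
  haveI := Fintype.ofFinite (IrrCharacter G)
  let P : G → Prop := fun z => ∃ v : G, IsConj v 1 ∧ (∃ u : G, z = u * v ∧ Commute u v ∧
      Nat.Coprime (orderOf u) n ∧ Nat.Coprime (orderOf v) m)
  obtain ⟨c, hc, hθ⟩ := sectionIndicator_integral m n hmn hcop 1 (by simp)
    (fun z => if P z then (n : ℂ) else 0) (fun z hz => if_pos hz) (fun z hz => if_neg hz)
  have hP : ∀ z, P z ↔ z ^ m = 1 := by
    intro z
    constructor
    · rintro ⟨v, hv, u, rfl, -, hu, -⟩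
      rw [isConj_one_left] at hv
      subst hv
      rw [mul_one]
      exact orderOf_dvd_iff_pow_eq_one.mp (hu.dvd_of_dvd_mul_right (hmn ▸ orderOf_dvd_natCard u))
    · intro hz
      exact ⟨1, IsConj.refl 1, z, (mul_one z).symm, Commute.one_right z,
        Nat.Coprime.coprime_dvd_left (orderOf_dvd_of_pow_eq_one hz) hcop, by simp⟩
  have h1 : classInner (fun z => if P z then (n : ℂ) else 0) (trivIrr G : G → ℂ) =
      c (trivIrr G) := by
    rw [hθ, finsum_eq_sum_of_fintype]
    exact classInner_irr_sum c (trivIrr G)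
  have hn0 : (n : ℂ) ≠ 0 := Nat.cast_ne_zero.mpr (fun h => Nat.card_pos.ne' (by rw [hmn, h, mul_zero]))
  have hm0 : m ≠ 0 := fun h => Nat.card_pos.ne' (by rw [hmn, h, zero_mul])
  have h2 : classInner (fun z => if P z then (n : ℂ) else 0) (trivIrr G : G → ℂ) =
      (Nat.card {x : G // x ^ m = 1} : ℂ) / m := by
    simp only [classInner, trivIrr_apply, map_one, mul_one, hP, Finset.sum_ite, Finset.sum_const,
      nsmul_eq_mul, mul_zero, add_zero, hmn, Nat.cast_mul]
    rw [Nat.card_eq_fintype_card, Fintype.card_subtype]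
    field_simp
  exact dvd_of_isIntegral_div hm0 (h2 ▸ h1 ▸ hc (trivIrr G))

/-- Centralisers of elements of `H` meet `H` in Hall subgroups. -/
theorem centralizer_index_coprime [Finite G] (H : Subgroup G)
    (hHall : Nat.Coprime (Nat.card H) H.index)
    (hfus : ∀ x ∈ H, ∀ y ∈ H, IsConj x y → ∃ h ∈ H, h * x * h⁻¹ = y)
    (helem : ∀ (E : Subgroup G) (p : ℕ), p.Prime → IsElementary p E → Nat.card E ∣ Nat.card H →
      ∃ g : G, E.map (MulAut.conj g).toMonoidHom ≤ H)
    {h : G} (hh : h ∈ H) :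
    Nat.Coprime (H.subgroupOf (Subgroup.centralizer ({h} : Set G))).index (Nat.card H) := by
  refine Nat.coprime_of_dvd fun q hq hqi hqH => ?_
  haveI := Fact.mk hq
  set C := Subgroup.centralizer ({h} : Set G) with hC
  have hhC : h ∈ C := Subgroup.mem_centralizer_singleton_iff.mpr rfl
  let hc : C := ⟨h, hhC⟩
  have hcc : hc ∈ Subgroup.center C := Subgroup.mem_center_iff.mpr fun y =>
    Subtype.ext (Subgroup.mem_centralizer_singleton_iff.mp y.2)
  haveI : (Subgroup.zpowers hc).Normal := ⟨fun n hn g => by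
    rw [Subgroup.mem_center_iff.mp (Subgroup.zpowers_le.mpr hcc hn) g, mul_inv_cancel_right]
    exact hn⟩
  let Q : Sylow q C := default
  let E₀ : Subgroup C := Subgroup.zpowers hc ⊔ Q
  obtain ⟨e, m, hm, ho⟩ := Nat.exists_eq_pow_mul_and_not_dvd (orderOf_pos h).ne' q hq.ne_one
  obtain ⟨r, hr⟩ := (IsPGroup.iff_card).mp Q.2
  have hdvdE : Nat.card E₀ ∣ orderOf h * q ^ r := by
    have h1 := Subgroup.relIndex_sup_left (Q : Subgroup C) (Subgroup.zpowers hc)
    have h2 : Nat.card (Subgroup.zpowers hc) * (Subgroup.zpowers hc).relIndex E₀ = Nat.card E₀ := by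
      rw [← Nat.card_congr (Subgroup.subgroupOfEquivOfLe
        (le_sup_left : Subgroup.zpowers hc ≤ E₀)).toEquiv]
      exact ((Subgroup.zpowers hc).subgroupOf E₀).card_mul_index
    rw [← h2, Nat.card_zpowers, show orderOf hc = orderOf h from (Subgroup.orderOf_coe hc).symm,
      show E₀ = Subgroup.zpowers hc ⊔ (Q : Subgroup C) from rfl, h1, ← hr]
    exact Nat.mul_dvd_mul_left _ (Subgroup.relIndex_dvd_card _ _)
  let E : Subgroup G := E₀.map C.subtype
  let φ : E₀ ≃* E := E₀.equivMapOfInjective C.subtype C.subtype_injective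
  have hcard : Nat.card E = Nat.card E₀ := (Nat.card_congr φ.toEquiv).symm
  have hoa : orderOf h ∣ Nat.card H := Subgroup.orderOf_dvd_natCard H hh
  have hEa : Nat.card E ∣ Nat.card H := by
    refine Nat.Coprime.dvd_of_dvd_mul_right (Nat.Coprime.coprime_dvd_left (hcard ▸ hdvdE) ?_)
      (H.card_mul_index.symm ▸ Subgroup.card_subgroup_dvd_card E)
    exact Nat.Coprime.mul_left (Nat.Coprime.coprime_dvd_left hoa hHall)
      ((Nat.Coprime.coprime_dvd_left hqH hHall).pow_left r)
  have hcE : hc ∈ E₀ := Subgroup.mem_sup_left (Subgroup.mem_zpowers hc)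
  have hEl : IsElementary q E₀ := by
    let x : E₀ := ⟨hc ^ q ^ e, E₀.pow_mem hcE _⟩
    have hox : orderOf x = m := by
      rw [← Subgroup.orderOf_coe x, ← Subgroup.orderOf_coe (x : C)]
      show orderOf (h ^ q ^ e) = m
      rw [orderOf_pow_of_dvd (pow_ne_zero _ hq.ne_zero) (ho ▸ dvd_mul_right _ _), ho,
        Nat.mul_div_cancel_left _ (pow_pos hq.pos _)]
    refine ⟨x, Subgroup.mem_center_iff.mpr fun y => Subtype.ext
      (Subgroup.mem_center_iff.mp ((Subgroup.center C).pow_mem hcc _) y), ?_, ?_⟩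
    · rw [hox]; exact (hq.coprime_iff_not_dvd.mpr hm).symm
    · have h3 : (Subgroup.zpowers x).index ∣ q ^ (e + r) := by
        have h4 := (Subgroup.zpowers x).card_mul_index
        rw [Nat.card_zpowers, hox] at h4
        have h5 : m * (Subgroup.zpowers x).index ∣ m * q ^ (e + r) := by
          rw [h4, pow_add]
          refine hdvdE.trans ?_
          rw [ho]
          exact dvd_of_eq (by ring)
        exact Nat.dvd_of_mul_dvd_mul_left (Nat.pos_of_ne_zero fun h0 => hm (by simp [h0])) h5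
      obtain ⟨j, -, hj⟩ := (Nat.dvd_prime_pow hq).mp h3
      exact ⟨j, hj⟩
  obtain ⟨t, ht⟩ := helem E q hq (isElementary_of_mulEquiv φ hEl) hEa
  have hth : t * h * t⁻¹ ∈ H := ht ⟨h, ⟨hc, hcE, rfl⟩, rfl⟩
  obtain ⟨s, hs, hst⟩ := hfus h hh _ hth (isConj_iff.mpr ⟨t, rfl⟩)
  have hst' : s⁻¹ * t ∈ C := Subgroup.mem_centralizer_singleton_iff.mpr (by
    calc s⁻¹ * t * h = s⁻¹ * (t * h * t⁻¹) * t := by group
      _ = s⁻¹ * (s * h * s⁻¹) * t := by rw [hst]
      _ = h * (s⁻¹ * t) := by group)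
  have hle : (Q : Subgroup C).map (MulAut.conj (⟨s⁻¹ * t, hst'⟩ : C)).toMonoidHom ≤
      H.subgroupOf C := by
    rintro _ ⟨z, hz, rfl⟩
    show (s⁻¹ * t) * (z : G) * (s⁻¹ * t)⁻¹ ∈ H
    have hz' : t * (z : G) * t⁻¹ ∈ H := ht ⟨(z : G), ⟨z, Subgroup.mem_sup_right hz, rfl⟩, rfl⟩
    rw [show (s⁻¹ * t) * (z : G) * (s⁻¹ * t)⁻¹ = s⁻¹ * (t * z * t⁻¹) * s by group]
    exact H.mul_mem (H.mul_mem (H.inv_mem hs) hz') hs
  exact Q.not_dvd_index ((hqi.trans (Subgroup.index_dvd_of_le hle)).trans
    (Subgroup.index_map_equiv (Q : Subgroup C) (MulAut.conj (⟨s⁻¹ * t, hst'⟩ : C))).dvd)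

/-- The number of pairs `(x, t)` with `t x t⁻¹ = v` and `x ∈ H`. -/
theorem card_pairs [Fintype G] (H : Subgroup G)
    (hfus : ∀ x ∈ H, ∀ y ∈ H, IsConj x y → ∃ h ∈ H, h * x * h⁻¹ = y)
    {v h : G} (hh : h ∈ H) (hv : IsConj h v) :
    Nat.card {q : H × G // q.2 * q.1 * q.2⁻¹ = v} =
      Nat.card H * (H.subgroupOf (Subgroup.centralizer ({h} : Set G))).index := by
  classical
  obtain ⟨r, hr⟩ := isConj_iff.mp hv
  set C := Subgroup.centralizer ({h} : Set G) with hC
  -- `|cl_H h| |C|` pairs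
  have h1 : Nat.card {q : H × G // q.2 * q.1 * q.2⁻¹ = v} =
      Nat.card {x : H // IsConj (⟨h, hh⟩ : H) x} * Nat.card C := by
    have hex : ∀ x : {x : H // IsConj (⟨h, hh⟩ : H) x},
        ∃ s : G, s * h * s⁻¹ = (x.1 : G) := fun x => by
      obtain ⟨s, hs⟩ := isConj_iff.mp x.2
      exact ⟨s, congrArg Subtype.val hs⟩
    choose s hs using hex
    rw [← Nat.card_prod]
    refine Nat.card_congr (Equiv.ofBijective
      (fun q : {x : H // IsConj (⟨h, hh⟩ : H) x} × C =>
        (⟨(q.1.1, r * q.2 * (s q.1)⁻¹), by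
          show r * (q.2 : G) * (s q.1)⁻¹ * (q.1.1 : G) * (r * q.2 * (s q.1)⁻¹)⁻¹ = v
          have hc := Subgroup.mem_centralizer_singleton_iff.mp q.2.2
          rw [← hs q.1, ← hr]
          calc r * (q.2 : G) * (s q.1)⁻¹ * (s q.1 * h * (s q.1)⁻¹) * (r * q.2 * (s q.1)⁻¹)⁻¹
              = r * ((q.2 : G) * h) * (q.2 : G)⁻¹ * r⁻¹ := by group
            _ = r * (h * q.2) * (q.2 : G)⁻¹ * r⁻¹ := by rw [hc]
            _ = r * h * r⁻¹ := by group⟩ : {q : H × G // q.2 * q.1 * q.2⁻¹ = v})) ⟨?_, ?_⟩).symm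
    · rintro ⟨a, b⟩ ⟨a', b'⟩ hab
      have h2 := congrArg (fun z => (Subtype.val z).1) hab
      have h3 := congrArg (fun z => (Subtype.val z).2) hab
      simp only at h2 h3
      obtain rfl := Subtype.ext h2
      simp only [mul_left_inj, mul_right_inj] at h3
      exact Prod.ext rfl (Subtype.ext h3)
    · rintro ⟨⟨x, t⟩, hxt⟩
      have hx : IsConj (⟨h, hh⟩ : H) x := by
        obtain ⟨k, hk, hk'⟩ := hfus h hh x x.2
          (hv.trans (isConj_iff.mpr ⟨t, hxt⟩).symm)
        exact isConj_iff.mpr ⟨⟨k, hk⟩, Subtype.ext hk'⟩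
      have hsx : s ⟨x, hx⟩ * h * (s ⟨x, hx⟩)⁻¹ = (x : G) := hs ⟨x, hx⟩
      refine ⟨(⟨x, hx⟩, ⟨r⁻¹ * t * s ⟨x, hx⟩, ?_⟩),
        Subtype.ext (Prod.ext rfl (by simp [mul_assoc]))⟩
      rw [Subgroup.mem_centralizer_singleton_iff]
      calc r⁻¹ * t * s ⟨x, hx⟩ * h
          = r⁻¹ * (t * (s ⟨x, hx⟩ * h * (s ⟨x, hx⟩)⁻¹) * t⁻¹) * t * s ⟨x, hx⟩ := by group
        _ = r⁻¹ * (r * h * r⁻¹) * t * s ⟨x, hx⟩ := by rw [hsx, hxt, hr]
        _ = h * (r⁻¹ * t * s ⟨x, hx⟩) := by group
  have h2 : Nat.card (H.subgroupOf C) =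
      Nat.card (Subgroup.centralizer ({(⟨h, hh⟩ : H)} : Set H)) := by
    refine Nat.card_congr
      { toFun := fun z => ⟨⟨z.1.1, z.2⟩, Subgroup.mem_centralizer_singleton_iff.mpr
          (Subtype.ext (Subgroup.mem_centralizer_singleton_iff.mp z.1.2))⟩
        invFun := fun z => ⟨⟨z.1.1, Subgroup.mem_centralizer_singleton_iff.mpr
          (congrArg Subtype.val (Subgroup.mem_centralizer_singleton_iff.mp z.2))⟩, z.1.2⟩
        left_inv := fun z => rfl
        right_inv := fun z => rfl }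
  rw [h1, ← (H.subgroupOf C).card_mul_index, h2, ← mul_assoc, card_conj_mul_card_centralizer]

/-- The Brauer–Suzuki theorem. -/
theorem brauer_suzuki [Finite G] (H : Subgroup G) (hHall : Nat.Coprime (Nat.card H) H.index)
    (hfus : ∀ x ∈ H, ∀ y ∈ H, IsConj x y → ∃ h ∈ H, h * x * h⁻¹ = y)
    (helem : ∀ (E : Subgroup G) (p : ℕ), p.Prime → IsElementary p E → Nat.card E ∣ Nat.card H →
      ∃ g : G, E.map (MulAut.conj g).toMonoidHom ≤ H) :
    ∃ K : Subgroup G, K.Normal ∧ K ⊔ H = ⊤ ∧ K ⊓ H = ⊥ := by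
  classical
  haveI := Fintype.ofFinite G
  haveI := Fintype.ofFinite H
  haveI := Fintype.ofFinite (IrrCharacter H)
  set a := Nat.card H with ha
  set b := H.index with hb
  have hG : Nat.card G = a * b := H.card_mul_index.symm
  obtain ⟨k, hk1, hk0⟩ := Nat.chineseRemainder hHall 1 0
  have hk0' : b ∣ k := Nat.modEq_zero_iff_dvd.mp hk0
  have hπa : ∀ g : G, (g ^ k) ^ a = 1 := fun g => by
    obtain ⟨j, rfl⟩ := hk0'
    rw [← pow_mul, show b * j * a = a * b * j by ring, ← hG, pow_mul, pow_card_eq_one', one_pow]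
  have hrest : ∀ g : G, (g * (g ^ k)⁻¹) ^ b = 1 := fun g => by
    have hc : Commute g (g ^ k)⁻¹ := ((Commute.refl g).pow_right k).inv_right
    rw [hc.mul_pow, inv_pow, mul_inv_eq_one, ← pow_mul]
    have h1 : (g ^ b) ^ a = 1 := by rw [← pow_mul, mul_comm b a, ← hG, pow_card_eq_one']
    conv_rhs => rw [mul_comm, pow_mul]
    conv_lhs => rw [← pow_one (g ^ b)]
    exact pow_eq_pow_of_modEq hk1.symm h1
  have hpick : ∀ v u : G, v ^ a = 1 → u ^ b = 1 → Commute v u → (v * u) ^ k = v := by
    intro v u hv hu hc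
    have hu' : u ^ k = 1 := orderOf_dvd_iff_pow_eq_one.mp ((orderOf_dvd_of_pow_eq_one hu).trans hk0')
    rw [hc.mul_pow, hu', mul_one]
    conv_rhs => rw [← pow_one v]
    exact pow_eq_pow_of_modEq hk1 hv
  have hconj : ∀ v : G, v ^ a = 1 → ∃ h ∈ H, IsConj v h := by
    intro v hv
    obtain ⟨t, ht⟩ := helem (Subgroup.zpowers v) 2 Nat.prime_two
      (isElementary_zpowers Nat.prime_two v) (by
        rw [Nat.card_zpowers]; exact orderOf_dvd_of_pow_eq_one hv)
    exact ⟨t * v * t⁻¹, ht ⟨v, Subgroup.mem_zpowers v, rfl⟩, isConj_iff.mpr ⟨t, rfl⟩⟩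
  choose hmap hmapH hmapc using fun g : G => hconj (g ^ k) (hπa g)
  have hwd : ∀ {φ : H → ℂ}, IsClassFunction H φ → ∀ (g h : G) (hh : h ∈ H), IsConj (g ^ k) h →
      φ ⟨hmap g, hmapH g⟩ = φ ⟨h, hh⟩ := by
    intro φ hφ g h hh hgh
    obtain ⟨s, hs, hst⟩ := hfus _ (hmapH g) h hh ((hmapc g).symm.trans hgh)
    exact IsClassFunction.eq_of_isConj hφ
      (isConj_iff.mpr ⟨⟨s, hs⟩, Subtype.ext hst⟩ : IsConj (⟨hmap g, hmapH g⟩ : H) ⟨h, hh⟩)
  let star : (H → ℂ) → G → ℂ := fun φ g => φ ⟨hmap g, hmapH g⟩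
  have hstarcl : ∀ φ, IsClassFunction H φ → IsClassFunction G (star φ) := by
    intro φ hφ g x
    refine hwd hφ _ _ (hmapH g) (IsConj.trans ?_ (hmapc g))
    rw [conj_pow]
    exact (isConj_iff.mpr ⟨x, rfl⟩).symm
  -- generalized characters
  have hgen : ∀ θ : IrrCharacter H, IsGeneralizedCharacter G (star θ) := by
    intro θ
    refine isGeneralizedCharacter_of_elementary (hstarcl _ (irr_isClassFunction θ))
      fun E p hp hE => ?_
    have hdvd : Nat.card E ∣ a * b := hG ▸ Subgroup.card_subgroup_dvd_card E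
    obtain ⟨A, B, hA, hB, hAB, hcompl⟩ : ∃ A B : Subgroup E, Nat.card A ∣ a ∧ Nat.card B ∣ b ∧
        (∀ x ∈ A, ∀ y ∈ B, Commute x y) ∧ Subgroup.IsComplement' A B := by
      by_cases hpa : p ∣ a
      · obtain ⟨Z, K, h1, h2, h3, h4⟩ := exists_split hp hE (mul_comm a b ▸ hdvd) hHall.symm
          fun h => hp.ne_one (Nat.eq_one_of_dvd_coprimes hHall hpa h)
        exact ⟨K, Z, h2, h1, fun x hx y hy => (h3 y hy x hx).symm, h4.symm⟩
      · exact exists_split hp hE hdvd hHall hpa
    have hdec : ∀ z : E, ∃ x ∈ A, ∃ y ∈ B, z = x * y ∧ z ^ k = x := by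
      intro z
      obtain ⟨⟨⟨x, hx⟩, ⟨y, hy⟩⟩, hz⟩ := hcompl.2 z
      refine ⟨x, hx, y, hy, hz.symm, ?_⟩
      rw [← hz]
      apply Subtype.ext
      rw [SubmonoidClass.coe_pow]
      exact hpick x y (orderOf_dvd_iff_pow_eq_one.mp (by
          rw [Subgroup.orderOf_coe]; exact (Subgroup.orderOf_dvd_natCard A hx).trans hA))
        (orderOf_dvd_iff_pow_eq_one.mp (by
          rw [Subgroup.orderOf_coe]; exact (Subgroup.orderOf_dvd_natCard B hy).trans hB))
        (congrArg Subtype.val (hAB x hx y hy).eq)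
    let AG : Subgroup G := A.map E.subtype
    let ψA : A ≃* AG := A.equivMapOfInjective E.subtype E.subtype_injective
    obtain ⟨t, ht⟩ := helem AG p hp
      (isElementary_of_mulEquiv ψA (IsElementary.subgroup hp hE A))
      (by rw [← Nat.card_congr ψA.toEquiv]; exact hA)
    have hmem : ∀ z : E, t * ((z ^ k : E) : G) * t⁻¹ ∈ H := fun z => by
      obtain ⟨x, hx, y, hy, -, hzx⟩ := hdec z
      rw [hzx]
      exact ht ⟨(x : G), ⟨x, hx, rfl⟩, rfl⟩
    let f : E →* H :=
      { toFun := fun z => ⟨t * ((z ^ k : E) : G) * t⁻¹, hmem z⟩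
        map_one' := Subtype.ext (by simp)
        map_mul' := fun z z' => Subtype.ext (by
          obtain ⟨x, hx, y, hy, hz, hzx⟩ := hdec z
          obtain ⟨x', hx', y', hy', hz', hzx'⟩ := hdec z'
          have hprod : (z * z') ^ k = x * x' := by
            obtain ⟨x'', hx'', y'', hy'', hzz, hzzx⟩ := hdec (z * z')
            rw [hzzx]
            have e : x * x' * (y * y') = x'' * y'' := by
              rw [← hzz, hz, hz']
              calc x * x' * (y * y') = x * (x' * y) * y' := by group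
                _ = x * (y * x') * y' := by rw [(hAB x' hx' y hy).eq]
                _ = x * y * (x' * y') := by group
            have := hcompl.1 (a₁ := (⟨x'', hx''⟩, ⟨y'', hy''⟩))
              (a₂ := (⟨x * x', A.mul_mem hx hx'⟩, ⟨y * y', B.mul_mem hy hy'⟩)) e.symm
            exact congrArg (fun q => (q.1 : E)) this
          show t * (((z * z') ^ k : E) : G) * t⁻¹ =
            t * ((z ^ k : E) : G) * t⁻¹ * (t * ((z' ^ k : E) : G) * t⁻¹)
          rw [hprod, hzx, hzx', Subgroup.coe_mul]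
          group) }
    have heq : (fun z : E => star θ z) = (θ : H → ℂ) ∘ f := by
      funext z
      refine hwd (irr_isClassFunction θ) _ _ (hmem z) ?_
      rw [SubmonoidClass.coe_pow]
      exact isConj_iff.mpr ⟨t, rfl⟩
    rw [heq]
    exact IsCharacter.isGeneralizedCharacter (IsCharacter.comp (irr_isCharacter θ) f)
  -- the fibres
  let Nf : G → ℕ := fun v => (Finset.univ.filter fun g : G => g ^ k = v).card
  have hfix : ∀ v : G, v ^ a = 1 → v ^ k = v := fun v hv => by
    simpa using hpick v 1 hv (one_pow b) (Commute.one_right v)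
  let V : Finset G := Finset.univ.filter fun v : G => v ^ a = 1
  let cc : G → ℕ := fun v => (H.subgroupOf (Subgroup.centralizer ({hmap v} : Set G))).index
  have hmapv : ∀ v ∈ V, IsConj v (hmap v) := fun v hv => by
    have h := hmapc v
    rwa [hfix v (Finset.mem_filter.mp hv).2] at h
  have hcop : ∀ v, Nat.Coprime (cc v) a := fun v =>
    centralizer_index_coprime H hHall hfus helem (hmapH v)
  have hN : ∀ v ∈ V, cc v ∣ Nf v ∧ 0 < Nf v := by
    intro v hv
    have hva := (Finset.mem_filter.mp hv).2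
    refine ⟨?_, Finset.card_pos.mpr ⟨v, by simp [hfix v hva]⟩⟩
    set h := hmap v with hh
    set C := Subgroup.centralizer ({h} : Set G) with hC
    haveI := Fintype.ofFinite C
    obtain ⟨r, hr⟩ := isConj_iff.mp (hmapv v hv)
    have hha : h ^ a = 1 := by
      rw [show h = r * v * r⁻¹ from hr.symm, conj_pow, hva, mul_one, mul_inv_cancel]
    have hCX : Nat.card C = cc v * Nat.card (H.subgroupOf C) := (H.subgroupOf C).index_mul_card.symm
    have hXa : Nat.card (H.subgroupOf C) ∣ a :=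
      Subgroup.card_comap_dvd_of_injective H C.subtype C.subtype_injective
    have hcb : cc v ∣ b :=
      (hcop v).dvd_of_dvd_mul_left (hG ▸ (Dvd.intro _ hCX.symm).trans
        (Subgroup.card_subgroup_dvd_card C))
    have hd := dvd_card_pow_eq_one hCX (Nat.Coprime.coprime_dvd_right hXa (hcop v))
    have hb1 : ∀ u : C, u ^ cc v = 1 ↔ (u : G) ^ b = 1 := by
      intro u
      constructor
      · intro hu
        obtain ⟨j, hj⟩ := hcb
        rw [hj, pow_mul, ← SubmonoidClass.coe_pow, hu, OneMemClass.coe_one, one_pow]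
      · intro hu
        refine orderOf_dvd_iff_pow_eq_one.mp ?_
        have h1 : orderOf u ∣ cc v * Nat.card (H.subgroupOf C) := hCX ▸ orderOf_dvd_natCard u
        refine Nat.Coprime.dvd_of_dvd_mul_right ?_ h1
        rw [← Subgroup.orderOf_coe]
        exact Nat.Coprime.coprime_dvd_left (orderOf_dvd_of_pow_eq_one hu)
          (Nat.Coprime.coprime_dvd_right hXa hHall.symm)
    have hbij : Nat.card {u : C // u ^ cc v = 1} = Nf v := by
      show _ = (Finset.univ.filter fun g : G => g ^ k = v).card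
      rw [← Fintype.card_subtype, ← Nat.card_eq_fintype_card]
      refine Nat.card_congr (Equiv.ofBijective
        (fun u => (⟨r⁻¹ * (h * (u.1 : G)) * r, by
          have hc := (Subgroup.mem_centralizer_singleton_iff.mp u.1.2).symm
          have h1 := conj_pow (a := r⁻¹) (b := h * (u.1 : G)) (i := k)
          rw [inv_inv] at h1
          rw [h1, hpick h _ hha ((hb1 _).mp u.2) hc, show h = r * v * r⁻¹ from hr.symm]
          group⟩ : {g : G // g ^ k = v})) ⟨?_, ?_⟩)
      · intro u u' huu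
        have h1 := congrArg Subtype.val huu
        simp only [mul_left_inj, mul_right_inj] at h1
        exact Subtype.ext (Subtype.ext h1)
      · rintro ⟨g, hg⟩
        have hg' : (r * g * r⁻¹) ^ k = h := by rw [conj_pow, hg, hr]
        have hcomm : Commute (r * g * r⁻¹) h := hg' ▸ (Commute.refl _).pow_right k
        have huC : h⁻¹ * (r * g * r⁻¹) ∈ C := Subgroup.mem_centralizer_singleton_iff.mpr
          ((Commute.inv_left (Commute.refl h)).mul_left hcomm).eq
        refine ⟨⟨⟨_, huC⟩, (hb1 _).mpr ?_⟩, Subtype.ext (by simp [mul_assoc])⟩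
        have h1 := hrest (r * g * r⁻¹)
        rw [hg', (hcomm.inv_right).eq] at h1
        exact h1
    rw [← hbij]
    exact hd
  -- the sum identity
  have hsum : ∀ F : G → ℂ, IsClassFunction G F →
      ∑ v ∈ V, (cc v : ℂ) * F v = (b : ℂ) * ∑ h : H, F h := by
    intro F hF
    have hmapsto : ∀ q ∈ (Finset.univ : Finset (H × G)), q.2 * (q.1 : G) * q.2⁻¹ ∈ V := fun q _ => by
      simp only [V, Finset.mem_filter, Finset.mem_univ, true_and]
      rw [conj_pow, ← SubmonoidClass.coe_pow, pow_card_eq_one', OneMemClass.coe_one, mul_one,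
        mul_inv_cancel]
    have h1 : ∑ q : H × G, F (q.2 * (q.1 : G) * q.2⁻¹) = ∑ v ∈ V, ((a * cc v : ℕ) : ℂ) * F v := by
      rw [← Finset.sum_fiberwise_of_maps_to hmapsto]
      refine Finset.sum_congr rfl fun v hv => ?_
      rw [Finset.sum_congr rfl fun q hq => by rw [(Finset.mem_filter.mp hq).2], Finset.sum_const,
        nsmul_eq_mul, ← Fintype.card_subtype, ← Nat.card_eq_fintype_card,
        card_pairs H hfus (hmapH v) (hmapv v hv).symm]
    have h2 : ∑ q : H × G, F (q.2 * (q.1 : G) * q.2⁻¹) = (Nat.card G : ℂ) * ∑ h : H, F h := by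
      rw [Fintype.sum_prod_type, Finset.mul_sum]
      refine Finset.sum_congr rfl fun x _ => ?_
      rw [Finset.sum_congr rfl fun t _ => hF (x : G) t, Finset.sum_const, Finset.card_univ,
        nsmul_eq_mul, Nat.card_eq_fintype_card]
    rw [h1, hG] at h2
    push_cast at h2
    simp only [mul_assoc, ← Finset.mul_sum] at h2
    exact mul_left_cancel₀ natCard_ne_zero_complex h2
  have htot : ∀ φ, IsClassFunction H φ → ∑ g : G, star φ g * conj (star φ g) =
      ∑ v ∈ V, (Nf v : ℂ) * (star φ v * conj (star φ v)) := by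
    intro φ hφ
    rw [← Finset.sum_fiberwise_of_maps_to (g := fun g : G => g ^ k) (t := V)
      (fun g _ => by simp [V, hπa g])]
    refine Finset.sum_congr rfl fun v hv => ?_
    have hval : ∀ g ∈ Finset.univ.filter (fun g : G => g ^ k = v),
        star φ g * conj (star φ g) = star φ v * conj (star φ v) := fun g hg => by
      have : star φ g = star φ v := hwd hφ _ _ (hmapH v) (by
        rw [(Finset.mem_filter.mp hg).2]; exact hmapv v hv)
      rw [this]
    rw [Finset.sum_congr rfl hval, Finset.sum_const, nsmul_eq_mul]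
  have hNc : ∀ v ∈ V, Nf v = cc v := by
    have h1 := hsum (fun _ => 1) fun _ _ => rfl
    have h2 := htot (fun _ => 1) fun _ _ => rfl
    simp only [star, mul_one, map_one, Finset.sum_const, Finset.card_univ, nsmul_eq_mul,
      ← Nat.card_eq_fintype_card] at h1 h2
    have h1' : ∑ v ∈ V, cc v = b * a := by exact_mod_cast h1
    have h2' : Nat.card G = ∑ v ∈ V, Nf v := by exact_mod_cast h2
    have heq : ∑ v ∈ V, cc v = ∑ v ∈ V, Nf v := by rw [← h2', h1', hG, mul_comm]
    intro v hv
    exact ((Finset.sum_eq_sum_iff_of_le fun w hw => Nat.le_of_dvd (hN w hw).2 (hN w hw).1).mp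
      heq v hv).symm
  have hrestr : ∀ φ, IsClassFunction H φ → ∀ x : H, star φ x = φ x := by
    intro φ hφ x
    refine hwd hφ _ _ x.2 ?_
    rw [hfix _ (by rw [← SubmonoidClass.coe_pow, pow_card_eq_one', OneMemClass.coe_one])]
  have hirr : ∀ θ : IrrCharacter H, IsIrrCharacter G (star θ) := by
    intro θ
    have hn : classInner (star θ) (star θ) = 1 := by
      have hθ := irr_isClassFunction θ
      rw [classInner, inv_mul_eq_one₀ natCard_ne_zero_complex, htot _ hθ,
        Finset.sum_congr rfl fun v hv => by rw [hNc v hv],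
        hsum (fun g => star θ g * conj (star θ g))
          (fun g x => by simp only [hstarcl _ hθ g x])]
      simp only [hrestr _ hθ]
      have h := IsIrrCharacter.classInner_self θ.2
      rw [classInner, inv_mul_eq_one₀ natCard_ne_zero_complex] at h
      rw [← h, hG, Nat.cast_mul, mul_comm]
    obtain ⟨χ, hχ | hχ⟩ := IsGeneralizedCharacter.eq_pm_irr (hgen θ) hn
    · exact hχ ▸ χ.2
    · exfalso
      obtain ⟨m, hm0, hm⟩ := IsIrrCharacter.exists_apply_one θ.2
      obtain ⟨d, hd0, hd⟩ := IsIrrCharacter.exists_apply_one χ.2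
      have h := congrFun hχ 1
      have h1 := hrestr _ (irr_isClassFunction θ) 1
      rw [OneMemClass.coe_one] at h1
      rw [h1, Pi.neg_apply, hm, hd] at h
      have : (m : ℂ) + d = 0 := by rw [h]; ring
      have : m + d = 0 := by exact_mod_cast this
      omega
  let K : Subgroup G := ⨅ θ : IrrCharacter H, charKernel (IsIrrCharacter.isCharacter (hirr θ))
  have h1map : ∀ θ : IrrCharacter H, star θ 1 = (θ : H → ℂ) 1 := fun θ => by
    have h1 := hrestr _ (irr_isClassFunction θ) 1
    rwa [OneMemClass.coe_one] at h1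
  have hKmem : ∀ g, g ∈ K ↔ g ^ k = 1 := by
    intro g
    rw [Subgroup.mem_iInf]
    constructor
    · intro hg
      by_contra hne
      have hmne : (⟨hmap g, hmapH g⟩ : H) ≠ 1 := fun h => hne (by
        have hc := hmapc g
        rw [show hmap g = 1 from congrArg Subtype.val h, isConj_one_left] at hc
        exact hc)
      obtain ⟨θ, hθ⟩ := exists_irr_ne_apply_one hmne
      exact hθ ((hg θ).trans (h1map θ))
    · intro hg θ
      refine (mem_charKernel _).mpr ?_
      rw [h1map]
      exact hwd (irr_isClassFunction θ) g 1 H.one_mem (by rw [hg])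
  refine ⟨K, ?_, ?_, ?_⟩
  · exact Subgroup.normal_iInf_normal fun θ => charKernel_normal _
  · have hK : Nat.card K = cc 1 := by
      rw [← hNc 1 (by simp [V]), Nat.card_congr (Equiv.subtypeEquivRight hKmem),
        Nat.card_eq_fintype_card, Fintype.card_subtype]
    have hcb : cc 1 = b := by
      have h1 : hmap 1 = 1 := by
        have := hmapc 1
        rwa [one_pow, isConj_one_right] at this
      show (H.subgroupOf (Subgroup.centralizer ({hmap 1} : Set G))).index = b
      have htop : Subgroup.centralizer ({hmap 1} : Set G) = ⊤ := by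
        rw [h1]; ext x; simp [Subgroup.mem_centralizer_singleton_iff]
      show H.relIndex (Subgroup.centralizer ({hmap 1} : Set G)) = b
      rw [htop, Subgroup.relIndex_top_right]
    refine Subgroup.eq_top_of_card_eq _ (Nat.dvd_antisymm (Subgroup.card_subgroup_dvd_card _) ?_)
    rw [hG]
    refine Nat.Coprime.mul_dvd_of_dvd_of_dvd hHall (Subgroup.card_dvd_of_le le_sup_right) ?_
    rw [← hcb, ← hK]
    exact Subgroup.card_dvd_of_le le_sup_left
  · refine (Subgroup.eq_bot_iff_forall _).mpr fun x hx => ?_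
    obtain ⟨hxK, hxH⟩ := Subgroup.mem_inf.mp hx
    have hxa : x ^ a = 1 := orderOf_dvd_iff_pow_eq_one.mp (Subgroup.orderOf_dvd_natCard H hxH)
    rw [← hfix x hxa]
    exact (hKmem x).mp hxK

end Cfsg.Agent.Lib.Characters
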