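import Cfsg.Agent.Lib.Characters.OddTICover
import Cfsg.Agent.Lib.OddLocal.CNMinimal2
import Cfsg.Agent.S1479
import Cfsg.Agent.S1484

/-!
# The theorem of Feit, Hall and Thompson: CN-groups of odd order are solvable
-/

namespace Cfsg.Agent.Lib.Characters

set_option linter.unusedSectionVars false
set_option linter.style.haveILetI false

universe u

theorem isCNGroup_subgroup {G : Type u} [Group G] (hCN : Cfsg.IsCNGroup G) (H : Subgroup G) :
    Cfsg.IsCNGroup H := by
  intro g hg
  have h := hCN (g : G) fun h => hg (Subtype.ext h)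
  refine @Group.nilpotent_of_mulEquiv _ _ _ _ (OddLocal.isNilpotent_of_le ?_ h)
    ((Subgroup.centralizer ({g} : Set H)).equivMapOfInjective H.subtype H.subtype_injective).symm
  rintro _ ⟨x, hx, rfl⟩
  exact Subgroup.mem_centralizer_singleton_iff.mpr
    (congrArg Subtype.val (Subgroup.mem_centralizer_singleton_iff.mp hx))

/-- There is no minimal simple CN-group of odd order. -/
theorem not_minSimple_odd_cn {G : Type u} [Group G] [Finite G]
    (hG : Cfsg.IsMinSimpleOddOrder G) (hCN : Cfsg.IsCNGroup G) : False := by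
  classical
  haveI := Fintype.ofFinite G
  haveI : IsSimpleGroup G := hG.2.1
  let s : Setoid {M : Subgroup G // IsCoatom M} :=
    ⟨fun A B => ∃ g : G, B.1 = A.1.map (MulAut.conj g).toMonoidHom, by
      refine ⟨fun A => ⟨1, ?_⟩, fun {A B} h => ?_, fun {A B C} h h' => ?_⟩
      · ext x
        simp [Subgroup.mem_map]
      · obtain ⟨g, hg⟩ := h
        refine ⟨g⁻¹, ?_⟩
        rw [hg]
        ext x
        simp [Subgroup.mem_map, mul_assoc]
      · obtain ⟨g, hg⟩ := h
        obtain ⟨g', hg'⟩ := h'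
        refine ⟨g' * g, ?_⟩
        rw [hg', hg]
        ext x
        simp [Subgroup.mem_map, mul_assoc]⟩
  let e : Fin (Nat.card (Quotient s)) ≃ Quotient s := (Finite.equivFin _).symm
  let Mrep : Fin (Nat.card (Quotient s)) → Subgroup G := fun i => (e i).out.1
  have hmax : ∀ i, IsCoatom (Mrep i) := fun i => (e i).out.2
  have hnc : ∀ i j, i ≠ j → ∀ g : G, Mrep j ≠ (Mrep i).map (MulAut.conj g).toMonoidHom := by
    intro i j hij g h
    apply hij
    apply e.injective
    rw [← Quotient.out_eq (e i), ← Quotient.out_eq (e j)]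
    exact Quotient.sound ⟨g, h⟩
  have hall : ∀ M : Subgroup G, IsCoatom M →
      ∃ i, ∃ g : G, M = (Mrep i).map (MulAut.conj g).toMonoidHom := by
    intro M hM
    refine ⟨e.symm ⟦⟨M, hM⟩⟧, ?_⟩
    have h := Quotient.exact (Quotient.out_eq (⟦⟨M, hM⟩⟧ : Quotient s))
    simp only [Mrep, Equiv.apply_symm_apply]
    exact h
  obtain ⟨hco, -, hcover⟩ := S1484.result hG hCN _ Mrep hmax hnc hall
  have hrep := fun i => S1484.rep_spec hG hCN (hmax i)
  have h79 := fun i => (S1479.result hG hCN).1 _ (hrep i).1 (hrep i).2.1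
  let D : Fin (Nat.card (Quotient s)) → TIDatum G := fun i =>
    { K := Cfsg.fittingHallOf (Mrep i)
      M := Mrep i
      le := Subgroup.map_subtype_le _
      normal := (Subgroup.normal_subgroupOf_iff_le_normalizer (Subgroup.map_subtype_le _)).mpr
        (hrep i).2.2.ge
      ti := fun g hg k hk hgk => by
        have hne : (Cfsg.fittingHallOf (Mrep i)).map (MulAut.conj g).toMonoidHom ≠
            Cfsg.fittingHallOf (Mrep i) := fun h => hg ((hrep i).2.2 ▸
          Cfsg.Agent.Lib.Coprime.mem_normalizer_of_conj_smul_eq h)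
        have h0 : g * k * g⁻¹ ∈ (⊥ : Subgroup G) := (h79 i).2.1 g hne ▸ ⟨hgk, k, hk, rfl⟩
        simpa using h0
      cent := fun k hk hk1 =>
        OddLocal.centralizer_le_of_ti hCN (hrep i).1 (hrep i).2.1 (h79 i).2.1 hk hk1 }
  refine no_odd_TI_partition hG.1 D (fun i => (hrep i).1) (fun i => ?_) (fun i h => ?_)
    (fun i => (hmax i).1) hco fun x hx => ?_
  · exact (OddLocal.maxNilpotent_eq hG hCN (hrep i).1 (hrep i).2.1).1
  · obtain ⟨-, -, -, E, hE, hne, -⟩ := h79 i
    refine hne (le_bot_iff.mp ?_)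
    rw [← hE.2.2.1]
    refine le_inf ?_ le_rfl
    have h' : Cfsg.fittingHallOf (Mrep i) = Mrep i := h
    exact hE.2.1.trans ((hrep i).2.2.le.trans h'.ge)
  · obtain ⟨i, g, hg⟩ := hcover x
    exact ⟨i, g⁻¹, by simpa using hg⟩

/-- A CN-group of odd order is solvable. -/
theorem isSolvable_of_odd_cn {G : Type u} [Group G] [Finite G] (hodd : Odd (Nat.card G))
    (hCN : Cfsg.IsCNGroup G) : Group.IsSolvable G := by
  obtain ⟨c, hc⟩ : ∃ c, Nat.card G = c := ⟨_, rfl⟩
  induction c using Nat.strongRecOn generalizing G with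
  | ind c ih =>
  have hsub : ∀ H : Subgroup G, H ≠ ⊤ → Group.IsSolvable H := fun H hH =>
    ih _ (hc ▸ lt_of_le_of_ne (Subgroup.card_le_card_group H)
      (fun h => hH (Subgroup.eq_top_of_card_eq H h))) (Odd.of_dvd_nat hodd H.card_subgroup_dvd_card)
      (isCNGroup_subgroup hCN H) rfl
  by_cases hcomm : IsMulCommutative G
  · exact Group.isSolvable_of_comm fun a b => IsMulCommutative.is_comm.comm a b
  by_cases hN : ∃ N : Subgroup G, N.Normal ∧ N ≠ ⊥ ∧ N ≠ ⊤
  · obtain ⟨N, hNn, hb, ht⟩ := hN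
    have hNs := hsub N ht
    have hlt : Nat.card (G ⧸ N) < c := by
      rw [← hc, ← Subgroup.index_eq_card, ← N.index_mul_card]
      exact lt_mul_of_one_lt_right (Nat.pos_of_ne_zero N.index_ne_zero_of_finite)
        (Finite.one_lt_card_iff_nontrivial.mpr ((Subgroup.nontrivial_iff_ne_bot N).mpr hb))
    have hQ : Group.IsSolvable (G ⧸ N) := ih _ hlt
      (Odd.of_dvd_nat hodd ((Subgroup.index_eq_card N) ▸ N.index_dvd_card))
      (OddLocal.isCNGroup_quotient hCN N hNs) rfl
    exact Group.isSolvable_of_ker_le_range N.subtype (QuotientGroup.mk' N) (by simp)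
  exfalso
  push Not at hN
  have : Nontrivial G := by
    by_contra h
    rw [not_nontrivial_iff_subsingleton] at h
    exact hcomm ⟨⟨fun a b => Subsingleton.elim _ _⟩⟩
  have hs : IsSimpleGroup G :=
    ⟨fun N hn => (em (N = ⊥)).imp_right fun hb => hN N hn hb⟩
  exact not_minSimple_odd_cn ⟨hodd, hs, hcomm, hsub⟩ hCN

end Cfsg.Agent.Lib.Characters
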