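import Cfsg.Agent.Lib.Characters.WreathMonomial
import Mathlib.Analysis.SpecialFunctions.Complex.CircleAddChar
import Mathlib.LinearAlgebra.Matrix.Kronecker
import Mathlib.RingTheory.RootsOfUnity.Complex

/-!
# Groups of central type containing a given solvable group modulo the centre

A model is a finite group of matrices whose trace vanishes off the scalars and whose order is the
number of scalars times the squared degree. From a model for `N` and a prime `p` one gets a model
for `N ≀ᵣ C_p` on the tensor power over `(ZMod p) ^ 2`, tensored with the Heisenberg matrices.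
-/

set_option autoImplicit false
set_option linter.unusedSectionVars false
set_option linter.style.haveILetI false
set_option maxHeartbeats 1000000

namespace Cfsg.Agent.Lib.Characters

open Matrix
open scoped Kronecker

universe u

/-- The scalar matrices as units. -/
noncomputable def scalUnit (ι : Type) [Fintype ι] [DecidableEq ι] : ℂˣ →* (Matrix ι ι ℂ)ˣ :=
  Units.map (algebraMap ℂ (Matrix ι ι ℂ)).toMonoidHom

theorem scalUnit_val {ι : Type} [Fintype ι] [DecidableEq ι] (z : ℂˣ) :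
    ((scalUnit ι z : (Matrix ι ι ℂ)ˣ) : Matrix ι ι ℂ) = (z : ℂ) • (1 : Matrix ι ι ℂ) :=
  Algebra.algebraMap_eq_smul_one _

theorem scalUnit_comm {ι : Type} [Fintype ι] [DecidableEq ι] (z : ℂˣ) (u : (Matrix ι ι ℂ)ˣ) :
    scalUnit ι z * u = u * scalUnit ι z :=
  Units.ext (Algebra.commutes (z : ℂ) (u : Matrix ι ι ℂ))

theorem scalUnit_injective {ι : Type} [Fintype ι] [DecidableEq ι] [Nonempty ι] :
    Function.Injective (scalUnit ι) := fun a b h => by
  refine Units.ext ?_
  obtain ⟨i⟩ := ‹Nonempty ι›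
  have h1 := congrFun (congrFun
    (congrArg (fun u : (Matrix ι ι ℂ)ˣ => (u : Matrix ι ι ℂ)) h) i) i
  simpa [scalUnit_val] using h1

theorem trace_scalUnit {ι : Type} [Fintype ι] [DecidableEq ι] [Nonempty ι] (z : ℂˣ) :
    ((scalUnit ι z : (Matrix ι ι ℂ)ˣ) : Matrix ι ι ℂ).trace ≠ 0 := by
  rw [scalUnit_val, trace_smul, trace_one, smul_eq_mul]
  exact mul_ne_zero z.ne_zero (Nat.cast_ne_zero.2 Fintype.card_ne_zero)

/-- The group `G` has a model of central type. -/
def HasCTModel (G : Type u) [Group G] : Prop :=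
  ∃ (ι : Type) (_ : Fintype ι) (_ : DecidableEq ι) (_ : Nonempty ι)
    (S : Subgroup (Matrix ι ι ℂ)ˣ) (m : ℕ) (s : G → (Matrix ι ι ℂ)ˣ),
    Squarefree m ∧ Finite S ∧ (∀ z : ℂˣ, scalUnit ι z ∈ S ↔ z ^ m = 1) ∧
    (∀ u ∈ S, (u : Matrix ι ι ℂ).trace ≠ 0 → ∃ z, u = scalUnit ι z) ∧
    Nat.card S = m * Fintype.card ι ^ 2 ∧
    (∀ q : ℕ, q.Prime → (q ∣ m ↔ q ∣ Nat.card G) ∧ (q ∣ Fintype.card ι → q ∣ m)) ∧
    (∀ g, s g ∈ S) ∧ (∀ a b, ∃ z, s (a * b) = scalUnit ι z * (s a * s b)) ∧
    ∀ g, (∃ z, s g = scalUnit ι z) → g = 1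

theorem hasCTModel_of_subsingleton (G : Type u) [Group G] [Subsingleton G] : HasCTModel G := by
  refine ⟨Unit, inferInstance, inferInstance, inferInstance, ⊥, 1, fun _ => 1, squarefree_one,
    inferInstance, fun z => ?_, fun u hu _ => ⟨1, ?_⟩, ?_, fun q hq => ⟨?_, ?_⟩,
    fun g => Subgroup.one_mem _, fun a b => ⟨1, by simp⟩, fun g _ => Subsingleton.elim _ _⟩
  · rw [Subgroup.mem_bot, pow_one]
    exact ⟨fun h => scalUnit_injective (h.trans (map_one _).symm), fun h => by rw [h, map_one]⟩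
  · rw [Subgroup.mem_bot.1 hu, map_one]
  · simp
  · simp [Nat.card_unique, hq.one_lt.ne']
  · simp

section Step

variable {p : ℕ} [NeZero p] {ι : Type} [Fintype ι] [DecidableEq ι]

/-- The index set of the copies. -/
abbrev Om (p : ℕ) : Type := ZMod p × ZMod p

/-- A tensor of matrices followed by a translation. -/
def opMat (A : Om p → Matrix ι ι ℂ) (t : Om p) : Matrix (Om p → ι) (Om p → ι) ℂ :=
  Matrix.of fun f g => ∏ ω, A ω (f ω) (g (ω - t))

theorem opMat_mul (A B : Om p → Matrix ι ι ℂ) (s t : Om p) :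
    opMat A s * opMat B t = opMat (fun ω => A ω * B (ω - s)) (s + t) := by
  ext f h
  simp only [opMat, Matrix.mul_apply, Matrix.of_apply]
  rw [Fintype.prod_sum (fun ω i => A ω (f ω) i * B (ω - s) i (h (ω - (s + t))))]
  refine Fintype.sum_equiv (Equiv.arrowCongr (Equiv.addRight s) (Equiv.refl ι)) _ _ fun g => ?_
  rw [← Equiv.prod_comp (Equiv.subRight s) fun ω => B ω (g ω) (h (ω - t)),
    ← Finset.prod_mul_distrib]
  refine Finset.prod_congr rfl fun ω _ => ?_
  rw [← sub_sub]
  simp [sub_eq_add_neg]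

theorem opMat_one : opMat (fun _ => (1 : Matrix ι ι ℂ)) (0 : Om p) = 1 := by
  ext f g
  simp only [opMat, Matrix.of_apply, Matrix.one_apply, sub_zero]
  by_cases h : f = g
  · subst h; simp
  · rw [if_neg h]
    obtain ⟨ω, hω⟩ := Function.ne_iff.1 h
    exact Finset.prod_eq_zero (Finset.mem_univ ω) (if_neg hω)

theorem opMat_smul (c : Om p → ℂ) (A : Om p → Matrix ι ι ℂ) (t : Om p) :
    opMat (fun ω => c ω • A ω) t = (∏ ω, c ω) • opMat A t := by
  ext f g
  simp [opMat, Finset.prod_mul_distrib]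

theorem trace_opMat_zero (A : Om p → Matrix ι ι ℂ) :
    (opMat A 0).trace = ∏ ω, (A ω).trace := by
  simp only [opMat, Matrix.trace, Matrix.diag_apply, Matrix.of_apply, sub_zero]
  exact (Fintype.prod_sum fun ω i => A ω i i).symm

/-- The Heisenberg matrices. -/
noncomputable def heisMat (t : Om p) : Matrix (ZMod p) (ZMod p) ℂ :=
  Matrix.of fun a b => if a = b + t.1 then ZMod.stdAddChar (t.2 * b) else 0

/-- The cocycle. -/
noncomputable def heisCoc (s t : Om p) : ℂ := ZMod.stdAddChar (s.2 * t.1)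

theorem heisMat_mul (s t : Om p) : heisMat s * heisMat t = heisCoc s t • heisMat (s + t) := by
  ext a c
  simp only [heisMat, heisCoc, Matrix.mul_apply, Matrix.of_apply, Matrix.smul_apply, smul_eq_mul,
    Prod.fst_add, Prod.snd_add]
  rw [Finset.sum_eq_single (c + t.1) (fun b _ hb => by rw [if_neg hb, mul_zero])
    (fun h => absurd (Finset.mem_univ _) h), if_pos rfl]
  have e : c + t.1 + s.1 = c + (s.1 + t.1) := by abel
  rw [e]
  split_ifs with h
  · rw [← AddChar.map_add_eq_mul, ← AddChar.map_add_eq_mul]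
    congr 1
    ring
  · rw [zero_mul, mul_zero]

theorem heisMat_zero : heisMat (0 : Om p) = 1 := by
  ext a b
  simp [heisMat, Matrix.one_apply]

theorem trace_heisMat_of_ne {t : Om p} (ht : t ≠ 0) : (heisMat t).trace = 0 := by
  simp only [heisMat, Matrix.trace, Matrix.diag_apply, Matrix.of_apply]
  by_cases h1 : t.1 = 0
  · have h2 : t.2 ≠ 0 := fun h => ht (Prod.ext h1 h)
    simp only [h1, add_zero, if_true]
    have h := AddChar.sum_mulShift t.2 (ZMod.isPrimitive_stdAddChar p)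
    rw [if_neg h2, Nat.cast_zero] at h
    simpa [mul_comm t.2] using h
  · refine Finset.sum_eq_zero fun a _ => if_neg fun h => h1 ?_
    exact left_eq_add.1 h

theorem heisCoc_pow (s t : Om p) : heisCoc s t ^ p = 1 := by
  rw [heisCoc, ← AddChar.map_nsmul_eq_pow, nsmul_eq_mul, ZMod.natCast_self, zero_mul,
    AddChar.map_zero_eq_one]

theorem heisCoc_ne_zero (s t : Om p) : heisCoc s t ≠ 0 := fun h => by
  have := heisCoc_pow s t
  rw [h, zero_pow (NeZero.ne p)] at this
  exact zero_ne_one this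

/-- The matrices of the new model. -/
noncomputable def modelMat (z : ℂ) (A : Om p → Matrix ι ι ℂ) (t : Om p) :
    Matrix ((Om p → ι) × ZMod p) ((Om p → ι) × ZMod p) ℂ :=
  z • (opMat A t ⊗ₖ heisMat t)

theorem modelMat_mul (z w : ℂ) (A B : Om p → Matrix ι ι ℂ) (s t : Om p) :
    modelMat z A s * modelMat w B t =
      modelMat (z * w * heisCoc s t) (fun ω => A ω * B (ω - s)) (s + t) := by
  rw [modelMat, modelMat, modelMat, Matrix.smul_mul, Matrix.mul_smul, ← Matrix.mul_kronecker_mul,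
    opMat_mul, heisMat_mul, Matrix.kronecker_smul, smul_smul, smul_smul]

theorem modelMat_one : modelMat (1 : ℂ) (fun _ => (1 : Matrix ι ι ℂ)) (0 : Om p) = 1 := by
  rw [modelMat, opMat_one, heisMat_zero, Matrix.one_kronecker_one, one_smul]

theorem modelMat_smul (z : ℂ) (c : Om p → ℂ) (A : Om p → Matrix ι ι ℂ) (t : Om p) :
    modelMat z (fun ω => c ω • A ω) t = modelMat (z * ∏ ω, c ω) A t := by
  rw [modelMat, modelMat, opMat_smul, Matrix.smul_kronecker, smul_smul]

theorem modelMat_scalar (z : ℂ) (c : Om p → ℂ) :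
    modelMat z (fun ω => c ω • (1 : Matrix ι ι ℂ)) (0 : Om p) = (z * ∏ ω, c ω) • 1 := by
  rw [modelMat_smul, modelMat, opMat_one, heisMat_zero, Matrix.one_kronecker_one]

variable (S : Subgroup (Matrix ι ι ℂ)ˣ)

/-- The components. -/
def compVal (a : Om p → S) : Om p → Matrix ι ι ℂ := fun ω => ((a ω : (Matrix ι ι ℂ)ˣ) : Matrix ι ι ℂ)

theorem modelMat_mul_inv (z : ℂˣ) (a : Om p → S) (t : Om p) :
    modelMat (z : ℂ) (compVal S a) t *
      modelMat (((z : ℂ) * heisCoc t (-t))⁻¹) (compVal S fun ω => (a (ω + t))⁻¹) (-t) = 1 := by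
  rw [modelMat_mul]
  have e1 : (fun ω => compVal S a ω * compVal S (fun ω => (a (ω + t))⁻¹) (ω - t)) =
      fun _ => (1 : Matrix ι ι ℂ) := by
    funext ω
    simp only [compVal, sub_add_cancel, InvMemClass.coe_inv, Units.mul_inv]
  have hz := z.ne_zero
  have hc := heisCoc_ne_zero t (-t)
  rw [e1, add_neg_cancel, show (z : ℂ) * ((z : ℂ) * heisCoc t (-t))⁻¹ * heisCoc t (-t) = 1 by
    field_simp, modelMat_one]

/-- The units of the new model. -/
noncomputable def modelUnit (z : ℂˣ) (a : Om p → S) (t : Om p) :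
    (Matrix ((Om p → ι) × ZMod p) ((Om p → ι) × ZMod p) ℂ)ˣ where
  val := modelMat (z : ℂ) (compVal S a) t
  inv := modelMat (((z : ℂ) * heisCoc t (-t))⁻¹) (compVal S fun ω => (a (ω + t))⁻¹) (-t)
  val_inv := modelMat_mul_inv S z a t
  inv_val := mul_eq_one_comm.1 (modelMat_mul_inv S z a t)

/-- The cocycle as a unit. -/
noncomputable def cocUnit (s t : Om p) : ℂˣ := Units.mk0 _ (heisCoc_ne_zero s t)

theorem modelUnit_mul (z w : ℂˣ) (a b : Om p → S) (s t : Om p) :
    modelUnit S z a s * modelUnit S w b t =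
      modelUnit S (z * w * cocUnit s t) (fun ω => a ω * b (ω - s)) (s + t) :=
  Units.ext ((modelMat_mul _ _ _ _ _ _).trans rfl)

theorem modelUnit_one : modelUnit S (1 : ℂˣ) (fun _ => 1) (0 : Om p) = 1 :=
  Units.ext modelMat_one

theorem modelUnit_smul (z : ℂˣ) (c : Om p → ℂˣ) (a b : Om p → S) (t : Om p)
    (h : ∀ ω, (a ω : (Matrix ι ι ℂ)ˣ) = scalUnit ι (c ω) * (b ω : (Matrix ι ι ℂ)ˣ)) :
    modelUnit S z a t = modelUnit S (z * ∏ ω, c ω) b t := by
  refine Units.ext ?_
  show modelMat (z : ℂ) (compVal S a) t = modelMat _ (compVal S b) t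
  rw [show compVal S a = fun ω => ((c ω : ℂˣ) : ℂ) • compVal S b ω from funext fun ω => by
    simp only [compVal, h ω, Units.val_mul, scalUnit_val, Matrix.smul_mul, Matrix.one_mul],
    modelMat_smul, Units.val_mul, Units.coe_prod]

theorem modelUnit_scalar (z : ℂˣ) (c : Om p → ℂˣ) (a : Om p → S)
    (h : ∀ ω, (a ω : (Matrix ι ι ℂ)ˣ) = scalUnit ι (c ω)) :
    modelUnit S z a 0 = scalUnit ((Om p → ι) × ZMod p) (z * ∏ ω, c ω) := by
  refine Units.ext ?_
  show modelMat (z : ℂ) (compVal S a) 0 = _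
  rw [show compVal S a = fun ω => ((c ω : ℂˣ) : ℂ) • (1 : Matrix ι ι ℂ) from funext fun ω => by
    rw [compVal, h ω, scalUnit_val], modelMat_scalar, scalUnit_val, Units.val_mul, Units.coe_prod]

theorem modelUnit_trace {z : ℂˣ} {a : Om p → S} {t : Om p}
    (hS : ∀ u ∈ S, (u : Matrix ι ι ℂ).trace ≠ 0 → ∃ z, u = scalUnit ι z)
    (h : (modelUnit S z a t : Matrix ((Om p → ι) × ZMod p) ((Om p → ι) × ZMod p) ℂ).trace ≠ 0) :
    t = 0 ∧ ∀ ω, ∃ c, (a ω : (Matrix ι ι ℂ)ˣ) = scalUnit ι c := by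
  change (modelMat (z : ℂ) (compVal S a) t).trace ≠ 0 at h
  rw [modelMat, trace_smul, trace_kronecker, smul_eq_mul] at h
  have ht : t = 0 := by
    by_contra ht
    exact h (by rw [trace_heisMat_of_ne ht, mul_zero, mul_zero])
  subst ht
  refine ⟨rfl, fun ω => hS _ (a ω).2 fun h0 => h ?_⟩
  rw [trace_opMat_zero, Finset.prod_eq_zero (Finset.mem_univ ω) h0, zero_mul, mul_zero]

/-- The new group of matrices. -/
noncomputable def modelGroup (M : ℕ) (hpM : p ∣ M) :
    Subgroup (Matrix ((Om p → ι) × ZMod p) ((Om p → ι) × ZMod p) ℂ)ˣ where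
  carrier := {u | ∃ z : ℂˣ, z ^ M = 1 ∧ ∃ a t, u = modelUnit S z a t}
  one_mem' := ⟨1, one_pow M, fun _ => 1, 0, (modelUnit_one S).symm⟩
  mul_mem' := by
    rintro _ _ ⟨z, hz, a, s, rfl⟩ ⟨w, hw, b, t, rfl⟩
    refine ⟨_, ?_, _, _, modelUnit_mul S z w a b s t⟩
    obtain ⟨k, rfl⟩ := hpM
    rw [mul_pow, mul_pow, hz, hw, one_mul, one_mul, pow_mul,
      show cocUnit s t ^ p = 1 from Units.ext (by simpa [cocUnit] using heisCoc_pow s t), one_pow]
  inv_mem' := by
    rintro _ ⟨z, hz, a, t, rfl⟩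
    refine ⟨(z * cocUnit t (-t))⁻¹, ?_, fun ω => (a (ω + t))⁻¹, -t, Units.ext ?_⟩
    · obtain ⟨k, rfl⟩ := hpM
      rw [inv_pow, mul_pow, hz, one_mul, pow_mul,
        show cocUnit t (-t) ^ p = 1 from Units.ext (by simpa [cocUnit] using heisCoc_pow t (-t)), one_pow,
        inv_one]
    · show modelMat (((z : ℂ) * heisCoc t (-t))⁻¹) _ (-t) = modelMat _ _ (-t)
      rw [Units.val_inv_eq_inv_val, Units.val_mul]
      rfl

end Step

/-- **The step.** -/
theorem HasCTModel.wreath {G : Type u} [Group G] [Finite G] (N : Subgroup G) [N.Normal]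
    (hidx : N.index.Prime) (hN : HasCTModel N) : HasCTModel G := by
  classical
  obtain ⟨ι, _, _, _, S, m, s, hsq, hfin, hscal, htr, hcard, hprimes, hsS, hsmul, hsker⟩ := hN
  set p := N.index with hp
  haveI := Fact.mk hidx
  haveI : NeZero p := ⟨hidx.ne_zero⟩
  haveI : NeZero m := ⟨hsq.ne_zero⟩
  set M := Nat.lcm m p with hMdef
  have hpM : p ∣ M := Nat.dvd_lcm_right m p
  have hmM : m ∣ M := Nat.dvd_lcm_left m p
  have hMsq : Squarefree M := by
    by_cases hd : p ∣ m
    · rwa [hMdef, Nat.lcm_eq_left hd]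
    · have hc : Nat.Coprime m p := Nat.Coprime.symm (hidx.coprime_iff_not_dvd.2 hd)
      rw [hMdef, hc.lcm_eq_mul, Nat.squarefree_mul hc]
      exact ⟨hsq, hidx.squarefree⟩
  haveI : NeZero M := ⟨hMsq.ne_zero⟩
  have hMprimes : ∀ q : ℕ, q.Prime → (q ∣ M ↔ q ∣ m ∨ q = p) := fun q hq => by
    refine ⟨fun h => ?_, fun h => ?_⟩
    · rcases hq.dvd_mul.1 (h.trans (Nat.lcm_dvd_mul m p)) with h' | h'
      · exact Or.inl h'
      · exact Or.inr ((Nat.prime_dvd_prime_iff_eq hq hidx).1 h')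
    · rcases h with h | rfl
      · exact h.trans hmM
      · exact hpM
  have hcpow : ∀ c : ℂˣ, c ^ m = 1 → c ^ M = 1 := fun c hc => by
    obtain ⟨k, hk⟩ := hmM
    rw [hk, pow_mul, hc, one_pow]
  let J : Type := (Om p → ι) × ZMod p
  set S' := modelGroup S M hpM with hS'
  -- scalars of the old model
  set Zs : Subgroup S := (scalUnit ι).range.subgroupOf S with hZs
  haveI : Zs.Normal := ⟨fun x hx g => by
    obtain ⟨z, hz⟩ := Subgroup.mem_subgroupOf.1 hx
    refine Subgroup.mem_subgroupOf.2 ⟨z, ?_⟩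
    rw [Subgroup.coe_mul, Subgroup.coe_mul, InvMemClass.coe_inv, ← hz, ← scalUnit_comm,
      mul_inv_cancel_right]⟩
  haveI := hfin
  have hZcard : Nat.card Zs = m := by
    refine Eq.trans ?_ (Complex.card_rootsOfUnity m)
    refine (Nat.card_congr (Equiv.ofBijective
      (fun c : rootsOfUnity m ℂ => (⟨⟨scalUnit ι c, (hscal _).2 ((mem_rootsOfUnity _ _).1 c.2)⟩,
        Subgroup.mem_subgroupOf.2 ⟨c, rfl⟩⟩ : Zs)) ⟨?_, ?_⟩)).symm
    · intro c d h
      exact Subtype.ext (scalUnit_injective (congrArg (fun x : Zs => ((x : S) : (Matrix ι ι ℂ)ˣ)) h))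
    · rintro ⟨⟨x, hx⟩, hxs⟩
      obtain ⟨z, rfl⟩ := Subgroup.mem_subgroupOf.1 hxs
      exact ⟨⟨z, (mem_rootsOfUnity _ _).2 ((hscal z).1 hx)⟩, rfl⟩
  have hQcard : Nat.card (S ⧸ Zs) = Fintype.card ι ^ 2 := by
    have h := Subgroup.card_eq_card_quotient_mul_card_subgroup Zs
    rw [hcard, hZcard, mul_comm] at h
    exact (Nat.eq_of_mul_eq_mul_right (Nat.pos_of_ne_zero (NeZero.ne m)) h).symm
  -- scalars of the new model
  have htr' : ∀ u ∈ S', (u : Matrix J J ℂ).trace ≠ 0 → ∃ z : ℂˣ, z ^ M = 1 ∧ u = scalUnit J z := by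
    rintro _ ⟨z, hz, a, t, rfl⟩ h
    obtain ⟨rfl, hc⟩ := modelUnit_trace S htr h
    choose c hc using hc
    refine ⟨_, ?_, modelUnit_scalar S z c a hc⟩
    rw [mul_pow, hz, one_mul, ← Finset.prod_pow]
    exact Finset.prod_eq_one fun ω _ => hcpow _ ((hscal _).1 (hc ω ▸ (a ω).2))
  have hscal' : ∀ z : ℂˣ, scalUnit J z ∈ S' ↔ z ^ M = 1 := fun z => by
    refine ⟨fun h => ?_, fun h => ⟨z, h, fun _ => 1, 0, ?_⟩⟩
    · obtain ⟨w, hw, he⟩ := htr' _ h (trace_scalUnit z)
      rwa [scalUnit_injective he]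
    · rw [modelUnit_scalar S z (fun _ => 1) (fun _ => 1) fun ω => by simp]
      simp [J]
  -- the order
  let Φ : rootsOfUnity M ℂ × (Om p → S ⧸ Zs) × Om p → S' := fun x =>
    ⟨modelUnit S x.1 (fun ω => (x.2.1 ω).out) x.2.2,
      ⟨_, (mem_rootsOfUnity _ _).1 x.1.2, _, _, rfl⟩⟩
  have hΦ : Function.Bijective Φ := by
    refine ⟨fun x y h => ?_, ?_⟩
    · obtain ⟨⟨z, hz⟩, a, t⟩ := x
      obtain ⟨⟨w, hw⟩, b, t'⟩ := y
      have h1 : modelUnit S z (fun ω => (a ω).out) t = modelUnit S w (fun ω => (b ω).out) t' :=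
        congrArg Subtype.val h
      have h2 : (modelUnit S z (fun ω => (a ω).out) t) *
          (modelUnit S ((w * cocUnit t' (-t'))⁻¹) (fun ω => ((b (ω + t')).out)⁻¹) (-t')) = 1 := by
        rw [h1]
        refine Units.ext ?_
        have := modelMat_mul_inv S w (fun ω => (b ω).out) t'
        show modelMat _ _ _ * modelMat (((w * cocUnit t' (-t'))⁻¹ : ℂˣ) : ℂ) _ _ = 1
        rw [Units.val_inv_eq_inv_val, Units.val_mul]
        exact this
      rw [modelUnit_mul] at h2
      obtain ⟨ht, hc⟩ := modelUnit_trace S htr (by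
        rw [h2, Units.val_one, trace_one]; exact Nat.cast_ne_zero.2 Fintype.card_ne_zero)
      obtain rfl : t = t' := add_neg_eq_zero.1 ht
      have hab : a = b := funext fun ω => by
        obtain ⟨c, hc⟩ := hc ω
        simp only [sub_add_cancel] at hc
        rw [← QuotientGroup.out_eq' (a ω), ← QuotientGroup.out_eq' (b ω), eq_comm,
          QuotientGroup.eq]
        have h3 : (((a ω).out * ((b ω).out)⁻¹ : S) : (Matrix ι ι ℂ)ˣ) = scalUnit ι c := hc
        have h4 : (b ω).out⁻¹ * (a ω).out ∈ Zs := by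
          have h5 : (a ω).out * ((b ω).out)⁻¹ ∈ Zs := Subgroup.mem_subgroupOf.2 ⟨c, h3.symm⟩
          have := ‹Zs.Normal›.conj_mem _ h5 ((b ω).out)⁻¹
          simpa [mul_assoc] using this
        exact h4
      subst hab
      refine Prod.ext (Subtype.ext (Units.ext ?_)) rfl
      have h6 := congrArg Units.val h1
      change modelMat _ _ _ = modelMat _ _ _ at h6
      rw [modelMat, modelMat] at h6
      have hne : opMat (compVal S fun ω => (a ω).out) t ⊗ₖ heisMat t ≠ 0 := fun h0 => by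
        have h7 := (modelUnit S (1 : ℂˣ) (fun ω => (a ω).out) t).ne_zero
        exact h7 (by show modelMat _ _ _ = 0; rw [modelMat, h0, smul_zero])
      exact smul_left_injective ℂ hne h6
    · rintro ⟨_, z, hz, a, t, rfl⟩
      have hc : ∀ ω, ∃ c : ℂˣ, c ^ m = 1 ∧
          (a ω : (Matrix ι ι ℂ)ˣ) = scalUnit ι c * ((QuotientGroup.mk (s := Zs) (a ω)).out : S) := by
        intro ω
        have h5 : (QuotientGroup.mk (s := Zs) (a ω)).out⁻¹ * a ω ∈ Zs :=
          QuotientGroup.eq.1 (QuotientGroup.out_eq' _)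
        obtain ⟨c, hc⟩ := Subgroup.mem_subgroupOf.1 h5
        refine ⟨c, (hscal c).1 (hc ▸ SetLike.coe_mem _), ?_⟩
        rw [scalUnit_comm, hc, Subgroup.coe_mul, InvMemClass.coe_inv, mul_inv_cancel_left]
      choose c hc1 hc2 using hc
      refine ⟨(⟨z * ∏ ω, c ω, (mem_rootsOfUnity _ _).2 ?_⟩, fun ω => QuotientGroup.mk (a ω), t),
        Subtype.ext (modelUnit_smul S z c a _ t hc2).symm⟩
      rw [mul_pow, hz, one_mul, ← Finset.prod_pow]
      exact Finset.prod_eq_one fun ω _ => hcpow _ (hc1 ω)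
  have hcard' : Nat.card S' = M * Fintype.card J ^ 2 := by
    rw [← Nat.card_congr (Equiv.ofBijective Φ hΦ), Nat.card_prod, Nat.card_prod,
      Complex.card_rootsOfUnity, Nat.card_fun, hQcard]
    simp only [J, Fintype.card_prod, Fintype.card_fun, ZMod.card, Nat.card_eq_fintype_card]
    ring
  haveI : Finite S' := Finite.of_surjective Φ hΦ.2
  -- the embedding
  obtain ⟨emb, hemb⟩ := exists_wreath_embedding N
  have hQp : Nat.card (G ⧸ N) = p := rfl
  let e : G ⧸ N ≃* Multiplicative (ZMod p) := mulEquivOfPrimeCardEq (p := p) hQp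
    (by rw [Nat.card_congr Multiplicative.toAdd, Nat.card_zmod])
  let a' : G → Om p → S := fun g ω =>
    ⟨s ((emb g).left (e.symm (Multiplicative.ofAdd ω.1))), hsS _⟩
  let t' : G → Om p := fun g => (Multiplicative.toAdd (e (emb g).right), 0)
  refine ⟨J, inferInstance, inferInstance, inferInstance, S', M,
    fun g => modelUnit S 1 (a' g) (t' g), hMsq, inferInstance, hscal',
    fun u hu h => (htr' u hu h).imp fun z hz => hz.2, hcard', fun q hq => ⟨?_, ?_⟩,
    fun g => ⟨1, one_pow M, _, _, rfl⟩, fun g h => ?_, fun g hg => ?_⟩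
  · rw [hMprimes q hq, (hprimes q hq).1, ← N.card_mul_index, hq.dvd_mul, ← hp,
      Nat.prime_dvd_prime_iff_eq hq hidx]
  · intro h
    rw [Fintype.card_prod, Fintype.card_fun, ZMod.card, hq.dvd_mul,
      Nat.prime_dvd_prime_iff_eq hq hidx] at h
    rcases h with h | h
    · exact ((hprimes q hq).2 (hq.dvd_of_dvd_pow h)).trans hmM
    · exact h ▸ hpM
  · have ht : t' (g * h) = t' g + t' h := by
      simp [t', map_mul]
    have hl : ∀ ω, (emb (g * h)).left (e.symm (Multiplicative.ofAdd ω.1)) =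
        (emb g).left (e.symm (Multiplicative.ofAdd ω.1)) *
          (emb h).left (e.symm (Multiplicative.ofAdd (ω - t' g).1)) := fun ω => by
      rw [map_mul, RegularWreathProduct.mul_left, Pi.mul_apply]
      congr 2
      apply e.injective
      rw [map_mul, map_inv, e.apply_symm_apply, e.apply_symm_apply, ← Multiplicative.toAdd.injective.eq_iff]
      simp [t', sub_eq_add_neg, add_comm]
    choose c hc using fun ω : Om p => hsmul ((emb g).left (e.symm (Multiplicative.ofAdd ω.1)))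
      ((emb h).left (e.symm (Multiplicative.ofAdd (ω - t' g).1)))
    refine ⟨(∏ ω, c ω) * (cocUnit (t' g) (t' h))⁻¹, ?_⟩
    simp only []
    rw [modelUnit_mul, ht, modelUnit_smul S 1 c (a' (g * h))
      (fun ω => a' g ω * a' h (ω - t' g)) _ fun ω => by
        show s _ = _
        rw [hl ω]
        exact hc ω]
    refine Units.ext ?_
    show modelMat _ _ _ = (scalUnit J _ : Matrix J J ℂ) * modelMat _ _ _
    rw [scalUnit_val, Matrix.smul_mul, Matrix.one_mul, modelMat, modelMat, smul_smul]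
    congr 1
    simp [mul_assoc, mul_left_comm, cocUnit, heisCoc_ne_zero]
  · obtain ⟨z, hz⟩ := hg
    obtain ⟨ht, hc⟩ := modelUnit_trace S htr (hz ▸ trace_scalUnit z)
    apply hemb
    rw [map_one]
    refine RegularWreathProduct.ext (funext fun x => ?_) ?_
    · obtain ⟨w, hw⟩ := hc (Multiplicative.toAdd (e x), 0)
      have := hsker _ ⟨w, hw⟩
      simpa using this
    · have h1 : Multiplicative.toAdd (e (emb g).right) = 0 := congrArg Prod.fst ht
      exact e.injective (by rw [RegularWreathProduct.one_right, map_one]; exact h1)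

theorem hasCTModel_of_isSolvable {G : Type u} [Group G] [Finite G] (hsolv : Group.IsSolvable G)
    (hstep : ∀ (K : Type u) [Group K] [Finite K], Group.IsSolvable K → Nontrivial K →
      ∃ N : Subgroup K, N.Normal ∧ N.index.Prime) : HasCTModel G := by
  suffices key : ∀ (n : ℕ) (K : Type u) [Group K] [Finite K], Group.IsSolvable K → Nat.card K = n →
      HasCTModel K from key _ G hsolv rfl
  intro n
  induction n using Nat.strong_induction_on with
  | _ n IH =>
  intro K _ _ hK hn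
  rcases subsingleton_or_nontrivial K with hs | hs
  · exact hasCTModel_of_subsingleton K
  obtain ⟨N, hN, hidx⟩ := hstep K hK hs
  haveI := hN
  have hlt : Nat.card N < n := by
    rw [← hn, ← N.card_mul_index]
    exact lt_mul_of_one_lt_right Nat.card_pos hidx.one_lt
  exact HasCTModel.wreath N hidx (IH _ hlt N inferInstance rfl)

end Cfsg.Agent.Lib.Characters
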