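import Cfsg.Agent.Lib.Characters.FrobeniusCoherence
import Cfsg.Agent.Lib.Characters.Kernel
import Cfsg.Agent.Lib.Solvable.FrobeniusAux
import Cfsg.Agent.Lib.Cores.PCore
import Cfsg.Agent.S0188
import Cfsg.Prelude.Def_OddOrderChar

/-!
# Feit's coherence theorem for Frobenius groups
-/

namespace Cfsg.Agent.Lib.Characters

open scoped ComplexConjugate

set_option linter.unusedSectionVars false
set_option linter.style.haveILetI false

universe u v

variable {G : Type u} [Group G] [Fintype G]

/-! ### The extension step -/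

/-- A family `A i = θ i - d i • θ i₀` can be resolved, provided the characters of smaller degree
outweigh each degree. -/
theorem coherent_of_degree_bound {ι : Type*} [Fintype ι] [DecidableEq ι] (d : ι → ℕ) (i₀ : ι)
    (hd : d i₀ = 1) (hpos : ∀ i, 0 < d i) (A : ι → (G → ℂ)) (hA0 : A i₀ = 0)
    (hgen : ∀ i, IsGeneralizedCharacter G (A i)) (hone : ∀ i, A i 1 = 0)
    (hgram : ∀ i j, i ≠ i₀ → j ≠ i₀ →
      classInner (A i) (A j) = (if i = j then 1 else 0) + ((d i * d j : ℕ) : ℂ))
    (htwo : ∃ i, i ≠ i₀ ∧ d i = 1)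
    (hbound : ∀ i, 1 < d i →
      2 * d i < ∑ j ∈ Finset.univ.filter (fun j => d j < d i), d j ^ 2) :
    ∃ θ : ι → (G → ℂ), (∀ i, IsGeneralizedCharacter G (θ i)) ∧
      (∀ i j, classInner (θ i) (θ j) = if i = j then 1 else 0) ∧
      ∀ i, A i = θ i - (d i : ℂ) • θ i₀ := by
  classical
  -- the degree one part
  let L := {i : ι // d i = 1}
  let E := Fintype.equivFin L
  let k₀ := E ⟨i₀, hd⟩
  have hne : ∀ k, k ≠ k₀ → (E.symm k).1 ≠ i₀ := by
    intro k hk h
    apply hk
    have : E.symm k = ⟨i₀, hd⟩ := Subtype.ext h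
    rw [← E.apply_symm_apply k, this]
  obtain ⟨ε, hε, μ, hμ, hμi, hτ⟩ := exists_sign_of_gram (Fintype.card L) k₀
    (fun k => A (E.symm k).1) (by simp [k₀, hA0]) (fun k => hgen _) (fun k => hone _)
    (fun k l hk hl => by
      rw [hgram _ _ (hne k hk) (hne l hl), (E.symm k).2, (E.symm l).2]
      by_cases hkl : k = l
      · subst hkl; norm_num
      · rw [if_neg fun h => hkl (E.symm.injective (Subtype.ext h)), if_neg hkl]; norm_num)
  obtain ⟨t₀, ht₀⟩ : ∃ t : G → ℂ, t = ε • μ k₀ := ⟨_, rfl⟩
  have hεε : ε * ε = 1 := by rcases hε with rfl | rfl <;> norm_num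
  have hconjε : conj ε = ε := by rcases hε with rfl | rfl <;> simp
  have hirrgen : ∀ k, IsGeneralizedCharacter G (μ k) := fun k =>
    IsCharacter.isGeneralizedCharacter (IsIrrCharacter.isCharacter (hμ k))
  have htgen : IsGeneralizedCharacter G t₀ := by
    rw [ht₀]
    rcases hε with rfl | rfl
    · rw [one_smul]; exact hirrgen _
    · rw [neg_one_smul]; exact IsGeneralizedCharacter.neg (hirrgen _)
  have htt : classInner t₀ t₀ = 1 := by
    rw [ht₀, classInner_smul_left, classInner_smul_right, hconjε, ← mul_assoc, hεε, one_mul,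
      IsIrrCharacter.classInner_self (hμ _)]
  have ht1 : t₀ 1 ≠ 0 := by
    rw [ht₀, Pi.smul_apply, smul_eq_mul]
    refine mul_ne_zero (fun h => by rw [h, mul_zero] at hεε; exact zero_ne_one hεε) ?_
    exact IsIrrCharacter.apply_one_ne_zero (hμ _)
  have hcast : ∀ n : ℕ, conj ((n : ℂ)) = (n : ℂ) := fun n => map_natCast _ n
  -- the key inner products
  have key : ∀ n i, d i = n → i ≠ i₀ → classInner (A i) t₀ = -(d i : ℂ) := by
    intro n
    induction n using Nat.strong_induction_on with
    | _ n ih =>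
    intro i hi hi0
    rcases (Nat.eq_or_lt_of_le (hpos i) : 1 = d i ∨ 1 < d i) with h1 | h1
    · have hk : E ⟨i, h1.symm⟩ ≠ k₀ := fun h => hi0 (congrArg Subtype.val (E.injective h))
      have hA : A i = ε • (μ (E ⟨i, h1.symm⟩) - μ k₀) := by
        rw [← hτ (E ⟨i, h1.symm⟩), E.symm_apply_apply]
      rw [hA, ht₀, classInner_smul_left, classInner_smul_right, hconjε, ← mul_assoc, hεε, one_mul,
        classInner_sub_left, IsIrrCharacter.classInner_self (hμ _),
        IsIrrCharacter.classInner_ne (hμ _) (hμ _) (hμi.ne hk), ← h1]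
      norm_num
    · set J := Finset.univ.filter fun j => d j < d i with hJ
      obtain ⟨z, hz⟩ := IsGeneralizedCharacter.exists_classInner_int (hgen i) htgen
      set a : ℤ := z + d i with ha
      have hzc : classInner (A i) t₀ = (a : ℂ) - (d i : ℂ) := by rw [hz, ha]; push_cast; ring
      let θ : ι → (G → ℂ) := fun j => A j + (d j : ℂ) • t₀
      have hθA : ∀ j ∈ J, classInner (A i) (θ j) = (a : ℂ) * (d j : ℂ) - (if j = i₀ then (d i : ℂ) else 0) := by
        intro j hj
        simp only [θ]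
        rw [classInner_add_right, classInner_smul_right, hcast, hzc]
        by_cases hj0 : j = i₀
        · subst hj0
          rw [hA0, classInner_zero_right, if_pos rfl, hd]
          norm_num
        · rw [hgram i j hi0 hj0, if_neg (fun h => by
            rw [← h] at hj; exact lt_irrefl _ (Finset.mem_filter.mp hj).2), if_neg hj0]
          push_cast
          ring
      have hθt : ∀ j ∈ J, classInner (θ j) t₀ = if j = i₀ then 1 else 0 := by
        intro j hj
        simp only [θ]
        rw [classInner_add_left, classInner_smul_left, htt]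
        by_cases hj0 : j = i₀
        · subst hj0
          rw [hA0, classInner_zero_left, if_pos rfl, hd]
          norm_num
        · rw [ih (d j) (hi ▸ (Finset.mem_filter.mp hj).2) j rfl hj0, if_neg hj0]
          ring
      have hθθ : ∀ j ∈ J, ∀ k ∈ J, classInner (θ j) (θ k) = if j = k then 1 else 0 := by
        intro j hj k hk
        by_cases hk0 : k = i₀
        · subst hk0
          rw [show θ k = t₀ by simp [θ, hA0, hd], hθt j hj]
        by_cases hj0 : j = i₀
        · subst hj0
          rw [show θ j = t₀ by simp [θ, hA0, hd], ← classInner_conj_symm, hθt k hk, if_neg hk0,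
            if_neg (Ne.symm hk0), map_zero]
        have hj' := ih (d j) (hi ▸ (Finset.mem_filter.mp hj).2) j rfl hj0
        have hk' := ih (d k) (hi ▸ (Finset.mem_filter.mp hk).2) k rfl hk0
        simp only [θ]
        rw [classInner_add_left, classInner_add_right, classInner_add_right, classInner_smul_left,
          classInner_smul_left, classInner_smul_right, classInner_smul_right, htt, hgram j k hj0 hk0,
          hj', ← classInner_conj_symm (A k) t₀, hk', map_neg, hcast]
        push_cast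
        ring
      set T : G → ℂ := ∑ j ∈ J, (d j : ℂ) • θ j with hT
      set S : ℕ := ∑ j ∈ J, d j ^ 2 with hS
      have hi₀J : i₀ ∈ J := Finset.mem_filter.mpr ⟨Finset.mem_univ _, by rw [hd]; exact h1⟩
      have hAT : classInner (A i) T = (a : ℂ) * (S : ℂ) - (d i : ℂ) := by
        rw [hT, classInner_sum_right, Finset.sum_congr rfl (g := fun j => (a : ℂ) * ((d j : ℂ) ^ 2) -
          (if j = i₀ then (d i : ℂ) else 0)) fun j hj => ?_, Finset.sum_sub_distrib,
          Finset.sum_ite_eq', if_pos hi₀J, ← Finset.mul_sum, hS]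
        · push_cast; rfl
        · rw [classInner_smul_right, hcast, hθA j hj]
          split_ifs with hj0
          · rw [hj0, hd]; push_cast; ring
          · ring
      have htT : classInner t₀ T = 1 := by
        rw [hT, classInner_sum_right, Finset.sum_congr rfl (g := fun j => if j = i₀ then (1 : ℂ) else 0)
          fun j hj => ?_, Finset.sum_ite_eq', if_pos hi₀J]
        rw [classInner_smul_right, hcast, ← classInner_conj_symm, hθt j hj]
        split_ifs with hj0
        · rw [hj0, hd]; norm_num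
        · rw [map_zero, mul_zero]
      have hTT : classInner T T = (S : ℂ) := by
        rw [hT, classInner_sum_left, hS, Nat.cast_sum]
        refine Finset.sum_congr rfl fun j hj => ?_
        rw [classInner_sum_right, Finset.sum_eq_single j, classInner_smul_left,
          classInner_smul_right, hcast, hθθ j hj j hj, if_pos rfl]
        · push_cast; ring
        · intro k hk hkj
          rw [classInner_smul_left, classInner_smul_right, hθθ j hj k hk, if_neg (Ne.symm hkj),
            mul_zero, mul_zero]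
        · exact fun h => absurd hj h
      have hAA : classInner (A i) (A i) = 1 + (d i : ℂ) * (d i : ℂ) := by
        rw [hgram i i hi0 hi0, if_pos rfl]; push_cast; ring
      have hTA : classInner T (A i) = (a : ℂ) * (S : ℂ) - (d i : ℂ) := by
        rw [← classInner_conj_symm, hAT]; simp
      have hTt : classInner T t₀ = 1 := by rw [← classInner_conj_symm, htT, map_one]
      have htA : classInner t₀ (A i) = (a : ℂ) - (d i : ℂ) := by
        rw [← classInner_conj_symm, hzc]; simp
      set D : G → ℂ := A i + (d i : ℂ) • t₀ - (a : ℂ) • T with hD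
      have hDD : classInner D D = ((1 - a ^ 2 * S + 2 * a * d i : ℤ) : ℂ) := by
        rw [hD]
        simp only [classInner_sub_left, classInner_sub_right, classInner_add_left,
          classInner_add_right, classInner_smul_left, classInner_smul_right, hcast, map_intCast,
          hAA, htt, hTT, hAT, hTA, htT, hTt, htA, hzc]
        push_cast
        ring
      have h0 : (0 : ℤ) ≤ 1 - a ^ 2 * S + 2 * a * d i := by
        have := classInner_self_re_nonneg D
        rw [hDD, Complex.intCast_re] at this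
        exact_mod_cast this
      have hbd : 2 * d i < S := hbound i h1
      have ha0 : a = 0 := by
        by_contra han
        have hDz : D = 0 := by
          apply classInner_self_eq_zero
          rw [hDD]
          have hle : (1 - a ^ 2 * S + 2 * a * d i : ℤ) ≤ 0 := by
            have h2 : (2 * (d i : ℤ) + 1) ≤ S := by exact_mod_cast hbd
            have h3 : 1 ≤ a ^ 2 := by nlinarith [Int.one_le_abs han, sq_abs a]
            rcases le_or_gt a 0 with h4 | h4
            · nlinarith
            · nlinarith [mul_le_mul_of_nonneg_left h2 (sq_nonneg a),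
                mul_nonneg (mul_nonneg (Int.natCast_nonneg (d i)) h4.le)
                  (show (0 : ℤ) ≤ a - 1 by omega)]
          rw [le_antisymm hle h0, Int.cast_zero]
        have hθ1 : ∀ j, θ j 1 = (d j : ℂ) * t₀ 1 := fun j => by simp [θ, hone]
        have h5 := congrFun hDz 1
        simp only [hD, hT, Pi.sub_apply, Pi.add_apply, Pi.smul_apply, Pi.zero_apply, smul_eq_mul,
          Finset.sum_apply, hθ1, hone] at h5
        have h6 : ((d i : ℂ) - (a : ℂ) * (S : ℂ)) * t₀ 1 = 0 := by
          rw [hS, Nat.cast_sum, ← h5]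
          simp only [Nat.cast_pow, Finset.mul_sum, Finset.sum_mul, sub_mul, zero_add]
          congr 1
          exact Finset.sum_congr rfl fun j _ => by ring
        have h7 : (d i : ℤ) = a * S := by
          have := (mul_eq_zero.mp h6).resolve_right ht1
          exact_mod_cast sub_eq_zero.mp this
        have h2 : (2 * (d i : ℤ) + 1) ≤ S := by exact_mod_cast hbd
        have hdi : (0 : ℤ) < d i := by exact_mod_cast hpos i
        rcases lt_trichotomy a 0 with h4 | h4 | h4
        · nlinarith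
        · exact han h4
        · nlinarith
      rw [hzc, ha0, Int.cast_zero, zero_sub]
  refine ⟨fun i => A i + (d i : ℂ) • t₀, fun i => ?_, fun i j => ?_, fun i => ?_⟩
  · refine IsGeneralizedCharacter.add (hgen i) ?_
    simpa using IsGeneralizedCharacter.intCast_smul htgen (d i : ℤ)
  · simp only [classInner_add_left, classInner_add_right, classInner_smul_left,
      classInner_smul_right, htt, hcast]
    by_cases hi0 : i = i₀ <;> by_cases hj0 : j = i₀
    · subst hi0 hj0; simp [hA0, hd]
    · subst hi0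
      rw [hA0, classInner_zero_left, classInner_zero_left, ← classInner_conj_symm (A j),
        key _ j rfl hj0, if_neg (Ne.symm hj0), hd, map_neg, hcast]
      ring
    · subst hj0
      rw [hA0, classInner_zero_right, classInner_zero_right, key _ i rfl hi0, if_neg hi0, hd]
      ring
    · rw [hgram i j hi0 hj0, key _ i rfl hi0, ← classInner_conj_symm (A j), key _ j rfl hj0,
        map_neg, hcast]
      push_cast
      ring
  · simp only [hA0, hd, zero_add, Nat.cast_one, one_smul]
    abel

/-! ### Degrees of a nilpotent group -/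

section Degrees

variable {K : Type u} [Group K] [Finite K]

/-- The degree of an irreducible character. -/
noncomputable def degNat (φ : IrrCharacter K) : ℕ :=
  (IsIrrCharacter.exists_apply_one φ.2).choose

theorem apply_one_eq_degNat (φ : IrrCharacter K) : (φ : K → ℂ) 1 = (degNat φ : ℂ) :=
  (IsIrrCharacter.exists_apply_one φ.2).choose_spec.2

theorem degNat_pos (φ : IrrCharacter K) : 0 < degNat φ :=
  (IsIrrCharacter.exists_apply_one φ.2).choose_spec.1

theorem degNat_eq {φ : IrrCharacter K} {n : ℕ} (h : (φ : K → ℂ) 1 = (n : ℂ)) : degNat φ = n := by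
  rw [apply_one_eq_degNat] at h; exact_mod_cast h

/-- The sum of the squares of the degrees less than `n`. -/
noncomputable def lowSum (K : Type u) [Group K] [Finite K] (n : ℕ) : ℕ :=
  letI := Fintype.ofFinite (IrrCharacter K)
  ∑ φ ∈ Finset.univ.filter (fun φ : IrrCharacter K => degNat φ < n), degNat φ ^ 2

theorem lowSum_eq [Fintype (IrrCharacter K)] (n : ℕ) :
    lowSum K n =
      ∑ φ ∈ Finset.univ.filter (fun φ : IrrCharacter K => degNat φ < n), degNat φ ^ 2 := by
  unfold lowSum
  congr! 2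
  exact Finset.ext fun _ => by simp

theorem index_commutator_le_lowSum {n : ℕ} (hn : 1 < n) :
    (commutator K).index ≤ lowSum K n := by
  classical
  haveI := Fintype.ofFinite (IrrCharacter K)
  rw [lowSum_eq, ← card_linear_irr (G := K), Nat.card_eq_fintype_card, Fintype.card_subtype,
    Finset.card_eq_sum_ones]
  refine le_trans (le_of_eq (Finset.sum_congr rfl fun φ hφ => ?_))
    (Finset.sum_le_sum_of_subset fun φ hφ => Finset.mem_filter.mpr ⟨Finset.mem_univ _, ?_⟩)
  · rw [degNat_eq (n := 1) (by simpa using (Finset.mem_filter.mp hφ).2)]; rfl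
  · rw [degNat_eq (n := 1) (by simpa using (Finset.mem_filter.mp hφ).2)]; exact hn

/-- In a `p`-group the squared degree divides the sum of the smaller squared degrees. -/
theorem sq_le_lowSum {p : ℕ} [hp : Fact p.Prime] (hP : IsPGroup p K) (φ : IrrCharacter K)
    (h1 : 1 < degNat φ) : degNat φ ^ 2 ≤ lowSum K (degNat φ) := by
  classical
  haveI := Fintype.ofFinite (IrrCharacter K)
  obtain ⟨N, hN⟩ := IsPGroup.iff_card.mp hP
  have hpow : ∀ ψ : IrrCharacter K, ∃ j, degNat ψ = p ^ j := by
    intro ψ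
    obtain ⟨t, -, ht, htd⟩ := IsIrrCharacter.exists_degree_dvd ψ.2
    rw [← degNat_eq ht, hN] at htd
    obtain ⟨j, -, hj⟩ := (Nat.dvd_prime_pow hp.out).mp htd
    exact ⟨j, hj⟩
  obtain ⟨j, hj⟩ := hpow φ
  have htot : ∑ ψ : IrrCharacter K, degNat ψ ^ 2 = p ^ N := by
    have h := sum_degree_sq (G := K)
    simp only [apply_one_eq_degNat, hN] at h
    exact_mod_cast h
  have hsq : degNat φ ^ 2 ∣ p ^ N := by
    rw [hj, ← pow_mul]
    refine pow_dvd_pow _ ((Nat.pow_le_pow_iff_right hp.out.one_lt).mp ?_)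
    rw [← htot, pow_mul, ← hj]
    exact Finset.single_le_sum (f := fun ψ => degNat ψ ^ 2) (fun _ _ => Nat.zero_le _)
      (Finset.mem_univ φ)
  have hbig : degNat φ ^ 2 ∣
      ∑ ψ ∈ Finset.univ.filter (fun ψ : IrrCharacter K => ¬ degNat ψ < degNat φ), degNat ψ ^ 2 := by
    refine Finset.dvd_sum fun ψ hψ => ?_
    obtain ⟨l, hl⟩ := hpow ψ
    rw [hl, hj]
    refine pow_dvd_pow_of_dvd (pow_dvd_pow _ ?_) 2
    have := (Finset.mem_filter.mp hψ).2
    rw [hl, hj, not_lt] at this
    exact (Nat.pow_le_pow_iff_right hp.out.one_lt).mp this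
  have hdvd : degNat φ ^ 2 ∣ lowSum K (degNat φ) := by
    rw [lowSum_eq]
    refine (Nat.dvd_add_left hbig).mp ?_
    rw [Finset.sum_filter_add_sum_filter_not, htot]
    exact hsq
  refine Nat.le_of_dvd ?_ hdvd
  exact lt_of_lt_of_le (Nat.pos_of_ne_zero Subgroup.index_ne_zero_of_finite)
    (index_commutator_le_lowSum h1)

/-- Lower bounds for the sum of the small squared degrees in a direct product. -/
theorem lowSum_prod_bound {P : Type u} {Q : Type u} [Group P] [Finite P] [Group Q] [Finite Q]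
    {p : ℕ} [Fact p.Prime] (hP : IsPGroup p P) (e : ℕ) (hP1 : e + 1 ≤ (commutator P).index)
    (hQ1 : e + 1 ≤ (commutator Q).index) (φ : IrrCharacter P) (ψ : IrrCharacter Q)
    (h1 : 1 < degNat φ) :
    2 * e * (degNat φ * degNat ψ) + 1 < lowSum (P × Q) (degNat φ * degNat ψ) := by
  classical
  haveI := Fintype.ofFinite (IrrCharacter P)
  haveI := Fintype.ofFinite (IrrCharacter Q)
  haveI := Fintype.ofFinite (IrrCharacter (P × Q))
  let f : IrrCharacter P × IrrCharacter Q → IrrCharacter (P × Q) := fun q =>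
    ⟨fun x => (q.1 : P → ℂ) x.1 * (q.2 : Q → ℂ) x.2,
      (Cfsg.Agent.S0188.result _).mpr ⟨_, _, q.1.2, q.2.2, rfl⟩⟩
  have hdeg : ∀ q, degNat (f q) = degNat q.1 * degNat q.2 := fun q => degNat_eq (by
    show (q.1 : P → ℂ) 1 * (q.2 : Q → ℂ) 1 = _
    rw [apply_one_eq_degNat, apply_one_eq_degNat, Nat.cast_mul])
  have hinj : Function.Injective f := by
    rintro ⟨α, β⟩ ⟨γ, δ⟩ h
    have hx : ∀ x y, (α : P → ℂ) x * (β : Q → ℂ) y = (γ : P → ℂ) x * (δ : Q → ℂ) y := fun x y =>
      congrFun (congrArg Subtype.val h) (x, y)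
    have hb := apply_one_eq_degNat β
    have hd := apply_one_eq_degNat δ
    have ha := apply_one_eq_degNat α
    have hg := apply_one_eq_degNat γ
    have hαγ : α = γ := by
      have hs : (degNat β : ℂ) • (α : P → ℂ) = (degNat δ : ℂ) • (γ : P → ℂ) := by
        funext x
        simp only [Pi.smul_apply, smul_eq_mul]
        rw [← hb, ← hd, mul_comm, hx x 1, mul_comm]
      by_contra hne
      haveI := Fintype.ofFinite P
      have h0 := congrArg (classInner · (α : P → ℂ)) hs
      simp only [classInner_smul_left, IsIrrCharacter.classInner_self α.2,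
        IsIrrCharacter.classInner_ne γ.2 α.2 (fun h => hne (Subtype.ext h.symm)), mul_zero,
        mul_one] at h0
      exact (degNat_pos β).ne' (by exact_mod_cast h0)
    subst hαγ
    refine Prod.ext rfl (Subtype.ext (funext fun y => ?_))
    exact mul_left_cancel₀ (IsIrrCharacter.apply_one_ne_zero α.2) (hx 1 y)
  set d₁ := degNat φ
  set d₂ := degNat ψ
  set X := Finset.univ.filter fun α : IrrCharacter P => degNat α < d₁ with hX
  set Y := Finset.univ.filter fun β : IrrCharacter Q => degNat β ≤ d₂ with hY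
  have hsum : (∑ α ∈ X, degNat α ^ 2) * (∑ β ∈ Y, degNat β ^ 2) ≤
      lowSum (P × Q) (d₁ * d₂) := by
    rw [lowSum_eq, Finset.sum_mul_sum, ← Finset.sum_product',
      Finset.sum_congr rfl (g := fun q => degNat (f q) ^ 2) fun q _ => by rw [hdeg, mul_pow],
      ← Finset.sum_image (f := fun χ => degNat χ ^ 2) hinj.injOn]
    refine Finset.sum_le_sum_of_subset fun χ hχ => ?_
    obtain ⟨q, hq, rfl⟩ := Finset.mem_image.mp hχ
    obtain ⟨hq1, hq2⟩ := Finset.mem_product.mp hq
    refine Finset.mem_filter.mpr ⟨Finset.mem_univ _, ?_⟩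
    rw [hdeg]
    exact Nat.mul_lt_mul_of_lt_of_le (Finset.mem_filter.mp hq1).2 (Finset.mem_filter.mp hq2).2
      (degNat_pos ψ)
  set A := ∑ α ∈ X, degNat α ^ 2 with hA
  set B := ∑ β ∈ Y, degNat β ^ 2 with hB
  have hA1 : d₁ ^ 2 ≤ A := by rw [hA, ← lowSum_eq]; exact sq_le_lowSum hP φ h1
  have hA2 : e + 1 ≤ A := by
    rw [hA, ← lowSum_eq]; exact hP1.trans (index_commutator_le_lowSum h1)
  have hB1 : e + 1 + (if d₂ = 1 then 0 else d₂ ^ 2) ≤ B := by
    have hlin : (commutator Q).index ≤
        ∑ β ∈ Y.filter (fun β => degNat β = 1), degNat β ^ 2 := by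
      rw [← card_linear_irr (G := Q), Nat.card_eq_fintype_card, Fintype.card_subtype,
        Finset.card_eq_sum_ones]
      refine le_trans (le_of_eq (Finset.sum_congr rfl fun β hβ => ?_))
        (Finset.sum_le_sum_of_subset fun β hβ => ?_)
      · rw [degNat_eq (n := 1) (by simpa using (Finset.mem_filter.mp hβ).2)]; rfl
      · have := degNat_eq (n := 1) (φ := β) (by simpa using (Finset.mem_filter.mp hβ).2)
        simp only [hY, Finset.mem_filter, Finset.mem_univ, true_and, this]
        exact ⟨degNat_pos ψ, trivial⟩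
    have hrest : (if d₂ = 1 then 0 else d₂ ^ 2) ≤
        ∑ β ∈ Y.filter (fun β => ¬ degNat β = 1), degNat β ^ 2 := by
      split_ifs with hd2
      · exact Nat.zero_le _
      · exact Finset.single_le_sum (f := fun β => degNat β ^ 2) (fun _ _ => Nat.zero_le _)
          (Finset.mem_filter.mpr ⟨Finset.mem_filter.mpr ⟨Finset.mem_univ _, le_rfl⟩, hd2⟩)
    rw [hB, ← Finset.sum_filter_add_sum_filter_not Y (fun β => degNat β = 1)]
    omega
  refine lt_of_lt_of_le ?_ hsum
  by_cases hd2 : d₂ = 1
  · rw [if_pos hd2, add_zero] at hB1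
    rw [hd2, mul_one]
    have h3 : d₁ ^ 2 * (e + 1) ≤ A * B := Nat.mul_le_mul hA1 hB1
    nlinarith [Nat.mul_le_mul_right (e + 1) (show 2 * d₁ ≤ d₁ ^ 2 by nlinarith)]
  · rw [if_neg hd2] at hB1
    have hAA : d₁ ^ 2 * (e + 1) ≤ A * A := Nat.mul_le_mul hA1 hA2
    have hBB : 4 * (e + 1) * d₂ ^ 2 ≤ B * B :=
      le_trans (by nlinarith [sq_nonneg ((e : ℤ) + 1 - (d₂ : ℤ) ^ 2)]) (Nat.mul_le_mul hB1 hB1)
    have h4 : (2 * (d₁ * d₂) * (e + 1)) * (2 * (d₁ * d₂) * (e + 1)) ≤ (A * B) * (A * B) := by
      calc (2 * (d₁ * d₂) * (e + 1)) * (2 * (d₁ * d₂) * (e + 1))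
          = (d₁ ^ 2 * (e + 1)) * (4 * (e + 1) * d₂ ^ 2) := by ring
        _ ≤ (A * A) * (B * B) := Nat.mul_le_mul hAA hBB
        _ = (A * B) * (A * B) := by ring
    have h5 := Nat.mul_self_le_mul_self_iff.mp h4
    have : 1 ≤ d₁ * d₂ := Nat.mul_pos (by omega) (degNat_pos ψ)
    nlinarith

end Degrees

/-! ### Irreducible characters of the kernel and the relevant characters -/

section Frobenius

variable {L : Type u} [Group L] [Fintype L] (K : Subgroup L) [K.Normal] [Fintype K]
  (hC : ∀ k ∈ K, k ≠ 1 → ∀ x : L, x * k = k * x → x ∈ K)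

include hC

theorem frob_indFun_irr {θ : IrrCharacter K} (hθ : (θ : K → ℂ) ≠ fun _ => 1) :
    IsIrrCharacter L (indFun K (θ : K → ℂ)) :=
  isIrrCharacter_indFun_of_inertia K θ.2 fun g hg =>
    (frob_inertia K hC θ hθ) ▸ (mem_inertia_iff K).mpr hg

theorem frob_indFun_relevant {θ : IrrCharacter K} (hθ : (θ : K → ℂ) ≠ fun _ => 1) :
    IsRelevant K (indFun K (θ : K → ℂ)) := by
  by_contra hr
  have hirr := frob_indFun_irr K hC hθ
  have h := IsIrrCharacter.classInner_self hirr
  rw [classInner_indFun K _ (isClassFunction_indFun _ _),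
    show (fun k : K => indFun K (θ : K → ℂ) k) =
      indFun K (θ : K → ℂ) 1 • fun _ : K => (1 : ℂ) from funext fun k => ?_,
    classInner_smul_right, IsIrrCharacter.classInner_ne θ.2 isIrrCharacter_one hθ, mul_zero] at h
  · exact zero_ne_one h
  · rw [Pi.smul_apply, smul_eq_mul, mul_one]
    by_contra hne
    exact hr ⟨k, k.2, hne⟩

open scoped Classical in
/-- Each relevant character is induced from exactly `|L : K|` characters. -/
theorem frob_card_fibre [Fintype (IrrCharacter K)] {χ : IrrCharacter L}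
    (hχ : IsRelevant K (χ : L → ℂ)) :
    (Finset.univ.filter fun φ : IrrCharacter K => (φ : K → ℂ) ≠ (fun _ => 1) ∧
      indFun K (φ : K → ℂ) = (χ : L → ℂ)).card = K.index := by
  obtain ⟨θ, hθ⟩ := IsCharacter.exists_constituent (IsCharacter.restrict (irr_isCharacter χ) K)
    (fun h => IsIrrCharacter.apply_one_ne_zero χ.2 (congrFun h 1))
  have hθne : (θ : K → ℂ) ≠ fun _ => 1 := by
    intro h1
    apply hθ
    rw [h1, ← avgN_one, frob_avg_of_relevant K χ.2 hχ, Pi.zero_apply]
  have hI := frob_inertia K hC θ hθne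
  have hidx := card_conjugates K (θ : K → ℂ)
  rw [hI] at hidx
  rw [← Fintype.card_subtype, ← Nat.card_eq_fintype_card, ← hidx]
  refine Nat.card_eq_of_bijective (fun φ => ⟨(φ.1 : K → ℂ), ?_⟩) ⟨fun a b hab => ?_, ?_⟩
  · refine exists_conjFun_eq K χ.2 θ.2 φ.1.2 hθ ?_
    have h2 := IsIrrCharacter.classInner_self χ.2
    conv_lhs at h2 => arg 2; rw [← φ.2.2]
    rw [classInner_indFun_right K _ (irr_isClassFunction χ)] at h2
    rw [h2]
    exact one_ne_zero
  · exact Subtype.ext (Subtype.ext (congrArg (fun x => (x.1 : K → ℂ)) hab :))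
  · rintro ⟨_, g, rfl⟩
    let lam : IrrCharacter K := ⟨_, IsIrrCharacter.conjFun K θ.2 g⟩
    have hlne : (lam : K → ℂ) ≠ fun _ => 1 := by
      intro he
      apply hθne
      funext k
      have := congrFun he ⟨g⁻¹ * k * g, by
        simpa using (inferInstance : K.Normal).conj_mem _ k.2 g⁻¹⟩
      refine Eq.trans ?_ this
      exact congrArg (θ : K → ℂ) (Subtype.ext (by simp [mul_assoc]))
    refine ⟨⟨lam, hlne, ?_⟩, rfl⟩
    have hcl : classInner (indFun K (lam : K → ℂ)) (χ : L → ℂ) ≠ 0 := by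
      rw [classInner_indFun K _ (irr_isClassFunction χ), ← classInner_conj_symm]
      intro h0
      rw [map_eq_zero] at h0
      exact hθ ((classInner_restrict_conjFun K (irr_isClassFunction χ) g θ).symm.trans h0)
    by_contra hne'
    exact hcl (IsIrrCharacter.classInner_ne (frob_indFun_irr K hC hlne) χ.2 hne')

omit hC in
/-- The reduced degree of a relevant character. -/
noncomputable def redDeg (χ : {χ : IrrCharacter L // IsRelevant K (χ : L → ℂ)}) : ℕ :=
  degNat χ.1 / K.index

theorem degNat_indFun {θ : IrrCharacter K} (hθ : (θ : K → ℂ) ≠ fun _ => 1) :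
    degNat (⟨_, frob_indFun_irr K hC hθ⟩ : IrrCharacter L) = K.index * degNat θ :=
  degNat_eq (by
    show indFun K (θ : K → ℂ) 1 = _
    rw [indFun_one, apply_one_eq_degNat, Nat.cast_mul])

theorem redDeg_spec [Fintype (IrrCharacter K)]
    (χ : {χ : IrrCharacter L // IsRelevant K (χ : L → ℂ)}) :
    degNat χ.1 = K.index * redDeg K χ ∧ 0 < redDeg K χ ∧
      ∃ θ : IrrCharacter K, (θ : K → ℂ) ≠ (fun _ => 1) ∧ indFun K (θ : K → ℂ) = (χ.1 : L → ℂ) ∧
        degNat θ = redDeg K χ := by
  classical
  have hpos : 0 < K.index := Nat.pos_of_ne_zero Subgroup.index_ne_zero_of_finite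
  obtain ⟨θ, hθ⟩ := Finset.card_pos.mp (lt_of_lt_of_eq hpos (frob_card_fibre K hC χ.2).symm)
  obtain ⟨hne, hind⟩ := (Finset.mem_filter.mp hθ).2
  have h1 : degNat χ.1 = K.index * degNat θ := by
    rw [← degNat_indFun K hC hne]
    exact congrArg degNat (Subtype.ext hind.symm)
  have h2 : redDeg K χ = degNat θ := by
    rw [redDeg, h1, Nat.mul_div_cancel_left _ hpos]
  exact ⟨by rw [h2, h1], h2 ▸ degNat_pos θ, θ, hne, hind, h2.symm⟩

open scoped Classical in
/-- Weighted counting over the relevant characters. -/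
theorem frob_count [Fintype (IrrCharacter K)]
    [Fintype {χ : IrrCharacter L // IsRelevant K (χ : L → ℂ)}] (n : ℕ) (hn : 1 < n) :
    K.index * ∑ χ ∈ Finset.univ.filter (fun χ : {χ : IrrCharacter L // IsRelevant K (χ : L → ℂ)} =>
        redDeg K χ < n), redDeg K χ ^ 2 + 1 = lowSum K n := by
  rw [lowSum_eq]
  set Φ := Finset.univ.filter fun φ : IrrCharacter K => degNat φ < n with hΦ
  have htriv : degNat (trivIrr K) = 1 := degNat_eq (by simp)
  have ht : trivIrr K ∈ Φ := Finset.mem_filter.mpr ⟨Finset.mem_univ _, by rw [htriv]; exact hn⟩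
  rw [← Finset.add_sum_erase _ _ ht, htriv, one_pow, add_comm 1]
  congr 1
  have hne : ∀ φ ∈ Φ.erase (trivIrr K), (φ : K → ℂ) ≠ fun _ => 1 := fun φ hφ h =>
    Finset.ne_of_mem_erase hφ (Subtype.ext h)
  let F : IrrCharacter K → Option {χ : IrrCharacter L // IsRelevant K (χ : L → ℂ)} := fun φ =>
    if h : (φ : K → ℂ) ≠ (fun _ => 1) then
      some ⟨⟨_, frob_indFun_irr K hC h⟩, frob_indFun_relevant K hC h⟩ else none
  set X := Finset.univ.filter (fun χ : {χ : IrrCharacter L // IsRelevant K (χ : L → ℂ)} =>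
    redDeg K χ < n)
  have hF : ∀ φ ∈ Φ.erase (trivIrr K), F φ ∈ X.image some := by
    intro φ hφ
    have h := hne φ hφ
    refine Finset.mem_image.mpr ⟨⟨⟨_, frob_indFun_irr K hC h⟩, frob_indFun_relevant K hC h⟩,
      Finset.mem_filter.mpr ⟨Finset.mem_univ _, ?_⟩, by simp only [F, dif_pos h]⟩
    unfold redDeg
    rw [degNat_indFun K hC h,
      Nat.mul_div_cancel_left _ (Nat.pos_of_ne_zero Subgroup.index_ne_zero_of_finite)]
    exact (Finset.mem_filter.mp (Finset.mem_of_mem_erase hφ)).2
  rw [← Finset.sum_fiberwise_of_maps_to hF, Finset.sum_image (fun a _ b _ h => Option.some_injective _ h),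
    Finset.mul_sum]
  refine Finset.sum_congr rfl fun χ hχ => ?_
  obtain ⟨-, -, -⟩ := redDeg_spec K hC χ
  have hfib : (Φ.erase (trivIrr K)).filter (fun φ => F φ = some χ) =
      Finset.univ.filter fun φ : IrrCharacter K => (φ : K → ℂ) ≠ (fun _ => 1) ∧
        indFun K (φ : K → ℂ) = (χ.1 : L → ℂ) := by
    ext φ
    simp only [Finset.mem_filter, Finset.mem_univ, true_and]
    constructor
    · rintro ⟨hφ, hF'⟩
      simp only [F, dif_pos (hne φ hφ), Option.some.injEq] at hF'
      exact ⟨hne φ hφ, congrArg (fun x : {χ : IrrCharacter L // IsRelevant K (χ : L → ℂ)} =>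
        (x.1 : L → ℂ)) hF'⟩
    · rintro ⟨h, hind⟩
      refine ⟨Finset.mem_erase.mpr ⟨fun he => h (congrArg Subtype.val he),
        Finset.mem_filter.mpr ⟨Finset.mem_univ _, ?_⟩⟩, ?_⟩
      · have h1 := degNat_indFun K hC h
        rw [show (⟨_, frob_indFun_irr K hC h⟩ : IrrCharacter L) = χ.1 from Subtype.ext hind,
          (redDeg_spec K hC χ).1] at h1
        rw [← Nat.eq_of_mul_eq_mul_left
          (Nat.pos_of_ne_zero Subgroup.index_ne_zero_of_finite) h1]
        exact (Finset.mem_filter.mp hχ).2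
      · simp only [F, dif_pos h, Option.some.injEq]
        exact Subtype.ext (Subtype.ext hind)
  rw [hfib]
  have hval : ∀ φ ∈ (Finset.univ.filter fun φ : IrrCharacter K => (φ : K → ℂ) ≠ (fun _ => 1) ∧
      indFun K (φ : K → ℂ) = (χ.1 : L → ℂ)), degNat φ ^ 2 = redDeg K χ ^ 2 := by
    intro φ hφ
    obtain ⟨h, hind⟩ := (Finset.mem_filter.mp hφ).2
    have h1 := degNat_indFun K hC h
    rw [show (⟨_, frob_indFun_irr K hC h⟩ : IrrCharacter L) = χ.1 from Subtype.ext hind,
      (redDeg_spec K hC χ).1] at h1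
    rw [← Nat.eq_of_mul_eq_mul_left (Nat.pos_of_ne_zero Subgroup.index_ne_zero_of_finite) h1]
  rw [Finset.sum_congr rfl hval, Finset.sum_const, frob_card_fibre K hC χ.2, smul_eq_mul]

end Frobenius

/-! ### The coherence dichotomy -/

section Dichotomy

theorem degNat_comp_equiv {K P : Type u} [Group K] [Finite K] [Group P] [Finite P] (f : P ≃* K)
    (φ : IrrCharacter K) :
    degNat (⟨_, IsIrrCharacter.comp_equiv φ.2 f⟩ : IrrCharacter P) = degNat φ :=
  degNat_eq (by
    show (φ : K → ℂ) (f 1) = _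
    rw [map_one, apply_one_eq_degNat])

theorem lowSum_congr {K P : Type u} [Group K] [Finite K] [Group P] [Finite P] (f : P ≃* K)
    (n : ℕ) : lowSum K n = lowSum P n := by
  classical
  haveI := Fintype.ofFinite (IrrCharacter K)
  haveI := Fintype.ofFinite (IrrCharacter P)
  rw [lowSum_eq, lowSum_eq, Finset.sum_filter, Finset.sum_filter]
  refine Fintype.sum_bijective
    (fun φ : IrrCharacter K => (⟨_, IsIrrCharacter.comp_equiv φ.2 f⟩ : IrrCharacter P)) ⟨?_, ?_⟩
    _ _ fun φ => ?_
  · intro φ ψ h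
    refine Subtype.ext (funext fun k => ?_)
    have := congrFun (congrArg Subtype.val h) (f.symm k)
    simpa using this
  · intro ψ
    exact ⟨⟨_, IsIrrCharacter.comp_equiv ψ.2 f.symm⟩, Subtype.ext (funext fun x => by simp)⟩
  · rw [degNat_comp_equiv f φ]

theorem index_commutator_congr {K P : Type u} [Group K] [Group P] (f : P ≃* K) :
    (commutator K).index = (commutator P).index := by
  have h : (commutator P).map (f : P →* K) = _ := map_commutator_eq _ _
  rw [MonoidHom.range_eq_top.mpr f.surjective] at h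
  rw [show commutator K = (commutator P).map (f : P →* K) from h.symm,
    Subgroup.index_map_equiv]

theorem index_commutator_prod (P Q : Type u) [Group P] [Group Q] :
    (commutator (P × Q)).index = (commutator P).index * (commutator Q).index := by
  rw [commutator_def, ← Subgroup.top_prod_top, Subgroup.commutator_prod_prod, Subgroup.index_prod]
  rfl

variable {L : Type u} [Group L] [Fintype L] (K : Subgroup L) [K.Normal] [Fintype K]

/-- The abelianization of an invariant direct factor of the kernel is large. -/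
theorem index_commutator_factor (hC : ∀ k ∈ K, k ≠ 1 → ∀ x : L, x * k = k * x → x ∈ K)
    (R : Subgroup K) (hR : ∀ (g : L) (k : K), k ∈ R →
      (⟨g⁻¹ * k * g, by simpa using (inferInstance : K.Normal).conj_mem _ k.2 g⁻¹⟩ : K) ∈ R)
    {P : Type u} [Group P] [Finite P] [Group.IsNilpotent P] [Nontrivial P] (π : K →* P)
    (hπ : Function.Surjective π) (hker : π.ker = R) :
    K.index + 1 ≤ (commutator P).index := by
  classical
  haveI := Fintype.ofFinite (IrrCharacter K)
  haveI := Fintype.ofFinite (IrrCharacter P)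
  obtain ⟨lam, hlam1, hlam⟩ : ∃ lam : IrrCharacter P, (lam : P → ℂ) 1 = 1 ∧ lam ≠ trivIrr P := by
    by_contra hall
    push Not at hall
    have h1 : (commutator P).index = 1 := by
      rw [← card_linear_irr (G := P)]
      exact Nat.card_eq_one_iff_exists.mpr
        ⟨⟨trivIrr P, rfl⟩, fun y => Subtype.ext (hall y.1 y.2)⟩
    exact (Group.IsSolvable.commutator_lt_top_of_nontrivial P).ne (Subgroup.index_eq_one.mp h1)
  let φ₀ : IrrCharacter K := ⟨_, IsIrrCharacter.comp_surjective lam.2 π hπ⟩
  have hφ₀ : (φ₀ : K → ℂ) ≠ fun _ => 1 := by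
    intro h
    apply hlam
    refine Subtype.ext (funext fun x => ?_)
    obtain ⟨k, rfl⟩ := hπ x
    exact congrFun h k
  have hI := frob_inertia K hC φ₀ hφ₀
  have hidx := card_conjugates K (φ₀ : K → ℂ)
  rw [hI] at hidx
  rw [← card_linear_irr (G := P), ← hidx]
  let X := {φ : K → ℂ // φ ∈ Set.range fun g : L => conjFun K g (φ₀ : K → ℂ)}
  -- each conjugate is inflated from a linear character of the quotient
  have hfac : ∀ x : X, ∃ μ : IrrCharacter P, (μ : P → ℂ) 1 = 1 ∧ μ ≠ trivIrr P ∧
      (x : K → ℂ) = fun k => (μ : P → ℂ) (π k) := by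
    rintro ⟨_, g, rfl⟩
    obtain ⟨l, hl⟩ := IsCharacter.exists_hom_of_apply_one
      (irr_isCharacter (⟨_, IsIrrCharacter.conjFun K φ₀.2 g⟩ : IrrCharacter K))
      ((conjFun_apply_one K g (φ₀ : K → ℂ)).trans (by
        show (lam : P → ℂ) (π 1) = 1
        rw [map_one, hlam1]))
    have hle : π.ker ≤ l.ker := by
      intro k hk
      apply Units.ext
      rw [← congrFun hl k, Units.val_one]
      rw [hker] at hk
      show (lam : P → ℂ) (π ⟨g * k * g⁻¹, _⟩) = 1
      have h2 := hR g⁻¹ k hk
      rw [← hker, MonoidHom.mem_ker] at h2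
      simp only [inv_inv] at h2
      rw [h2, hlam1]
    let μ : P →* ℂˣ := π.liftOfRightInverse (Function.surjInv hπ) (Function.rightInverse_surjInv hπ)
      ⟨l, hle⟩
    have hμ : ∀ k, μ (π k) = l k := fun k =>
      MonoidHom.liftOfRightInverse_comp_apply π _ _ ⟨l, hle⟩ k
    refine ⟨⟨_, isIrrCharacter_unitsHom μ⟩, by simp, ?_, funext fun k => ?_⟩
    · intro h
      apply hφ₀
      funext k
      have h3 := congrFun (congrArg Subtype.val h) (π ⟨g⁻¹ * k * g,
        by simpa using (inferInstance : K.Normal).conj_mem _ k.2 g⁻¹⟩)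
      simp only [hμ, trivIrr_apply, ← congrFun hl] at h3
      refine Eq.trans ?_ h3
      exact congrArg (φ₀ : K → ℂ) (Subtype.ext (by simp [mul_assoc]))
    · show _ = ((μ (π k) : ℂˣ) : ℂ)
      rw [hμ, ← congrFun hl k]
  choose μ hμ1 hμne hμ using hfac
  let f : Option X → {χ : IrrCharacter P // (χ : P → ℂ) 1 = 1} := fun o =>
    o.elim ⟨trivIrr P, rfl⟩ fun x => ⟨μ x, hμ1 x⟩
  have hf : Function.Injective f := by
    rintro (_ | x) (_ | y) h
    · rfl
    · exact absurd (congrArg Subtype.val h).symm (hμne y)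
    · exact absurd (congrArg Subtype.val h) (hμne x)
    · refine congrArg some (Subtype.ext ?_)
      rw [hμ x, hμ y, show μ x = μ y from congrArg Subtype.val h]
  have := Nat.card_le_card_of_injective f hf
  rwa [Finite.card_option] at this

open scoped Classical in
/-- The linear characters of the kernel, counted through the relevant characters. -/
theorem frob_linear_count (hC : ∀ k ∈ K, k ≠ 1 → ∀ x : L, x * k = k * x → x ∈ K)
    [Fintype {χ : IrrCharacter L // IsRelevant K (χ : L → ℂ)}] :
    K.index * (Finset.univ.filter fun χ : {χ : IrrCharacter L // IsRelevant K (χ : L → ℂ)} =>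
      redDeg K χ = 1).card + 1 = (commutator K).index := by
  haveI := Fintype.ofFinite (IrrCharacter K)
  have h := frob_count K hC 2 one_lt_two
  have h1 : (Finset.univ.filter fun χ : {χ : IrrCharacter L // IsRelevant K (χ : L → ℂ)} =>
      redDeg K χ < 2) = Finset.univ.filter fun χ => redDeg K χ = 1 := by
    ext χ
    have := (redDeg_spec K hC χ).2.1
    simp only [Finset.mem_filter, Finset.mem_univ, true_and]
    omega
  rw [h1, Finset.sum_congr rfl (g := fun _ => 1) fun χ hχ => by
    rw [(Finset.mem_filter.mp hχ).2, one_pow], ← Finset.card_eq_sum_ones] at h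
  rw [h]
  refine le_antisymm ?_ (index_commutator_le_lowSum one_lt_two)
  rw [lowSum_eq, ← card_linear_irr (G := K), Nat.card_eq_fintype_card, Fintype.card_subtype,
    Finset.card_eq_sum_ones]
  refine le_trans (le_of_eq (Finset.sum_congr rfl fun φ hφ => ?_))
    (Finset.sum_le_sum_of_subset fun φ hφ => ?_)
  · have h2 := (Finset.mem_filter.mp hφ).2
    have h3 := degNat_pos φ
    rw [show degNat φ = 1 by omega, one_pow]
  · have h2 := (Finset.mem_filter.mp hφ).2
    have h3 := degNat_pos φ
    refine Finset.mem_filter.mpr ⟨Finset.mem_univ _, ?_⟩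
    rw [apply_one_eq_degNat, show degNat φ = 1 by omega, Nat.cast_one]

/-- The kernel is nilpotent (Thompson). -/
theorem frob_kernel_nilpotent (hH2 : K ≠ ⊤)
    (hC : ∀ k ∈ K, k ≠ 1 → ∀ x : L, x * k = k * x → x ∈ K) : Group.IsNilpotent K := by
  obtain ⟨x, hx⟩ : ∃ x, x ∉ K := by
    by_contra h
    push Not at h
    exact hH2 (eq_top_iff.mpr fun x _ => h x)
  refine Cfsg.Agent.Lib.Solvable.FrobeniusAux.isNilpotent_of_fpf (H := Subgroup.zpowers x)
    (fun h => hx (by rw [Subgroup.zpowers_eq_bot.mp h]; exact K.one_mem)) ?_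
  intro a ha ha1 n hn hc
  by_contra hn1
  have haK : a ∈ K := hC n hn hn1 a hc
  obtain ⟨j, rfl⟩ := Subgroup.mem_zpowers_iff.mp ha
  exact hx (hC _ haK ha1 x ((Commute.refl x).zpow_right j).eq)

/-- There is a relevant character of the least degree. -/
theorem frob_exists_linear (hH1 : K ≠ ⊥) (hH2 : K ≠ ⊤)
    (hC : ∀ k ∈ K, k ≠ 1 → ∀ x : L, x * k = k * x → x ∈ K) :
    ∃ χ : {χ : IrrCharacter L // IsRelevant K (χ : L → ℂ)}, redDeg K χ = 1 := by
  classical
  haveI := frob_kernel_nilpotent K hH2 hC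
  haveI := Fintype.ofFinite {χ : IrrCharacter L // IsRelevant K (χ : L → ℂ)}
  haveI : Nontrivial K := (Subgroup.nontrivial_iff_ne_bot K).mpr hH1
  by_contra h
  push Not at h
  have h1 := frob_linear_count K hC
  rw [Finset.card_eq_zero.mpr (Finset.filter_eq_empty_iff.mpr fun χ _ => h χ), mul_zero,
    zero_add] at h1
  exact (Group.IsSolvable.commutator_lt_top_of_nontrivial K).ne (Subgroup.index_eq_one.mp h1.symm)

/-- The structure of the kernel when the degree condition for coherence fails. -/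
theorem frob_degree_dichotomy (hH1 : K ≠ ⊥) (hH2 : K ≠ ⊤)
    (hC : ∀ k ∈ K, k ≠ 1 → ∀ x : L, x * k = k * x → x ∈ K) (he : Nat.card K ≠ K.index + 1)
    [Fintype {χ : IrrCharacter L // IsRelevant K (χ : L → ℂ)}]
    [DecidablePred fun χ : {χ : IrrCharacter L // IsRelevant K (χ : L → ℂ)} => redDeg K χ = 1] :
    ((∃ i j : {χ : IrrCharacter L // IsRelevant K (χ : L → ℂ)},
        i ≠ j ∧ redDeg K i = 1 ∧ redDeg K j = 1) ∧
      ∀ i : {χ : IrrCharacter L // IsRelevant K (χ : L → ℂ)}, 1 < redDeg K i →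
        2 * redDeg K i < ∑ j ∈ Finset.univ.filter (fun j => redDeg K j < redDeg K i),
          redDeg K j ^ 2) ∨
    ∃ p : ℕ, p.Prime ∧ IsPGroup p K ∧ (∃ u v : K, u * v ≠ v * u) ∧
      (commutator K).index ≤ 4 * K.index ^ 2 + 1 := by
  classical
  haveI := Fintype.ofFinite (IrrCharacter K)
  set e := K.index with hedef
  have hepos : 0 < e := Nat.pos_of_ne_zero Subgroup.index_ne_zero_of_finite
  haveI hnil : Group.IsNilpotent K := frob_kernel_nilpotent K hH2 hC
  haveI hKnt : Nontrivial K := (Subgroup.nontrivial_iff_ne_bot K).mpr hH1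
  -- a product decomposition when the order is not a prime power
  have hsplit : ∀ p : ℕ, p.Prime → p ∣ Nat.card K → ¬ IsPGroup p K →
      ∃ (P Q : Subgroup K) (_ : P × Q ≃* K), IsPGroup p P ∧ (Nat.card Q).Coprime p ∧
        e + 1 ≤ (commutator P).index ∧ e + 1 ≤ (commutator Q).index := by
    intro p hp hpd hnp
    haveI := Fact.mk hp
    set P := Cfsg.pCore p K with hPdef
    set Q := Cfsg.pPrimeCore p K with hQdef
    have htop : P ⊔ Q = ⊤ := top_le_iff.mp
      ((Cfsg.Agent.Lib.Cores.fittingSubgroup_eq_top_iff.mpr inferInstance).ge.trans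
        (Cfsg.Agent.Lib.Cores.fittingSubgroup_le_pCore_sup_pPrimeCore p))
    have hinf : P ⊓ Q = ⊥ := Cfsg.Agent.Lib.Cores.pCore_inf_pPrimeCore
    have hdis : Disjoint P Q := disjoint_iff.mpr hinf
    have hcomm : ∀ (x : P) (y : Q), Commute (x : K) y := fun x y =>
      Subgroup.commute_of_normal_of_disjoint P Q inferInstance inferInstance hdis _ _ x.2 y.2
    let m : P × Q →* K := P.subtype.noncommCoprod Q.subtype hcomm
    have hmbij : Function.Bijective m := by
      constructor
      · rw [injective_iff_map_eq_one]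
        rintro ⟨x, y⟩ h
        have h1 : (x : K) * y = 1 := h
        have hxQ : (x : K) ∈ Q := by
          rw [eq_inv_of_mul_eq_one_left h1]; exact inv_mem y.2
        have hx1 : (x : K) = 1 := by
          have : (x : K) ∈ P ⊓ Q := ⟨x.2, hxQ⟩
          rwa [hinf, Subgroup.mem_bot] at this
        rw [hx1, one_mul] at h1
        exact Prod.ext (Subtype.ext hx1) (Subtype.ext h1)
      · intro k
        obtain ⟨x, hx, y, hy, hxy⟩ := Subgroup.mem_sup_of_normal_left.mp
          (htop ▸ Subgroup.mem_top k : k ∈ P ⊔ Q)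
        exact ⟨(⟨x, hx⟩, ⟨y, hy⟩), hxy⟩
    let f := MulEquiv.ofBijective m hmbij
    have hPp : IsPGroup p P := Cfsg.Agent.Lib.Cores.pCore_isPGroup p K
    have hQc : (Nat.card Q).Coprime p := Cfsg.Agent.Lib.Cores.pPrimeCore_coprime p K
    have hPne : Nontrivial P := by
      rw [Subgroup.nontrivial_iff_ne_bot]
      intro h
      have h2 : Q = ⊤ := by rwa [h, bot_sup_eq] at htop
      rw [h2, Subgroup.card_top] at hQc
      exact hp.ne_one (Nat.eq_one_of_dvd_one (hQc ▸ Nat.dvd_gcd hpd dvd_rfl))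
    have hQne : Nontrivial Q := by
      rw [Subgroup.nontrivial_iff_ne_bot]
      intro h
      apply hnp
      have h2 : P = ⊤ := by rwa [h, sup_bot_eq] at htop
      exact Cfsg.Agent.Lib.Cores.pCore_eq_top_iff.mp h2
    haveI : Group.IsNilpotent P := inferInstance
    haveI : Group.IsNilpotent Q := inferInstance
    have hinv : ∀ (R : Subgroup K) [R.Characteristic] (g : L) (k : K), k ∈ R →
        (⟨g⁻¹ * k * g, by simpa using (inferInstance : K.Normal).conj_mem _ k.2 g⁻¹⟩ : K) ∈ R := by
      intro R hRc g k hk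
      have h1 := Subgroup.characteristic_iff_le_comap.mp hRc
        (MulAut.conjNormal (H := K) g⁻¹) hk
      rw [Subgroup.mem_comap] at h1
      convert h1 using 1
      exact Subtype.ext (by simp)
    have hfac : ∀ k : K, ∃ x : P, ∃ y : Q, f.symm k = (x, y) ∧ (x : K) * y = k := fun k =>
      ⟨(f.symm k).1, (f.symm k).2, rfl, f.apply_symm_apply k⟩
    refine ⟨P, Q, f, hPp, hQc, ?_, ?_⟩
    · refine index_commutator_factor K hC Q (hinv Q)
        ((MonoidHom.fst P Q).comp f.symm.toMonoidHom)
        (Prod.fst_surjective.comp f.symm.surjective) ?_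
      ext k
      obtain ⟨x, y, hxy, hk⟩ := hfac k
      show (f.symm k).1 = 1 ↔ k ∈ Q
      rw [hxy, ← hk, mul_mem_cancel_right y.2]
      refine ⟨fun h => by rw [show x = 1 from h]; exact one_mem _, fun h => ?_⟩
      have : (x : K) ∈ P ⊓ Q := ⟨x.2, h⟩
      rw [hinf, Subgroup.mem_bot] at this
      exact Subtype.ext this
    · refine index_commutator_factor K hC P (hinv P)
        ((MonoidHom.snd P Q).comp f.symm.toMonoidHom)
        (Prod.snd_surjective.comp f.symm.surjective) ?_
      ext k
      obtain ⟨x, y, hxy, hk⟩ := hfac k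
      show (f.symm k).2 = 1 ↔ k ∈ P
      rw [hxy, ← hk, mul_mem_cancel_left x.2]
      refine ⟨fun h => by rw [show y = 1 from h]; exact one_mem _, fun h => ?_⟩
      have : (y : K) ∈ P ⊓ Q := ⟨h, y.2⟩
      rw [hinf, Subgroup.mem_bot] at this
      exact Subtype.ext this
  -- the number of degree one characters
  have hlin : e * (Finset.univ.filter fun χ : {χ : IrrCharacter L // IsRelevant K (χ : L → ℂ)} =>
      redDeg K χ = 1).card + 1 = (commutator K).index := by
    convert frob_linear_count K hC using 5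
  have hq1 : 1 < (commutator K).index := by
    have h1 : (commutator K).index ≠ 1 := fun h =>
      (Group.IsSolvable.commutator_lt_top_of_nontrivial K).ne (Subgroup.index_eq_one.mp h)
    have h2 : (commutator K).index ≠ 0 := Subgroup.index_ne_zero_of_finite
    omega
  by_cases hgood : (∃ i j : {χ : IrrCharacter L // IsRelevant K (χ : L → ℂ)},
        i ≠ j ∧ redDeg K i = 1 ∧ redDeg K j = 1) ∧
      ∀ i : {χ : IrrCharacter L // IsRelevant K (χ : L → ℂ)}, 1 < redDeg K i →
        2 * redDeg K i < ∑ j ∈ Finset.univ.filter (fun j => redDeg K j < redDeg K i),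
          redDeg K j ^ 2
  · exact Or.inl hgood
  right
  rw [not_and_or] at hgood
  rcases hgood with hone | hdeg
  · -- a single linear orbit
    have hc : (Finset.univ.filter fun χ : {χ : IrrCharacter L // IsRelevant K (χ : L → ℂ)} =>
        redDeg K χ = 1).card ≤ 1 := by
      refine Finset.card_le_one.mpr fun i hi j hj => by_contra fun hij => hone ?_
      exact ⟨i, j, hij, (Finset.mem_filter.mp hi).2, (Finset.mem_filter.mp hj).2⟩
    have hq : (commutator K).index = e + 1 := by
      rcases Nat.le_one_iff_eq_zero_or_eq_one.mp hc with h | h <;> rw [h] at hlin <;> omega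
    obtain ⟨p, hp, hpd⟩ := Nat.exists_prime_and_dvd (Finite.one_lt_card (α := K)).ne'
    by_cases hpg : IsPGroup p K
    · refine ⟨p, hp, hpg, ?_, by rw [hq]; nlinarith⟩
      by_contra hab
      push Not at hab
      apply he
      rw [← hq]
      have hbot : commutator K = ⊥ := by
        rw [commutator_def, Subgroup.commutator_eq_bot_iff_le_centralizer]
        intro y _
        rw [Subgroup.mem_centralizer_iff]
        exact fun z _ => hab z y
      rw [hbot, Subgroup.index_bot]
    · exfalso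
      obtain ⟨P, Q, f, -, -, h1, h2⟩ := hsplit p hp hpd hpg
      rw [index_commutator_congr f, index_commutator_prod] at hq
      nlinarith [Nat.mul_le_mul h1 h2]
  · push Not at hdeg
    obtain ⟨i, hi1, hi⟩ := hdeg
    have hcnt := frob_count K hC (redDeg K i) hi1
    obtain ⟨-, -, θ, -, -, hθd⟩ := redDeg_spec K hC i
    obtain ⟨t, -, ht, htd⟩ := IsIrrCharacter.exists_degree_dvd θ.2
    rw [← degNat_eq ht, hθd] at htd
    obtain ⟨p, hp, hpd⟩ := Nat.exists_prime_and_dvd (show redDeg K i ≠ 1 by omega)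
    haveI := Fact.mk hp
    have hlow : lowSum K (redDeg K i) ≤ 2 * e * redDeg K i + 1 := by
      rw [← hcnt]
      nlinarith
    by_cases hpg : IsPGroup p K
    · refine ⟨p, hp, hpg, ?_, ?_⟩
      · by_contra hab
        push Not at hab
        have h1 := IsIrrCharacter.apply_one_of_comm hab θ.2
        rw [apply_one_eq_degNat, hθd] at h1
        have : redDeg K i = 1 := by exact_mod_cast h1
        omega
      · have h1 := sq_le_lowSum hpg θ (hθd ▸ hi1)
        have h2 := index_commutator_le_lowSum (K := K) hi1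
        rw [hθd] at h1
        have h3 : redDeg K i ≤ 2 * e := by nlinarith
        nlinarith
    · exfalso
      obtain ⟨P, Q, f, hPp, hQc, h1, h2⟩ := hsplit p hp (hpd.trans htd) hpg
      let θ' : IrrCharacter (P × Q) := ⟨_, IsIrrCharacter.comp_equiv θ.2 f⟩
      obtain ⟨α, β, hα, hβ, hprod⟩ := (Cfsg.Agent.S0188.result _).mp θ'.2
      have hdp : redDeg K i = degNat (⟨α, hα⟩ : IrrCharacter P) *
          degNat (⟨β, hβ⟩ : IrrCharacter Q) := by
        rw [← hθd, ← degNat_comp_equiv f θ]
        refine degNat_eq ?_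
        show (θ' : P × Q → ℂ) 1 = _
        rw [hprod]
        show α 1 * β 1 = _
        rw [Nat.cast_mul, ← apply_one_eq_degNat, ← apply_one_eq_degNat]
      have hd1 : 1 < degNat (⟨α, hα⟩ : IrrCharacter P) := by
        by_contra hle
        have hα1 : degNat (⟨α, hα⟩ : IrrCharacter P) = 1 := by
          have := degNat_pos (⟨α, hα⟩ : IrrCharacter P)
          omega
        rw [hα1, one_mul] at hdp
        obtain ⟨s, -, hs, hsd⟩ := IsIrrCharacter.exists_degree_dvd hβ
        rw [← degNat_eq (φ := (⟨β, hβ⟩ : IrrCharacter Q)) hs, ← hdp] at hsd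
        exact hp.ne_one (Nat.eq_one_of_dvd_one (hQc ▸ Nat.dvd_gcd (hpd.trans hsd) dvd_rfl))
      have hb := lowSum_prod_bound hPp e h1 h2 ⟨α, hα⟩ ⟨β, hβ⟩ hd1
      rw [← hdp, ← lowSum_congr f] at hb
      omega

open scoped Classical in
/-- Feit's coherence theorem for a Frobenius group. -/
theorem feit_coherence {M : Type v} [Group M] [Fintype M] (hH1 : K ≠ ⊥) (hH2 : K ≠ ⊤)
    (hC : ∀ k ∈ K, k ≠ 1 → ∀ x : L, x * k = k * x → x ∈ K) (he : Nat.card K ≠ K.index + 1)
    (τ : (L → ℂ) → (M → ℂ))
    (hτ : Cfsg.IsLinearIsometryOn (Cfsg.zspanOn {χ : L → ℂ | Cfsg.IsIrrCharacter L χ ∧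
      ∃ h ∈ K, χ h ≠ χ 1} {1}ᶜ) τ)
    (hτ1 : ∀ α ∈ Cfsg.zspanOn {χ : L → ℂ | Cfsg.IsIrrCharacter L χ ∧ ∃ h ∈ K, χ h ≠ χ 1} {1}ᶜ,
      τ α 1 = 0) :
    Cfsg.IsCoherent {χ : L → ℂ | Cfsg.IsIrrCharacter L χ ∧ ∃ h ∈ K, χ h ≠ χ 1} {1}ᶜ τ ∨
      ∃ p : ℕ, p.Prime ∧ IsPGroup p K ∧ (∃ u v : K, u * v ≠ v * u) ∧
        (commutator K).index ≤ 4 * K.index ^ 2 + 1 := by
  haveI := Fintype.ofFinite {χ : IrrCharacter L // IsRelevant K (χ : L → ℂ)}
  refine (frob_degree_dichotomy K hH1 hH2 hC he).imp_left ?_
  rintro ⟨⟨i₀, i₁, hne, hi₀, hi₁⟩, hbound⟩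
  set S : Set (L → ℂ) := {χ : L → ℂ | Cfsg.IsIrrCharacter L χ ∧ ∃ h ∈ K, χ h ≠ χ 1} with hS
  obtain ⟨hadd, hsmul, hiso, hgen⟩ := hτ
  let ι := {χ : IrrCharacter L // IsRelevant K (χ : L → ℂ)}
  haveI := Fintype.ofFinite (IrrCharacter K)
  let χs : ι → (L → ℂ) := fun i => (i.1 : L → ℂ)
  have hmem : ∀ i, χs i ∈ S := fun i => ⟨i.1.2, i.2⟩
  have hone : ∀ i, χs i 1 = ((K.index : ℂ)) * (redDeg K i : ℂ) := fun i => by
    show (i.1 : L → ℂ) 1 = _
    rw [apply_one_eq_degNat, (redDeg_spec K hC i).1, Nat.cast_mul]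
  have hinner : ∀ i j, classInner (χs i) (χs j) = if i = j then 1 else 0 := by
    intro i j
    show classInner (i.1 : L → ℂ) (j.1 : L → ℂ) = _
    rw [classInner_irr]
    by_cases h : i = j
    · simp [h]
    · rw [if_neg fun h' => h (Subtype.ext h'), if_neg h]
  let α : ι → (L → ℂ) := fun i => χs i - (redDeg K i : ℂ) • χs i₀
  have hα1 : ∀ i, α i 1 = 0 := fun i => by
    simp only [α, Pi.sub_apply, Pi.smul_apply, smul_eq_mul, hone, hi₀]
    push_cast
    ring
  have hzero : ∀ γ : L → ℂ, γ ∈ Cfsg.zspan S → γ 1 = 0 → γ ∈ Cfsg.zspanOn S {1}ᶜ := by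
    intro γ h1 h2
    refine ⟨h1, fun x hx => ?_⟩
    rw [Set.mem_compl_iff, not_not, Set.mem_singleton_iff] at hx
    rw [hx, h2]
  have hαmem : ∀ i, α i ∈ Cfsg.zspanOn S {1}ᶜ := fun i => by
    refine hzero _ ?_ (hα1 i)
    simp only [α, Nat.cast_smul_eq_nsmul]
    exact Submodule.sub_mem _ (zspan_mem (hmem i)) (nsmul_mem (zspan_mem (hmem i₀)) _)
  -- `τ` on sums
  have hτzero : τ 0 = 0 := by
    have := hsmul _ (hαmem i₀) 0
    simpa using this
  have hτsum : ∀ (s : Finset ι) (c : ι → ℤ), (∑ i ∈ s, c i • α i) ∈ Cfsg.zspanOn S {1}ᶜ ∧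
      τ (∑ i ∈ s, c i • α i) = ∑ i ∈ s, c i • τ (α i) := by
    intro s c
    have hm : ∀ i, c i • α i ∈ Cfsg.zspanOn S {1}ᶜ := fun i =>
      ⟨Submodule.smul_mem _ _ (hαmem i).1, fun x hx => by simp [(hαmem i).2 x hx]⟩
    induction s using Finset.induction with
    | empty =>
      simp only [Finset.sum_empty]
      exact ⟨⟨Submodule.zero_mem _, fun _ _ => rfl⟩, hτzero⟩
    | insert i s hi ih =>
      rw [Finset.sum_insert hi, Finset.sum_insert hi, hadd _ (hm i) _ ih.1, hsmul _ (hαmem i), ih.2]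
      exact ⟨⟨Submodule.add_mem _ (hm i).1 ih.1.1, fun x hx => by
        rw [Pi.add_apply, (hm i).2 x hx, ih.1.2 x hx, add_zero]⟩, rfl⟩
  have hA0 : τ (α i₀) = 0 := by
    rw [show α i₀ = 0 by simp [α, hi₀], hτzero]
  obtain ⟨θ, hθgen, hθ, hAθ⟩ := coherent_of_degree_bound (redDeg K) i₀ hi₀
    (fun i => (redDeg_spec K hC i).2.1) (fun i => τ (α i)) hA0 (fun i => hgen _ (hαmem i))
    (fun i => hτ1 _ (hαmem i))
    (fun i j hi hj => by
      rw [hiso _ (hαmem i) _ (hαmem j)]
      simp only [α, classInner_sub_left, classInner_sub_right, classInner_smul_left,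
        classInner_smul_right, hinner, map_natCast, if_pos, if_neg hi, if_neg (Ne.symm hj)]
      push_cast
      ring)
    ⟨i₁, hne.symm, hi₁⟩ hbound
  -- members of the span
  have hrange : S = Set.range χs := by
    ext χ
    exact ⟨fun h => ⟨⟨⟨χ, h.1⟩, h.2⟩, rfl⟩, fun ⟨i, hi⟩ => hi ▸ hmem i⟩
  have hspan : ∀ γ ∈ Cfsg.zspan S, ∃ c : ι → ℤ, γ = ∑ i, c i • χs i := by
    intro γ hγ
    rw [Cfsg.zspan, SetLike.mem_coe, hrange, Submodule.mem_span_range_iff_exists_fun] at hγ
    obtain ⟨c, hc⟩ := hγ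
    exact ⟨c, hc.symm⟩
  have hcoef : ∀ (c : ι → ℤ) (j : ι), classInner (∑ i, c i • χs i) (χs j) = (c j : ℂ) := by
    intro c j
    rw [classInner_sum_left, Finset.sum_eq_single j]
    · rw [← Int.cast_smul_eq_zsmul ℂ, classInner_smul_left, hinner, if_pos rfl, mul_one]
    · intro i _ hij
      rw [← Int.cast_smul_eq_zsmul ℂ, classInner_smul_left, hinner, if_neg hij, mul_zero]
    · exact fun h => absurd (Finset.mem_univ j) h
  let τ₁ : (L → ℂ) → (M → ℂ) := fun γ => ∑ i, classInner γ (χs i) • θ i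
  have hτ₁ : ∀ c : ι → ℤ, τ₁ (∑ i, c i • χs i) = ∑ i, c i • θ i := fun c => by
    simp only [τ₁, hcoef]
    exact Finset.sum_congr rfl fun i _ => by rw [Int.cast_smul_eq_zsmul]
  refine ⟨⟨α i₁, hαmem i₁, ?_⟩, τ₁, ⟨?_, ?_, ?_, ?_⟩, ?_⟩
  · intro h
    have := congrArg (classInner · (χs i₁)) h
    simp [α, classInner_sub_left, classInner_smul_left, hinner, hne] at this
  · intro γ _ δ _
    simp only [τ₁, classInner_add_left, add_smul, Finset.sum_add_distrib]
  · intro γ _ n
    simp only [τ₁]
    rw [Finset.smul_sum]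
    refine Finset.sum_congr rfl fun i _ => ?_
    rw [← Int.cast_smul_eq_zsmul ℂ n γ, classInner_smul_left, mul_smul, Int.cast_smul_eq_zsmul]
  · intro γ hγ δ hδ
    obtain ⟨c, rfl⟩ := hspan γ hγ
    obtain ⟨c', rfl⟩ := hspan δ hδ
    rw [hτ₁, hτ₁]
    simp only [classInner_sum_left, classInner_sum_right, ← Int.cast_smul_eq_zsmul ℂ,
      classInner_smul_left, classInner_smul_right, hinner, hθ]
  · intro γ hγ
    obtain ⟨c, rfl⟩ := hspan γ hγ
    rw [hτ₁]
    exact IsGeneralizedCharacter.sum _ fun i _ => by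
      rw [← Int.cast_smul_eq_zsmul ℂ]
      exact IsGeneralizedCharacter.intCast_smul (hθgen i) _
  · intro γ hγ
    obtain ⟨c, rfl⟩ := hspan γ hγ.1
    have hsum0 : ∑ i, (c i : ℂ) * (redDeg K i : ℂ) = 0 := by
      have h0 := hγ.2 1 (by simp)
      simp only [Finset.sum_apply, Pi.smul_apply, zsmul_eq_mul, Pi.mul_apply, Pi.intCast_apply,
        hone] at h0
      have hI : (K.index : ℂ) ≠ 0 := Nat.cast_ne_zero.mpr Subgroup.index_ne_zero_of_finite
      rw [Finset.sum_congr rfl (g := fun i => (K.index : ℂ) * ((c i : ℂ) * (redDeg K i : ℂ)))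
        fun i _ => by ring, ← Finset.mul_sum, mul_eq_zero] at h0
      exact h0.resolve_left hI
    have hrepr : ∑ i, c i • χs i = ∑ i, c i • α i := by
      simp only [α, smul_sub, Finset.sum_sub_distrib, ← Int.cast_smul_eq_zsmul ℂ, smul_smul,
        ← Finset.sum_smul, hsum0, zero_smul, sub_zero]
    rw [hτ₁]
    conv_rhs => rw [hrepr, (hτsum Finset.univ c).2]
    simp only [hAθ, smul_sub, Finset.sum_sub_distrib, ← Int.cast_smul_eq_zsmul ℂ, smul_smul,
      ← Finset.sum_smul, hsum0, zero_smul, sub_zero]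

end Dichotomy

end Cfsg.Agent.Lib.Characters
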