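import Cfsg.Agent.S0867
import Cfsg.Agent.Lib.Glauberman.Solvable
import Cfsg.Agent.Lib.Glauberman.Conj
import Cfsg.Agent.Lib.InvChar.GaloisChar
import Cfsg.Agent.Lib.Characters.Values
import Cfsg.Agent.Lib.Characters.Gallagher

/-!
# Canonical extensions over a cyclic coprime complement

Values of the canonical extension on the cosets of a generator.
-/

set_option autoImplicit false
set_option linter.unusedSectionVars false
set_option linter.style.haveILetI false

namespace Cfsg.Agent.Lib.Characters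

open Cfsg.Agent.Lib.BlockHeights Cfsg.Agent.Lib.InvChar
open scoped ComplexConjugate Pointwise

universe u

variable {Γ : Type u} [Group Γ] [Fintype Γ] (G S : Subgroup Γ) [Fintype G] [G.Normal]

theorem pow_card_of_mem {H : Subgroup Γ} {x : Γ} (hx : x ∈ H) : x ^ Nat.card H = 1 := by
  have h := congrArg (Subtype.val : H → Γ) (pow_card_eq_one' (x := (⟨x, hx⟩ : H)))
  exact h

omit [Fintype G] in
theorem coprime_complement (hcop : (Nat.card G).Coprime (Nat.card S)) (htop : G ⊔ S = ⊤) :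
    G.index = Nat.card S ∧ Nat.card Γ = Nat.card G * Nat.card S := by
  have hdisj : Disjoint S G := by
    rw [disjoint_iff]
    exact Subgroup.inf_eq_bot_of_coprime hcop.symm
  have hmul : (S : Set Γ) * (G : Set Γ) = Set.univ := by
    rw [← Subgroup.mul_normal, sup_comm, htop, Subgroup.coe_top]
  have hc := Subgroup.isComplement'_of_disjoint_and_mul_eq_univ hdisj hmul
  exact ⟨hc.index_eq_card, by rw [← hc.card_mul, mul_comm]⟩

/-- The canonical extension takes equal values on `c s` and `c s ^ k` for `k` prime to `|S|`. -/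
theorem ext_apply_pow (hcop : (Nat.card G).Coprime (Nat.card S)) (htop : G ⊔ S = ⊤)
    {χ : G → ℂ} (hχ : IsIrrCharacter G χ)
    (hinv : ∀ (x : Γ) (g : G), χ ⟨x * g * x⁻¹, Subgroup.Normal.conj_mem inferInstance _ g.2 x⟩ = χ g)
    (hdet : (Cfsg.detOrder χ).Coprime (Nat.card S)) {χh : Γ → ℂ} (hχh : IsIrrCharacter Γ χh)
    (hres : ∀ g : G, χh g = χ g) (hdeth : (Cfsg.detOrder χh).Coprime (Nat.card S))
    {c s : Γ} (hc : c ∈ G) (hs : s ∈ S) (hcs : Commute c s) {k : ℕ}
    (hk : k.Coprime (Nat.card S)) : χh (c * s ^ k) = χh (c * s) := by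
  obtain ⟨hidx, hcard⟩ := coprime_complement G S hcop htop
  obtain ⟨z, hz1, hzk⟩ := Nat.chineseRemainder hcop 1 k
  have hzco : z.Coprime (Nat.card Γ) := by
    rw [hcard]
    refine Nat.Coprime.mul_right ?_ ?_
    · rw [Nat.coprime_iff_gcd_eq_one, hz1.gcd_eq]; simp
    · rw [Nat.coprime_iff_gcd_eq_one, hzk.gcd_eq]; exact hk
  obtain ⟨d, -, hd, hddvd⟩ := IsIrrCharacter.exists_degree_dvd hχ
  obtain ⟨χ₀, -, huniq⟩ := S0867.result G χ hχ (fun x g => hinv x g) d hd (by
    rw [hidx]; exact (hdet.mul_left (hcop.coprime_dvd_left hddvd)).symm)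
  have hψ : IsIrrCharacter Γ (fun g => χh (g ^ z)) := isIrr_comp_pow hχh hzco
  have hψres : ∀ g : G, χh ((g : Γ) ^ z) = χ g := by
    intro g
    rw [← hres g]
    congr 1
    rw [← SubgroupClass.coe_pow]
    refine congrArg Subtype.val ?_
    conv_rhs => rw [← pow_one g]
    exact pow_eq_pow_of_modEq hz1 pow_card_eq_one'
  have hhc := IsIrrCharacter.isCharacter hχh
  have hψc := IsIrrCharacter.isCharacter hψ
  have hlin := isCharacter_detChar hhc
  obtain ⟨lam, hlam⟩ := IsCharacter.exists_hom_of_apply_one hlin.1 hlin.2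
  have hdd : Cfsg.detOrder χh ∣ Nat.card G := by
    have h1 : detChar χh ^ Nat.card Γ = 1 := funext fun g => by
      rw [hlam, Pi.pow_apply, Pi.one_apply, ← Units.val_pow_eq_pow_val, ← map_pow, pow_card_eq_one', map_one, Units.val_one]
    have h2 : Cfsg.detOrder χh ∣ Nat.card G * Nat.card S := hcard ▸ orderOf_dvd_of_pow_eq_one h1
    exact hdeth.dvd_of_dvd_mul_right h2
  have hdetψ : detChar (fun g => χh (g ^ z)) = detChar χh := by
    funext g
    let f1 : Subgroup.zpowers g →* Γ := (Subgroup.zpowers g).subtype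
    have hcomm : ∀ a b : Subgroup.zpowers g, Commute (a : Γ) (b : Γ) := by
      intro a b
      obtain ⟨i, hi⟩ := a.2
      obtain ⟨j, hj⟩ := b.2
      rw [← hi, ← hj]
      exact Commute.zpow_zpow_self g i j
    let f2 : Subgroup.zpowers g →* Γ :=
      MonoidHom.mk' (fun a => (a : Γ) ^ z) fun a b => by
        rw [Subgroup.coe_mul, (hcomm a b).mul_pow]
    have e1 := congrFun (detChar_comp f1 hψc) ⟨g, Subgroup.mem_zpowers g⟩
    have e2 := congrFun (detChar_comp f2 hhc) ⟨g, Subgroup.mem_zpowers g⟩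
    have e3 : (fun x => χh (x ^ z)) ∘ f1 = χh ∘ f2 := rfl
    rw [e3] at e1
    have e4 : detChar (fun g => χh (g ^ z)) g = detChar χh (g ^ z) := e1.symm.trans e2
    rw [e4, hlam]
    show ((lam (g ^ z)) : ℂ) = (lam g : ℂ)
    rw [map_pow, Units.val_pow_eq_pow_val]
    conv_rhs => rw [← pow_one (lam g : ℂ)]
    refine pow_eq_pow_of_modEq (hz1.of_dvd hdd) ?_
    have h3 := congrFun (pow_orderOf_eq_one (detChar χh)) g
    rw [Pi.pow_apply, Pi.one_apply] at h3
    exact (congrArg (· ^ Cfsg.detOrder χh) (congrFun hlam g)).symm.trans h3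
  have hdetψ' : (Cfsg.detOrder fun g => χh (g ^ z)).Coprime (Nat.card S) := by
    rw [Cfsg.detOrder, hdetψ]
    exact hdeth
  have heq : (fun g => χh (g ^ z)) = χh :=
    (huniq _ hψ hψres (by rw [hidx]; exact hdetψ'.symm)).trans
      (huniq _ hχh hres (by rw [hidx]; exact hdeth.symm)).symm
  have hval := congrFun heq (c * s)
  rw [hcs.mul_pow] at hval
  rw [← hval]
  congr 2
  · conv_lhs => rw [← pow_one c]
    refine pow_eq_pow_of_modEq hz1.symm ?_
    exact pow_card_of_mem hc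
  · refine pow_eq_pow_of_modEq hzk.symm ?_
    exact pow_card_of_mem hs

/-- A character of a finite group constant on the coprime powers of an element is an integer
there. -/
theorem exists_int_of_pow_fixed {A : Type*} [Group A] [Finite A] {α : A → ℂ}
    (hα : IsCharacter A α) (t : A)
    (h : ∀ k : ℕ, k.Coprime (Nat.card A) → α (t ^ k) = α t) : ∃ z : ℤ, α t = z := by
  haveI : NeZero (Nat.card A) := ⟨Nat.card_pos.ne'⟩
  obtain ⟨q, hq⟩ := exists_rat_of_fixed (n := Nat.card A)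
    (x := ⟨α t, apply_mem_cycField hα t⟩) fun σ => by
      obtain ⟨k, hk, hσ⟩ := exists_galPow (G := A) σ
      rw [hσ _ hα t]
      exact Subtype.ext (h k hk)
  obtain ⟨z, hz⟩ := exists_int_of_isIntegral_rat (q := q) (hq ▸ IsCharacter.isIntegral hα t)
  exact ⟨z, hq.trans (by rw [hz]; simp)⟩

variable (C : Subgroup Γ) [Fintype C]

/-- The component of `χh` on `C × S` along an irreducible character of `C`. -/
noncomputable def sComponent (χh : Γ → ℂ) (β : C → ℂ) (t : S) : ℂ :=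
  classInner (fun c : C => χh ((c : Γ) * t)) β

theorem isCharacter_sComponent (hcomm : ∀ c ∈ C, ∀ t ∈ S, Commute c t) {χh : Γ → ℂ}
    (hχh : IsCharacter Γ χh) {β : C → ℂ} (hβ : IsCharacter C β) :
    IsCharacter S (sComponent S C χh β) := by
  classical
  haveI := Fintype.ofFinite S
  refine isCharacter_iff_classInner_nat.mpr ⟨fun t h => ?_, fun l => ?_⟩
  · simp only [sComponent, classInner]
    congr 1
    refine Finset.sum_congr rfl fun c _ => ?_
    rw [show (c : Γ) * ((h * t * h⁻¹ : S) : Γ) = (h : Γ) * ((c : Γ) * t) * (h : Γ)⁻¹ by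
      rw [Subgroup.coe_mul, Subgroup.coe_mul, Subgroup.coe_inv, ← mul_assoc, ← mul_assoc,
        (hcomm c c.2 h h.2).eq, mul_assoc (h : Γ)],
      IsCharacter.conj_apply hχh]
  · let f : C × S →* Γ := MonoidHom.mk' (fun p => (p.1 : Γ) * p.2) fun a b => by
      simp only [Prod.fst_mul, Prod.snd_mul, Subgroup.coe_mul]
      exact (hcomm b.1 b.1.2 a.2 a.2.2).mul_mul_mul_comm _ _
    have hΦ := IsCharacter.comp hχh f
    have hξ : IsCharacter (C × S) ((β ∘ MonoidHom.fst C S) * ((l : S → ℂ) ∘ MonoidHom.snd C S)) :=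
      IsCharacter.mul (IsCharacter.comp hβ _) (IsCharacter.comp (irr_isCharacter l) _)
    obtain ⟨k, hk⟩ := IsCharacter.exists_classInner_nat hΦ hξ
    refine ⟨k, ?_⟩
    rw [← hk]
    simp only [sComponent, classInner, Nat.card_prod, Nat.cast_mul, mul_inv,
      Fintype.sum_prod_type, Finset.mul_sum, Finset.sum_mul, Function.comp_apply, Pi.mul_apply,
      map_mul, MonoidHom.coe_fst, MonoidHom.coe_snd]
    rw [Finset.sum_comm]
    refine Finset.sum_congr rfl fun c _ => Finset.sum_congr rfl fun t _ => ?_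
    simp only [f, MonoidHom.mk'_apply]
    ring

omit [Fintype G] in
/-- Conjugates of `c s` fill the coset `G s`, each `|C|` times. -/
theorem avgN_coset [Fintype G] (hcop : (Nat.card G).Coprime (Nat.card S))
    (hC : ∀ x, x ∈ C ↔ x ∈ G ∧ ∀ t ∈ S, t * x * t⁻¹ = x) {s : Γ} (hs : Subgroup.zpowers s = S)
    {F : Γ → ℂ} (hF : IsClassFunction Γ F) :
    avgN G F s = (Nat.card C : ℂ)⁻¹ * ∑ c : C, F ((c : Γ) * s) := by
  classical
  have hsS : s ∈ S := hs ▸ Subgroup.mem_zpowers s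
  have hcomm : ∀ c ∈ C, Commute c s := fun c hc => by
    have := ((hC c).1 hc).2 s hsS
    exact (mul_inv_eq_iff_eq_mul.mp this).symm
  let μ : G × C → G := fun p => ⟨(p.1 : Γ) * p.2 * (s * (p.1 : Γ)⁻¹ * s⁻¹),
    G.mul_mem (G.mul_mem p.1.2 ((hC _).1 p.2.2).1)
      (Subgroup.Normal.conj_mem inferInstance _ (G.inv_mem p.1.2) s)⟩
  have hμ : ∀ p, (μ p : Γ) * s = (p.1 : Γ) * ((p.2 : Γ) * s) * (p.1 : Γ)⁻¹ := fun p => by
    simp only [μ]; group
  obtain ⟨m, hm0, hm1⟩ := Nat.chineseRemainder hcop 0 1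
  have hsm : ∀ c : C, ((c : Γ) * s) ^ m = s := by
    intro c
    rw [(hcomm c c.2).mul_pow]
    have h1 : (c : Γ) ^ m = 1 := by
      rw [show (1 : Γ) = (c : Γ) ^ 0 from (pow_zero _).symm]
      exact pow_eq_pow_of_modEq hm0 (pow_card_of_mem ((hC _).1 c.2).1)
    have h2 : s ^ m = s ^ 1 := pow_eq_pow_of_modEq hm1 (pow_card_of_mem hsS)
    rw [h1, h2, one_mul, pow_one]
  have hle : ∀ x : G, (Finset.univ.filter fun p => μ p = x).card ≤ Fintype.card C := by
    intro x
    rcases (Finset.univ.filter fun p => μ p = x).eq_empty_or_nonempty with h | ⟨p₀, hp₀⟩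
    · simp [h]
    have hp₀' := (Finset.mem_filter.mp hp₀).2
    have key : ∀ p, μ p = x → ((p₀.1 : Γ)⁻¹ * p.1) * ((p.2 : Γ) * s) * ((p₀.1 : Γ)⁻¹ * p.1)⁻¹
        = (p₀.2 : Γ) * s := by
      intro p hp
      have h1 := (hμ p).symm.trans (by rw [hp, ← hp₀', hμ p₀])
      calc ((p₀.1 : Γ)⁻¹ * p.1) * ((p.2 : Γ) * s) * ((p₀.1 : Γ)⁻¹ * p.1)⁻¹
          = (p₀.1 : Γ)⁻¹ * ((p.1 : Γ) * ((p.2 : Γ) * s) * (p.1 : Γ)⁻¹) * p₀.1 := by group
        _ = _ := by rw [h1]; group
    have hmem : ∀ p, μ p = x → ((p₀.1 : Γ)⁻¹ * p.1) ∈ C := by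
      intro p hp
      have hy : ((p₀.1 : Γ)⁻¹ * p.1) * s * ((p₀.1 : Γ)⁻¹ * p.1)⁻¹ = s := by
        have h := congrArg (· ^ m) (key p hp)
        simp only [conj_pow] at h
        rwa [hsm, hsm] at h
      refine (hC _).2 ⟨G.mul_mem (G.inv_mem p₀.1.2) p.1.2, fun t ht => ?_⟩
      rw [← hs] at ht
      obtain ⟨i, rfl⟩ := ht
      have hcs : Commute s ((p₀.1 : Γ)⁻¹ * p.1) := (mul_inv_eq_iff_eq_mul.mp hy).symm
      rw [(hcs.zpow_left i).eq, mul_inv_cancel_right]
    refine le_trans (Finset.card_le_card_of_injOn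
      (fun p => if h : μ p = x then (⟨_, hmem p h⟩ : C) else 1) (fun _ _ => Finset.mem_univ _) ?_)
      le_rfl
    intro p hp q hq hpq
    have hp' : μ p = x := (Finset.mem_filter.mp hp).2
    have hq' : μ q = x := (Finset.mem_filter.mp hq).2
    simp only [dif_pos hp', dif_pos hq', Subtype.mk.injEq, mul_right_inj] at hpq
    have h1 : p.1 = q.1 := Subtype.ext hpq
    have h2 : (μ p : Γ) * s = (μ q : Γ) * s := by rw [hp', hq']
    rw [hμ, hμ, h1, mul_left_inj, mul_right_inj, mul_left_inj] at h2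
    exact Prod.ext h1 (Subtype.ext h2)
  have hfib : ∀ x : G, (Finset.univ.filter fun p => μ p = x).card = Fintype.card C := by
    have htot : ∑ x : G, (Finset.univ.filter fun p => μ p = x).card = ∑ _x : G, Fintype.card C := by
      rw [← Finset.card_eq_sum_card_fiberwise (fun p _ => Finset.mem_univ (μ p)),
        Finset.card_univ, Finset.sum_const, Finset.card_univ, Fintype.card_prod, smul_eq_mul]
    exact fun x => (Finset.sum_eq_sum_iff_of_le fun x _ => hle x).mp htot x (Finset.mem_univ x)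
  have hsum : (Nat.card C : ℂ) * ∑ x : G, F ((x : Γ) * s) =
      (Nat.card G : ℂ) * ∑ c : C, F ((c : Γ) * s) := by
    calc (Nat.card C : ℂ) * ∑ x : G, F ((x : Γ) * s)
        = ∑ x : G, ∑ p ∈ Finset.univ.filter (fun p => μ p = x), F ((μ p : Γ) * s) := by
          rw [Finset.mul_sum]
          refine Finset.sum_congr rfl fun x _ => ?_
          rw [Finset.sum_congr rfl fun p hp => by rw [(Finset.mem_filter.mp hp).2],
            Finset.sum_const, hfib, nsmul_eq_mul, Nat.card_eq_fintype_card]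
      _ = ∑ p : G × C, F ((μ p : Γ) * s) := Finset.sum_fiberwise _ _ _
      _ = ∑ p : G × C, F ((p.2 : Γ) * s) :=
          Finset.sum_congr rfl fun p _ => by rw [hμ, hF]
      _ = _ := by
          simp [Fintype.sum_prod_type, Nat.card_eq_fintype_card]
  have hsG : ∀ x : G, s * x * s⁻¹ ∈ G := fun x => Subgroup.Normal.conj_mem inferInstance _ x.2 s
  rw [avgN]
  have hG := natCard_ne_zero_complex (G := G)
  have hC0 := natCard_ne_zero_complex (G := C)
  field_simp
  linear_combination hsum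

variable {G S C}

/-- Orthogonality of two extensions on a coset. -/
theorem avgN_mul_conj_eq_zero {χ ψ : IrrCharacter G} {χh ψh : Γ → ℂ} (hχh : IsIrrCharacter Γ χh)
    (hψh : IsIrrCharacter Γ ψh) (hres : ∀ g : G, χh g = (χ : G → ℂ) g)
    (hres' : ∀ g : G, ψh g = (ψ : G → ℂ) g) (hne : χ ≠ ψ) :
    avgN G (χh * fun g => conj (ψh g)) = 0 := by
  refine (gallagher_avg G hψh ?_ hχh).2 ?_
  · rw [funext hres']; exact ψ.2
  · rw [funext hres, funext hres']
    exact IsIrrCharacter.classInner_ne χ.2 ψ.2 fun h => hne (Subtype.ext h)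

/-- The character of `C` attached to an invariant character through its canonical extension. -/
theorem exists_signed_constituent (hcop : (Nat.card G).Coprime (Nat.card S)) (htop : G ⊔ S = ⊤)
    (hC : ∀ x, x ∈ C ↔ x ∈ G ∧ ∀ t ∈ S, t * x * t⁻¹ = x)
    {χ : IrrCharacter G}
    (hinv : ∀ (x : Γ) (g : G), (χ : G → ℂ)
      ⟨x * g * x⁻¹, Subgroup.Normal.conj_mem inferInstance _ g.2 x⟩ = (χ : G → ℂ) g)
    (hdet : (Cfsg.detOrder (χ : G → ℂ)).Coprime (Nat.card S))
    {χh : Γ → ℂ} (hχh : IsIrrCharacter Γ χh) (hres : ∀ g : G, χh g = (χ : G → ℂ) g)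
    (hdeth : (Cfsg.detOrder χh).Coprime (Nat.card S)) {s₀ : Γ} (hs₀ : Subgroup.zpowers s₀ = S) :
    (∀ c : C, ∀ s : Γ, Subgroup.zpowers s = S → χh ((c : Γ) * s) = χh ((c : Γ) * s₀)) ∧
    ∃ (β : IrrCharacter C) (ε : ℤ), (ε = 1 ∨ ε = -1) ∧
      ∀ c : C, χh ((c : Γ) * s₀) = (ε : ℂ) * (β : C → ℂ) c := by
  classical
  have hs₀S : s₀ ∈ S := hs₀ ▸ Subgroup.mem_zpowers s₀
  have hcomm : ∀ c ∈ C, ∀ t ∈ S, Commute c t := fun c hc t ht =>
    (mul_inv_eq_iff_eq_mul.mp (((hC c).1 hc).2 t ht)).symm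
  have hpow : ∀ c : C, ∀ k : ℕ, k.Coprime (Nat.card S) →
      χh ((c : Γ) * s₀ ^ k) = χh ((c : Γ) * s₀) := fun c k hk =>
    ext_apply_pow G S hcop htop χ.2 hinv hdet hχh hres hdeth ((hC c).1 c.2).1 hs₀S
      (hcomm c c.2 s₀ hs₀S) hk
  refine ⟨fun c s hs => ?_, ?_⟩
  · obtain ⟨k, rfl⟩ : ∃ k : ℕ, s₀ ^ k = s :=
      (isOfFinOrder_of_finite s₀).mem_powers_iff_mem_zpowers.mpr
        (by rw [hs₀, ← hs]; exact Subgroup.mem_zpowers s)
    refine hpow c k ?_
    have h1 : orderOf (s₀ ^ k) = orderOf s₀ := by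
      rw [← Nat.card_zpowers, ← Nat.card_zpowers, hs, hs₀]
    rw [← hs₀, Nat.card_zpowers, Nat.coprime_comm]
    rw [orderOf_pow, Nat.div_eq_self] at h1
    exact h1.resolve_left (orderOf_pos s₀).ne'
  set f : C → ℂ := fun c => χh ((c : Γ) * s₀) with hf
  have hhc := IsIrrCharacter.isCharacter hχh
  have hgen : IsGeneralizedCharacter C f := by
    refine isGeneralizedCharacter_iff_classInner_int.mpr ⟨fun c h => ?_, fun β => ?_⟩
    · show χh (((h * c * h⁻¹ : C) : Γ) * s₀) = χh ((c : Γ) * s₀)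
      rw [← IsCharacter.conj_apply hhc ((c : Γ) * s₀) (h : Γ)]
      congr 1
      rw [Subgroup.coe_mul, Subgroup.coe_mul, Subgroup.coe_inv, mul_assoc _ (h : Γ)⁻¹ s₀,
        ((hcomm h h.2 s₀ hs₀S).inv_left).eq]
      group
    · exact exists_int_of_pow_fixed
        (isCharacter_sComponent S C hcomm hhc (irr_isCharacter β)) ⟨s₀, hs₀S⟩ fun k hk => by
          refine congrArg (fun F : C → ℂ => classInner F (β : C → ℂ)) (funext fun c => ?_)
          rw [SubgroupClass.coe_pow]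
          exact hpow c k hk
  have hnorm : classInner f f = 1 := by
    have h1 := avgN_coset G S C hcop hC hs₀
      (F := χh * fun g => conj (χh g)) (fun g h => by
        simp only [Pi.mul_apply, IsCharacter.conj_apply hhc])
    rw [avgN_mul_conj_self G hχh (by rw [funext hres]; exact χ.2)] at h1
    exact h1.symm
  obtain ⟨β, hβ | hβ⟩ := IsGeneralizedCharacter.eq_pm_irr hgen hnorm
  · exact ⟨β, 1, Or.inl rfl, fun c => by rw [Int.cast_one, one_mul]; exact congrFun hβ c⟩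
  · exact ⟨β, -1, Or.inr rfl, fun c => by
      rw [Int.cast_neg, Int.cast_one, neg_one_mul]; exact congrFun hβ c⟩

theorem constituent_of_signed (hC : ∀ x, x ∈ C ↔ x ∈ G ∧ ∀ t ∈ S, t * x * t⁻¹ = x)
    (hCG : C ≤ G) {χ : IrrCharacter G} {χh : Γ → ℂ} (hχh : IsIrrCharacter Γ χh)
    (hres : ∀ g : G, χh g = (χ : G → ℂ) g) {s₀ : Γ} (hs₀ : Subgroup.zpowers s₀ = S)
    {β : IrrCharacter C} {ε : ℤ} (hε : ε = 1 ∨ ε = -1)
    (h : ∀ c : C, χh ((c : Γ) * s₀) = (ε : ℂ) * (β : C → ℂ) c) :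
    classInner (fun c : C => (χ : G → ℂ) ⟨c, hCG c.2⟩) (β : C → ℂ) ≠ 0 := by
  have hs₀S : s₀ ∈ S := hs₀ ▸ Subgroup.mem_zpowers s₀
  have hcomm : ∀ c ∈ C, ∀ t ∈ S, Commute c t := fun c hc t ht =>
    (mul_inv_eq_iff_eq_mul.mp (((hC c).1 hc).2 t ht)).symm
  have hA := isCharacter_sComponent S C hcomm (IsIrrCharacter.isCharacter hχh) (irr_isCharacter β)
  have h1 : sComponent S C χh (β : C → ℂ) ⟨s₀, hs₀S⟩ = (ε : ℂ) := by
    show classInner (fun c : C => χh ((c : Γ) * s₀)) (β : C → ℂ) = (ε : ℂ)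
    rw [funext h, show (fun c : C => (ε : ℂ) * (β : C → ℂ) c) = (ε : ℂ) • (β : C → ℂ) from rfl,
      classInner_smul_left, IsIrrCharacter.classInner_self β.2, mul_one]
  intro h0
  have h2 : sComponent S C χh (β : C → ℂ) 1 = 0 := by
    rw [← h0]
    refine congrArg (fun F : C → ℂ => classInner F (β : C → ℂ)) (funext fun c => ?_)
    rw [Subgroup.coe_one, mul_one]
    exact hres ⟨c, hCG c.2⟩
  have h3 := IsCharacter.norm_le hA ⟨s₀, hs₀S⟩
  rw [h1, h2, norm_zero] at h3
  rcases hε with rfl | rfl <;> norm_num at h3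

end Cfsg.Agent.Lib.Characters
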