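import Cfsg.Agent.Lib.Characters.PSolvableSmallDegree
import Cfsg.Agent.Lib.Characters.DegreeRatio
import Cfsg.Agent.Lib.Characters.Ito
import Cfsg.Prelude.Def_Blocks
import Mathlib.GroupTheory.GroupAction.CardCommute

/-!
# Ito's theorem for `p`-solvable groups with all degrees prime to `p`
-/

namespace Cfsg.Agent.Lib.Characters

open scoped ComplexConjugate

set_option linter.unusedSectionVars false
set_option linter.unusedSimpArgs false
set_option linter.unusedFintypeInType false
set_option linter.style.haveILetI false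

universe u

variable {G : Type u} [Group G]

/-- A subgroup meeting every conjugacy class is the whole group. -/
theorem eq_top_of_meets_classes [Finite G] (H : Subgroup G)
    (h : ∀ g : G, ∃ x : G, x⁻¹ * g * x ∈ H) : H = ⊤ := by
  classical
  haveI := Fintype.ofFinite G
  rw [← Subgroup.index_eq_one, Subgroup.index_eq_card]
  haveI := Fintype.ofFinite (G ⧸ H)
  have hB := MulAction.sum_card_fixedBy_eq_card_orbits_mul_card_group G (G ⧸ H)
  haveI : Subsingleton (Quotient (MulAction.orbitRel G (G ⧸ H))) :=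
    (MulAction.pretransitive_iff_subsingleton_quotient G (G ⧸ H)).mp inferInstance
  have h1 : Fintype.card (Quotient (MulAction.orbitRel G (G ⧸ H))) = 1 :=
    le_antisymm (Fintype.card_le_one_iff_subsingleton.mpr inferInstance) Fintype.card_pos
  rw [h1, one_mul] at hB
  have hfix : ∀ g : G, 1 ≤ Fintype.card (MulAction.fixedBy (G ⧸ H) g) := fun g => by
    obtain ⟨x, hx⟩ := h g
    haveI : Nonempty (MulAction.fixedBy (G ⧸ H) g) := ⟨⟨(x : G ⧸ H), by
      show (QuotientGroup.mk (g * x) : G ⧸ H) = QuotientGroup.mk x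
      rw [QuotientGroup.eq]
      simpa [mul_assoc] using H.inv_mem hx⟩⟩
    exact Fintype.card_pos
  have hone : Fintype.card (MulAction.fixedBy (G ⧸ H) (1 : G)) = Fintype.card (G ⧸ H) :=
    Fintype.card_congr (Equiv.subtypeUnivEquiv fun x => one_smul G x)
  have heq := (Finset.sum_eq_sum_iff_of_le (s := (Finset.univ : Finset G)) (f := fun _ => 1)
    fun g _ => hfix g).mp (by rw [hB]; simp) 1 (Finset.mem_univ _)
  rw [Nat.card_eq_fintype_card, ← hone, ← heq]

/-- A natural value at `1` of a character is its `charDegree`. -/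
theorem charDegree_eq_of_apply_one_psd {χ : G → ℂ} {d : ℕ} (h : χ 1 = (d : ℂ)) :
    Cfsg.charDegree χ = d := by
  rw [Cfsg.charDegree, h, Complex.natCast_re, Nat.floor_natCast]

/-- The degrees of the irreducible characters of a normal subgroup are prime to `p` if those of
the group are. -/
theorem not_dvd_degree_of_normal [Fintype G] (N : Subgroup G) [N.Normal] [Fintype N] {p : ℕ}
    (h : ∀ χ : IrrCharacter G, ¬ p ∣ Cfsg.charDegree (χ : G → ℂ)) (θ : IrrCharacter N) :
    ∃ (χ : IrrCharacter G) (c e d : ℕ), classInner (fun n : N => (χ : G → ℂ) n) (θ : N → ℂ) = c ∧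
      c ≠ 0 ∧ (θ : N → ℂ) 1 = d ∧ (χ : G → ℂ) 1 = e ∧
      e = c * (inertia N (θ : N → ℂ)).index * d ∧ ¬ p ∣ e := by
  have hθc := irr_isCharacter θ
  have hne : indFun N (θ : N → ℂ) ≠ 0 := fun h0 => by
    have h1 := congrFun h0 1
    rw [indFun_one] at h1
    simp [IsIrrCharacter.apply_one_ne_zero θ.2, Subgroup.index_ne_zero_of_finite] at h1
  obtain ⟨χ, hχ⟩ := IsCharacter.exists_constituent (IsCharacter.indFun N hθc) hne
  rw [classInner_indFun N _ (IsCharacter.isClassFunction (irr_isCharacter χ))] at hχ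
  obtain ⟨c, hc⟩ := IsCharacter.exists_classInner_nat
    (IsCharacter.restrict (irr_isCharacter χ) N) hθc
  have hc' : classInner (fun n : N => (χ : G → ℂ) n) (θ : N → ℂ) ≠ 0 := fun h0 => hχ (by
    rw [← classInner_conj_symm, h0, map_zero])
  obtain ⟨d, hd, hd'⟩ := IsIrrCharacter.exists_apply_one θ.2
  obtain ⟨e, he, he'⟩ := IsIrrCharacter.exists_apply_one χ.2
  have heq := degree_eq N χ.2 θ.2 hc'
  rw [hc, hd', he'] at heq
  refine ⟨χ, c, e, d, hc, fun h0 => hc' (by rw [hc, h0, Nat.cast_zero]), hd', he',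
    by exact_mod_cast heq, ?_⟩
  rw [← charDegree_eq_of_apply_one_psd he']
  exact h χ

/-- If `M = PK` with `K` a normal `p'`-subgroup and all degrees prime to `p`, then `P`
centralises `K`. -/
theorem commute_of_degrees [Finite G] {p : ℕ} [hp : Fact p.Prime] (P K : Subgroup G) [K.Normal]
    (hPp : IsPGroup p P) (hgen : ∀ g : G, ∃ y ∈ P, ∃ k ∈ K, g = y * k)
    (hKp : (Nat.card K).Coprime p)
    (h : ∀ χ : IrrCharacter G, ¬ p ∣ Cfsg.charDegree (χ : G → ℂ)) :
    ∀ x ∈ P, ∀ k ∈ K, k * x = x * k := by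
  classical
  haveI := Fintype.ofFinite G
  haveI := Fintype.ofFinite K
  haveI := Fintype.ofFinite (IrrCharacter K)
  have hinv : ∀ (θ : IrrCharacter K) (g : G), conjFun K g (θ : K → ℂ) = θ := by
    intro θ g
    obtain ⟨χ, c, e, d, -, -, -, -, hecd, hpe⟩ := not_dvd_degree_of_normal K h θ
    obtain ⟨j, hj⟩ := IsPGroup.iff_card.mp hPp
    have hidx : K.index ∣ p ^ j := by
      rw [← hj, Subgroup.index_eq_card]
      refine dvd_trans (dvd_of_eq (Nat.card_congr (Equiv.ofBijective
        (Subgroup.quotientMapOfLE (le_refl K)) ⟨fun a b hab => ?_, fun a => ?_⟩)).symm) ?_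
      · revert hab
        refine QuotientGroup.induction_on a fun a => ?_
        refine QuotientGroup.induction_on b fun b => ?_
        exact id
      · exact QuotientGroup.induction_on a fun a => ⟨a, rfl⟩
      · let φ : P →* G ⧸ K := (QuotientGroup.mk' K).comp P.subtype
        have hφ : Function.Surjective φ := fun a => by
          refine QuotientGroup.induction_on a fun a => ?_
          obtain ⟨y, hy, k, hk, rfl⟩ := hgen a
          exact ⟨⟨y, hy⟩, (QuotientGroup.mk_mul_of_mem y hk).symm⟩
        exact Subgroup.card_dvd_of_surjective φ hφ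
    have hi : (inertia K (θ : K → ℂ)).index ∣ p ^ j :=
      (Subgroup.index_dvd_of_le
        (le_inertia K (IsCharacter.isClassFunction (irr_isCharacter θ)))).trans hidx
    obtain ⟨i, -, hi'⟩ := (Nat.dvd_prime_pow hp.out).mp hi
    rcases Nat.eq_zero_or_pos i with rfl | hpos
    · rw [pow_zero, Subgroup.index_eq_one] at hi'
      exact (mem_inertia_iff K).mp (hi' ▸ Subgroup.mem_top g)
    · exact absurd ((dvd_pow_self p hpos.ne').trans (hi' ▸ hecd ▸
        Dvd.dvd.mul_right (dvd_mul_left _ c) d)) hpe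
  intro x hx k hk
  set C : Subgroup K := (Subgroup.centralizer ({x} : Set G)).subgroupOf K with hC
  suffices hCtop : C = ⊤ by
    exact Subgroup.mem_centralizer_singleton_iff.mp
      (Subgroup.mem_subgroupOf.mp (hCtop ▸ Subgroup.mem_top (⟨k, hk⟩ : K)))
  refine eq_top_of_meets_classes C fun l => ?_
  -- `x` fixes the class of `l`
  have hclass : ∀ (g : G) (y : K), IsConj y (⟨g * y * g⁻¹,
      Subgroup.Normal.conj_mem ‹K.Normal› _ y.2 g⟩ : K) := by
    intro g y
    rw [isConj_iff_forall_irr]
    intro θ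
    conv_lhs => rw [← hinv θ g]
    rfl
  let A : Subgroup G := Subgroup.zpowers x
  let S := {y : K // IsConj l y}
  letI : MulAction A S :=
    { smul := fun a y => ⟨⟨(a : G) * y.1 * (a : G)⁻¹,
        Subgroup.Normal.conj_mem ‹K.Normal› _ y.1.2 (a : G)⟩, y.2.trans (hclass (a : G) y.1)⟩
      one_smul := fun y => Subtype.ext (Subtype.ext (by
        show ((1 : A) : G) * y.1 * ((1 : A) : G)⁻¹ = y.1
        simp))
      mul_smul := fun a b y => Subtype.ext (Subtype.ext (by
        show ((a * b : A) : G) * y.1 * ((a * b : A) : G)⁻¹ =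
          (a : G) * ((b : G) * y.1 * (b : G)⁻¹) * (a : G)⁻¹
        simp [mul_assoc])) }
  have hA : IsPGroup p A := hPp.to_le (Subgroup.zpowers_le.mpr hx)
  haveI : Fintype S := Fintype.ofFinite S
  have hS : ¬ p ∣ Nat.card S := by
    intro hdvd
    have h1 : Nat.card S ∣ Nat.card K := by
      have h2 : Nat.card S = (Subgroup.centralizer ({l} : Set K)).index := by
        rw [← card_conj_eq_index l]
      rw [h2]
      exact Subgroup.index_dvd_card _
    exact (hp.out.coprime_iff_not_dvd.mp hKp.symm) (hdvd.trans h1)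
  obtain ⟨⟨y, hy⟩, hfix⟩ := hA.nonempty_fixed_point_of_prime_not_dvd_card S hS
  obtain ⟨c, hc⟩ := isConj_iff.mp hy
  refine ⟨c⁻¹, ?_⟩
  rw [inv_inv, hc, hC, Subgroup.mem_subgroupOf, Subgroup.mem_centralizer_singleton_iff]
  have h3 : x * (y : G) * x⁻¹ = y :=
    congrArg (fun s : S => ((s.1 : K) : G)) (hfix ⟨x, Subgroup.mem_zpowers x⟩)
  exact (mul_inv_eq_iff_eq_mul.mp h3).symm

/-- **Ito**: a `p`-solvable group all of whose degrees are prime to `p` has a normal abelian
Sylow `p`-subgroup. -/
theorem normal_abelian_sylow_of_degrees : ∀ {m : ℕ} {G : Type u} [Group G] [Finite G]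
    (_ : Nat.card G = m) {p : ℕ} [Fact p.Prime], Cfsg.IsPSolvable p G →
    (∀ χ : IrrCharacter G, ¬ p ∣ Cfsg.charDegree (χ : G → ℂ)) → ∀ P : Sylow p G,
      (P : Subgroup G).Normal ∧ ∀ x ∈ (P : Subgroup G), ∀ y ∈ (P : Subgroup G), x * y = y * x := by
  intro m
  induction m using Nat.strong_induction_on with
  | _ m ih =>
    intro G _ _ hm p _ hsolv h P
    classical
    haveI := Fintype.ofFinite G
    have hp : p.Prime := Fact.out
    have hquot : ∀ (N : Subgroup G) [N.Normal], N ≠ ⊥ →
        (P.mapSurjective (QuotientGroup.mk'_surjective N) : Subgroup (G ⧸ N)).Normal ∧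
        ∀ x ∈ (P : Subgroup G), ∀ y ∈ (P : Subgroup G),
          x * y * x⁻¹ * y⁻¹ ∈ N := by
      intro N _ hN
      have hlt : Nat.card (G ⧸ N) < m := by
        rw [← hm, Subgroup.card_eq_card_quotient_mul_card_subgroup N]
        exact lt_mul_of_one_lt_right Nat.card_pos (N.one_lt_card_iff_ne_bot.mpr hN)
      have h' : ∀ χ : IrrCharacter (G ⧸ N), ¬ p ∣ Cfsg.charDegree (χ : G ⧸ N → ℂ) := by
        intro χ
        have := h ⟨_, IsIrrCharacter.comp_surjective χ.2 (QuotientGroup.mk' N)
          (QuotientGroup.mk'_surjective N)⟩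
        simpa [Cfsg.charDegree] using this
      obtain ⟨hn, hc⟩ := ih _ hlt rfl (isPSolvable_quotient_of N hsolv) h'
        (P.mapSurjective (QuotientGroup.mk'_surjective N))
      refine ⟨hn, fun x hx y hy => ?_⟩
      have h1 := hc _ (Subgroup.mem_map_of_mem (QuotientGroup.mk' N) hx) _
        (Subgroup.mem_map_of_mem (QuotientGroup.mk' N) hy)
      rw [← QuotientGroup.eq_one_iff]
      show QuotientGroup.mk' N (x * y * x⁻¹ * y⁻¹) = 1
      rw [map_mul, map_mul, map_mul, map_inv, map_inv, h1]
      group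
    set K := Cfsg.pPrimeCore p G with hKdef
    have hKp : (Nat.card K).Coprime p := Cfsg.Agent.Lib.Cores.pPrimeCore_coprime p G
    have hPK : ∀ x ∈ (P : Subgroup G), x ∈ K → x = 1 := by
      intro x hx hxK
      obtain ⟨j, hj⟩ := IsPGroup.iff_orderOf.mp P.2 ⟨x, hx⟩
      rw [← Subgroup.orderOf_coe] at hj
      exact orderOf_eq_one_iff.mp (Nat.eq_one_of_dvd_coprimes (Nat.Coprime.pow_right j hKp)
        (Subgroup.orderOf_dvd_natCard K hxK) (dvd_of_eq hj))
    by_cases hK : K = ⊥
    · set D := Cfsg.pCore p G with hDdef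
      have hCD := Cfsg.Agent.Lib.Blocks.centralizer_pCore_le_of_isPSolvable p hsolv hK
      have hDP : D ≤ (P : Subgroup G) := Cfsg.Agent.Lib.Cores.pCore_le_sylow P
      have hPn : (P : Subgroup G).Normal := by
        by_cases hD : D = ⊥
        · have htriv : ∀ g : G, g = 1 := fun g => by
            have : g ∈ D := hCD (by
              rw [Subgroup.mem_centralizer_iff]
              intro y hy
              rw [← hDdef, hD] at hy
              rw [show y = 1 from hy, one_mul, mul_one])
            rwa [hD, Subgroup.mem_bot] at this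
          exact ⟨fun x hx g => by rw [htriv g]; simpa using hx⟩
        · refine ⟨fun x hx g => ?_⟩
          obtain ⟨y, hy, hyx⟩ : QuotientGroup.mk' D (g * x * g⁻¹) ∈
              (P : Subgroup G).map (QuotientGroup.mk' D) := by
            rw [map_mul, map_mul, map_inv]
            exact (hquot D hD).1.conj_mem _ (Subgroup.mem_map_of_mem _ hx) _
          have := (P : Subgroup G).mul_mem hy (hDP (QuotientGroup.eq.mp hyx))
          simpa [mul_assoc] using this
      have hPD : (P : Subgroup G) = D :=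
        le_antisymm (Cfsg.Agent.Lib.Cores.le_pCore hPn P.2) hDP
      refine ⟨hPn, ?_⟩
      haveI := hPn
      haveI := Fintype.ofFinite (P : Subgroup G)
      have hall : ∀ θ : IrrCharacter (P : Subgroup G), (θ : ↥(P : Subgroup G) → ℂ) 1 = 1 := by
        intro θ
        obtain ⟨χ, c, e, d, -, -, hd, -, hecd, hpe⟩ :=
          not_dvd_degree_of_normal (P : Subgroup G) h θ
        obtain ⟨d', -, hd', hdvd⟩ := IsIrrCharacter.exists_degree_dvd θ.2
        have hdd : d' = d := by exact_mod_cast hd'.symm.trans hd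
        obtain ⟨j, hj⟩ := IsPGroup.iff_card.mp P.2
        rw [hdd, hj] at hdvd
        obtain ⟨i, -, hi⟩ := (Nat.dvd_prime_pow hp).mp hdvd
        rcases Nat.eq_zero_or_pos i with rfl | hpos
        · rw [hd, hi, pow_zero, Nat.cast_one]
        · exact absurd ((dvd_pow_self p hpos.ne').trans (hi ▸ hecd ▸ dvd_mul_left _ _)) hpe
      intro x hx y hy
      exact congrArg Subtype.val (comm_iff_forall_irr_one.mpr hall ⟨x, hx⟩ ⟨y, hy⟩)
    · obtain ⟨hn, hc⟩ := hquot K hK
      set f := QuotientGroup.mk' K with hf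
      set M : Subgroup G := (P : Subgroup G) ⊔ K with hM
      have hMeq : M = ((P : Subgroup G).map f).comap f := by
        rw [Subgroup.comap_map_eq, QuotientGroup.ker_mk']
      haveI hMn : M.Normal := hMeq ▸ hn.comap f
      haveI := Fintype.ofFinite M
      have hcomm : ∀ x ∈ (P : Subgroup G), ∀ k ∈ K, k * x = x * k := by
        intro x hx k hk
        have hM' : ∀ θ : IrrCharacter M, ¬ p ∣ Cfsg.charDegree (θ : M → ℂ) := by
          intro θ
          obtain ⟨χ, c, e, d, -, -, hd, -, hecd, hpe⟩ := not_dvd_degree_of_normal M h θ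
          rw [charDegree_eq_of_apply_one_psd hd]
          exact fun hdvd => hpe (hecd ▸ dvd_mul_of_dvd_right hdvd _)
        haveI : (K.subgroupOf M).Normal := Subgroup.Normal.subgroupOf inferInstance M
        have := commute_of_degrees ((P : Subgroup G).subgroupOf M) (K.subgroupOf M)
          P.2.comap_subtype (fun g => by
            obtain ⟨y, hy, l, hl, hyl⟩ := Subgroup.mem_sup_of_normal_right.mp g.2
            exact ⟨⟨y, Subgroup.mem_sup_left hy⟩, hy, ⟨l, Subgroup.mem_sup_right hl⟩, hl,
              Subtype.ext hyl.symm⟩)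
          (by rw [Nat.card_congr (Subgroup.subgroupOfEquivOfLe le_sup_right).toEquiv]; exact hKp)
          hM' ⟨x, Subgroup.mem_sup_left hx⟩ hx ⟨k, Subgroup.mem_sup_right hk⟩ hk
        exact congrArg Subtype.val this
      refine ⟨⟨fun x hx g => ?_⟩, fun x hx y hy => ?_⟩
      · have hgx : g * x * g⁻¹ ∈ M := hMn.conj_mem x (Subgroup.mem_sup_left hx) g
        obtain ⟨y, hy, k, hk, hyk⟩ := Subgroup.mem_sup_of_normal_right.mp hgx
        obtain ⟨j, hj⟩ := IsPGroup.iff_orderOf.mp P.2 ⟨x, hx⟩
        obtain ⟨l, hl⟩ := IsPGroup.iff_orderOf.mp P.2 ⟨y, hy⟩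
        rw [← Subgroup.orderOf_coe] at hj hl
        replace hj : orderOf x = p ^ j := hj
        replace hl : orderOf y = p ^ l := hl
        have hcy : Commute y k := (hcomm y hy k hk).symm
        have hpow : k ^ (p ^ (j + l)) = 1 := by
          have e1 : y ^ (p ^ (j + l)) = 1 := by
            rw [pow_add, mul_comm, pow_mul, ← hl, pow_orderOf_eq_one, one_pow]
          have e2 : (y * k) ^ (p ^ (j + l)) = 1 := by
            rw [hyk, conj_pow, pow_add, pow_mul, ← hj, pow_orderOf_eq_one, one_pow]
            group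
          rwa [hcy.mul_pow, e1, one_mul] at e2
        have hk1 : k = 1 := orderOf_eq_one_iff.mp (Nat.eq_one_of_dvd_coprimes
          (Nat.Coprime.pow_right (j + l) hKp) (Subgroup.orderOf_dvd_natCard K hk)
          (orderOf_dvd_of_pow_eq_one hpow))
        rw [← hyk, hk1, mul_one]
        exact hy
      · have h1 := hPK _ ((P : Subgroup G).mul_mem ((P : Subgroup G).mul_mem
          ((P : Subgroup G).mul_mem hx hy) ((P : Subgroup G).inv_mem hx))
          ((P : Subgroup G).inv_mem hy)) (hc x hx y hy)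
        exact mul_inv_eq_iff_eq_mul.mp (mul_inv_eq_one.mp h1)

end Cfsg.Agent.Lib.Characters
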