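import Cfsg.Agent.Lib.Characters.Gallagher
import Cfsg.Agent.Lib.Characters.DegreeRatio
import Cfsg.Agent.Lib.Characters.ExtensionChar
import Cfsg.Agent.Lib.Characters.Kernel
import Cfsg.Agent.Lib.Characters.PSolvableDegrees
import Cfsg.Agent.Lib.Coprime.Hall
import Cfsg.Agent.Lib.Solvable.Products
import Mathlib.GroupTheory.Nilpotent
import Mathlib.GroupTheory.FiniteAbelian.Duality

/-!
# Minimal non-abelian quotients of solvable groups and character degrees
-/

namespace Cfsg.Agent.Lib.Characters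

open scoped ComplexConjugate

set_option linter.unusedSectionVars false
set_option linter.style.haveILetI false

universe u

variable {G : Type u} [Group G]

/-- The data of a Frobenius quotient `G/N` with abelian complement and kernel `K/N`. -/
structure FrobQuot (N K : Subgroup G) (q : ℕ) : Prop where
  normalN : N.Normal
  normalK : K.Normal
  le : N ≤ K
  neK : N ≠ K
  neTop : K ≠ ⊤
  prime : q.Prime
  qGroup : ∃ k, N.relIndex K = q ^ k
  commLeK : commutator G ≤ K
  commLeN : ∀ a ∈ K, ∀ b ∈ K, a * b * a⁻¹ * b⁻¹ ∈ N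
  fpf : ∀ t : G, t ∉ K → ∀ k ∈ K, t * k * t⁻¹ * k⁻¹ ∈ N → k ∈ N

/-- A non-abelian solvable group has a non-abelian `p`-quotient or such a Frobenius quotient. -/
theorem exists_degree_quotient [Finite G] [Group.IsSolvable G] (hna : ¬ ∀ a b : G, a * b = b * a) :
    (∃ N : Subgroup G, ∃ _ : N.Normal, ∃ p : ℕ, p.Prime ∧ IsPGroup p (G ⧸ N) ∧
      ¬ ∀ a b : G ⧸ N, a * b = b * a) ∨
    ∃ (N K : Subgroup G) (q : ℕ), FrobQuot N K q := by
  classical
  haveI := Fintype.ofFinite (Subgroup G)
  obtain ⟨N, hN, hNmax⟩ := Finset.exists_max_image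
    (Finset.univ.filter fun N : Subgroup G => N.Normal ∧ ¬ commutator G ≤ N)
    (fun N => Nat.card N) ⟨⊥, Finset.mem_filter.mpr ⟨Finset.mem_univ _, inferInstance, fun h => by
      refine hna fun a b => commutatorElement_eq_one_iff_mul_comm.mp ?_
      exact Subgroup.mem_bot.mp (h (by
        rw [commutator_def]
        exact Subgroup.commutator_mem_commutator (Subgroup.mem_top a) (Subgroup.mem_top b)))⟩⟩
  simp only [Finset.mem_filter, Finset.mem_univ, true_and] at hN hNmax
  obtain ⟨hNn, hNc⟩ := hN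
  haveI := hNn
  set π := QuotientGroup.mk' N with hπ
  have hsurj : Function.Surjective π := QuotientGroup.mk'_surjective N
  haveI : Group.IsSolvable (G ⧸ N) := inferInstance
  set D := commutator (G ⧸ N) with hD
  haveI hDn : D.Normal := inferInstance
  have hDmap : (commutator G).map π = D := by
    rw [hD, commutator_def, commutator_def, Subgroup.map_commutator,
      Subgroup.map_top_of_surjective _ hsurj]
  have hmin : ∀ A : Subgroup (G ⧸ N), A.Normal → A ≠ ⊥ → D ≤ A := by
    intro A hA hA0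
    by_contra hDA
    have hn : (A.comap π).Normal ∧ ¬ commutator G ≤ A.comap π :=
      ⟨hA.comap π, fun h => hDA (hDmap ▸ Subgroup.map_le_iff_le_comap.mpr h)⟩
    have hle : N ≤ A.comap π := fun x hx => by
      show π x ∈ A
      rw [show π x = 1 from (QuotientGroup.eq_one_iff x).mpr hx]
      exact A.one_mem
    have heq := Subgroup.eq_of_le_of_card_ge hle (hNmax _ hn)
    refine hA0 ((Subgroup.eq_bot_iff_forall _).mpr fun y hy => ?_)
    obtain ⟨x, rfl⟩ := hsurj y
    exact (QuotientGroup.eq_one_iff x).mpr (heq.ge hy)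
  have hD0 : D ≠ ⊥ := by
    rw [← hDmap, Ne, Subgroup.map_eq_bot_iff, QuotientGroup.ker_mk']
    exact hNc
  have hnab : ¬ ∀ a b : G ⧸ N, a * b = b * a := fun hab => hD0 (by
    rw [hD, eq_bot_iff, commutator_def, Subgroup.commutator_le]
    exact fun x _ y _ => Subgroup.mem_bot.mpr (commutatorElement_eq_one_iff_mul_comm.mpr (hab x y)))
  -- `D` is an abelian `q`-group
  have hDsolv : Group.IsSolvable D := inferInstance
  obtain ⟨q, A, hq, hAn, hA0, hAp, hAle, hAab⟩ : ∃ (q : ℕ) (A : Subgroup (G ⧸ N)), q.Prime ∧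
      A.Normal ∧ A ≠ ⊥ ∧ IsPGroup q A ∧ A ≤ D ∧ ∀ a ∈ A, ∀ b ∈ A, a * b = b * a := by
    obtain ⟨q, A, hq, hAn, hA0, hAle, hAab, hAp, -⟩ :=
      Coprime.exists_normal_abelian_pgroup_le hD0 hDsolv
    exact ⟨q, A, hq, hAn, hA0, hAp, hAle, fun a ha b hb =>
      congrArg Subtype.val (hAab.is_comm.comm (⟨a, ha⟩ : A) ⟨b, hb⟩)⟩
  have hAD : A = D := le_antisymm hAle (hmin A hAn hA0)
  rw [hAD] at hAab hAp
  set C := Subgroup.centralizer (D : Set (G ⧸ N)) with hC
  haveI : C.Normal := inferInstance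
  have hfpf : ∀ t : G ⧸ N, t ∉ C → ∀ k ∈ D, t * k * t⁻¹ = k → k = 1 := by
    intro t ht k hk hfix
    by_contra hk1
    apply ht
    set F := D ⊓ Subgroup.centralizer ({t} : Set (G ⧸ N)) with hF
    have hFn : F.Normal := by
      refine ⟨fun x hx g => ⟨hDn.conj_mem x hx.1 g, ?_⟩⟩
      refine Subgroup.mem_centralizer_singleton_iff.mpr ?_
      have hxt : x * t = t * x := Subgroup.mem_centralizer_singleton_iff.mp hx.2
      have hd : t⁻¹ * g⁻¹ * t * g ∈ D := by
        rw [hD, commutator_def]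
        have := Subgroup.commutator_mem_commutator (Subgroup.mem_top t⁻¹) (Subgroup.mem_top g⁻¹)
        simpa [commutatorElement_def] using this
      have h1 := hAab _ hd x hx.1
      calc g * x * g⁻¹ * t = g * x * (g⁻¹ * t * g) * g⁻¹ := by group
        _ = g * (x * t) * (t⁻¹ * g⁻¹ * t * g) * g⁻¹ := by group
        _ = g * t * (x * (t⁻¹ * g⁻¹ * t * g)) * g⁻¹ := by rw [hxt]; group
        _ = g * t * ((t⁻¹ * g⁻¹ * t * g) * x) * g⁻¹ := by rw [h1]
        _ = t * (g * x * g⁻¹) := by group
    have hle := hmin F hFn (fun h => hk1 ((Subgroup.eq_bot_iff_forall _).mp h k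
      ⟨hk, Subgroup.mem_centralizer_singleton_iff.mpr (mul_inv_eq_iff_eq_mul.mp hfix).symm⟩))
    exact Subgroup.mem_centralizer_iff.mpr fun d hd =>
      (Subgroup.mem_centralizer_singleton_iff.mp (hle hd).2)
  have hDC : D ≤ C := fun x hx => Subgroup.mem_centralizer_iff.mpr fun y hy => hAab y hy x hx
  by_cases hCD : C ≤ D
  · -- Frobenius quotient
    right
    set K := D.comap π with hK
    refine ⟨N, K, q, hNn, hDn.comap π, ?_, ?_, ?_, hq, ?_, ?_, ?_, ?_⟩
    · intro x hx
      show π x ∈ D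
      rw [show π x = 1 from (QuotientGroup.eq_one_iff x).mpr hx]
      exact D.one_mem
    · intro h
      apply hD0
      rw [← Subgroup.map_comap_eq_self_of_surjective hsurj D, ← hK, ← h, hπ,
        QuotientGroup.map_mk'_self]
    · intro h
      apply hnab
      intro a b
      have hall : ∀ y, y ∈ D := fun y => by
        obtain ⟨x, rfl⟩ := hsurj y
        exact (show x ∈ K by rw [h]; trivial)
      exact hAab a (hall a) b (hall b)
    · have hrel : N.relIndex K = Nat.card D := by
        have h := Subgroup.relIndex_ker π (K := K)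
        rwa [hπ, QuotientGroup.ker_mk', ← hπ, hK, Subgroup.map_comap_eq_self_of_surjective hsurj] at h
      haveI := Fact.mk hq
      rw [hrel]
      exact hAp.exists_card_eq
    · exact Subgroup.map_le_iff_le_comap.mp hDmap.le
    · intro a ha b hb
      refine (QuotientGroup.eq_one_iff _).mp ?_
      show π (a * b * a⁻¹ * b⁻¹) = 1
      rw [map_mul, map_mul, map_mul, map_inv, map_inv, hAab _ ha _ hb, mul_inv_cancel_right,
        mul_inv_cancel]
    · intro t ht k hk hmem
      refine (QuotientGroup.eq_one_iff k).mp (hfpf (π t) (fun h => ht (hCD h)) (π k) hk ?_)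
      have h1 : π (t * k * t⁻¹ * k⁻¹) = 1 := (QuotientGroup.eq_one_iff _).mpr hmem
      rw [map_mul, map_mul, map_mul, map_inv, map_inv] at h1
      exact mul_inv_eq_one.mp h1
  · -- the quotient is nilpotent
    left
    obtain ⟨c, hcC, hcD⟩ := SetLike.not_le_iff_exists.mp hCD
    have hCtop : ∀ t, t ∈ C := by
      intro t
      by_contra ht
      let φ : D → D := fun k => ⟨t * (k : G ⧸ N) * t⁻¹ * (k : G ⧸ N)⁻¹,
        D.mul_mem (hDn.conj_mem _ k.2 t) (D.inv_mem k.2)⟩
      have hinj : Function.Injective φ := fun k l h => by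
        have h1 : t * (k : G ⧸ N) * t⁻¹ * (k : G ⧸ N)⁻¹ = t * (l : G ⧸ N) * t⁻¹ * (l : G ⧸ N)⁻¹ :=
          congrArg Subtype.val h
        apply Subtype.ext
        rw [← inv_mul_eq_one]
        refine hfpf t ht _ (D.mul_mem (D.inv_mem k.2) l.2) ?_
        have e1 : t * (l : G ⧸ N) * t⁻¹ = t * (k : G ⧸ N) * t⁻¹ * (k : G ⧸ N)⁻¹ * l := by
          rw [h1, inv_mul_cancel_right]
        calc t * ((k : G ⧸ N)⁻¹ * l) * t⁻¹
            = (t * (k : G ⧸ N) * t⁻¹)⁻¹ * (t * (l : G ⧸ N) * t⁻¹) := by group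
          _ = (k : G ⧸ N)⁻¹ * l := by rw [e1]; group
      have hd : t * c * t⁻¹ * c⁻¹ ∈ D := by
        rw [hD, commutator_def]
        exact Subgroup.commutator_mem_commutator (Subgroup.mem_top t) (Subgroup.mem_top c)
      obtain ⟨x, hx⟩ := (Finite.injective_iff_surjective.mp hinj) ⟨_, D.inv_mem hd⟩
      have hx' : t * (x : G ⧸ N) * t⁻¹ * (x : G ⧸ N)⁻¹ = (t * c * t⁻¹ * c⁻¹)⁻¹ :=
        congrArg Subtype.val hx
      have hcx : c * (x : G ⧸ N) = (x : G ⧸ N) * c :=
        (Subgroup.mem_centralizer_iff.mp hcC x x.2).symm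
      set e := c * (x : G ⧸ N) with he
      have hte : t * e = e * t := by
        have h1 : t * e * t⁻¹ = e := by
          have hk1 : ∀ d ∈ D, c * d = d * c := fun d hd' =>
            (Subgroup.mem_centralizer_iff.mp hcC d hd').symm
          set d := t * c * t⁻¹ * c⁻¹ with hddef
          calc t * e * t⁻¹ = (d * c) * (t * (x : G ⧸ N) * t⁻¹ * (x : G ⧸ N)⁻¹ * x) := by
                rw [he, hddef]; group
            _ = d * (c * (d⁻¹ * x)) := by rw [hx']; group
            _ = d * ((d⁻¹ * x) * c) := by rw [hk1 _ (D.mul_mem (D.inv_mem hd) x.2)]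
            _ = e := by rw [hcx]; group
        exact mul_inv_eq_iff_eq_mul.mp h1
      have heC : e ∈ C := C.mul_mem hcC (hDC x.2)
      have heD : e ∉ D := fun h => hcD (by simpa [he] using D.mul_mem h (D.inv_mem x.2))
      have hcen : ∀ g : G ⧸ N, g * e * g⁻¹ = e := by
        intro g
        have hk : g * e * g⁻¹ * e⁻¹ ∈ D := by
          rw [hD, commutator_def]
          exact Subgroup.commutator_mem_commutator (Subgroup.mem_top g) (Subgroup.mem_top e)
        refine mul_inv_eq_one.mp (hfpf t ht _ hk ?_)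
        have hd' : t * g * t⁻¹ * g⁻¹ ∈ D := by
          rw [hD, commutator_def]
          exact Subgroup.commutator_mem_commutator (Subgroup.mem_top t) (Subgroup.mem_top g)
        have h2 : ∀ d ∈ D, d * (g * e * g⁻¹) = (g * e * g⁻¹) * d := fun d hd'' =>
          Subgroup.mem_centralizer_iff.mp (‹C.Normal›.conj_mem e heC g) d hd''
        calc t * (g * e * g⁻¹ * e⁻¹) * t⁻¹
            = (t * g * t⁻¹ * g⁻¹) * g * (t * e * t⁻¹) * g⁻¹ * (t * g * t⁻¹ * g⁻¹)⁻¹ *
              (t * e * t⁻¹)⁻¹ := by group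
          _ = (t * g * t⁻¹ * g⁻¹) * (g * e * g⁻¹) * (t * g * t⁻¹ * g⁻¹)⁻¹ * e⁻¹ := by
              rw [hte, mul_inv_cancel_right]; group
          _ = g * e * g⁻¹ * e⁻¹ := by rw [h2 _ hd', mul_inv_cancel_right]
      set Ce := Subgroup.zpowers e with hCe
      have hCn : Ce.Normal := ⟨fun y hy g => by
        obtain ⟨i, rfl⟩ := Subgroup.mem_zpowers_iff.mp hy
        rw [← conj_zpow, hcen g]
        exact Subgroup.zpow_mem_zpowers e i⟩
      have hle := hmin Ce hCn (fun h => heD (by
        rw [(Subgroup.eq_bot_iff_forall _).mp h e (Subgroup.mem_zpowers e)]; exact D.one_mem))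
      obtain ⟨⟨d, hdD⟩, hd1⟩ := Subgroup.ne_bot_iff_exists_ne_one.mp hD0
      obtain ⟨i, hi⟩ := Subgroup.mem_zpowers_iff.mp (hle hdD)
      refine hd1 (Subtype.ext (hfpf t ht d hdD ?_))
      rw [← hi, mul_inv_eq_iff_eq_mul]
      exact (show Commute t e from hte).zpow_right i
    have hcent : D ≤ Subgroup.center (G ⧸ N) := fun x hx => Subgroup.mem_center_iff.mpr fun g =>
      (Subgroup.mem_centralizer_iff.mp (hCtop g) x hx).symm
    haveI : Group.IsNilpotent (G ⧸ N) := by
      refine @Subgroup.isNilpotent_of_ker_le_center _ _ _ _ (QuotientGroup.mk' D) ?_ ?_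
      · rwa [QuotientGroup.ker_mk']
      · refine @CommGroup.isNilpotent _
          { (inferInstance : Group ((G ⧸ N) ⧸ D)) with
            mul_comm := fun a b => by
              obtain ⟨a, rfl⟩ := QuotientGroup.mk_surjective a
              obtain ⟨b, rfl⟩ := QuotientGroup.mk_surjective b
              refine QuotientGroup.eq.mpr ?_
              rw [hD, commutator_def]
              have := Subgroup.commutator_mem_commutator (Subgroup.mem_top b⁻¹) (Subgroup.mem_top a⁻¹)
              simpa [commutatorElement_def, mul_assoc] using this }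
    refine ⟨N, hNn, q, hq, ?_, hnab⟩
    intro y
    haveI := Fact.mk hq
    -- every Sylow subgroup other than the `q`-one is trivial
    refine IsPGroup.of_card (Nat.eq_prime_pow_of_unique_prime_dvd Nat.card_pos.ne' ?_) y
    · intro r hr hrdvd
      haveI := Fact.mk hr
      obtain ⟨R⟩ : Nonempty (Sylow r (G ⧸ N)) := inferInstance
      haveI hRn : (R : Subgroup (G ⧸ N)).Normal := inferInstance
      have hR0 : (R : Subgroup (G ⧸ N)) ≠ ⊥ := fun h => R.ne_bot_of_dvd_card hrdvd h
      have hle := hmin _ hRn hR0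
      obtain ⟨⟨d, hdD⟩, hd1⟩ := Subgroup.ne_bot_iff_exists_ne_one.mp hD0
      obtain ⟨i, hi⟩ := IsPGroup.iff_orderOf.mp hAp ⟨d, hdD⟩
      obtain ⟨j, hj⟩ := IsPGroup.iff_orderOf.mp R.isPGroup' ⟨d, hle hdD⟩
      rw [Subgroup.orderOf_mk] at hi hj
      by_contra hne
      have hcop : Nat.Coprime (q ^ i) (r ^ j) :=
        Nat.Coprime.pow _ _ ((Nat.coprime_primes hq hr).mpr fun h => hne h.symm)
      rw [← hi, ← hj, Nat.coprime_self] at hcop
      exact hd1 (Subtype.ext (orderOf_eq_one_iff.mp hcop))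

end Cfsg.Agent.Lib.Characters
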