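import Cfsg.Agent.Lib.SylowCounting.PermNormalizer
import Cfsg.Agent.Lib.SylowCounting.Counting
import Cfsg.Agent.Lib.SylowCounting.Tools
import Cfsg.Agent.Lib.Perm.Jordan
import Cfsg.Agent.Lib.Perm.SmallSupport
import Cfsg.Agent.Lib.Perm.PrimeDegree
import Cfsg.Agent.Lib.Characters.Burnside
import Cfsg.Agent.Lib.Characters.Order7920.Design

/-!
# Transitive groups of degree eleven
-/

set_option autoImplicit false
set_option linter.style.haveILetI false

namespace Cfsg.Agent.Lib.Characters.DegreeEleven

open Equiv Equiv.Perm MulAction Cfsg.Agent.Lib.SylowCounting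

variable {α : Type*} [Fintype α] [DecidableEq α]

theorem card_perm (hα : Fintype.card α = 11) : Nat.card (Perm α) = 39916800 := by
  rw [Nat.card_eq_fintype_card, Fintype.card_perm, hα]; rfl

theorem card_alt (hα : Fintype.card α = 11) : Nat.card (alternatingGroup α) = 19958400 := by
  haveI : Nontrivial α := Fintype.one_lt_card_iff_nontrivial.1 (by omega)
  rw [nat_card_alternatingGroup, Nat.card_eq_fintype_card, hα]; rfl

theorem transitive_of_dvd (hα : Fintype.card α = 11) (K : Subgroup (Perm α)) (h : 11 ∣ Nat.card K) :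
    IsPretransitive K α := by
  haveI : Fact (Nat.Prime 11) := ⟨by norm_num⟩
  obtain ⟨x, hx⟩ := exists_prime_orderOf_dvd_card' 11 h
  have hx' : orderOf (x : Perm α) = 11 := by rw [Subgroup.orderOf_coe, hx]
  have hc : (x : Perm α).IsCycle :=
    Equiv.Perm.isCycle_of_prime_order (by rw [hx']; norm_num) (by
      rw [hx']; exact lt_of_le_of_lt (Finset.card_le_univ _) (by omega))
  have hs : (x : Perm α).support = Finset.univ := by
    apply Finset.eq_univ_of_card
    rw [← hc.orderOf, hx', hα]
  refine ⟨fun a b => ?_⟩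
  obtain ⟨i, hi⟩ := hc.sameCycle (x := a) (y := b) (Equiv.Perm.mem_support.1 (hs ▸ Finset.mem_univ a))
    (Equiv.Perm.mem_support.1 (hs ▸ Finset.mem_univ b))
  exact ⟨x ^ i, by rw [Subgroup.smul_def, Subgroup.coe_zpow]; exact hi⟩

/-- A subgroup containing a full Sylow subgroup contains a conjugate of every `p`-element. -/
theorem exists_conj_mem {p k m : ℕ} [Fact p.Prime] (hS : Nat.card (Perm α) = p ^ k * m) (hm : ¬ p ∣ m)
    (K : Subgroup (Perm α)) (hK : p ^ k ∣ Nat.card K) {σ : Perm α} {l : ℕ} (hσ : orderOf σ = p ^ l) :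
    ∃ g : Perm α, g * σ * g⁻¹ ∈ K := by
  obtain ⟨Q, hQ⟩ := Sylow.exists_subgroup_card_pow_prime (G := K) p hK
  have hQc : Nat.card (Q.map K.subtype) = p ^ k := by
    rw [Subgroup.card_map_of_injective K.subtype_injective, hQ]
  obtain ⟨R, hR⟩ := (IsPGroup.of_card hQc).exists_le_sylow
  have hRe : Q.map K.subtype = R :=
    Subgroup.eq_of_le_of_card_ge hR (by rw [hQc, sylow_card hS hm R])
  obtain ⟨R', hR'⟩ := (IsPGroup.of_card (p := p) (n := l) (G := Subgroup.zpowers σ)
    (by rw [Nat.card_zpowers, hσ])).exists_le_sylow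
  obtain ⟨g, hg⟩ := exists_smul_eq (Perm α) R' R
  refine ⟨g, ?_⟩
  have hmem : g * σ * g⁻¹ ∈ (R : Subgroup (Perm α)) := by
    rw [← hg]; exact ⟨σ, hR' (Subgroup.mem_zpowers σ), rfl⟩
  rw [← hRe] at hmem
  obtain ⟨q, -, hq⟩ := hmem
  rw [← hq]; exact q.2

structure Setting (hα : Fintype.card α = 11) (G : Subgroup (Perm α)) : Prop where
  notAlt : ¬ alternatingGroup α ≤ G
  prim : IsPreprimitive G α

variable {hα : Fintype.card α = 11} {G : Subgroup (Perm α)}

theorem Setting.no_cycle (h : Setting hα G) {p : ℕ} (hp : p.Prime) (hp7 : p ≤ 7) {g : Perm α}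
    (hg : g.cycleType = {p}) (hgG : g ∈ G) : False := by
  refine h.notAlt (Cfsg.Agent.Lib.Perm.alternatingGroup_le_of_prime_cycle G h.prim hp (by omega)
    (Equiv.Perm.card_cycleType_eq_one.1 (by rw [hg]; rfl)) ?_ hgG)
  rw [← Equiv.Perm.sum_cycleType, hg, Multiset.sum_singleton]

theorem Setting.card_dvd (h : Setting hα G) (K : Subgroup (Perm α)) (hKG : K ≤ G)
    (hKA : K ≤ alternatingGroup α) : Nat.card K ∣ 11 * (3456 * 5) := by
  haveI : Fact (Nat.Prime 7) := ⟨by norm_num⟩
  haveI : Fact (Nat.Prime 5) := ⟨by norm_num⟩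
  haveI : Fact (Nat.Prime 3) := ⟨by norm_num⟩
  have hd : Nat.card K ∣ 19958400 := card_alt hα ▸ Subgroup.card_dvd_of_le hKA
  have cyc : ∀ p : ℕ, p.Prime → p ≤ 7 → ∀ (k m : ℕ), 39916800 = p ^ k * m → ¬ p ∣ m →
      ¬ p ^ k ∣ Nat.card K := by
    intro p hp hp7 k m hS hm hK
    haveI : Fact p.Prime := ⟨hp⟩
    obtain ⟨σ, hσ⟩ := (Equiv.Perm.exists_with_cycleType_iff α (m := {p})).2
      ⟨by simp only [Multiset.sum_singleton]; omega, by
        intro a ha; rw [Multiset.mem_singleton] at ha; rw [ha]; exact hp.two_le⟩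
    obtain ⟨g, hg⟩ := exists_conj_mem (p := p) (l := 1) ((card_perm hα).trans hS) hm K hK (σ := σ) (by
      rw [← Equiv.Perm.lcm_cycleType, hσ, Multiset.lcm_singleton]; simp)
    exact h.no_cycle hp hp7 (by rw [Equiv.Perm.cycleType_conj, hσ]) (hKG hg)
  have h7 := cyc 7 (by norm_num) le_rfl 1 5702400 (by norm_num) (by norm_num)
  have h5 := cyc 5 (by norm_num) (by norm_num) 2 1596672 (by norm_num) (by norm_num)
  have h3 := cyc 3 (by norm_num) (by norm_num) 4 492800 (by norm_num) (by norm_num)
  obtain ⟨c, hc⟩ := hd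
  have e7 : 7 ∣ c := ((Nat.Prime.dvd_mul (by norm_num)).1 (hc ▸ (by norm_num : 7 ∣ 19958400))).resolve_left
    (by simpa using h7)
  obtain ⟨c, rfl⟩ := e7
  have e5 : 5 ∣ c := by
    by_contra hcon
    apply h5
    have : (5 ^ 2).Coprime c := Nat.Coprime.pow_left 2 ((Nat.Prime.coprime_iff_not_dvd (by norm_num)).2 hcon)
    refine this.dvd_of_dvd_mul_right ?_
    have : Nat.card K * c = 2851200 := by
      have : 19958400 = 7 * (Nat.card K * c) := by rw [hc]; ring
      omega
    rw [this]; norm_num
  obtain ⟨c, rfl⟩ := e5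
  have e3 : 3 ∣ c := by
    by_contra hcon
    apply h3
    have : (3 ^ 4).Coprime c := Nat.Coprime.pow_left 4 ((Nat.Prime.coprime_iff_not_dvd (by norm_num)).2 hcon)
    refine this.dvd_of_dvd_mul_right ?_
    have : Nat.card K * c = 570240 := by
      have : 19958400 = 35 * (Nat.card K * c) := by rw [hc]; ring
      omega
    rw [this]; norm_num
  obtain ⟨c, rfl⟩ := e3
  refine ⟨c, ?_⟩
  have : 19958400 = 105 * (Nat.card K * c) := by rw [hc]; ring
  omega

/-- The even part. -/
abbrev even (G : Subgroup (Perm α)) : Subgroup (Perm α) := G ⊓ alternatingGroup α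

theorem even_index_dvd (G : Subgroup (Perm α)) : ((even G).subgroupOf G).index ∣ 2 := by
  have : (even G).subgroupOf G = (Equiv.Perm.sign.comp G.subtype).ker := by
    ext x
    simp [even, Subgroup.mem_subgroupOf]
  rw [this, Subgroup.index_ker]
  exact (Subgroup.card_subgroup_dvd_card _).trans (by simp)

theorem card_even_mul (G : Subgroup (Perm α)) :
    Nat.card G = Nat.card (even G) ∨ Nat.card G = 2 * Nat.card (even G) := by
  have h := ((even G).subgroupOf G).card_mul_index
  rw [Nat.card_congr (Subgroup.subgroupOfEquivOfLe (inf_le_left : even G ≤ G)).toEquiv] at h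
  show Nat.card G = Nat.card (G ⊓ alternatingGroup α : Subgroup (Perm α)) ∨
    Nat.card G = 2 * Nat.card (G ⊓ alternatingGroup α : Subgroup (Perm α))
  rcases (Nat.dvd_prime Nat.prime_two).1 (even_index_dvd G) with e | e
  · left; rw [e, mul_one] at h; exact h.symm
  · right; rw [e, mul_comm] at h; exact h.symm

theorem mem_even_of_odd {G : Subgroup (Perm α)} {g : Perm α} (hg : g ∈ G) {p : ℕ} (hp : Odd p)
    (h : orderOf g = p) : g ∈ even G := by
  refine ⟨hg, Equiv.Perm.mem_alternatingGroup.2 ?_⟩
  rcases Int.units_eq_one_or (Equiv.Perm.sign g) with e | e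
  · exact e
  · exfalso
    have := congrArg Equiv.Perm.sign (pow_orderOf_eq_one g)
    rw [map_pow, e, h, hp.neg_one_pow, map_one] at this
    exact absurd this (by decide)

theorem eleven_dvd [IsPretransitive G α] (hα : Fintype.card α = 11) : 11 ∣ Nat.card (even G) := by
  haveI : Fact (Nat.Prime 11) := ⟨by norm_num⟩
  obtain ⟨a⟩ : Nonempty α := Fintype.card_pos_iff.1 (by omega)
  have h : 11 ∣ Nat.card G := by
    rw [← hα, ← Nat.card_eq_fintype_card, ← index_stabilizer_of_transitive G a]
    exact Subgroup.index_dvd_card _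
  rcases card_even_mul G with e | e
  · rwa [← e]
  · exact (Nat.Coprime.dvd_mul_left (by norm_num)).1 (e ▸ h)

theorem even_not_solvable (hG : ¬ Group.IsSolvable G) : ¬ Group.IsSolvable (even G) := by
  intro hs
  haveI := hs
  apply hG
  refine Group.isSolvable_of_ker_le_range (Subgroup.inclusion (inf_le_left : even G ≤ G))
    (Equiv.Perm.sign.comp G.subtype) fun x hx => ?_
  exact ⟨⟨x, x.2, Equiv.Perm.mem_alternatingGroup.2 hx⟩, Subtype.ext rfl⟩

/-- Five cycles come in pairs; the centraliser of an element of order five in an even group. -/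
theorem Setting.five_facts (h : Setting hα G) {K : Subgroup (Perm α)} (hKG : K ≤ G)
    (hKA : K ≤ alternatingGroup α) {y : Perm α} (hy : y ∈ K) (hy5 : orderOf y = 5) :
    (∀ a b : α, y a = a → y b = b → a = b) ∧
      ∀ g ∈ K, Commute g y → g ∈ Subgroup.zpowers y := by
  haveI : Fact (Nat.Prime 5) := ⟨by norm_num⟩
  obtain ⟨n, hn⟩ := Equiv.Perm.cycleType_prime_order (σ := y) (by rw [hy5]; norm_num)
  rw [hy5] at hn
  have hsum : (n + 1) * 5 ≤ 11 := by
    have := Equiv.Perm.sum_cycleType y ▸ Finset.card_le_univ y.support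
    rw [hn, Multiset.sum_replicate, smul_eq_mul, hα] at this
    omega
  have hn1 : n = 1 := by
    rcases n with - | n
    · exact absurd (hKG hy) fun hg => h.no_cycle (p := 5) (by norm_num) (by norm_num)
        (by simpa using hn) hg
    · omega
  subst hn1
  have hsupp : y.support.card = 10 := by
    rw [← Equiv.Perm.sum_cycleType, hn]; simp
  refine ⟨fun a b ha hb => ?_, fun g hg hcomm => ?_⟩
  · have : (y.supportᶜ).card ≤ 1 := by rw [Finset.card_compl, hsupp]; omega
    exact Finset.card_le_one.1 this a (by simp [ha]) b (by simp [hb])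
  · set C := Subgroup.centralizer ({y} : Set (Perm α)) with hC
    have hCc : Nat.card C = 50 := by
      rw [Equiv.Perm.nat_card_centralizer, hn, hα]
      rfl
    have hCA : ¬ C ≤ alternatingGroup α := by
      rw [hC, Equiv.Perm.centralizer_le_alternating_iff]
      rintro ⟨-, -, h3⟩
      have := h3 5
      rw [hn, Multiset.count_replicate_self] at this
      omega
    have hC25 : Nat.card (C ⊓ alternatingGroup α : Subgroup (Perm α)) = 25 := by
      rcases card_even_mul C with e | e
      · exfalso
        refine hCA fun x hx => ?_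
        have : even C = C := Subgroup.eq_of_le_of_card_ge inf_le_left e.le
        exact (this.symm ▸ hx : x ∈ even C).2
      · rw [hCc] at e
        show Nat.card (even C) = 25
        omega
    set D := C ⊓ K with hD
    have hd25 : Nat.card D ∣ 25 := hC25 ▸ Subgroup.card_dvd_of_le (inf_le_inf_left C hKA)
    have hd : Nat.card D ∣ 5 := by
      rcases (Nat.dvd_prime_pow (by norm_num : Nat.Prime 5) (m := 2)).1 (by simpa using hd25) with
        ⟨i, hi, e⟩
      interval_cases i
      · rw [e]; norm_num
      · rw [e]; norm_num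
      · exfalso
        have h1 : Nat.card D ∣ 11 * (3456 * 5) :=
          (Subgroup.card_dvd_of_le (inf_le_right : C ⊓ K ≤ K)).trans (h.card_dvd K hKG hKA)
        rw [e] at h1
        norm_num at h1
    have hle : Subgroup.zpowers y ≤ D := Subgroup.zpowers_le.2
      ⟨Subgroup.mem_centralizer_singleton_iff.2 rfl, hy⟩
    rw [Subgroup.eq_of_le_of_card_ge hle (by
      rw [Nat.card_zpowers, hy5]; exact Nat.le_of_dvd (by norm_num) hd)]
    exact ⟨Subgroup.mem_centralizer_singleton_iff.2 hcomm.eq, hg⟩

theorem Setting.order_cases (h : Setting hα G) [IsPretransitive G α] (hG : ¬ Group.IsSolvable G) :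
    ∃ n, (n = 12 ∨ n = 144 ∨ n = 1728) ∧ Nat.card (even G) = 55 * n ∧
      ∀ [Fact (Nat.Prime 11)], Nat.card (Sylow 11 (even G)) = n := by
  haveI : Fact (Nat.Prime 11) := ⟨by norm_num⟩
  haveI : Nontrivial α := Fintype.one_lt_card_iff_nontrivial.1 (by omega)
  set K := even G with hK
  have hKd := h.card_dvd K inf_le_left inf_le_right
  have h11K : 11 ∣ Nat.card K := eleven_dvd hα
  obtain ⟨c, hc⟩ := h11K
  have hcd : c ∣ 3456 * 5 := Nat.dvd_of_mul_dvd_mul_left (by norm_num) (hc ▸ hKd)
  have hc11 : ¬ 11 ∣ c := fun hd => by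
    have := hd.trans hcd
    norm_num at this
  have hS11 : ∀ P : Sylow 11 K, Nat.card (P : Subgroup K) = 11 := fun P => by
    simpa using sylow_card (p := 11) (k := 1) (m := c) (by rw [hc, pow_one]) hc11 P
  let P : Sylow 11 K := default
  set N := Subgroup.normalizer ((P : Subgroup K) : Set K) with hN
  obtain ⟨R, hR⟩ := (P.2.map K.subtype).exists_le_sylow
  have hRc := perm_sylow_card (α := α) (p := 11) hα.ge (by omega) R
  have hRe : (P : Subgroup K).map K.subtype = R := Subgroup.eq_of_le_of_card_ge hR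
    (by rw [Subgroup.card_map_of_injective K.subtype_injective, hS11, hRc])
  have hle : N.map K.subtype ≤
      Subgroup.normalizer ((R : Subgroup (Perm α)) : Set (Perm α)) ⊓ alternatingGroup α := by
    refine le_inf ?_ ((Subgroup.map_subtype_le _).trans inf_le_right)
    rw [← hRe]
    exact Subgroup.le_normalizer_map K.subtype
  have hN55 : Nat.card N ∣ 55 := by
    have hd := Subgroup.card_dvd_of_le hle
    rw [Subgroup.card_map_of_injective K.subtype_injective] at hd
    have h21 := (two_mul_card_normalizer_inf_alternating (by norm_num) R).2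
    rw [card_normalizer_perm_sylow hα.ge (by omega) R, hα] at h21
    simp only [Nat.reduceSub, Nat.reduceMul, Nat.factorial_zero, mul_one] at h21
    rwa [show Nat.card ↥(Subgroup.normalizer ((R : Subgroup (Perm α)) : Set (Perm α)) ⊓
      alternatingGroup α) = 55 by omega] at hd
  have h11N : 11 ∣ Nat.card N := by
    have h' := Subgroup.card_dvd_of_le (Subgroup.le_normalizer (H := (P : Subgroup K)))
    rwa [hS11] at h'
  have hNn : Nat.card N * Nat.card (Sylow 11 K) = Nat.card K := by
    rw [Sylow.card_eq_index_normalizer P]; exact Subgroup.card_mul_index _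
  have hKs := even_not_solvable hG
  obtain ⟨j, hj⟩ := h11N
  rcases (Nat.dvd_prime (by norm_num : Nat.Prime 5)).1
      (Nat.dvd_of_mul_dvd_mul_left (k := 11) (by norm_num) (hj ▸ hN55 : 11 * j ∣ 11 * 5)) with rfl | rfl
  · exfalso
    rw [mul_one] at hj
    have hNP : (P : Subgroup K) = N :=
      Subgroup.eq_of_le_of_card_ge Subgroup.le_normalizer (by rw [hj, hS11])
    have hcomm : N ≤ Subgroup.centralizer ((P : Subgroup K) : Set K) := by
      rw [← hNP]
      intro x hx
      rw [Subgroup.mem_centralizer_iff]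
      intro y hy
      haveI := isCyclic_of_prime_card (α := (P : Subgroup K)) (hS11 P)
      exact congrArg Subtype.val (IsCyclic.commGroup.mul_comm (⟨y, hy⟩ : (P : Subgroup K)) ⟨x, hx⟩)
    let L := (MonoidHom.transferSylow P hcomm).ker
    have hL : Nat.card L * 11 = Nat.card K := by
      have := (MonoidHom.ker_transferSylow_isComplement' P hcomm).card_mul_card
      rwa [hS11] at this
    haveI : IsPretransitive K α := transitive_of_dvd hα K (hc ▸ dvd_mul_right 11 c)
    haveI : IsPreprimitive K α :=
      IsPreprimitive.of_prime_card (by rw [Nat.card_eq_fintype_card, hα]; norm_num)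
    haveI : L.Normal := MonoidHom.normal_ker _
    by_cases hfix : fixedPoints L α = Set.univ
    · apply hKs
      have hb : L = ⊥ := by
        rw [Subgroup.eq_bot_iff_forall]
        intro x hx
        apply Subtype.ext
        ext i
        have hi : i ∈ fixedPoints L α := hfix ▸ Set.mem_univ i
        exact hi ⟨x, hx⟩
      rw [hb, Subgroup.card_bot, one_mul] at hL
      exact isSolvable_of_card_eq_pow_mul_pow (p := 11) (q := 5) (a := 1) (b := 0) (by norm_num)
        (by norm_num) (by rw [← hL]; norm_num)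
    · haveI := IsQuasiPreprimitive.isPretransitive_of_normal (G := K) (X := α) (N := L) hfix
      obtain ⟨a⟩ : Nonempty α := Fintype.card_pos_iff.1 (by omega)
      have h11L : 11 ∣ Nat.card L := by
        rw [← hα, ← Nat.card_eq_fintype_card, ← index_stabilizer_of_transitive L a]
        exact Subgroup.index_dvd_card _
      have : 11 * 11 ∣ 11 * c := hc ▸ hL ▸ mul_dvd_mul_right h11L 11
      exact hc11 (Nat.dvd_of_mul_dvd_mul_left (by norm_num) this)
  · have hn3 : Nat.card (Sylow 11 K) ∣ 3456 := by
      have e : 55 * Nat.card (Sylow 11 K) ∣ 55 * 3456 := by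
        rw [show 55 * Nat.card (Sylow 11 K) = Nat.card K by rw [← hNn, hj]]
        exact hKd
      exact Nat.dvd_of_mul_dvd_mul_left (by norm_num) e
    have hlist : ∀ d ∈ Nat.divisors 3456, d % 11 = 1 → d ∈ ({1, 12, 144, 1728} : Finset ℕ) := by
      decide +kernel
    have hm := hlist _ (Nat.mem_divisors.2 ⟨hn3, by norm_num⟩) (sylow_count_mod 11)
    simp only [Finset.mem_insert, Finset.mem_singleton] at hm
    refine ⟨Nat.card (Sylow 11 K), hm.resolve_left fun e => ?_, by rw [← hNn, hj], by intro _; rfl⟩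
    rw [hj, e, mul_one] at hNn
    exact hKs (isSolvable_of_card_eq_pow_mul_pow (p := 11) (q := 5) (a := 1) (b := 1) (by norm_num)
      (by norm_num) (by rw [← hNn]; norm_num))

/-- The stabiliser of a point, as a group of permutations. -/
abbrev stab (K : Subgroup (Perm α)) (a : α) : Subgroup (Perm α) := K ⊓ stabilizer (Perm α) a

theorem card_stab (hα : Fintype.card α = 11) (K : Subgroup (Perm α)) (h : 11 ∣ Nat.card K) (a : α) :
    Nat.card K = 11 * Nat.card (stab K a) := by
  haveI := transitive_of_dvd hα K h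
  have h1 := (stabilizer K a).card_mul_index
  rw [index_stabilizer_of_transitive, Nat.card_eq_fintype_card (α := α), hα] at h1
  have e : stabilizer K a = (stab K a).subgroupOf K := by
    ext x; simp [stab, Subgroup.mem_subgroupOf, Subgroup.smul_def]
  rw [e, Nat.card_congr (Subgroup.subgroupOfEquivOfLe (inf_le_left : stab K a ≤ K)).toEquiv] at h1
  rw [← h1, mul_comm]

/-- The Sylow five subgroups of a point stabiliser. -/
theorem Setting.five_normalizer (h : Setting hα G) [Fact (Nat.Prime 5)] (L : Subgroup (Perm α))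
    (hL : L ≤ even G) (P : Sylow 5 L) (hP : Nat.card (P : Subgroup L) = 5) :
    5 ∣ Nat.card (Subgroup.normalizer ((P : Subgroup L) : Set L)) ∧
      Nat.card (Subgroup.normalizer ((P : Subgroup L) : Set L)) ∣ 20 := by
  set N := Subgroup.normalizer ((P : Subgroup L) : Set L) with hN
  refine ⟨?_, ?_⟩
  · have h' := Subgroup.card_dvd_of_le (Subgroup.le_normalizer (H := (P : Subgroup L)))
    rwa [hP] at h'
  · haveI : IsCyclic (P : Subgroup L) := isCyclic_of_prime_card hP
    let φ := (P : Subgroup L).normalizerMonoidHom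
    have hr : Nat.card φ.range ∣ 4 := by
      refine (Subgroup.card_subgroup_dvd_card _).trans ?_
      rw [IsCyclic.card_mulAut, hP]
      rw [Nat.totient_prime (by norm_num)]
    have hk : Nat.card φ.ker ∣ 5 := by
      obtain ⟨y, hy⟩ := IsCyclic.exists_generator (α := (P : Subgroup L))
      have hy5 : orderOf ((y : L) : Perm α) = 5 := by
        rw [Subgroup.orderOf_coe, Subgroup.orderOf_coe, ← Nat.card_zpowers,
          (Subgroup.eq_top_iff' _).2 hy, Subgroup.card_top, hP]
      have hf := (h.five_facts (inf_le_left : even G ≤ G) inf_le_right (hL (y : L).2) hy5).2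
      have hmem : ∀ g ∈ φ.ker, (g : L) ∈ (P : Subgroup L) := by
        intro g hg
        rw [MonoidHom.mem_ker] at hg
        have hc : ((g : L) : L) * (y : L) * (g : L)⁻¹ = (y : L) :=
          congrArg Subtype.val (DFunLike.congr_fun hg y)
        have hc' : Commute (((g : L) : L) : Perm α) ((y : L) : Perm α) := by
          have := congrArg (fun u : L => (u : Perm α)) (mul_inv_eq_iff_eq_mul.1 hc)
          exact this
        obtain ⟨i, hi⟩ := hf _ (hL (g : L).2) hc'
        have : (g : L) = (y : L) ^ i := Subtype.ext (by rw [Subgroup.coe_zpow]; exact hi.symm)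
        rw [this]
        exact Subgroup.zpow_mem _ y.2 i
      refine (Subgroup.card_dvd_of_injective
        ((N.subtype.comp φ.ker.subtype).codRestrict (P : Subgroup L)
          fun g => hmem g.1 g.2) ?_).trans (dvd_of_eq hP)
      intro u v e
      exact Subtype.ext (Subtype.ext (congrArg Subtype.val e :))
    have := Subgroup.card_mul_index φ.ker
    rw [Subgroup.index_ker] at this
    show Nat.card N ∣ 5 * 4
    rw [← this]
    exact mul_dvd_mul hk hr

theorem Setting.five_count (h : Setting hα G) [Fact (Nat.Prime 5)] (a : α) {n : ℕ}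
    (hK : Nat.card (even G) = 55 * n) (hn : n = 12 ∨ n = 1728) :
    n = 12 ∧ Nat.card (Sylow 5 (stab (even G) a)) = 6 ∧
      ∀ P : Sylow 5 (stab (even G) a), Nat.card (P : Subgroup (stab (even G) a)) = 5 := by
  have hL : Nat.card (stab (even G) a) = 5 * n := by
    have := card_stab hα (even G) (hK ▸ Dvd.intro (5 * n) (by ring)) a
    omega
  have h5n : ¬ 5 ∣ n := by rcases hn with rfl | rfl <;> norm_num
  have hP : ∀ P : Sylow 5 (stab (even G) a), Nat.card (P : Subgroup (stab (even G) a)) = 5 := fun P => by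
    simpa using sylow_card (p := 5) (k := 1) (m := n) (by rw [hL, pow_one]) h5n P
  let P : Sylow 5 (stab (even G) a) := default
  obtain ⟨⟨j, hj⟩, hN⟩ := h.five_normalizer (stab (even G) a) inf_le_left P (hP P)
  have hNn := Subgroup.card_mul_index
    (Subgroup.normalizer ((P : Subgroup (stab (even G) a)) : Set (stab (even G) a)))
  rw [hj, hL] at hNn
  have hm := sylow_count_mod (G := stab (even G) a) 5
  rw [Sylow.card_eq_index_normalizer P, ← P.coe_coe] at hm ⊢
  rw [hj] at hN
  have hj4 : j ∣ 4 := Nat.dvd_of_mul_dvd_mul_left (k := 5) (by norm_num) hN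
  have hjc : j = 1 ∨ j = 2 ∨ j = 4 := by
    have : j ∈ Nat.divisors 4 := Nat.mem_divisors.2 ⟨hj4, by norm_num⟩
    rw [show Nat.divisors 4 = {1, 2, 4} by decide +kernel] at this
    simpa using this
  refine ⟨?_, ?_, hP⟩ <;>
    (rcases hn with rfl | rfl <;> rcases hjc with rfl | rfl | rfl <;> omega)

/-- The situation of order `660`. -/
structure Small (hα : Fintype.card α = 11) (G : Subgroup (Perm α)) (a : α) : Prop where
  setting : Setting hα G
  two : IsMultiplyPretransitive (even G) α 2
  card : Nat.card (even G) = 660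
  not_solvable : ¬ Group.IsSolvable (even G)

namespace Small

variable {a : α} [Fact (Nat.Prime 5)] [Fact (Nat.Prime 3)]

theorem card_L (h : Small hα G a) : Nat.card (stab (even G) a) = 60 := by
  have := card_stab hα (even G) (h.card ▸ (by norm_num : 11 ∣ 660)) a
  rw [h.card] at this
  omega

theorem exists_five (h : Small hα G a) :
    ∃ y : stab (even G) a, orderOf y = 5 :=
  exists_prime_orderOf_dvd_card' 5 (by rw [h.card_L]; norm_num)

theorem sylow_three_card (h : Small hα G a) (T : Sylow 3 (stab (even G) a)) :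
    Nat.card (T : Subgroup (stab (even G) a)) = 3 := by
  simpa using sylow_card (p := 3) (k := 1) (m := 20) (by rw [h.card_L]; norm_num) (by norm_num) T

theorem commute_five_eq_one (h : Small hα G a) {y t : stab (even G) a} (hy : orderOf y = 5)
    (ht : orderOf t = 3) (hc : Commute t y) : False := by
  obtain ⟨i, hi⟩ := (h.setting.five_facts (inf_le_left : even G ≤ G) inf_le_right y.2.1
    (by rw [Subgroup.orderOf_coe, hy])).2 _ t.2.1 (congrArg Subtype.val hc.eq)
  have hmem : t ∈ Subgroup.zpowers y := ⟨i, Subtype.ext (by rw [Subgroup.coe_zpow]; exact hi)⟩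
  have := (Subgroup.zpowers y).orderOf_dvd_natCard hmem
  rw [Nat.card_zpowers, hy, ht] at this
  norm_num at this

theorem three_normalizer (h : Small hα G a) :
    Nat.card (Sylow 3 (stab (even G) a)) = 10 ∧ ∀ T : Sylow 3 (stab (even G) a),
      Nat.card (Subgroup.normalizer ((T : Subgroup (stab (even G) a)) : Set (stab (even G) a))) = 6 := by
  classical
  have hd := sylow_count_dvd (G := (stab (even G) a)) (p := 3) (k := 1) (m := 20) (by rw [h.card_L]; norm_num) (by norm_num)
  have hm := sylow_count_mod (G := (stab (even G) a)) 3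
  have hlist : ∀ d ∈ Nat.divisors 20, d % 3 = 1 → d ∈ ({1, 4, 10} : Finset ℕ) := by decide +kernel
  have hc := hlist _ (Nat.mem_divisors.2 ⟨hd, by norm_num⟩) hm
  simp only [Finset.mem_insert, Finset.mem_singleton] at hc
  have h10 : Nat.card (Sylow 3 (stab (even G) a)) = 10 := by
    by_contra h10
    obtain ⟨y, hy⟩ := h.exists_five
    let T : Sylow 3 (stab (even G) a) := default
    have hfix : y ∈ Subgroup.normalizer ((T : Subgroup (stab (even G) a)) : Set (stab (even G) a)) := by
      refine Sylow.smul_eq_iff_mem_normalizer.1 ?_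
      let f := MulAction.toPermHom (stab (even G) a) (Sylow 3 (stab (even G) a))
      have h1 : orderOf (f y) ∣ 5 := hy ▸ orderOf_map_dvd f y
      have h2 : orderOf (f y) ∣ Nat.card (Perm (Sylow 3 (stab (even G) a))) := orderOf_dvd_natCard _
      rw [Nat.card_perm] at h2
      rcases (Nat.dvd_prime (by norm_num : Nat.Prime 5)).1 h1 with e | e
      · exact Equiv.congr_fun (orderOf_eq_one_iff.1 e) T
      · rw [e, (by norm_num : Nat.Prime 5).dvd_factorial] at h2
        omega
    haveI : IsCyclic (T : Subgroup (stab (even G) a)) := isCyclic_of_prime_card (h.sylow_three_card T)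
    have hk : (T : Subgroup (stab (even G) a)).normalizerMonoidHom ⟨y, hfix⟩ = 1 := by
      rw [← orderOf_eq_one_iff]
      refine Nat.eq_one_of_dvd_coprimes (by norm_num : Nat.Coprime 5 2) ?_ ?_
      · refine (orderOf_map_dvd _ _).trans ?_
        rw [← Subgroup.orderOf_coe, hy]
      · refine (orderOf_dvd_natCard _).trans ?_
        rw [IsCyclic.card_mulAut, h.sylow_three_card, Nat.totient_prime (by norm_num)]
    obtain ⟨t, ht⟩ := exists_prime_orderOf_dvd_card' 3 (G := (T : Subgroup (stab (even G) a)))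
      (by rw [h.sylow_three_card])
    have hcomm : y * (t : (stab (even G) a)) * y⁻¹ = t := congrArg Subtype.val (DFunLike.congr_fun hk t)
    exact h.commute_five_eq_one hy (t := (t : (stab (even G) a))) (by rw [Subgroup.orderOf_coe, ht])
      (mul_inv_eq_iff_eq_mul.1 hcomm).symm
  refine ⟨h10, fun T => ?_⟩
  have := Subgroup.card_mul_index (Subgroup.normalizer ((T : Subgroup (stab (even G) a)) : Set (stab (even G) a)))
  have e := Sylow.card_eq_index_normalizer T
  rw [h10, ← T.coe_coe] at e
  rw [← e, h.card_L] at this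
  omega

/-- An element of order three fixes exactly one further point. -/
theorem fixed_unique (h : Small hα G a) {t : stab (even G) a} (ht : orderOf t = 3) {b c : α}
    (hb : b ≠ a) (hc : c ≠ a) (htb : (t : Perm α) b = b) (htc : (t : Perm α) c = c) : b = c := by
  classical
  haveI := h.two
  have htr : ∀ x : α, x ≠ a → ∃ k : (stab (even G) a), (k : Perm α) b = x := by
    intro x hx
    obtain ⟨g, hga, hgb⟩ := is_two_pretransitive_iff.1 h.two
      hb.symm hx.symm
    exact ⟨⟨g, g.2, hga⟩, hgb⟩
  set S := stabilizer (stab (even G) a) b with hS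
  have hS6 : Nat.card S = 6 := by
    have hai : ∀ g : (stab (even G) a), (g : Perm α) a = a := fun g => g.2.2
    have horb : orbit (stab (even G) a) b = ({a}ᶜ : Set α) := by
      ext x
      refine ⟨?_, fun hx => ?_⟩
      · rintro ⟨g, rfl⟩ hga
        exact hb ((g : Perm α).injective ((show (g : Perm α) b = a from hga).trans (hai g).symm))
      · obtain ⟨k, hk⟩ := htr x hx
        exact ⟨k, hk⟩
    have h1 : Nat.card (orbit (stab (even G) a) b) * Nat.card S = Nat.card (stab (even G) a) := by
      rw [← Nat.card_prod, ← Nat.card_congr (MulAction.orbitProdStabilizerEquivGroup (stab (even G) a) b)]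
    rw [horb, h.card_L, Nat.card_coe_set_eq, Set.ncard_compl, Set.ncard_singleton,
      Nat.card_eq_fintype_card (α := α), hα] at h1
    omega
  obtain ⟨k, hk⟩ := htr c hc
  have htS : t ∈ S := htb
  have ht' : k⁻¹ * t * k ∈ S := by
    show (((k⁻¹ * t * k : (stab (even G) a)) : Perm α)) b = b
    simp only [Subgroup.coe_mul, Subgroup.coe_inv, Equiv.Perm.mul_apply, hk, htc]
    rw [← hk]; exact Equiv.symm_apply_apply _ _
  have hT3 : Nat.card (Subgroup.zpowers t) = 3 := by rw [Nat.card_zpowers, ht]
  obtain ⟨T, hT⟩ := (IsPGroup.of_card (p := 3) (n := 1) (by rw [hT3, pow_one])).exists_le_sylow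
  have hTe : Subgroup.zpowers t = (T : Subgroup (stab (even G) a)) :=
    Subgroup.eq_of_le_of_card_ge hT (by rw [hT3, h.sylow_three_card])
  have huniq : ∀ u ∈ S, orderOf u = 3 → u ∈ Subgroup.zpowers t := by
    intro u hu hu3
    have hd := sylow_count_dvd (G := S) (p := 3) (k := 1) (m := 2) (by rw [hS6]; norm_num) (by norm_num)
    have hm := sylow_count_mod (G := S) 3
    have h1 : Nat.card (Sylow 3 S) = 1 := by
      rcases (Nat.dvd_prime Nat.prime_two).1 hd with e | e
      · exact e
      · rw [e] at hm; norm_num at hm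
    haveI := (Nat.card_eq_one_iff_unique.1 h1).1
    obtain ⟨U, hU⟩ := (IsPGroup.of_card (p := 3) (n := 1) (G := Subgroup.zpowers (⟨u, hu⟩ : S))
      (by rw [Nat.card_zpowers, pow_one, ← Subgroup.orderOf_coe, hu3])).exists_le_sylow
    obtain ⟨U', hU'⟩ := (IsPGroup.of_card (p := 3) (n := 1) (G := Subgroup.zpowers (⟨t, htS⟩ : S))
      (by rw [Nat.card_zpowers, pow_one, ← Subgroup.orderOf_coe, ht])).exists_le_sylow
    have hUe : Subgroup.zpowers (⟨t, htS⟩ : S) = (U' : Subgroup S) := Subgroup.eq_of_le_of_card_ge hU' (by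
      rw [Nat.card_zpowers, ← Subgroup.orderOf_coe, ht,
        sylow_card (p := 3) (k := 1) (m := 2) (by rw [hS6]; norm_num) (by norm_num) U']
      norm_num)
    rw [Subsingleton.elim U U', ← hUe] at hU
    obtain ⟨i, hi⟩ := hU (Subgroup.mem_zpowers _)
    exact ⟨i, congrArg Subtype.val hi⟩
  have hconj : ∀ u : (stab (even G) a), u⁻¹ * t * u ∈ S → u ∈ Subgroup.normalizer ((T : Subgroup (stab (even G) a)) : Set (stab (even G) a)) := by
    intro u hu
    obtain ⟨i, hi⟩ := huniq _ hu (by
      rw [← ht]
      exact (SemiconjBy.orderOf_eq u (show u * (u⁻¹ * t * u) = t * u by group)))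
    have hsub : ∀ x ∈ (T : Subgroup (stab (even G) a)), u⁻¹ * x * u ∈ (T : Subgroup (stab (even G) a)) := by
      intro x hx
      rw [← hTe] at hx ⊢
      obtain ⟨m, rfl⟩ := hx
      refine ⟨i * m, ?_⟩
      show t ^ (i * m) = _
      rw [zpow_mul, show t ^ i = u⁻¹ * t * u from hi]
      simpa using (map_zpow (MulAut.conj u⁻¹) t m).symm
    rw [← Subgroup.inv_mem_iff, Subgroup.mem_normalizer_iff]
    intro x
    refine ⟨fun hx => by simpa using hsub x hx, fun hx => ?_⟩
    let f : ↥(T : Subgroup (stab (even G) a)) → ↥(T : Subgroup (stab (even G) a)) :=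
      fun x => ⟨u⁻¹ * (x : stab (even G) a) * u, hsub _ x.2⟩
    have hf : Function.Injective f := fun x y e => by
      have := congrArg Subtype.val e
      exact Subtype.ext (by simpa [f] using this)
    obtain ⟨z, hz⟩ := (Finite.injective_iff_surjective.1 hf) ⟨_, hx⟩
    have := congrArg Subtype.val hz
    simp only [f, inv_inv, mul_left_inj, mul_right_inj] at this
    exact this ▸ z.2
  have hSN : S = Subgroup.normalizer ((T : Subgroup (stab (even G) a)) : Set (stab (even G) a)) :=
    Subgroup.eq_of_le_of_card_ge (fun u hu => hconj u (S.mul_mem (S.mul_mem (S.inv_mem hu) htS) hu))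
      (by rw [(h.three_normalizer).2 T, hS6])
  have : k ∈ S := hSN ▸ hconj k ht'
  exact (show (k : Perm α) b = b from this).symm.trans hk

theorem exists_fixed (h : Small hα G a) : ∃ t : stab (even G) a, orderOf t = 3 ∧
    ∃ b, b ≠ a ∧ (t : Perm α) b = b := by
  obtain ⟨t, ht⟩ := exists_prime_orderOf_dvd_card' 3 (G := stab (even G) a) (by rw [h.card_L]; norm_num)
  refine ⟨t, ht, ?_⟩
  have hmod := Equiv.Perm.card_compl_support_modEq (p := 3) (n := 1) (σ := (t : Perm α))
    (by rw [pow_one, ← ht, ← Subgroup.coe_pow, pow_orderOf_eq_one]; rfl)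
  rw [hα] at hmod
  have ha : a ∈ ((t : Perm α).support)ᶜ := by simpa using (t.2.2 : _)
  have h2 : 1 < ((t : Perm α).support)ᶜ.card := by
    have hpos := Finset.card_pos.2 ⟨a, ha⟩
    unfold Nat.ModEq at hmod
    omega
  obtain ⟨b, hb, hba⟩ := Finset.exists_mem_ne h2 a
  exact ⟨b, hba, by simpa using hb⟩

theorem simple (h : Small hα G a) : IsSimpleGroup (even G) := by
  classical
  haveI : Fact (Nat.Prime 11) := ⟨by norm_num⟩
  haveI hKt : IsPretransitive (even G) α := transitive_of_dvd hα _ (h.card ▸ (by norm_num : 11 ∣ 660))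
  haveI : IsPreprimitive (even G) α :=
    IsPreprimitive.of_prime_card (by rw [Nat.card_eq_fintype_card, hα]; norm_num)
  haveI : Nontrivial (even G) := Finite.one_lt_card_iff_nontrivial.1 (by rw [h.card]; norm_num)
  refine ⟨fun N hN => or_iff_not_imp_left.2 fun hne => ?_⟩
  haveI := hN
  have htr : IsPretransitive N α := by
    refine IsQuasiPreprimitive.isPretransitive_of_normal (G := even G) fun hfix => hne ?_
    rw [Subgroup.eq_bot_iff_forall]
    intro x hx
    apply Subtype.ext
    ext i
    have hi : i ∈ fixedPoints N α := hfix ▸ Set.mem_univ i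
    exact hi ⟨x, hx⟩
  have h11N : 11 ∣ Nat.card N := by
    rw [← hα, ← Nat.card_eq_fintype_card, ← index_stabilizer_of_transitive N a]
    exact Subgroup.index_dvd_card _
  let M : Subgroup (stab (even G) a) := N.comap (Subgroup.inclusion inf_le_left)
  haveI hMn : M.Normal := hN.comap _
  have hNM : Nat.card N = 11 * Nat.card M := by
    have e1 : Nat.card (N.map (even G).subtype) = Nat.card N :=
      Subgroup.card_map_of_injective (even G).subtype_injective
    have e2 : stab (N.map (even G).subtype) a = M.map (stab (even G) a).subtype := by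
      ext x
      constructor
      · rintro ⟨⟨n, hn, rfl⟩, hxa⟩
        exact ⟨⟨(n : Perm α), n.2, hxa⟩, hn, rfl⟩
      · rintro ⟨m, hm, rfl⟩
        exact ⟨⟨_, hm, rfl⟩, m.2.2⟩
    have e3 := card_stab hα (N.map (even G).subtype) (e1.symm ▸ h11N) a
    rwa [e1, e2, Subgroup.card_map_of_injective (stab (even G) a).subtype_injective] at e3
  have hall : ∀ {p : ℕ} [Fact p.Prime] (m : ℕ), Nat.card (stab (even G) a) = p * m → ¬ p ∣ m →
      p ∣ Nat.card M → ∀ x : stab (even G) a, orderOf x = p → x ∈ M := by
    intro p hp m hm hpm hd x hx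
    rw [← QuotientGroup.eq_one_iff, ← orderOf_eq_one_iff]
    have h1 : orderOf (x : stab (even G) a ⧸ M) ∣ p := hx ▸ orderOf_map_dvd (QuotientGroup.mk' M) x
    refine ((Nat.dvd_prime hp.out).1 h1).resolve_right fun e => hpm ?_
    have h2 : p * p ∣ p * m := hm ▸ M.card_mul_index ▸ mul_dvd_mul hd
      (e ▸ (orderOf_dvd_natCard _ : orderOf (x : stab (even G) a ⧸ M) ∣ M.index))
    exact Nat.dvd_of_mul_dvd_mul_left hp.out.pos h2
  have h5c : 5 ∣ Nat.card M → 25 ≤ Nat.card M ∧ (3 ∣ Nat.card M → 45 ≤ Nat.card M) := by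
    intro h5
    have hP : ∀ P : Sylow 5 (stab (even G) a), Nat.card (P : Subgroup (stab (even G) a)) = 5 := fun P => by
      simpa using sylow_card (p := 5) (k := 1) (m := 12) (by rw [h.card_L]; norm_num) (by norm_num) P
    have hn := (h.setting.five_count a (n := 12) (by rw [h.card]) (Or.inl rfl)).2.1
    have e5 := card_orderOf_eq_prime (G := stab (even G) a) (p := 5) hP
    rw [hn] at e5
    have e3 := card_orderOf_eq_prime (G := stab (even G) a) (p := 3) h.sylow_three_card
    rw [h.three_normalizer.1] at e3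
    have a5 := hall (p := 5) 12 (by rw [h.card_L]) (by norm_num) h5
    refine ⟨?_, fun h3 => ?_⟩
    · let f : Option {x : stab (even G) a // orderOf x = 5} → M :=
        fun o => o.elim 1 fun x => ⟨x.1, a5 _ x.2⟩
      have hf : Function.Injective f := by
        rintro (_ | x) (_ | y) e
        · rfl
        · have : (1 : stab (even G) a) = y.1 := congrArg Subtype.val e
          exact absurd y.2 (by rw [← this, orderOf_one]; norm_num)
        · have : x.1 = (1 : stab (even G) a) := congrArg Subtype.val e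
          exact absurd x.2 (by rw [this, orderOf_one]; norm_num)
        · exact congrArg some (Subtype.ext (congrArg Subtype.val e :))
      have := Nat.card_le_card_of_injective f hf
      rw [Finite.card_option, e5] at this
      omega
    · have a3 := hall (p := 3) 20 (by rw [h.card_L]) (by norm_num) h3
      have hM := one_add_card_orderOf_le (G := M) (p := 3) (q := 5) (by norm_num) (by norm_num) (by norm_num)
      have i3 := Nat.card_le_card_of_injective
        (fun x : {x : stab (even G) a // orderOf x = 3} =>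
          (⟨⟨x.1, a3 _ x.2⟩, by rw [← Subgroup.orderOf_coe]; exact x.2⟩ : {y : M // orderOf y = 3}))
        (fun x y e => Subtype.ext (congrArg (fun z : {y : M // orderOf y = 3} => (z.1 : stab (even G) a)) e))
      have i5 := Nat.card_le_card_of_injective
        (fun x : {x : stab (even G) a // orderOf x = 5} =>
          (⟨⟨x.1, a5 _ x.2⟩, by rw [← Subgroup.orderOf_coe]; exact x.2⟩ : {y : M // orderOf y = 5}))
        (fun x y e => Subtype.ext (congrArg (fun z : {y : M // orderOf y = 5} => (z.1 : stab (even G) a)) e))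
      omega
  have h3c : 3 ∣ Nat.card M → 21 ≤ Nat.card M := by
    intro h3
    have a3 := hall (p := 3) 20 (by rw [h.card_L]) (by norm_num) h3
    have e3 := card_orderOf_eq_prime (G := stab (even G) a) (p := 3) h.sylow_three_card
    rw [h.three_normalizer.1] at e3
    let f : Option {x : stab (even G) a // orderOf x = 3} → M := fun o => o.elim 1 fun x => ⟨x.1, a3 _ x.2⟩
    have hf : Function.Injective f := by
      rintro (_ | x) (_ | y) e
      · rfl
      · have : (1 : stab (even G) a) = y.1 := congrArg Subtype.val e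
        exact absurd y.2 (by rw [← this, orderOf_one]; norm_num)
      · have : x.1 = (1 : stab (even G) a) := congrArg Subtype.val e
        exact absurd x.2 (by rw [this, orderOf_one]; norm_num)
      · exact congrArg some (Subtype.ext (congrArg Subtype.val e :))
    have := Nat.card_le_card_of_injective f hf
    rw [Finite.card_option, e3] at this
    omega
  have h121 : 11 ≤ Nat.card M := by
    have hall11 : ∀ x : even G, orderOf x = 11 → x ∈ N := by
      intro x hx
      rw [← QuotientGroup.eq_one_iff, ← orderOf_eq_one_iff]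
      have h1 : orderOf (x : even G ⧸ N) ∣ 11 := hx ▸ orderOf_map_dvd (QuotientGroup.mk' N) x
      refine ((Nat.dvd_prime (by norm_num)).1 h1).resolve_right fun e => ?_
      have h2 : 11 * 11 ∣ 660 := h.card ▸ N.card_mul_index ▸ mul_dvd_mul h11N
        (e ▸ (orderOf_dvd_natCard _ : orderOf (x : even G ⧸ N) ∣ N.index))
      norm_num at h2
    have hn : Nat.card (Sylow 11 (even G)) = 12 := by
      obtain ⟨x, hx⟩ := exists_prime_orderOf_dvd_card' 11 (G := N) h11N
      have hG : ¬ Group.IsSolvable G := fun hs => by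
        haveI := hs
        haveI : IsPretransitive G α := ⟨fun u v => by
          obtain ⟨g, hg⟩ := exists_smul_eq (even G) u v
          exact ⟨⟨g, g.2.1⟩, hg⟩⟩
        have hKsol : Group.IsSolvable (even G) :=
          Group.isSolvable_of_isSolvable_injective (Subgroup.inclusion_injective (inf_le_left : even G ≤ G))
        exact h.not_solvable hKsol
      haveI : IsPretransitive G α := ⟨fun u v => by
        obtain ⟨g, hg⟩ := exists_smul_eq (even G) u v
        exact ⟨⟨g, g.2.1⟩, hg⟩⟩
      obtain ⟨n, hn, hc, hS⟩ := h.setting.order_cases hG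
      rw [h.card] at hc
      have : n = 12 := by omega
      rw [hS, this]
    have e11 := card_orderOf_eq_prime (G := even G) (p := 11) (fun P => by
      simpa using sylow_card (p := 11) (k := 1) (m := 60) (by rw [h.card]; norm_num) (by norm_num) P)
    rw [hn] at e11
    let f : Option {x : even G // orderOf x = 11} → N := fun o => o.elim 1 fun x => ⟨x.1, hall11 _ x.2⟩
    have hf : Function.Injective f := by
      rintro (_ | x) (_ | y) e
      · rfl
      · have : (1 : even G) = y.1 := congrArg Subtype.val e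
        exact absurd y.2 (by rw [← this, orderOf_one]; norm_num)
      · have : x.1 = (1 : even G) := congrArg Subtype.val e
        exact absurd x.2 (by rw [this, orderOf_one]; norm_num)
      · exact congrArg some (Subtype.ext (congrArg Subtype.val e :))
    have := Nat.card_le_card_of_injective f hf
    rw [Finite.card_option, e11, hNM] at this
    omega
  have hMd : Nat.card M ∈ Nat.divisors 60 :=
    Nat.mem_divisors.2 ⟨h.card_L ▸ M.card_subgroup_dvd_card, by norm_num⟩
  have hlist : ∀ d ∈ Nat.divisors 60, 11 ≤ d → (3 ∣ d → 21 ≤ d) → (5 ∣ d → 25 ≤ d ∧ (3 ∣ d → 45 ≤ d)) →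
      d = 60 := by decide +kernel
  have := hlist _ hMd h121 h3c h5c
  exact Subgroup.eq_top_of_card_eq N (by rw [hNM, this, h.card])

theorem card_eq (h : Small hα G a) [IsPretransitive G α] : Nat.card G = 660 := by
  classical
  haveI : Fact (Nat.Prime 11) := ⟨by norm_num⟩
  haveI : Fact (Nat.Prime 2) := ⟨Nat.prime_two⟩
  rcases card_even_mul G with e | e
  · rw [e, h.card]
  exfalso
  rw [h.card] at e
  have hGns : ¬ Group.IsSolvable G := fun hs => by
    haveI := hs
    exact h.not_solvable (Group.isSolvable_of_isSolvable_injective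
      (Subgroup.inclusion_injective (inf_le_left : even G ≤ G)))
  obtain ⟨n, -, hcK, hSK⟩ := h.setting.order_cases hGns
  have hn12 : n = 12 := by rw [h.card] at hcK; omega
  subst hn12
  have hP11 : ∀ P : Sylow 11 G, Nat.card (P : Subgroup G) = 11 := fun P => by
    simpa using sylow_card (p := 11) (k := 1) (m := 120) (by rw [e]; norm_num) (by norm_num) P
  have hPK : ∀ P : Sylow 11 (even G), Nat.card (P : Subgroup (even G)) = 11 := fun P => by
    simpa using sylow_card (p := 11) (k := 1) (m := 60) (by rw [h.card]; norm_num) (by norm_num) P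
  have hle : Nat.card {x : even G // orderOf x = 11} ≤ Nat.card {x : G // orderOf x = 11} :=
    Nat.card_le_card_of_injective
      (fun x => (⟨⟨x.1, x.1.2.1⟩, by rw [← Subgroup.orderOf_coe]; exact (Subgroup.orderOf_coe x.1).trans x.2⟩ :
        {x : G // orderOf x = 11}))
      (fun x y hxy => Subtype.ext (Subtype.ext
        (congrArg (fun z : {x : G // orderOf x = 11} => ((z.1 : G) : Perm α)) hxy)))
  rw [card_orderOf_eq_prime hPK, card_orderOf_eq_prime hP11, hSK] at hle
  have hn11 : Nat.card (Sylow 11 G) = 12 := by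
    have hlist : ∀ d ∈ Nat.divisors 120, d % 11 = 1 → d ∈ ({1, 12} : Finset ℕ) := by decide +kernel
    have hm := hlist _ (Nat.mem_divisors.2 ⟨sylow_count_dvd (G := G) (p := 11) (k := 1) (m := 120)
      (by rw [e]; norm_num) (by norm_num), by norm_num⟩) (sylow_count_mod 11)
    simp only [Finset.mem_insert, Finset.mem_singleton] at hm
    exact hm.resolve_left fun h1 => by rw [h1] at hle; omega
  let P : Sylow 11 G := default
  set N := (Subgroup.normalizer ((P : Subgroup G) : Set G)).map G.subtype with hN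
  have hN110 : Nat.card N = 110 := by
    rw [hN, Subgroup.card_map_of_injective G.subtype_injective]
    have h1 := Subgroup.card_mul_index (Subgroup.normalizer ((P : Subgroup G) : Set G))
    have h2 := Sylow.card_eq_index_normalizer P
    rw [hn11, ← P.coe_coe] at h2
    rw [← h2, e] at h1
    omega
  have hA : Nat.card (stab N a) = 10 := by
    have := card_stab hα N (hN110 ▸ (by norm_num : 11 ∣ 110)) a
    omega
  obtain ⟨x, hx⟩ := exists_prime_orderOf_dvd_card' 11 (G := (P : Subgroup G)) (by rw [hP11])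
  have hx11 : orderOf ((x : G) : Perm α) = 11 := by rw [Subgroup.orderOf_coe, Subgroup.orderOf_coe, hx]
  haveI := transitive_of_dvd hα (Subgroup.zpowers ((x : G) : Perm α))
    (by rw [Nat.card_zpowers, hx11])
  have hgen : ∀ g ∈ N, ∃ i : ℤ, g * ((x : G) : Perm α) * g⁻¹ = ((x : G) : Perm α) ^ i := by
    rintro g ⟨g', hg', rfl⟩
    have hmem : g' * (x : G) * g'⁻¹ ∈ (P : Subgroup G) := (Subgroup.mem_normalizer_iff.1 hg' _).1 x.2
    have hz : Subgroup.zpowers (x : G) = (P : Subgroup G) :=
      Subgroup.eq_of_le_of_card_ge (Subgroup.zpowers_le.2 x.2)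
        (by rw [Nat.card_zpowers, Subgroup.orderOf_coe, hx, hP11])
    obtain ⟨i, hi⟩ := hz.ge hmem
    exact ⟨i, by simpa using (congrArg (fun z : G => (z : Perm α)) hi).symm⟩
  have hab : ∀ g ∈ stab N a, ∀ k ∈ stab N a, Commute g k := by
    intro g hg k hk
    obtain ⟨i, hi⟩ := hgen g hg.1
    obtain ⟨j, hj⟩ := hgen k hk.1
    set u := ((x : G) : Perm α) with hu
    have e1 : MulAut.conj (g * k) u = MulAut.conj (k * g) u := by
      show (g * k) * u * (g * k)⁻¹ = (k * g) * u * (k * g)⁻¹
      calc (g * k) * u * (g * k)⁻¹ = MulAut.conj g (k * u * k⁻¹) := by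
            show _ = g * (k * u * k⁻¹) * g⁻¹
            group
        _ = u ^ (i * j) := by
            rw [hj, map_zpow, show MulAut.conj g u = u ^ i from hi, ← zpow_mul]
        _ = MulAut.conj k (g * u * g⁻¹) := by
            rw [hi, map_zpow, show MulAut.conj k u = u ^ j from hj, ← zpow_mul, mul_comm]
        _ = (k * g) * u * (k * g)⁻¹ := by
            show k * (g * u * g⁻¹) * k⁻¹ = _
            group
    set c := (k * g)⁻¹ * (g * k) with hc
    have hcu : Commute c u := by
      have e2 : (g * k) * u * (g * k)⁻¹ = (k * g) * u * (k * g)⁻¹ := e1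
      show c * u = u * c
      calc c * u = (k * g)⁻¹ * ((g * k) * u * (g * k)⁻¹) * (g * k) := by rw [hc]; group
        _ = u * c := by rw [e2, hc]; group
    have hca : c a = a := by
      have hcm : c ∈ stab N a :=
        (stab N a).mul_mem ((stab N a).inv_mem ((stab N a).mul_mem hk hg)) ((stab N a).mul_mem hg hk)
      exact hcm.2
    have hc1 : c = 1 := by
      ext v
      obtain ⟨⟨w, i', rfl⟩, hv⟩ := exists_smul_eq (Subgroup.zpowers u) a v
      show c v = v
      rw [← hv, Subgroup.smul_def, Equiv.Perm.smul_def]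
      show c ((u ^ i') a) = (u ^ i') a
      rw [← Equiv.Perm.mul_apply, (hcu.zpow_right i').eq, Equiv.Perm.mul_apply, hca]
    exact (inv_mul_eq_one.1 hc1).symm
  obtain ⟨y, hy⟩ := exists_prime_orderOf_dvd_card' 5 (G := stab N a) (by rw [hA]; norm_num)
  obtain ⟨τ, hτ⟩ := exists_prime_orderOf_dvd_card' 2 (G := stab N a) (by rw [hA]; norm_num)
  have hNG : N ≤ G := by rw [hN]; exact Subgroup.map_subtype_le _
  set y' : Perm α := (y : Perm α) with hy'
  set τ' : Perm α := (τ : Perm α) with hτ'
  have hyτ : Commute τ' y' := hab _ τ.2 _ y.2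
  have hy5 : orderOf y' = 5 := by rw [hy', Subgroup.orderOf_coe, hy]
  have hτ2 : orderOf τ' = 2 := by rw [hτ', Subgroup.orderOf_coe, hτ]
  have hyK : y' ∈ even G := mem_even_of_odd (hNG y.2.1) (p := 5) (by decide) hy5
  have hfive := (h.setting.five_facts (inf_le_left : even G ≤ G) inf_le_right hyK hy5).2
  have hτK : τ' ∉ even G := fun hm => by
    obtain ⟨i, hi⟩ := hfive _ hm hyτ
    have := (Subgroup.zpowers y').orderOf_dvd_natCard (⟨i, hi⟩ : τ' ∈ Subgroup.zpowers y')
    rw [Nat.card_zpowers, hy5, hτ2] at this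
    norm_num at this
  set L := stab G a with hLdef
  have hL : Nat.card L = 120 := by
    have := card_stab hα G (by rw [e]; norm_num) a
    rw [e] at this
    show Nat.card (stab G a) = 120
    omega
  have hS5 : ∀ Q : Sylow 5 L, Nat.card (Q : Subgroup L) = 5 := fun Q => by
    simpa using sylow_card (p := 5) (k := 1) (m := 24) (by rw [hL]; norm_num) (by norm_num) Q
  have hn5 : Nat.card (Sylow 5 L) = 6 := by
    have hlist : ∀ d ∈ Nat.divisors 24, d % 5 = 1 → d ∈ ({1, 6} : Finset ℕ) := by decide +kernel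
    have hm := hlist _ (Nat.mem_divisors.2 ⟨sylow_count_dvd (G := L) (p := 5) (k := 1) (m := 24)
      (by rw [hL]; norm_num) (by norm_num), by norm_num⟩) (sylow_count_mod 5)
    simp only [Finset.mem_insert, Finset.mem_singleton] at hm
    refine hm.resolve_left fun h1 => ?_
    obtain ⟨-, h6, h5⟩ := h.setting.five_count a (n := 12) (by rw [h.card]) (Or.inl rfl)
    have hle := Nat.card_le_card_of_injective
      (fun x : {x : stab (even G) a // orderOf x = 5} =>
        (⟨⟨x.1, x.1.2.1.1, x.1.2.2⟩, by
          rw [← Subgroup.orderOf_coe]; exact (Subgroup.orderOf_coe x.1).trans x.2⟩ : {y : L // orderOf y = 5}))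
      (fun x y hxy => Subtype.ext (Subtype.ext
        (congrArg (fun z : {y : L // orderOf y = 5} => ((z.1 : L) : Perm α)) hxy)))
    rw [card_orderOf_eq_prime h5, card_orderOf_eq_prime hS5, h6, h1] at hle
    omega
  let yL : L := ⟨y', hNG y.2.1, y.2.2⟩
  let τL : L := ⟨τ', hNG τ.2.1, τ.2.2⟩
  have hyL5 : orderOf yL = 5 := by rw [← Subgroup.orderOf_coe]; exact hy5
  have hcL : Commute τL yL := Subtype.ext hyτ.eq
  obtain ⟨P0, hP0⟩ := (IsPGroup.of_card (p := 5) (n := 1) (G := Subgroup.zpowers yL)
    (by rw [Nat.card_zpowers, hyL5, pow_one])).exists_le_sylow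
  have hP0e : Subgroup.zpowers yL = (P0 : Subgroup L) :=
    Subgroup.eq_of_le_of_card_ge hP0 (by rw [Nat.card_zpowers, hyL5, hS5])
  have hyfix : ∀ Q : Sylow 5 L, yL • Q = Q → Q = P0 := by
    intro Q hQ
    have hm := Cfsg.Agent.Lib.SylowCounting.mem_sylow_of_orderOf Q
      (Sylow.smul_eq_iff_mem_normalizer.1 hQ) (k := 1) (by rw [hyL5, pow_one])
    refine Sylow.ext (Eq.trans ?_ hP0e)
    exact (Subgroup.eq_of_le_of_card_ge (Subgroup.zpowers_le.2 hm)
      (by rw [Nat.card_zpowers, hyL5, hS5])).symm
  have hτ0 : τL • P0 = P0 := by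
    rw [Sylow.smul_eq_iff_mem_normalizer]
    rw [← P0.coe_coe, ← hP0e, Subgroup.mem_normalizer_iff]
    intro v
    constructor
    · rintro ⟨i, rfl⟩
      exact ⟨i, by simpa [mul_assoc] using ((hcL.zpow_right i).eq ▸ (by group) :
        yL ^ i = τL * yL ^ i * τL⁻¹)⟩
    · rintro ⟨i, hi⟩
      refine ⟨i, ?_⟩
      have hc' := (hcL.zpow_right i).eq
      calc yL ^ i = τL⁻¹ * (τL * yL ^ i) := by group
        _ = τL⁻¹ * ((τL * v * τL⁻¹) * τL) := by rw [hc', ← hi]
        _ = v := by group
  have hτall : ∀ Q : Sylow 5 L, τL • Q = Q := by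
    intro Q
    by_cases hQ : Q = P0
    · rw [hQ, hτ0]
    have hne : ∀ i : Fin 5, yL ^ (i : ℕ) • Q ≠ P0 := fun i hi => by
      have h0 : ∀ m : ℕ, yL ^ m • P0 = P0 := fun m => by
        rw [Sylow.smul_eq_iff_mem_normalizer]
        exact Subgroup.le_normalizer (hP0e ▸ Subgroup.npow_mem_zpowers yL m)
      exact hQ (smul_left_cancel (yL ^ (i : ℕ)) (hi.trans (h0 _).symm))
    have hdvd : ∀ m : ℕ, yL ^ m • Q = Q → 5 ∣ m := by
      intro m hm
      by_contra h5
      obtain ⟨k, hk⟩ := exists_pow_eq_self_of_coprime (x := yL) (n := m) (by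
        rw [hyL5]; exact ((Nat.Prime.coprime_iff_not_dvd (by norm_num)).2 h5).symm)
      have : yL • Q = Q := by
        rw [← hk]
        exact Subgroup.pow_mem (stabilizer L Q) hm k
      exact hQ (hyfix Q this)
    let f : Fin 5 → {R : Sylow 5 L // R ≠ P0} := fun i => ⟨yL ^ (i : ℕ) • Q, hne i⟩
    have hf : Function.Injective f := by
      intro i j hij
      have e' : yL ^ (i : ℕ) • Q = yL ^ (j : ℕ) • Q := congrArg Subtype.val hij
      have key : ∀ p q : ℕ, p ≤ q → yL ^ p • Q = yL ^ q • Q → 5 ∣ q - p := fun p q hpq h' => by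
        apply hdvd
        refine smul_left_cancel (yL ^ p) ?_
        rw [← mul_smul, ← pow_add, Nat.add_sub_cancel' hpq, h']
      rcases le_total (i : ℕ) j with hij' | hij'
      · have := key _ _ hij' e'; exact Fin.ext (by omega)
      · have := key _ _ hij' e'.symm; exact Fin.ext (by omega)
    have hcard : Nat.card {R : Sylow 5 L // R ≠ P0} ≤ Nat.card (Fin 5) := by
      haveI := Fintype.ofFinite (Sylow 5 L)
      rw [Nat.card_eq_fintype_card, Fintype.card_subtype_compl, Fintype.card_subtype_eq,
        ← Nat.card_eq_fintype_card (α := Sylow 5 L), hn5, Nat.card_fin]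
    obtain ⟨i, hi⟩ := (hf.bijective_of_nat_card_le hcard).2
      ⟨τL • Q, fun h' => hQ (smul_left_cancel τL (h'.trans hτ0.symm))⟩
    have hi' : yL ^ (i : ℕ) • Q = τL • Q := congrArg Subtype.val hi
    have hτsq : τL * τL = 1 := by
      rw [← pow_two, ← orderOf_dvd_iff_pow_eq_one, ← Subgroup.orderOf_coe]
      exact hτ2.dvd
    have h2 : yL ^ (2 * (i : ℕ)) • Q = Q := by
      rw [two_mul, pow_add, mul_smul, hi', ← mul_smul, ← (hcL.pow_right _).eq, mul_smul, hi',
        ← mul_smul, hτsq, one_smul]
    have := hdvd _ h2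
    rw [← hi', show (i : ℕ) = 0 by omega, pow_zero, one_smul]
  have hker : ∀ g : L, (g : Perm α) ∈ even G → (∀ Q : Sylow 5 L, g • Q = Q) → g = 1 := by
    intro g hg hfix
    obtain ⟨Q, hQ⟩ : ∃ Q : Sylow 5 L, Q ≠ P0 := by
      haveI : Nontrivial (Sylow 5 L) := Finite.one_lt_card_iff_nontrivial.1 (by rw [hn5]; norm_num)
      exact exists_ne P0
    have hnot : ∀ m : L, m ∈ Subgroup.zpowers yL → (∀ R : Sylow 5 L, m • R = R) → m = 1 := by
      intro m hm hmf
      by_contra hm1
      have hmo : orderOf m = 5 := by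
        have hd := (Subgroup.zpowers yL).orderOf_dvd_natCard hm
        rw [Nat.card_zpowers, hyL5] at hd
        exact ((Nat.dvd_prime (by norm_num)).1 hd).resolve_left fun h' => hm1 (orderOf_eq_one_iff.1 h')
      have he : Subgroup.zpowers m = Subgroup.zpowers yL :=
        Subgroup.eq_of_le_of_card_ge (Subgroup.zpowers_le.2 hm)
          (by rw [Nat.card_zpowers, Nat.card_zpowers, hmo, hyL5])
      obtain ⟨i, hi⟩ := (he.symm ▸ Subgroup.mem_zpowers yL : yL ∈ Subgroup.zpowers m)
      refine hQ (hyfix Q ?_)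
      have hs : m ∈ stabilizer L Q := hmf Q
      have : yL ∈ stabilizer L Q := hi ▸ Subgroup.zpow_mem _ hs i
      exact this
    have hgn := Sylow.smul_eq_iff_mem_normalizer.1 (hfix P0)
    have hc : g * yL * g⁻¹ * yL⁻¹ = 1 := by
      refine hnot _ ?_ fun R => ?_
      · refine Subgroup.mul_mem _ ?_ (Subgroup.inv_mem _ (Subgroup.mem_zpowers _))
        rw [hP0e]
        exact (Subgroup.mem_normalizer_iff.1 hgn _).1 (hP0e ▸ Subgroup.mem_zpowers yL)
      · have h1 : g⁻¹ • (yL⁻¹ • R) = yL⁻¹ • R := inv_smul_eq_iff.2 (hfix _).symm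
        rw [mul_smul, mul_smul, mul_smul, h1, smul_inv_smul, hfix]
    have hcomm : Commute (g : Perm α) y' := by
      have := congrArg (fun z : L => (z : Perm α)) (mul_inv_eq_one.1 hc)
      exact mul_inv_eq_iff_eq_mul.1 this
    obtain ⟨i, hi⟩ := hfive _ hg hcomm
    exact hnot g ⟨i, Subtype.ext (by rw [Subgroup.coe_zpow]; exact hi)⟩ hfix
  have hcentral : ∀ k : L, Commute τL k := by
    intro k
    have h1 : τL * k * τL⁻¹ * k⁻¹ = 1 := by
      refine hker _ ?_ fun R => ?_
      · exact ⟨(τL * k * τL⁻¹ * k⁻¹).2.1, Equiv.Perm.mem_alternatingGroup.2 (by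
          simp only [Subgroup.coe_mul, Subgroup.coe_inv, map_mul, map_inv]
          rcases Int.units_eq_one_or (Equiv.Perm.sign (τL : Perm α)) with h' | h' <;>
            rcases Int.units_eq_one_or (Equiv.Perm.sign (k : Perm α)) with h'' | h'' <;>
            simp [h', h''])⟩
      · have h2 : τL⁻¹ • (k⁻¹ • R) = k⁻¹ • R := inv_smul_eq_iff.2 (hτall _).symm
        rw [mul_smul, mul_smul, mul_smul, h2, smul_inv_smul, hτall]
    exact mul_inv_eq_iff_eq_mul.1 (mul_inv_eq_one.1 h1)
  have hτ1 : τ' ≠ 1 := fun h' => by rw [h', orderOf_one] at hτ2; norm_num at hτ2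
  obtain ⟨c, hc⟩ : ∃ c, τ' c ≠ c := by
    by_contra h'
    push Not at h'
    exact hτ1 (Equiv.ext h')
  have hτa : τ' a = a := τ.2.2
  have hca : c ≠ a := fun h' => hc (by rw [h', hτa])
  obtain ⟨t0, ht0, b, hb, htb⟩ := h.exists_fixed
  haveI := h.two
  obtain ⟨g, hga, hgb⟩ := is_two_pretransitive_iff.1 h.two hb.symm hca.symm
  have hgL : (g : Perm α) ∈ stab (even G) a := ⟨g.2, hga⟩
  let g' : stab (even G) a := ⟨_, hgL⟩
  have hgb' : (g : Perm α) b = c := hgb
  have ht : orderOf (g' * t0 * g'⁻¹) = 3 := by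
    rw [← ht0]; exact (SemiconjBy.orderOf_eq g' (show g' * t0 = (g' * t0 * g'⁻¹) * g' by group)).symm
  have htc : ((g' * t0 * g'⁻¹ : stab (even G) a) : Perm α) c = c := by
    simp only [Subgroup.coe_mul, Subgroup.coe_inv, Equiv.Perm.mul_apply]
    rw [show ((g' : Perm α))⁻¹ c = b from Equiv.Perm.inv_eq_iff_eq.2 hgb'.symm, htb]
    exact hgb'
  refine hc (h.fixed_unique ht hca (fun h' => hca (τ'.injective (h'.trans hτa.symm))) htc ?_).symm
  set t := g' * t0 * g'⁻¹ with ht'
  have := congrArg (fun z : L => (z : Perm α) c) (hcentral ⟨(t : Perm α), t.2.1.1, t.2.2⟩).eq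
  simp only [Subgroup.coe_mul, Equiv.Perm.mul_apply] at this
  rw [show (t : Perm α) c = c from htc] at this
  exact this.symm

end Small

theorem Setting.large_card (h : Setting hα G) [IsPretransitive (even G) α]
    (hK : Nat.card (even G) = 7920) :
    Nat.card G = 7920 ∧ IsMultiplyPretransitive G α 4 ∧ ∀ x : Fin 4 ↪ α, stabilizer G x = ⊥ := by
  classical
  haveI hs : IsSimpleGroup (even G) := Cfsg.Agent.Lib.Design.isSimpleGroup_degree_eleven (α := α)
    (by rw [Nat.card_eq_fintype_card, hα]) hK
  have hX : Nat.card α = 11 := by rw [Nat.card_eq_fintype_card, hα]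
  have hsharp : ∀ {t : Fin 4 → α}, Function.Injective t → ∀ {g : Perm α}, g ∈ even G →
      (∀ j, g (t j) = t j) → g = 1 := fun {t} ht {g} hg hfix =>
    congrArg Subtype.val (Order7920.sharp (G := even G) hK hX ht (g := ⟨g, hg⟩) hfix)
  have hmap : ∀ {t t' : Fin 4 → α}, Function.Injective t → Function.Injective t' →
      ∃ g ∈ even G, ∀ j, g (t j) = t' j := fun {t t'} ht ht' => by
    obtain ⟨g, hg⟩ := Order7920.exists_map (G := even G) hK hX ht ht'
    exact ⟨g, g.2, hg⟩
  haveI h4 : IsMultiplyPretransitive G α 4 := ⟨fun t t' => by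
    obtain ⟨g, hg, hgt⟩ := hmap t.injective t'.injective
    exact ⟨⟨g, hg.1⟩, Function.Embedding.ext fun j => hgt j⟩⟩
  haveI : IsPretransitive G (Fin 4 ↪ α) := h4
  rcases card_even_mul G with e | e
  · rw [hK] at e
    refine ⟨e, h4, fun x => ?_⟩
    rw [Subgroup.eq_bot_iff_forall]
    intro g hg
    have hgK : (g : Perm α) ∈ even G := by
      have : even G = G := Subgroup.eq_of_le_of_card_ge inf_le_left (by rw [e, hK])
      rw [this]; exact g.2
    exact Subtype.ext (hsharp x.injective hgK fun j => DFunLike.congr_fun hg j)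
  exfalso
  rw [hK] at e
  have hcount : ∀ t : Fin 4 ↪ α, Nat.card (stabilizer G t) = 2 := by
    intro t
    have h1 := (stabilizer G t).card_mul_index
    have hidx : (stabilizer G t).index = Nat.card (Fin 4 ↪ α) := by rw [index_stabilizer, @MulAction.orbit_eq_univ _ _ _ _ h4 t, Set.ncard_univ]
    have hc : Nat.card (Fin 4 ↪ α) = 7920 := by
      rw [Nat.card_eq_fintype_card, Fintype.card_embedding_eq, hα, Fintype.card_fin]; rfl
    rw [hidx, hc, e] at h1
    omega
  have huniq : ∀ t : Fin 4 ↪ α, ∀ {g k : Perm α}, g ∈ G → k ∈ G → g ≠ 1 → k ≠ 1 →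
      (∀ j, g (t j) = t j) → (∀ j, k (t j) = t j) → g = k := by
    intro t g k hg hk hg1 hk1 hgf hkf
    let g' : stabilizer G t := ⟨⟨g, hg⟩, Function.Embedding.ext fun j => hgf j⟩
    let k' : stabilizer G t := ⟨⟨k, hk⟩, Function.Embedding.ext fun j => hkf j⟩
    by_contra hne
    haveI := Fintype.ofFinite (stabilizer G t)
    have h3 : ({1, g', k'} : Finset (stabilizer G t)).card = 3 := by
      rw [Finset.card_eq_three]
      refine ⟨1, g', k', ?_, ?_, ?_, rfl⟩
      · exact fun h' => hg1 (congrArg (fun z : stabilizer G t => ((z : G) : Perm α)) h').symm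
      · exact fun h' => hk1 (congrArg (fun z : stabilizer G t => ((z : G) : Perm α)) h').symm
      · exact fun h' => hne (congrArg (fun z : stabilizer G t => ((z : G) : Perm α)) h')
    have := h3 ▸ Finset.card_le_univ ({1, g', k'} : Finset (stabilizer G t))
    rw [← Nat.card_eq_fintype_card, hcount] at this
    omega
  obtain ⟨t0⟩ : Nonempty (Fin 4 ↪ α) :=
    Function.Embedding.nonempty_of_card_le (by rw [Fintype.card_fin, hα]; norm_num)
  haveI : Fact (Nat.Prime 2) := ⟨Nat.prime_two⟩
  obtain ⟨u0, hu0⟩ := exists_prime_orderOf_dvd_card' 2 (G := stabilizer G t0) (by rw [hcount])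
  set u : Perm α := ((u0 : G) : Perm α) with hu
  have hu2 : orderOf u = 2 := by rw [hu, Subgroup.orderOf_coe, Subgroup.orderOf_coe, hu0]
  have huG : u ∈ G := (u0 : G).2
  have hu1 : u ≠ 1 := fun h' => by rw [h', orderOf_one] at hu2; norm_num at hu2
  have hufix : ∀ j, u (t0 j) = t0 j := fun j => DFunLike.congr_fun u0.2 j
  have huK : u ∉ even G := fun h' => hu1 (hsharp t0.injective h' hufix)
  obtain ⟨m, hm⟩ := Equiv.Perm.cycleType_prime_order (σ := u) (by rw [hu2]; norm_num)
  rw [hu2] at hm
  have hsum : u.support.card = 2 * (m + 1) := by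
    rw [← Equiv.Perm.sum_cycleType, hm, Multiset.sum_replicate, smul_eq_mul, mul_comm]
  have hsupp7 : u.support.card ≤ 7 := by
    have hsub : u.support ⊆ (Finset.univ.map t0)ᶜ := fun v hv => by
      simp only [Finset.mem_compl, Finset.mem_map, Finset.mem_univ, true_and]
      rintro ⟨j, rfl⟩
      exact Equiv.Perm.mem_support.1 hv (hufix j)
    have := Finset.card_le_card hsub
    rw [Finset.card_compl, Finset.card_map, Finset.card_univ, Fintype.card_fin, hα] at this
    omega
  have hm2 : m = 2 := by
    have hm3 : m ≤ 2 := by omega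
    interval_cases m
    · exfalso
      exact h.notAlt (Cfsg.Agent.Lib.Perm.SmallSupport.alternatingGroup_le_of_support G h.prim h4
        (by omega) huG hu1 (by omega) (by omega))
    · exfalso
      apply huK
      refine ⟨huG, Equiv.Perm.mem_alternatingGroup.2 ?_⟩
      rw [Equiv.Perm.sign_of_cycleType, hm]
      rfl
    · rfl
  subst hm2
  have hfix5 : Fintype.card {v : α // u v = v} = 5 := by
    rw [Fintype.card_subtype,
      show (Finset.univ.filter fun v => u v = v) = u.supportᶜ by ext v; simp,
      Finset.card_compl, hsum, hα]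
  let eB : Fin 5 ≃ {v : α // u v = v} := (Fintype.equivFinOfCardEq hfix5).symm
  let B : Fin 5 → α := fun i => (eB i).1
  have hB : Function.Injective B := fun i j h' => eB.injective (Subtype.ext h')
  have hBall : ∀ v, u v = v → ∃ i, B i = v := fun v hv => ⟨eB.symm ⟨v, hv⟩, by simp [B]⟩
  obtain ⟨k, hk, hkB⟩ := hmap (t := fun j : Fin 4 => B j.castSucc) (t' := fun j : Fin 4 => B j.succ)
    (hB.comp (Fin.castSucc_injective 4)) (hB.comp (Fin.succ_injective 4))
  have hku : k * u * k⁻¹ = u := by
    refine huniq ⟨fun j : Fin 4 => B j.succ, hB.comp (Fin.succ_injective 4)⟩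
      (G.mul_mem (G.mul_mem hk.1 huG) (G.inv_mem hk.1)) huG (fun h' => hu1 (by
        calc u = k⁻¹ * (k * u * k⁻¹) * k := by group
          _ = 1 := by rw [h']; group)) hu1 (fun j => ?_) (fun j => (eB j.succ).2)
    show (k * u * k⁻¹) (B j.succ) = B j.succ
    rw [Equiv.Perm.mul_apply, Equiv.Perm.mul_apply, Equiv.Perm.inv_eq_iff_eq.2 (hkB j).symm,
      show u (B j.castSucc) = B j.castSucc from (eB j.castSucc).2, hkB j]
  have hcomm : Commute k u := mul_inv_eq_iff_eq_mul.1 hku
  have hu4 : u (k (B 4)) = k (B 4) := by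
    have := DFunLike.congr_fun hcomm.eq (B 4)
    rw [Equiv.Perm.mul_apply, Equiv.Perm.mul_apply, show u (B 4) = B 4 from (eB 4).2] at this
    exact this.symm
  have hk4 : k (B 4) = B 0 := by
    obtain ⟨i, hi⟩ := hBall _ hu4
    rw [← hi]
    rcases Fin.eq_zero_or_eq_succ i with rfl | ⟨j, rfl⟩
    · rfl
    · exfalso
      have h' := k.injective ((hkB j).trans hi)
      exact absurd (hB h') (Fin.castSucc_lt_last j).ne
  have hkall : ∀ i : Fin 5, k (B i) = B (i + 1) := by
    have h0 := hkB 0; have h1 := hkB 1; have h2 := hkB 2; have h3 := hkB 3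
    intro i
    fin_cases i
    · exact h0
    · exact h1
    · exact h2
    · exact h3
    · exact hk4
  have hk5 : ∀ i : Fin 5, (k ^ 5) (B i) = B i := by
    intro i
    simp only [pow_succ, pow_zero, one_mul, Equiv.Perm.mul_apply, hkall]
    congr 1
    revert i; decide
  have hkpow : k ^ 5 = 1 :=
    hsharp (t := fun j : Fin 4 => B j.castSucc) (hB.comp (Fin.castSucc_injective 4))
      ((even G).pow_mem hk 5) fun j => hk5 _
  have hk1 : k ≠ 1 := fun h' => by
    have h0 := hkall 0
    rw [h', Equiv.Perm.one_apply] at h0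
    exact absurd (hB h0) (by decide)
  haveI : Fact (Nat.Prime 5) := ⟨by norm_num⟩
  have hko : orderOf k = 5 := orderOf_eq_prime hkpow hk1
  obtain ⟨q, hq⟩ : ∃ q, k q = q := by
    have hmod := Equiv.Perm.card_compl_support_modEq (p := 5) (n := 1) (σ := k)
      (by rw [pow_one]; exact hkpow)
    rw [hα] at hmod
    have hne : k.supportᶜ.card ≠ 0 := fun h0 => by rw [h0] at hmod; exact absurd hmod (by decide)
    obtain ⟨q, hq⟩ := Finset.card_ne_zero.1 hne
    exact ⟨q, by simpa using hq⟩
  have huq : k (u q) = u q := by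
    have := DFunLike.congr_fun hcomm.eq q
    rw [Equiv.Perm.mul_apply, Equiv.Perm.mul_apply, hq] at this
    exact this
  obtain ⟨i, hi⟩ := hBall q ((h.five_facts (inf_le_left : even G ≤ G) inf_le_right hk hko).1 _ _ huq hq)
  rw [← hi, hkall] at hq
  exact absurd (hB hq) (by simp)

end Cfsg.Agent.Lib.Characters.DegreeEleven
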