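import Cfsg.Agent.Lib.Characters.DegreeDichotomy
import Cfsg.Agent.Lib.BlockHeights.CharTools
import Cfsg.Prelude.Def_DegreeGraph

/-!
# Degrees over the minimal non-abelian quotients
-/

namespace Cfsg.Agent.Lib.Characters

open scoped ComplexConjugate
open Cfsg.Agent.Lib.BlockHeights

set_option linter.unusedSectionVars false
set_option linter.style.haveILetI false

universe u

theorem eq_zero_of_apply_one {G : Type u} [Group G] [Finite G] {χ : G → ℂ} (h : IsCharacter G χ)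
    (h1 : χ 1 = 0) : χ = 0 := by
  obtain ⟨n, ρ, rfl⟩ := h
  funext g
  have h2 := norm_char_le ρ g
  rw [ρ.char_one, Nat.cast_eq_zero] at h1
  rw [h1, Nat.cast_zero] at h2
  exact norm_le_zero_iff.mp h2

theorem restrict_irr_of_degree {G : Type u} [Group G] [Fintype G] (N : Subgroup G) [Fintype N]
    {χ : G → ℂ} (hχ : IsCharacter G χ) {θ : N → ℂ} (hθ : IsIrrCharacter N θ)
    (hc : classInner (fun n : N => χ n) θ ≠ 0) (h1 : χ 1 = θ 1) : (fun n : N => χ n) = θ := by
  obtain ⟨R, hR, heq⟩ := IsCharacter.exists_add_of_classInner_ne_zero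
    (IsCharacter.restrict hχ N) hθ hc
  have hR1 : R 1 = 0 := by
    have h := congrFun heq 1
    simp only [OneMemClass.coe_one, Pi.add_apply, h1] at h
    exact left_eq_add.mp h
  rw [heq, eq_zero_of_apply_one hR hR1, add_zero]

variable {G : Type u} [Group G] [Fintype G]

/-- Gallagher's product with a character of the quotient. -/
theorem isIrr_mul_of_restrict (N : Subgroup G) [N.Normal] [Fintype N] {χ : G → ℂ}
    (hχ : IsIrrCharacter G χ) (hχN : IsIrrCharacter N (fun n : N => χ n)) {β : G → ℂ}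
    (hβ : IsIrrCharacter G β) (hβc : ∀ (n : N) (g : G), β ((n : G) * g) = β g) :
    IsIrrCharacter G (β * χ) := by
  refine (IsCharacter.isIrr_iff (IsCharacter.mul (IsIrrCharacter.isCharacter hβ)
    (IsIrrCharacter.isCharacter hχ))).mpr ?_
  have h1 := classInner_avgN_of_const N (χ * fun g => conj (χ g))
    (φ := fun g => β g * conj (β g)) fun n g => by simp only [hβc]
  rw [avgN_mul_conj_self N hχ hχN] at h1
  rw [← IsIrrCharacter.classInner_self hβ]
  simp only [classInner, Pi.mul_apply, map_mul, Complex.conj_conj, one_mul] at h1 ⊢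
  rw [Finset.sum_congr rfl fun g _ => mul_comm ((conj : ℂ →+* ℂ) (β g)) _] at h1
  rw [h1]
  congr 1
  exact Finset.sum_congr rfl fun g _ => by ring

/-- The degree of a `p`-quotient multiplies the degrees prime to `p`. -/
theorem exists_mul_degree_of_pQuotient (N : Subgroup G) [N.Normal] {p : ℕ} (hp : p.Prime)
    (hq : IsPGroup p (G ⧸ N)) {η : G ⧸ N → ℂ} (hη : IsIrrCharacter (G ⧸ N) η)
    (χ : IrrCharacter G) (hpd : ¬ p ∣ charDegree (χ : G → ℂ)) :
    ∃ ψ : IrrCharacter G, charDegree (ψ : G → ℂ) = charDegree η * charDegree (χ : G → ℂ) := by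
  classical
  haveI := Fact.mk hp
  haveI := Fintype.ofFinite N
  haveI := Fintype.ofFinite (G ⧸ N)
  obtain ⟨θ, hθ⟩ := IsCharacter.exists_constituent (IsCharacter.restrict (irr_isCharacter χ) N)
    (fun h => IsIrrCharacter.apply_one_ne_zero χ.2 (by simpa using congrFun h 1))
  obtain ⟨e, he, hedvd⟩ := degree_ratio_dvd_index N χ.2 θ.2 hθ
  obtain ⟨k, hk⟩ := hq.exists_card_eq
  rw [Subgroup.index_eq_card, hk] at hedvd
  obtain ⟨d, -, hd⟩ := IsIrrCharacter.exists_apply_one θ.2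
  rw [apply_one_eq_charDegree (irr_isCharacter χ), hd] at he
  have he' : charDegree (χ : G → ℂ) = e * d := by exact_mod_cast he
  have he1 : e = 1 := by
    obtain ⟨i, -, rfl⟩ := (Nat.dvd_prime_pow hp).mp hedvd
    rcases Nat.eq_zero_or_pos i with rfl | hi
    · exact pow_zero p
    · exact absurd ((dvd_pow_self p hi.ne').trans (Dvd.intro d he'.symm)) hpd
  have hres : (fun n : N => (χ : G → ℂ) n) = (θ : N → ℂ) := by
    refine restrict_irr_of_degree N (irr_isCharacter χ) θ.2 hθ ?_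
    rw [apply_one_eq_charDegree (irr_isCharacter χ), he', he1, one_mul, hd]
  have hprod := isIrr_mul_of_restrict N χ.2 (hres ▸ θ.2)
    (IsIrrCharacter.comp_surjective hη (QuotientGroup.mk' N) (QuotientGroup.mk'_surjective N))
    (fun n g => by
      show η (QuotientGroup.mk' N ((n : G) * g)) = η (QuotientGroup.mk' N g)
      rw [map_mul, show QuotientGroup.mk' N (n : G) = 1 from (QuotientGroup.eq_one_iff _).mpr n.2,
        one_mul])
  refine ⟨⟨_, hprod⟩, charDegree_of_apply_one ?_⟩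
  show η (QuotientGroup.mk' N 1) * (χ : G → ℂ) 1 = _
  rw [map_one, Nat.cast_mul, ← apply_one_eq_charDegree (irr_isCharacter χ),
    ← apply_one_eq_charDegree (IsIrrCharacter.isCharacter hη)]

/-- Isaacs 12.4: over a Frobenius quotient a kernel character induces or is `q`-divisible. -/
theorem FrobQuot.dvd_or_exists {N K : Subgroup G} {q : ℕ} (h : FrobQuot N K q) [Fintype K]
    (ψ : IrrCharacter K) :
    q ∣ charDegree (ψ : K → ℂ) ∨
      ∃ χ : IrrCharacter G, charDegree (χ : G → ℂ) = K.index * charDegree (ψ : K → ℂ) := by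
  classical
  haveI := h.normalN
  haveI := h.normalK
  rcases em (q ∣ charDegree (ψ : K → ℂ)) with hqd | hqd
  · exact Or.inl hqd
  refine Or.inr ?_
  have hψd : (ψ : K → ℂ) 1 = (charDegree (ψ : K → ℂ) : ℂ) :=
    apply_one_eq_charDegree (irr_isCharacter ψ)
  have hdeg : ∀ φ : K → ℂ, IsIrrCharacter K φ → φ 1 = (ψ : K → ℂ) 1 →
      (∀ g : G, conjFun K g φ = φ → g ∈ K) →
      ∃ χ : IrrCharacter G, charDegree (χ : G → ℂ) = K.index * charDegree (ψ : K → ℂ) :=
    fun φ hφ hφ1 hfix => ⟨⟨_, isIrrCharacter_indFun_of_inertia K hφ hfix⟩, charDegree_of_apply_one (by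
      show indFun K φ 1 = _
      rw [indFun_one, hφ1, hψd, Nat.cast_mul])⟩
  by_cases hI : ∀ g : G, conjFun K g (ψ : K → ℂ) = (ψ : K → ℂ) → g ∈ K
  · exact hdeg _ ψ.2 rfl hI
  push Not at hI
  obtain ⟨t, htψ, htK⟩ := hI
  set NK := N.subgroupOf K with hNK
  haveI := Fintype.ofFinite NK
  obtain ⟨θ, hθ⟩ := IsCharacter.exists_constituent (IsCharacter.restrict (irr_isCharacter ψ) NK)
    (fun h' => IsIrrCharacter.apply_one_ne_zero ψ.2 (by simpa using congrFun h' 1))
  obtain ⟨e, he, hedvd⟩ := degree_ratio_dvd_index NK ψ.2 θ.2 hθ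
  obtain ⟨d, -, hd⟩ := IsIrrCharacter.exists_apply_one θ.2
  obtain ⟨k, hk⟩ := h.qGroup
  have he' : charDegree (ψ : K → ℂ) = e * d := by
    rw [hψd, hd] at he
    exact_mod_cast he
  have he1 : e = 1 := by
    have hedvd' : e ∣ q ^ k := hk ▸ hedvd
    obtain ⟨i, -, rfl⟩ := (Nat.dvd_prime_pow h.prime).mp hedvd'
    rcases Nat.eq_zero_or_pos i with rfl | hi
    · exact pow_zero q
    · exact absurd ((dvd_pow_self q hi.ne').trans (Dvd.intro d he'.symm)) hqd
  have hres : (fun n : NK => (ψ : K → ℂ) n) = (θ : NK → ℂ) := by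
    refine restrict_irr_of_degree NK (irr_isCharacter ψ) θ.2 hθ ?_
    rw [hψd, he', he1, one_mul, hd]
  have hψN : IsIrrCharacter NK (fun n : NK => (ψ : K → ℂ) n) := hres ▸ θ.2
  -- linear characters fixed by an element outside `K` are trivial
  have hfixlin : ∀ s : G, s ∉ K → ∀ μ : K →* ℂˣ, (∀ n : NK, μ n = 1) →
      conjFun K s (fun x : K => ((μ x : ℂˣ) : ℂ)) = (fun x : K => ((μ x : ℂˣ) : ℂ)) →
      μ = 1 := by
    intro s hs μ hμN hfix
    have hfix' : ∀ x : K, μ (MulAut.conjNormal s x) = μ x := fun x =>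
      Units.ext (congrFun (show (fun x : K => ((μ x : ℂˣ) : ℂ)) ∘ (MulAut.conjNormal s : MulAut K) = _
        from (conjFun_eq_comp K s _).symm.trans hfix) x)
    let φ : K ⧸ NK → K ⧸ NK := fun x => Quotient.liftOn' x
      (fun y => ((MulAut.conjNormal s y * y⁻¹ : K) : K ⧸ NK)) fun a b hab => by
        rw [QuotientGroup.leftRel_apply] at hab
        have hab' : (a : G)⁻¹ * b ∈ N := hab
        refine QuotientGroup.eq.mpr ?_
        show ((MulAut.conjNormal s a * a⁻¹ : K) : G)⁻¹ * (MulAut.conjNormal s b * b⁻¹ : K) ∈ N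
        simp only [Subgroup.coe_mul, Subgroup.coe_inv, MulAut.conjNormal_apply]
        rw [show (s * (a : G) * s⁻¹ * (a : G)⁻¹)⁻¹ * (s * (b : G) * s⁻¹ * (b : G)⁻¹) =
          (a : G) * (s * ((a : G)⁻¹ * b) * s⁻¹) * (a : G)⁻¹ * ((a : G) * ((a : G)⁻¹ * b)⁻¹ * (a : G)⁻¹)
          by group]
        exact N.mul_mem (h.normalN.conj_mem _ (h.normalN.conj_mem _ hab' s) _)
          (h.normalN.conj_mem _ (N.inv_mem hab') _)
    have hcommK : ∀ a b : K ⧸ NK, a * b = b * a := by
      intro a b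
      obtain ⟨a, rfl⟩ := QuotientGroup.mk_surjective a
      obtain ⟨b, rfl⟩ := QuotientGroup.mk_surjective b
      refine QuotientGroup.eq.mpr ?_
      show ((a * b : K) : G)⁻¹ * ((b * a : K) : G) ∈ N
      simp only [Subgroup.coe_mul]
      have := h.commLeN _ (K.inv_mem b.2) _ (K.inv_mem a.2)
      simpa [mul_assoc] using this
    have hφinj : Function.Injective φ := by
      intro a b hab
      obtain ⟨a, rfl⟩ := QuotientGroup.mk_surjective a
      obtain ⟨b, rfl⟩ := QuotientGroup.mk_surjective b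
      change ((MulAut.conjNormal s a * a⁻¹ : K) : K ⧸ NK) = _ at hab
      have hab' : (MulAut.conjNormal s (a⁻¹ * b) * (a⁻¹ * b)⁻¹ : K) ∈ NK := by
        rw [← QuotientGroup.eq_one_iff]
        have hab2 : ((MulAut.conjNormal s a * a⁻¹ : K) : K ⧸ NK) =
            ((MulAut.conjNormal s b * b⁻¹ : K) : K ⧸ NK) := hab
        simp only [QuotientGroup.mk_mul, QuotientGroup.mk_inv, map_mul, map_inv, mul_inv_rev,
          inv_inv] at hab2 ⊢
        set A := ((MulAut.conjNormal s a : K) : K ⧸ NK)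
        set B := ((MulAut.conjNormal s b : K) : K ⧸ NK)
        rw [hcommK (b : K ⧸ NK)⁻¹ (a : K ⧸ NK), mul_assoc A⁻¹ B, hcommK (a : K ⧸ NK) (b : K ⧸ NK)⁻¹,
          ← mul_assoc B, ← hab2, mul_assoc A, inv_mul_cancel, mul_one, inv_mul_cancel]
      refine QuotientGroup.eq.mpr ?_
      refine h.fpf s hs _ (K.mul_mem (K.inv_mem a.2) b.2) ?_
      have h3 : ((MulAut.conjNormal s (a⁻¹ * b) * (a⁻¹ * b)⁻¹ : K) : G) ∈ N := hab'
      simp only [Subgroup.coe_mul, Subgroup.coe_inv, MulAut.conjNormal_apply] at h3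
      exact h3
    refine MonoidHom.ext fun x => ?_
    obtain ⟨y, hy⟩ := Finite.injective_iff_surjective.mp hφinj (x : K ⧸ NK)
    obtain ⟨y, rfl⟩ := QuotientGroup.mk_surjective y
    have h1 : (MulAut.conjNormal s y * y⁻¹)⁻¹ * x ∈ NK := QuotientGroup.eq.mp hy
    have h2 := hμN ⟨_, h1⟩
    simp only [map_mul, map_inv, hfix', mul_inv_cancel, inv_one, one_mul] at h2
    exact h2
  -- a non-trivial linear character of `K/N`
  haveI : Fintype (K ⧸ NK) := Fintype.ofFinite _
  letI : CommGroup (K ⧸ NK) :=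
    { (inferInstance : Group (K ⧸ NK)) with
      mul_comm := fun a b => by
        obtain ⟨a, rfl⟩ := QuotientGroup.mk_surjective a
        obtain ⟨b, rfl⟩ := QuotientGroup.mk_surjective b
        refine QuotientGroup.eq.mpr ?_
        show ((a * b : K) : G)⁻¹ * ((b * a : K) : G) ∈ N
        simp only [Subgroup.coe_mul]
        have := h.commLeN _ (K.inv_mem b.2) _ (K.inv_mem a.2)
        simpa [mul_assoc] using this }
  obtain ⟨x₀, hx₀K, hx₀N⟩ := SetLike.exists_of_lt (lt_of_le_of_ne h.le h.neK)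
  haveI : NeZero (Monoid.exponent (K ⧸ NK)) := ⟨Monoid.exponent_ne_zero_of_finite⟩
  obtain ⟨lam₀, hlam₀⟩ := CommGroup.exists_apply_ne_one_of_hasEnoughRootsOfUnity (K ⧸ NK) ℂ
    (a := ((⟨x₀, hx₀K⟩ : K) : K ⧸ NK)) fun h1 => hx₀N (show (⟨x₀, hx₀K⟩ : K) ∈ NK from (QuotientGroup.eq_one_iff _).mp h1)
  set lam : K →* ℂˣ := lam₀.comp (QuotientGroup.mk' NK) with hlam
  have hlamN : ∀ n : NK, lam n = 1 := fun n => by
    rw [hlam, MonoidHom.comp_apply, show QuotientGroup.mk' NK (n : K) = 1 from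
      (QuotientGroup.eq_one_iff _).mpr n.2, map_one]
  have hlam1 : lam ≠ 1 := fun h1 => hlam₀ (by
    simpa [hlam] using DFunLike.congr_fun h1 ⟨x₀, hx₀K⟩)
  -- distinct twists
  have htwist : ∀ μ ν : K →* ℂˣ, (∀ n : NK, μ n = 1) → (∀ n : NK, ν n = 1) →
      (∀ x : K, ((μ x : ℂˣ) : ℂ) * (ψ : K → ℂ) x = ((ν x : ℂˣ) : ℂ) * (ψ : K → ℂ) x) → μ = ν := by
    intro μ ν hμ hν heq
    refine MonoidHom.ext fun x => Units.ext ?_
    by_contra hne
    have h1 := congrFun (avgN_mul_conj_self NK ψ.2 hψN) x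
    simp only [Characters.avgN, Pi.mul_apply] at h1
    rw [Finset.sum_eq_zero, mul_zero] at h1
    · exact zero_ne_one h1
    · intro n _
      have h2 := heq ((n : K) * x)
      rw [map_mul, map_mul, hμ n, hν n, one_mul, one_mul] at h2
      rw [(mul_eq_mul_right_iff.mp h2).resolve_left hne, zero_mul]
  refine hdeg (fun x => ((lam x : ℂˣ) : ℂ) * (ψ : K → ℂ) x) (isIrrCharacter_twist lam ψ.2)
    (by simp) fun s hs => ?_
  by_contra hsK
  -- `s` fixes `θ`, so it moves `ψ` by a linear character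
  have hsψN : ∀ n : NK, conjFun K s (ψ : K → ℂ) n = (ψ : K → ℂ) n := by
    intro n
    have h1 := congrFun hs (n : K)
    rw [conjFun_eq_comp] at h1 ⊢
    simp only [Function.comp_apply] at h1 ⊢
    have hn' : ((MulAut.conjNormal s : MulAut K) (n : K)) ∈ NK := by
      show (((MulAut.conjNormal s : MulAut K) (n : K)) : G) ∈ N
      rw [MulAut.conjNormal_apply]
      exact h.normalN.conj_mem _ n.2 s
    rw [hlamN n, hlamN ⟨_, hn'⟩, Units.val_one, one_mul, one_mul] at h1
    exact h1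
  obtain ⟨μ, hμN, hμ⟩ := exists_linear_mul_of_restrict_eq (irr_isCharacter ψ)
    (IsCharacter.conjFun K (irr_isCharacter ψ) s) hψN hsψN
  have hμfix : conjFun K t (fun x : K => ((μ x : ℂˣ) : ℂ)) = (fun x : K => ((μ x : ℂˣ) : ℂ)) := by
    have hst : conjFun K (s * t) (ψ : K → ℂ) = conjFun K (t * s) (ψ : K → ℂ) := by
      have hk : s * t * s⁻¹ * t⁻¹ ∈ K := h.commLeK (by
        rw [commutator_def]
        exact Subgroup.commutator_mem_commutator (Subgroup.mem_top s) (Subgroup.mem_top t))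
      rw [show s * t = (s * t * s⁻¹ * t⁻¹) * (t * s) by group, conjFun_mul,
        conjFun_of_mem K (irr_isClassFunction ψ) hk]
    rw [conjFun_mul, conjFun_mul, htψ, hμ] at hst
    have hmul : conjFun K t (fun x : K => ((μ x : ℂˣ) : ℂ) * (ψ : K → ℂ) x) =
        fun x => ((μ (MulAut.conjNormal t x) : ℂˣ) : ℂ) * (ψ : K → ℂ) x := by
      funext x
      rw [conjFun_eq_comp, Function.comp_apply]
      congr 1
      conv_rhs => rw [← htψ, conjFun_eq_comp]
      rfl
    rw [hmul] at hst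
    have h1 := htwist (μ.comp (MulAut.conjNormal t : MulAut K).toMonoidHom) μ
      (fun n => hμN ⟨_, (by
        show (((MulAut.conjNormal t : MulAut K) (n : K)) : G) ∈ N
        rw [MulAut.conjNormal_apply]
        exact h.normalN.conj_mem _ n.2 t : _ ∈ NK)⟩)
      hμN (fun x => congrFun hst x)
    rw [conjFun_eq_comp]
    funext x
    exact congrArg Units.val (DFunLike.congr_fun h1 x)
  have hμ1 := hfixlin t htK μ hμN hμfix
  have hsψ : conjFun K s (ψ : K → ℂ) = (ψ : K → ℂ) := by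
    rw [hμ, hμ1]; simp
  refine hlam1 (hfixlin s hsK lam hlamN ?_)
  have h1 := htwist (lam.comp (MulAut.conjNormal s : MulAut K).toMonoidHom) lam
    (fun n => hlamN ⟨_, (by
      show (((MulAut.conjNormal s : MulAut K) (n : K)) : G) ∈ N
      rw [MulAut.conjNormal_apply]
      exact h.normalN.conj_mem _ n.2 s : _ ∈ NK)⟩)
    hlamN (fun x => by
      have h2 := congrFun hs x
      rw [conjFun_eq_comp] at h2
      simp only [Function.comp_apply] at h2
      rw [show (ψ : K → ℂ) ((MulAut.conjNormal s : MulAut K) x) = (ψ : K → ℂ) x from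
        congrFun ((conjFun_eq_comp K s (ψ : K → ℂ)).symm.trans hsψ) x] at h2
      exact h2)
  rw [conjFun_eq_comp]
  funext x
  exact congrArg Units.val (DFunLike.congr_fun h1 x)

omit [Fintype G] in
/-- The character degree graph of a solvable group has at most two components. -/
theorem card_components_le_two [Finite G] [Group.IsSolvable G] :
    Nat.card ((Cfsg.degreeGraph G).induce (Cfsg.degreePrimes G)).ConnectedComponent ≤ 2 := by
  classical
  haveI := Fintype.ofFinite G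
  set Γ := (Cfsg.degreeGraph G).induce (Cfsg.degreePrimes G) with hΓ
  -- two vertices dividing the same degree are in one component
  have hjoin : ∀ (a b : Cfsg.degreePrimes G), (∃ d ∈ Cfsg.charDegrees G, (a : ℕ) ∣ d ∧ (b : ℕ) ∣ d) →
      Γ.connectedComponentMk a = Γ.connectedComponentMk b := by
    rintro a b ⟨d, hd, ha, hb⟩
    by_cases hab : a = b
    · rw [hab]
    · have hne : (a : ℕ) ≠ (b : ℕ) := fun h => hab (Subtype.ext h)
      refine SimpleGraph.ConnectedComponent.sound (SimpleGraph.Adj.reachable ?_)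
      exact ⟨hne, a.2.1, b.2.1, d, hd,
        ((Nat.coprime_primes a.2.1 b.2.1).mpr hne).mul_dvd_of_dvd_of_dvd ha hb⟩
  have hlin : ∀ s : Cfsg.degreePrimes G, ¬ ∀ a b : G, a * b = b * a := by
    intro s hab
    obtain ⟨-, d, ⟨χ, rfl⟩, hd⟩ := s.2
    rw [charDegree_of_apply_one (n := 1) (by
      rw [Nat.cast_one]; exact IsIrrCharacter.apply_one_of_comm hab χ.2)] at hd
    exact s.2.1.one_lt.ne' (Nat.dvd_one.mp hd)
  rcases isEmpty_or_nonempty (Cfsg.degreePrimes G) with hV | ⟨⟨s₀⟩⟩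
  · haveI : IsEmpty Γ.ConnectedComponent := ⟨fun c => SimpleGraph.ConnectedComponent.ind
      (fun v => hV.false v) c⟩
    rw [Nat.card_of_isEmpty]; exact Nat.zero_le _
  have hna := hlin s₀
  suffices hkey : ∃ a b : Cfsg.degreePrimes G, ∀ s,
      Γ.connectedComponentMk s = Γ.connectedComponentMk a ∨
        Γ.connectedComponentMk s = Γ.connectedComponentMk b by
    obtain ⟨a, b, hab⟩ := hkey
    refine (Nat.card_le_card_of_surjective
      (fun x : Bool => if x then Γ.connectedComponentMk a else Γ.connectedComponentMk b) ?_).trans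
      (by simp)
    intro c
    obtain ⟨s, rfl⟩ := c.exists_rep
    rcases hab s with h | h
    · exact ⟨true, h.symm⟩
    · exact ⟨false, h.symm⟩
  rcases exists_degree_quotient hna with ⟨N, hNn, p, hp, hpG, hnab⟩ | ⟨N, K, q, hF⟩
  · haveI := hNn
    haveI := Fact.mk hp
    obtain ⟨η, hη⟩ : ∃ η : IrrCharacter (G ⧸ N), (η : G ⧸ N → ℂ) 1 ≠ 1 := by
      by_contra h
      push Not at h
      exact hnab (comm_iff_forall_irr_one.mpr h)
    obtain ⟨d, hd0, hd1, hddvd⟩ := IsIrrCharacter.exists_degree_dvd η.2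
    obtain ⟨k, hk⟩ := hpG.exists_card_eq
    obtain ⟨i, -, hi⟩ := (Nat.dvd_prime_pow hp).mp (hk ▸ hddvd)
    have hi0 : i ≠ 0 := fun h => hη (by rw [hd1, hi, h, pow_zero, Nat.cast_one])
    have hηdeg : charDegree (η : G ⧸ N → ℂ) = d := charDegree_of_apply_one hd1
    have hpV : p ∈ Cfsg.degreePrimes G :=
      ⟨hp, d, ⟨⟨_, IsIrrCharacter.comp_surjective η.2 (QuotientGroup.mk' N)
        (QuotientGroup.mk'_surjective N)⟩, charDegree_of_apply_one hd1⟩,
        hi ▸ dvd_pow_self p hi0⟩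
    refine ⟨⟨p, hpV⟩, ⟨p, hpV⟩, fun s => Or.inl ?_⟩
    obtain ⟨-, d', ⟨χ, rfl⟩, hd'⟩ := s.2
    by_cases hpd : p ∣ charDegree (χ : G → ℂ)
    · exact hjoin _ _ ⟨_, ⟨χ, rfl⟩, hd', hpd⟩
    · obtain ⟨φ, hφ⟩ := exists_mul_degree_of_pQuotient N hp hpG η.2 χ hpd
      exact hjoin _ _ ⟨_, ⟨φ, rfl⟩, hφ ▸ hd'.mul_left _,
        hφ ▸ (hηdeg.symm ▸ hi ▸ dvd_pow_self p hi0 : p ∣ charDegree (η : G ⧸ N → ℂ)).mul_right _⟩
  · haveI := hF.normalN
    haveI := hF.normalK
    haveI := Fintype.ofFinite K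
    set f := K.index with hf
    have hf1 : f ≠ 1 := fun h => hF.neTop (Subgroup.index_eq_one.mp h)
    obtain ⟨r, hr, hrf⟩ := Nat.exists_prime_and_dvd hf1
    obtain ⟨χ₀, hχ₀⟩ := (hF.dvd_or_exists (trivIrr K)).resolve_left (by
      rw [charDegree_trivIrr]; exact fun h => hF.prime.one_lt.ne' (Nat.dvd_one.mp h))
    rw [charDegree_trivIrr, mul_one] at hχ₀
    have hrV : r ∈ Cfsg.degreePrimes G := ⟨hr, f, ⟨χ₀, hχ₀⟩, hrf⟩
    by_cases hqV : q ∈ Cfsg.degreePrimes G
    · refine ⟨⟨r, hrV⟩, ⟨q, hqV⟩, fun s => ?_⟩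
      obtain ⟨-, d', ⟨χ, rfl⟩, hd'⟩ := s.2
      obtain ⟨ψ, hψ⟩ := IsCharacter.exists_constituent (IsCharacter.restrict (irr_isCharacter χ) K)
        (fun h => IsIrrCharacter.apply_one_ne_zero χ.2 (by simpa using congrFun h 1))
      obtain ⟨e, he, hedvd⟩ := degree_ratio_dvd_index K χ.2 ψ.2 hψ
      have he' : charDegree (χ : G → ℂ) = e * charDegree (ψ : K → ℂ) := by
        rw [apply_one_eq_charDegree (irr_isCharacter χ),
          apply_one_eq_charDegree (irr_isCharacter ψ)] at he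
        exact_mod_cast he
      rcases (s.2.1.dvd_mul).mp (he' ▸ hd') with hse | hsψ
      · exact Or.inl (hjoin _ _ ⟨f, ⟨χ₀, hχ₀⟩, hse.trans hedvd, hrf⟩)
      · rcases hF.dvd_or_exists ψ with hq | ⟨φ, hφ⟩
        · exact Or.inr (hjoin _ _ ⟨_, ⟨χ, rfl⟩, hd', he' ▸ hq.mul_left e⟩)
        · exact Or.inl (hjoin _ _ ⟨_, ⟨φ, rfl⟩, hφ ▸ hsψ.mul_left _, hφ ▸ hrf.mul_right _⟩)
    · refine ⟨⟨r, hrV⟩, ⟨r, hrV⟩, fun s => Or.inl ?_⟩
      obtain ⟨-, d', ⟨χ, rfl⟩, hd'⟩ := s.2
      obtain ⟨ψ, hψ⟩ := IsCharacter.exists_constituent (IsCharacter.restrict (irr_isCharacter χ) K)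
        (fun h => IsIrrCharacter.apply_one_ne_zero χ.2 (by simpa using congrFun h 1))
      obtain ⟨e, he, hedvd⟩ := degree_ratio_dvd_index K χ.2 ψ.2 hψ
      have he' : charDegree (χ : G → ℂ) = e * charDegree (ψ : K → ℂ) := by
        rw [apply_one_eq_charDegree (irr_isCharacter χ),
          apply_one_eq_charDegree (irr_isCharacter ψ)] at he
        exact_mod_cast he
      rcases (s.2.1.dvd_mul).mp (he' ▸ hd') with hse | hsψ
      · exact hjoin _ _ ⟨f, ⟨χ₀, hχ₀⟩, hse.trans hedvd, hrf⟩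
      · rcases hF.dvd_or_exists ψ with hq | ⟨φ, hφ⟩
        · exact absurd ⟨hF.prime, _, ⟨χ, rfl⟩, he' ▸ hq.mul_left e⟩ hqV
        · exact hjoin _ _ ⟨_, ⟨φ, rfl⟩, hφ ▸ hsψ.mul_left _, hφ ▸ hrf.mul_right _⟩

end Cfsg.Agent.Lib.Characters
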