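import Cfsg.Agent.Lib.Characters.Convolution
import Cfsg.Agent.Lib.Characters.Induced
import Cfsg.Agent.Lib.Characters.Coherence
import Cfsg.Agent.S0111
import Mathlib

/-!
# Perfect groups with an involution centralizer that is dihedral of order eight

The exceptional characters coming from the cyclic subgroup of order four, and the two class
multiplication constants, determine the order.
-/

namespace Cfsg.Agent.Lib.Characters.DihedralEight

open scoped ComplexConjugate
open DihedralGroup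

set_option linter.unusedSectionVars false
set_option linter.style.haveILetI false

universe u

/-! ### The arithmetic -/

theorem arith_final (n : ℕ) (C : ℤ) (heq : (n : ℤ) * (C + 1) ^ 2 = 128 * C * (2 * C + 1))
    (h8 : 8 ∣ n) (h16 : ¬ 16 ∣ n) : n = 168 ∨ n = 360 := by
  have hcop : IsCoprime ((C + 1) ^ 2) (C * (2 * C + 1)) :=
    (IsCoprime.mul_right ⟨1, -1, by ring⟩ ⟨2, -1, by ring⟩).pow_left
  have hdvd : (C + 1) ^ 2 ∣ 128 :=
    hcop.dvd_of_dvd_mul_right ⟨(n : ℤ), by linear_combination -heq⟩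
  have hle := Int.le_of_dvd (by norm_num) hdvd
  have h1 : -12 ≤ C := by nlinarith
  have h2 : C ≤ 10 := by nlinarith
  interval_cases C <;> first
    | (norm_num at hdvd; done)
    | (norm_num at heq; done)
    | (norm_num at heq; omega)

open scoped Classical in
/-- Extraction of the order from the multiplicities. -/
theorem order_of_mults {ι : Type*} [Fintype ι] (o : ι) (x : ι → ℕ) (hx : ∀ i, 0 < x i)
    (hxo : x o = 1) (u v : ι → ℤ) (huo : u o = 1) (hvo : v o = 1)
    (huu : ∑ i, u i * u i = 4) (hvv : ∑ i, v i * v i = 3) (huv : ∑ i, u i * v i = 2)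
    (hu1 : ∑ i, u i * (x i : ℤ) = 0) (hv1 : ∑ i, v i * (x i : ℤ) = 0) (n : ℕ)
    (hS1 : (n : ℚ) * ∑ i, (((2 * v i - u i) * (2 * v i - u i) * u i : ℤ) : ℚ) / (x i : ℚ) = 256)
    (hS2 : (n : ℚ) * ∑ i, (((2 * v i - u i) * (2 * v i - u i) * (2 * v i - u i) : ℤ) : ℚ) / (x i : ℚ)
      = 256)
    (h8 : 8 ∣ n) (h16 : ¬ 16 ∣ n) : n = 168 ∨ n = 360 := by
  have hsplit : ∀ f : ι → ℤ, ∑ i, f i = f o + ∑ i ∈ Finset.univ.erase o, f i := fun f =>
    (Finset.add_sum_erase _ f (Finset.mem_univ o)).symm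
  rw [hsplit] at huu hvv huv hu1 hv1
  rw [huo] at huu huv hu1
  rw [hvo] at hvv huv hv1
  set E := Finset.univ.erase o with hE
  have hsmall : ∀ w : ι → ℤ, ∑ i ∈ E, w i * w i ≤ 3 → ∀ i ∈ E, w i = 0 ∨ w i = 1 ∨ w i = -1 := by
    intro w hw i hi
    have h1 : w i * w i ≤ 3 :=
      le_trans (Finset.single_le_sum (f := fun i => w i * w i) (fun j _ => mul_self_nonneg _) hi) hw
    have h2 : -1 ≤ w i := by nlinarith
    have h3 : w i ≤ 1 := by nlinarith
    omega
  have hu' := hsmall u (by omega)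
  have hv' := hsmall v (by omega)
  have hcard : ∀ w : ι → ℤ, (∀ i ∈ E, w i = 0 ∨ w i = 1 ∨ w i = -1) →
      ((E.filter fun i => w i ≠ 0).card : ℤ) = ∑ i ∈ E, w i * w i := by
    intro w hw
    rw [Finset.card_filter, Nat.cast_sum]
    refine Finset.sum_congr rfl fun i hi => ?_
    rcases hw i hi with h | h | h <;> simp [h]
  have hV : (E.filter fun i => v i ≠ 0).card = 2 := by
    have := hcard v hv'; omega
  have hU : (E.filter fun i => u i ≠ 0).card = 3 := by
    have := hcard u hu'; omega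
  obtain ⟨p, q, hpq, hpqs⟩ := Finset.card_eq_two.mp hV
  have hmemV : ∀ i, i ∈ E → v i ≠ 0 → i = p ∨ i = q := fun i hi h => by
    have : i ∈ E.filter fun i => v i ≠ 0 := Finset.mem_filter.mpr ⟨hi, h⟩
    simpa [hpqs] using this
  obtain ⟨hpE, hvp⟩ : p ∈ E ∧ v p ≠ 0 := Finset.mem_filter.mp (show p ∈ E.filter (fun i => v i ≠ 0) by rw [hpqs]; simp)
  obtain ⟨hqE, hvq⟩ : q ∈ E ∧ v q ≠ 0 := Finset.mem_filter.mp (show q ∈ E.filter (fun i => v i ≠ 0) by rw [hpqs]; simp)
  have hsum2 : u p * v p + u q * v q = 1 := by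
    have h1 : ∑ i ∈ E, u i * v i = ∑ i ∈ ({p, q} : Finset ι), u i * v i := by
      refine (Finset.sum_subset (by simp [Finset.insert_subset_iff, hpE, hqE]) fun i hi hni => ?_).symm
      by_contra h
      exact hni (by simpa using hmemV i hi (right_ne_zero_of_mul h))
    rw [h1, Finset.sum_pair hpq] at huv
    omega
  -- name the shared constituent
  obtain ⟨A, B, hAB, hAE, hBE, hvA, hvB, hmem, huA, huB⟩ : ∃ A B, A ≠ B ∧ A ∈ E ∧ B ∈ E ∧
      v A ≠ 0 ∧ v B ≠ 0 ∧ (∀ i, i ∈ E → v i ≠ 0 → i = A ∨ i = B) ∧ u A = v A ∧ u B = 0 := by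
    rcases hu' p hpE with h | h | h <;> rcases hu' q hqE with h' | h' | h' <;>
      rcases hv' p hpE with k | k | k <;> rcases hv' q hqE with k' | k' | k' <;>
      simp only [h, h', k, k'] at hsum2 hvp hvq <;>
      first
        | exact absurd rfl hvp
        | exact absurd rfl hvq
        | omega
        | exact ⟨p, q, hpq, hpE, hqE, by rw [k]; exact hvp, by rw [k']; exact hvq, hmemV,
            by rw [h, k], h'⟩
        | exact ⟨q, p, hpq.symm, hqE, hpE, by rw [k']; exact hvq, by rw [k]; exact hvp,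
            fun i hi hv => (hmemV i hi hv).symm, by rw [h', k'], h⟩
  have hUA : A ∈ E.filter fun i => u i ≠ 0 := Finset.mem_filter.mpr ⟨hAE, huA ▸ hvA⟩
  obtain ⟨C, D, hCD, hCDs⟩ := Finset.card_eq_two.mp
    (show ((E.filter fun i => u i ≠ 0).erase A).card = 2 by
      rw [Finset.card_erase_of_mem hUA, hU])
  obtain ⟨hCA, hCE, huC⟩ : C ≠ A ∧ C ∈ E ∧ u C ≠ 0 := by
    have : C ∈ (E.filter fun i => u i ≠ 0).erase A := by rw [hCDs]; simp
    simpa using this
  obtain ⟨hDA, hDE, huD⟩ : D ≠ A ∧ D ∈ E ∧ u D ≠ 0 := by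
    have : D ∈ (E.filter fun i => u i ≠ 0).erase A := by rw [hCDs]; simp
    simpa using this
  have hCB : C ≠ B := fun h => huC (h ▸ huB)
  have hDB : D ≠ B := fun h => huD (h ▸ huB)
  have hvC : v C = 0 := by_contra fun h => (hmem C hCE h).elim hCA hCB
  have hvD : v D = 0 := by_contra fun h => (hmem D hDE h).elim hDA hDB
  set T : Finset ι := {o, A, B, C, D} with hT
  have hout : ∀ i, i ∉ T → u i = 0 ∧ v i = 0 := by
    intro i hi
    simp only [hT, Finset.mem_insert, Finset.mem_singleton, not_or] at hi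
    have hiE : i ∈ E := Finset.mem_erase.mpr ⟨hi.1, Finset.mem_univ _⟩
    refine ⟨by_contra fun h => ?_, by_contra fun h => (hmem i hiE h).elim hi.2.1 hi.2.2.1⟩
    have : i ∈ (E.filter fun i => u i ≠ 0).erase A :=
      Finset.mem_erase.mpr ⟨hi.2.1, Finset.mem_filter.mpr ⟨hiE, h⟩⟩
    rw [hCDs] at this
    simp [hi.2.2.2.1, hi.2.2.2.2] at this
  have hne : ∀ i ∈ E, o ≠ i := fun i hi => (Finset.mem_erase.mp hi).1.symm
  have hfive : ∀ f : ι → ℚ, (∀ i, u i = 0 → v i = 0 → f i = 0) →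
      ∑ i, f i = f o + f A + f B + f C + f D := by
    intro f hf
    rw [← Finset.sum_subset (Finset.subset_univ T) (fun i _ hi => hf i (hout i hi).1 (hout i hi).2),
      hT, Finset.sum_insert (by simp [hne A hAE, hne B hBE, hne C hCE, hne D hDE]),
      Finset.sum_insert (by simp [hAB, hCA.symm, hDA.symm]),
      Finset.sum_insert (by simp [hCB.symm, hDB.symm]), Finset.sum_pair hCD]
    ring
  have hfiveZ : ∀ f : ι → ℤ, (∀ i, u i = 0 → v i = 0 → f i = 0) →
      ∑ i ∈ E, f i = f A + f B + f C + f D := by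
    intro f hf
    have h1 : (∑ i, (f i : ℚ)) = (f o : ℚ) + f A + f B + f C + f D :=
      hfive (fun i => (f i : ℚ)) fun i h h' => by rw [hf i h h', Int.cast_zero]
    have h2 := hsplit f
    have h3 : ((∑ i, f i : ℤ) : ℚ) = ((f o + f A + f B + f C + f D : ℤ) : ℚ) := by
      push_cast
      exact h1
    have h4 : ∑ i, f i = f o + f A + f B + f C + f D := by exact_mod_cast h3
    linarith
  rw [hfiveZ _ (fun i h _ => by simp [h]), hxo, Nat.cast_one, mul_one] at hu1
  rw [hfiveZ _ (fun i _ h => by simp [h]), hxo, Nat.cast_one, mul_one] at hv1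
  rw [huB, zero_mul, add_zero] at hu1
  rw [hvC, hvD, zero_mul, zero_mul, add_zero, add_zero, ← huA] at hv1
  rw [hfive _ (fun i h h' => by simp [h, h']), huo, hvo, hxo, ← huA, huB, hvC, hvD] at hS1 hS2
  have sq1 : ∀ w : ℤ, w ≠ 0 → (w = 0 ∨ w = 1 ∨ w = -1) → w * w = 1 := by
    intro w h0 h
    rcases h with h | h | h
    · exact absurd h h0
    · rw [h]; rfl
    · rw [h]; rfl
  have eA := sq1 _ (huA ▸ hvA) (hu' A hAE)
  have eB := sq1 _ hvB (hv' B hBE)
  have eC := sq1 _ huC (hu' C hCE)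
  have eD := sq1 _ huD (hu' D hDE)
  have conv : ∀ w : ℤ, ∀ y : ℕ, w * w = 1 → 0 < y → (w : ℚ) / (y : ℚ) = 1 / ((w * (y : ℤ) : ℤ) : ℚ) := by
    intro w y hw hy
    have hw0 : (w : ℚ) ≠ 0 := by
      intro h
      have : w = 0 := by exact_mod_cast h
      simp [this] at hw
    have hy0 : (y : ℚ) ≠ 0 := Nat.cast_ne_zero.mpr hy.ne'
    have hwq : (w : ℚ) * w = 1 := by exact_mod_cast hw
    push_cast
    field_simp
    linear_combination hwq
  set a := u A * (x A : ℤ) with ha
  set b := v B * (x B : ℤ) with hb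
  set c := u C * (x C : ℤ) with hc
  set d := u D * (x D : ℤ) with hd
  have nz : ∀ w : ℤ, ∀ y : ℕ, w ≠ 0 → 0 < y → w * (y : ℤ) ≠ 0 := fun w y hw hy =>
    mul_ne_zero hw (by exact_mod_cast hy.ne')
  have qa : (a : ℚ) ≠ 0 := by exact_mod_cast nz _ _ (huA ▸ hvA) (hx A)
  have qb : (b : ℚ) ≠ 0 := by exact_mod_cast nz _ _ hvB (hx B)
  have qc : (c : ℚ) ≠ 0 := by exact_mod_cast nz _ _ huC (hx C)
  have qd : (d : ℚ) ≠ 0 := by exact_mod_cast nz _ _ huD (hx D)
  have kA := conv _ _ eA (hx A)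
  have kB := conv _ _ eB (hx B)
  have kC := conv _ _ eC (hx C)
  have kD := conv _ _ eD (hx D)
  rw [← ha] at kA
  rw [← hb] at kB
  rw [← hc] at kC
  rw [← hd] at kD
  have cube : ∀ w : ℤ, w * w = 1 → w * w * w = w := fun w hw => by rw [hw, one_mul]
  have l1 : (n : ℚ) * (1 + 1 / (a : ℚ) + 1 / (c : ℚ) + 1 / (d : ℚ)) = 256 := by
    rw [← kA, ← kC, ← kD, ← hS1]
    have r1 : (2 * u A - u A) * (2 * u A - u A) * u A = u A := by linear_combination u A * eA
    have r2 : (2 * 0 - u C) * (2 * 0 - u C) * u C = u C := by linear_combination u C * eC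
    have r3 : (2 * 0 - u D) * (2 * 0 - u D) * u D = u D := by linear_combination u D * eD
    rw [r1, r2, r3]
    simp
  have l2 : (n : ℚ) * (1 + 1 / (a : ℚ) + 8 / (b : ℚ) - 1 / (c : ℚ) - 1 / (d : ℚ)) = 256 := by
    rw [← kA, show (8 : ℚ) / (b : ℚ) = 8 * (1 / (b : ℚ)) by ring, ← kB, ← kC, ← kD, ← hS2]
    have r1 : (2 * u A - u A) * (2 * u A - u A) * (2 * u A - u A) = u A := by
      linear_combination u A * eA
    have r4 : (2 * v B - 0) * (2 * v B - 0) * (2 * v B - 0) = 8 * v B := by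
      linear_combination 8 * v B * eB
    have r2 : (2 * 0 - u C) * (2 * 0 - u C) * (2 * 0 - u C) = -u C := by
      linear_combination -(u C * eC)
    have r3 : (2 * 0 - u D) * (2 * 0 - u D) * (2 * 0 - u D) = -u D := by
      linear_combination -(u D * eD)
    rw [r1, r2, r3, r4]
    push_cast
    ring
  have hn : (n : ℚ) ≠ 0 := fun h => by rw [h, zero_mul] at l1; norm_num at l1
  have h1 : (1 : ℚ) / c + 1 / d = 4 / b := by
    have h3 := mul_left_cancel₀ hn (l1.trans l2.symm)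
    linear_combination (1 / 2 : ℚ) * h3
  have hbq : (b : ℚ) = c + d := by
    have : b = c + d := by linarith
    exact_mod_cast this
  have h2 : (c : ℚ) = d := by
    rw [hbq] at qb h1
    field_simp at h1
    have h3 : ((c : ℚ) - d) * ((c : ℚ) - d) = 0 := by linear_combination h1
    rcases mul_self_eq_zero.mp h3 with h4
    linarith
  have hcd : c = d := by exact_mod_cast h2
  have hae : a = -1 - 2 * c := by linarith
  have haq : (a : ℚ) = -1 - 2 * c := by exact_mod_cast hae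
  refine arith_final n c ?_ h8 h16
  rw [← h2, haq] at l1
  rw [haq] at qa
  field_simp at l1
  have : ((n : ℤ) * (c + 1) ^ 2 : ℤ) = ((128 * c * (2 * c + 1) : ℤ)) := by
    have h5 : (((n : ℤ) * (c + 1) ^ 2 : ℤ) : ℚ) = ((128 * c * (2 * c + 1) : ℤ) : ℚ) := by
      push_cast
      linear_combination (-1 / 2 : ℚ) * l1
    exact_mod_cast h5
  exact this

/-! ### The group -/

theorem center_unique : ∀ q : DihedralGroup 4, q * q = 1 → q ≠ 1 → (∀ p, p * q = q * p) → q = r 2 := by
  decide +kernel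

theorem sum_conj (F : DihedralGroup 4 → ℂ) (i : ZMod 4) :
    ∑ p : DihedralGroup 4, F (p⁻¹ * r i * p) = 4 * F (r i) + 4 * F (r (-i)) := by
  have hbij : Function.Bijective (Sum.elim (r : ZMod 4 → DihedralGroup 4) sr) := by
    refine ⟨?_, ?_⟩
    · rintro (j | j) (k | k) h <;> simp_all
    · rintro (j | j)
      · exact ⟨Sum.inl j, rfl⟩
      · exact ⟨Sum.inr j, rfl⟩
  rw [← hbij.sum_comp, Fintype.sum_sum_type]
  simp [inv_r, inv_sr, r_mul_r, r_mul_sr, sr_mul_r, sr_mul_sr, Finset.sum_const, ZMod.card]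

theorem exists_pair_count : ∀ i : ZMod 4, i = 1 ∨ i = 2 →
    (Finset.univ.filter fun p : DihedralGroup 4 =>
      (p * p = 1 ∧ p ≠ 1) ∧ ((p⁻¹ * r i) * (p⁻¹ * r i) = 1 ∧ p⁻¹ * r i ≠ 1)).card = 4 := by
  decide +kernel

variable {G : Type u} [Group G]

theorem orderOf_conj' (c x : G) : orderOf (c * x * c⁻¹) = orderOf x :=
  (MulAut.conj c).orderOf_eq x

theorem orderOf_two_iff {g : G} : orderOf g = 2 ↔ g * g = 1 ∧ g ≠ 1 := by
  constructor
  · intro h
    refine ⟨by rw [← pow_two, ← h, pow_orderOf_eq_one], fun h1 => ?_⟩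
    rw [h1, orderOf_one] at h
    norm_num at h
  · exact fun ⟨h1, h2⟩ => orderOf_eq_prime (by rw [pow_two, h1]) h2

/-- The main theorem. -/
theorem card_eq (G : Type u) [Group G] [Finite G] (hperf : commutator G = ⊤) (t : G)
    (ht : orderOf t = 2) (e : Subgroup.centralizer ({t} : Set G) ≃* DihedralGroup 4) :
    Nat.card G = 168 ∨ Nat.card G = 360 := by
  classical
  haveI := Fintype.ofFinite G
  haveI := Fintype.ofFinite (IrrCharacter G)
  haveI : Fact (Nat.Prime 2) := ⟨Nat.prime_two⟩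
  set P := Subgroup.centralizer ({t} : Set G) with hP
  haveI := Fintype.ofFinite P
  obtain ⟨ht2, ht1⟩ := orderOf_two_iff.mp ht
  have htP : t ∈ P := Subgroup.mem_centralizer_singleton_iff.mpr rfl
  have het : e ⟨t, htP⟩ = r 2 := by
    refine center_unique _ ?_ ?_ fun q => ?_
    · rw [← map_mul, show (⟨t, htP⟩ : P) * ⟨t, htP⟩ = 1 from Subtype.ext ht2, map_one]
    · exact fun h => ht1 (congrArg Subtype.val ((map_eq_one_iff e e.injective).mp h))
    · obtain ⟨p, rfl⟩ := e.surjective q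
      rw [← map_mul, ← map_mul]
      exact congrArg e (Subtype.ext (Subgroup.mem_centralizer_singleton_iff.mp p.2))
  let g : ZMod 4 → G := fun i => ((e.symm (r i) : P) : G)
  have hg0 : g 0 = 1 := by simp [g, ← DihedralGroup.one_def]
  have hgadd : ∀ i j, g (i + j) = g i * g j := fun i j => by
    simp only [g, ← Subgroup.coe_mul, ← map_mul, r_mul_r]
  have hg2 : g 2 = t := by
    show ((e.symm (r 2) : P) : G) = t
    rw [← het, e.symm_apply_apply]
  have hginj : Function.Injective g := fun i j h => by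
    simpa [g] using e.symm.injective (Subtype.ext h)
  have hgP : ∀ i, g i ∈ P := fun i => (e.symm (r i)).2
  let R : Subgroup G :=
    { carrier := Set.range g
      one_mem' := ⟨0, hg0⟩
      mul_mem' := by rintro _ _ ⟨i, rfl⟩ ⟨j, rfl⟩; exact ⟨i + j, hgadd i j⟩
      inv_mem' := by
        rintro _ ⟨i, rfl⟩
        exact ⟨-i, eq_inv_of_mul_eq_one_left (by rw [← hgadd, neg_add_cancel, hg0])⟩ }
  haveI := Fintype.ofFinite R
  have hRP : R ≤ P := by rintro _ ⟨i, rfl⟩; exact hgP i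
  let eR : ZMod 4 ≃ R := Equiv.ofBijective (fun i => ⟨g i, i, rfl⟩)
    ⟨fun i j h => hginj (Subtype.mk.inj h), fun ⟨x, i, hi⟩ => ⟨i, Subtype.ext hi⟩⟩
  have hRcard : Nat.card R = 4 := by rw [← Nat.card_congr eR, Nat.card_zmod]
  have hPcard : Nat.card P = 8 := by rw [Nat.card_congr e.toEquiv, DihedralGroup.nat_card]
  have hRrel : R.relIndex P = 2 := by
    have h := Subgroup.relIndex_mul_relIndex ⊥ R P bot_le hRP
    rw [Subgroup.relIndex_bot_left, Subgroup.relIndex_bot_left, hRcard, hPcard] at h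
    omega
  have hinvR : ∀ x ∈ R, orderOf x = 2 → x = t := by
    rintro _ ⟨i, rfl⟩ hx
    obtain ⟨h1, h2⟩ := orderOf_two_iff.mp hx
    rw [← hgadd, ← hg0] at h1
    have h3 := hginj h1
    have h4 : i ≠ 0 := fun h => h2 (by rw [h, hg0])
    have h5 : ∀ j : ZMod 4, j + j = 0 → j ≠ 0 → j = 2 := by decide
    rw [h5 i h3 h4, hg2]
  -- the centralizer is a Sylow subgroup
  obtain ⟨S, hS⟩ := (IsPGroup.of_card (n := 3) hPcard : IsPGroup 2 P).exists_le_sylow
  have hSP : (S : Subgroup G) = P := by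
    refine le_antisymm (fun x hx => ?_) hS
    have hzS : Subgroup.center (S : Subgroup G) ≠ ⊥ := by
      haveI : Nontrivial (S : Subgroup G) :=
        ⟨⟨1, ⟨t, hS htP⟩, fun h => ht1 (congrArg Subtype.val h).symm⟩⟩
      exact (Subgroup.nontrivial_iff_ne_bot _).mp S.2.center_nontrivial
    obtain ⟨⟨z, hz⟩, hz1'⟩ := (Subgroup.center (S : Subgroup G)).ne_bot_iff_exists_ne_one.mp hzS
    have hz1 : z ≠ 1 := fun h => hz1' (Subtype.ext h)
    set k := orderOf (z : G) with hk
    obtain ⟨m, hm⟩ := (IsPGroup.iff_orderOf.mp S.2) z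
    have hm0 : m ≠ 0 := fun h0 => hz1 (orderOf_eq_one_iff.mp (by rw [hm, h0, pow_zero]))
    set y : (S : Subgroup G) := z ^ (2 ^ (m - 1)) with hy
    have hyo : orderOf y = 2 := by
      rw [hy, orderOf_pow_of_dvd (by positivity) (hm ▸ pow_dvd_pow 2 (Nat.sub_le m 1)), hm,
        Nat.pow_div (Nat.sub_le m 1) two_pos, show m - (m - 1) = 1 by omega, pow_one]
    have hyc : y ∈ Subgroup.center (S : Subgroup G) := pow_mem hz _
    have hyP : (y : G) ∈ P := Subgroup.mem_centralizer_singleton_iff.mpr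
      (congrArg Subtype.val (Subgroup.mem_center_iff.mp hyc ⟨t, hS htP⟩)).symm
    have hy2 : (y : G) = t := by
      have h1 : e ⟨y, hyP⟩ = r 2 := by
        have hyo' : orderOf (y : G) = 2 := by rw [Subgroup.orderOf_coe, hyo]
        obtain ⟨a1, a2⟩ := orderOf_two_iff.mp hyo'
        refine center_unique _ ?_ ?_ fun q => ?_
        · rw [← map_mul, show (⟨(y : G), hyP⟩ : P) * ⟨y, hyP⟩ = 1 from Subtype.ext a1, map_one]
        · exact fun h => a2 (congrArg Subtype.val ((map_eq_one_iff e e.injective).mp h))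
        · obtain ⟨p, rfl⟩ := e.surjective q
          rw [← map_mul, ← map_mul]
          refine congrArg e (Subtype.ext ?_)
          have h3 := congrArg (fun w : (S : Subgroup G) => (w : G))
            (Subgroup.mem_center_iff.mp hyc ⟨p, hS p.2⟩)
          simpa using h3
      exact congrArg Subtype.val (e.injective (h1.trans het.symm))
    refine Subgroup.mem_centralizer_singleton_iff.mpr ?_
    rw [← hy2]
    exact congrArg Subtype.val (Subgroup.mem_center_iff.mp hyc ⟨x, hx⟩)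
  have h8 : 8 ∣ Nat.card G := hPcard ▸ Subgroup.card_subgroup_dvd_card P
  have h16 : ¬ 16 ∣ Nat.card G := by
    intro h
    obtain ⟨q, hq⟩ := h
    refine S.not_dvd_index ?_
    have h1 := (S : Subgroup G).card_mul_index
    rw [hq, hSP, hPcard] at h1
    rw [hSP]
    exact ⟨q, by omega⟩
  -- one class of involutions
  have hcls : ∀ x : G, orderOf x = 2 → IsConj t x := by
    intro x hx
    have hxp : IsPGroup 2 (Subgroup.zpowers x) :=
      IsPGroup.of_card (n := 1) (by rw [Nat.card_zpowers, hx, pow_one])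
    obtain ⟨Q, hQ⟩ := hxp.exists_le_sylow
    obtain ⟨c, hc⟩ := MulAction.exists_smul_eq G Q S
    have hy : c * x * c⁻¹ ∈ (S : Subgroup G) := by
      rw [← hc]
      exact ⟨x, hQ (Subgroup.mem_zpowers x), rfl⟩
    have hyo : orderOf (c * x * c⁻¹) = 2 := (orderOf_conj' c x).trans hx
    refine IsConj.trans ?_ (isConj_iff.mpr ⟨c, rfl⟩ : IsConj x (c * x * c⁻¹)).symm
    by_cases hyR : c * x * c⁻¹ ∈ R
    · rw [hinvR _ hyR hyo]
    rcases Cfsg.Agent.S0111.result S R (hSP ▸ hRP) (hSP ▸ hRrel) _ hyo hy hyR with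
      ⟨M, hMn, hMi, -⟩ | ⟨d, hd⟩
    · exfalso
      have hle : commutator G ≤ M := by
        rw [commutator_def, Subgroup.commutator_le]
        intro a _ b _
        rw [commutatorElement_def, Subgroup.mul_mem_iff_of_index_two hMi, Subgroup.mul_mem_iff_of_index_two hMi,
          Subgroup.mul_mem_iff_of_index_two hMi, inv_mem_iff, inv_mem_iff]
        tauto
      rw [hperf, top_le_iff] at hle
      rw [hle, Subgroup.index_top] at hMi
      norm_num at hMi
    · exact (isConj_iff.mpr ⟨d, hinvR _ hd ((orderOf_conj' d _).trans hyo)⟩).symm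
  have hclsiff : ∀ x : G, IsConj t x ↔ orderOf x = 2 := by
    refine fun x => ⟨fun h => ?_, hcls x⟩
    obtain ⟨c, rfl⟩ := isConj_iff.mp h
    exact (orderOf_conj' c t).trans ht
  have hK : Nat.card {x : G // IsConj t x} * 8 = Nat.card G := by
    rw [← hPcard]
    exact card_conj_mul_card_centralizer t
  -- the induced functions from `R`
  have hmemP : ∀ (i : ZMod 4), i ≠ 0 → ∀ x : G, x⁻¹ * g i * x ∈ R → x ∈ P := by
    intro i hi x hx
    have h22 : ∀ j : ZMod 4, j ≠ 0 → j = 2 ∨ j + j = 2 := by decide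
    have hkey : x⁻¹ * t * x ∈ R → orderOf (x⁻¹ * t * x) = 2 → x ∈ P := by
      intro hR' ho
      have h1 := hinvR _ hR' ho
      refine Subgroup.mem_centralizer_singleton_iff.mpr ?_
      calc x * t = x * (x⁻¹ * t * x) := by rw [h1]
        _ = t * x := by group
    have hord : ∀ y : G, orderOf y = 2 → orderOf (x⁻¹ * y * x) = 2 := fun y hy => by
      have := orderOf_conj' x⁻¹ y
      rw [inv_inv] at this
      rw [this, hy]
    rcases h22 i hi with h | h
    · rw [h, hg2] at hx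
      exact hkey hx (hord t ht)
    · have h1 : x⁻¹ * t * x ∈ R := by
        rw [← hg2, ← h, hgadd, show x⁻¹ * (g i * g i) * x = (x⁻¹ * g i * x) * (x⁻¹ * g i * x) by group]
        exact mul_mem hx hx
      exact hkey h1 (hord t ht)
  let ext : (ZMod 4 → ℂ) → (R → ℂ) := fun δ x => δ (eR.symm x)
  have hind : ∀ (δ : ZMod 4 → ℂ) (i : ZMod 4), i ≠ 0 →
      Cfsg.indFun R (ext δ) (g i) = δ i + δ (-i) := by
    intro δ i hi
    let F : DihedralGroup 4 → ℂ := fun q => extendByZero R (ext δ) ((e.symm q : P) : G)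
    have hF : ∀ j, F (r j) = δ j := fun j => by
      show extendByZero R (ext δ) (g j) = δ j
      rw [extendByZero_of_mem _ _ (⟨j, rfl⟩ : g j ∈ R)]
      show δ (eR.symm (eR j)) = δ j
      rw [eR.symm_apply_apply]
    have h1 : ∑ x : G, extendByZero R (ext δ) (x⁻¹ * g i * x) =
        ∑ p : P, extendByZero R (ext δ) ((p : G)⁻¹ * g i * (p : G)) := by
      rw [← Finset.sum_subtype (s := Finset.univ.filter fun x : G => x ∈ P) (fun x => by simp)
        (fun x => extendByZero R (ext δ) (x⁻¹ * g i * x))]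
      refine (Finset.sum_subset (Finset.filter_subset _ _) fun x _ hx => ?_).symm
      exact extendByZero_of_not_mem _ _ fun h => hx (Finset.mem_filter.mpr ⟨Finset.mem_univ _, hmemP i hi x h⟩)
    have h2 : ∑ p : P, extendByZero R (ext δ) ((p : G)⁻¹ * g i * (p : G)) =
        ∑ q : DihedralGroup 4, F (q⁻¹ * r i * q) := by
      refine Fintype.sum_equiv e.toEquiv _ _ fun p => ?_
      show _ = extendByZero R (ext δ) ((e.symm ((e p)⁻¹ * r i * e p) : P) : G)
      simp [g]
    rw [indFun_apply, hRcard, h1, h2, sum_conj, hF, hF]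
    push_cast
    ring
  have hinner : ∀ (δ : ZMod 4 → ℂ) (F : G → ℂ), δ 0 = 0 → Cfsg.IsClassFunction G F →
      Cfsg.classInner (Cfsg.indFun R (ext δ)) F =
        4⁻¹ * (δ 1 * conj (F (g 1)) + δ 2 * conj (F (g 2)) + δ 3 * conj (F (g 3))) := by
    intro δ F h0 hF
    rw [classInner_indFun _ _ hF, Cfsg.classInner, hRcard, ← eR.sum_comp]
    push_cast
    congr 1
    have h4 : ∀ f : ZMod 4 → ℂ, ∑ i, f i = f 0 + f 1 + f 2 + f 3 := fun f => Fin.sum_univ_four f
    rw [h4]
    show δ (eR.symm (eR 0)) * _ + δ (eR.symm (eR 1)) * _ + δ (eR.symm (eR 2)) * _ +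
      δ (eR.symm (eR 3)) * _ = _
    simp only [Equiv.symm_apply_apply, h0, zero_mul, zero_add]
    rfl
  -- the linear characters of `R`
  have hgen : ∀ x : R, x ∈ Subgroup.zpowers (eR 1) := by
    intro x
    obtain ⟨i, rfl⟩ := eR.surjective x
    refine Subgroup.mem_zpowers_iff.mpr ⟨(i.val : ℤ), Subtype.ext ?_⟩
    rw [zpow_natCast, SubgroupClass.coe_pow]
    show g 1 ^ i.val = g i
    have h1 : ∀ k : ℕ, g 1 ^ k = g (k : ZMod 4) := by
      intro k
      induction k with
      | zero => rw [pow_zero, Nat.cast_zero, hg0]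
      | succ k ih => rw [pow_succ, ih, Nat.cast_succ, hgadd]
    rw [h1, ZMod.natCast_zmod_val]
  let i' : ℂˣ := Units.mk0 Complex.I Complex.I_ne_zero
  have hi4 : i' ^ 4 = 1 := Units.ext (by simp [i', Complex.I_pow_four])
  have hdvd : orderOf i' ∣ orderOf (eR 1) := by
    rw [orderOf_eq_card_of_forall_mem_zpowers hgen, hRcard]
    exact orderOf_dvd_of_pow_eq_one hi4
  let ω : R →* ℂˣ := monoidHomOfForallMemZpowers hgen hdvd
  have hω1 : ω (eR 1) = i' := monoidHomOfForallMemZpowers_apply_gen hgen hdvd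
  have hωv : ∀ j : ℕ, ∀ i : ℕ, ((ω (eR (i : ZMod 4)) : ℂˣ) : ℂ) ^ j = Complex.I ^ (i * j) := by
    intro j i
    have h1 : eR (i : ZMod 4) = eR 1 ^ i := by
      refine Subtype.ext ?_
      rw [SubgroupClass.coe_pow]
      show g (i : ZMod 4) = g 1 ^ i
      induction i with
      | zero => rw [pow_zero, Nat.cast_zero, hg0]
      | succ k ih => rw [pow_succ, ← ih, Nat.cast_succ, hgadd]
    rw [h1, map_pow, hω1, Units.val_pow_eq_pow_val, pow_mul]
    rfl
  let δ : ℕ → ZMod 4 → ℂ := fun j i => 1 - ((ω (eR i) : ℂˣ) : ℂ) ^ j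
  have hδgen : ∀ j, Cfsg.IsGeneralizedCharacter G (Cfsg.indFun R (ext (δ j))) := by
    intro j
    refine IsGeneralizedCharacter.indFun _ ⟨fun _ => 1, fun x => ((ω ^ j) x : ℂ), isCharacter_one,
      IsIrrCharacter.isCharacter (isIrrCharacter_unitsHom _), ?_⟩
    funext x
    simp [ext, δ]
  have hδ : ∀ j, δ j 0 = 0 ∧ δ j 1 = 1 - Complex.I ^ j ∧ δ j 2 = 1 - Complex.I ^ (2 * j) ∧
      δ j 3 = 1 - Complex.I ^ (3 * j) := by
    intro j
    have h1 := hωv j
    refine ⟨?_, ?_, ?_, ?_⟩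
    · have := h1 0; simp only [Nat.cast_zero, zero_mul, pow_zero] at this; simp [δ, this]
    · have := h1 1; simp only [Nat.cast_one, one_mul] at this; simp [δ, this]
    · have := h1 2; simp only [Nat.cast_ofNat] at this; simp [δ, this]
    · have := h1 3; simp only [Nat.cast_ofNat] at this; simp [δ, this]
  obtain ⟨a0, a1, a2, a3⟩ := hδ 2
  obtain ⟨b0, b1, b2, b3⟩ := hδ 1
  norm_num [pow_succ, Complex.I_mul_I] at a1 a2 a3 b1 b2 b3
  set Ia := Cfsg.indFun R (ext (δ 2)) with hIa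
  set Ib := Cfsg.indFun R (ext (δ 1)) with hIb
  have hIaCl := IsGeneralizedCharacter.isClassFunction (hδgen 2)
  have hIbCl := IsGeneralizedCharacter.isClassFunction (hδgen 1)
  rw [← hIa] at hIaCl
  rw [← hIb] at hIbCl
  have n1 : -(1 : ZMod 4) = 3 := by decide
  have n2 : -(2 : ZMod 4) = 2 := by decide
  have n3 : -(3 : ZMod 4) = 1 := by decide
  have va1 : Ia (g 1) = 4 := by
    rw [hIa, hind _ _ (by decide), n1, a1, a3]; ring
  have va2 : Ia (g 2) = 0 := by
    rw [hIa, hind _ _ (by decide), n2, a2]; ring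
  have va3 : Ia (g 3) = 4 := by
    rw [hIa, hind _ _ (by decide), n3, a1, a3]; ring
  have vb1 : Ib (g 1) = 2 := by
    rw [hIb, hind _ _ (by decide), n1, b1, b3]; ring
  have vb2 : Ib (g 2) = 4 := by
    rw [hIb, hind _ _ (by decide), n2, b2]; ring
  have vb3 : Ib (g 3) = 2 := by
    rw [hIb, hind _ _ (by decide), n3, b1, b3]; ring
  have iaa : Cfsg.classInner Ia Ia = 4 := by
    conv_lhs => arg 1; rw [hIa]
    rw [hinner _ _ a0 hIaCl, va1, va2, va3, a1, a2, a3]
    simp only [map_ofNat, map_zero]; ring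
  have ibb : Cfsg.classInner Ib Ib = 3 := by
    conv_lhs => arg 1; rw [hIb]
    rw [hinner _ _ b0 hIbCl, vb1, vb2, vb3, b1, b2, b3]
    simp only [map_ofNat]; ring
  have iab : Cfsg.classInner Ia Ib = 2 := by
    rw [hIa, hinner _ _ a0 hIbCl, vb1, vb2, vb3, a1, a2, a3]
    simp only [map_ofNat]; ring
  obtain ⟨u, hu, huc⟩ := IsGeneralizedCharacter.exists_int_decomp (hδgen 2)
  obtain ⟨v, hv, hvc⟩ := IsGeneralizedCharacter.exists_int_decomp (hδgen 1)
  rw [← hIa] at hu huc
  rw [← hIb] at hv hvc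
  -- the values of the irreducible characters
  have hr3 : IsConj (g 1) (g 3) := by
    refine isConj_iff.mpr ⟨((e.symm (sr 0) : P) : G), ?_⟩
    simp only [g, ← Subgroup.coe_inv, ← Subgroup.coe_mul, ← map_inv, ← map_mul]
    congr 2
  have hval : ∀ χ : IrrCharacter G, (χ : G → ℂ) (g 1) = (u χ : ℂ) ∧
      (χ : G → ℂ) t = ((2 * v χ - u χ : ℤ) : ℂ) := by
    intro χ
    have h3 : (χ : G → ℂ) (g 3) = (χ : G → ℂ) (g 1) := by
      obtain ⟨c, hc⟩ := isConj_iff.mp hr3
      rw [← hc, irr_isClassFunction χ]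
    have ea := huc χ
    have eb := hvc χ
    rw [hIa, hinner _ _ a0 (irr_isClassFunction χ), h3, a1, a2, a3] at ea
    rw [hIb, hinner _ _ b0 (irr_isClassFunction χ), h3, b1, b2, b3, hg2] at eb
    have e1 : conj ((χ : G → ℂ) (g 1)) = (u χ : ℂ) := by linear_combination ea
    have e1' : (χ : G → ℂ) (g 1) = (u χ : ℂ) := by
      rw [← Complex.conj_conj ((χ : G → ℂ) (g 1)), e1, map_intCast]
    refine ⟨e1', ?_⟩
    have e2 : conj ((χ : G → ℂ) t) = ((2 * v χ - u χ : ℤ) : ℂ) := by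
      push_cast
      linear_combination 2 * eb - e1
    rw [← Complex.conj_conj ((χ : G → ℂ) t), e2, map_intCast]
  have huo : u (trivIrr G) = 1 := by
    have := (hval (trivIrr G)).1
    rw [trivIrr_apply] at this
    exact_mod_cast this.symm
  have hvo : v (trivIrr G) = 1 := by
    have := (hval (trivIrr G)).2
    rw [trivIrr_apply, huo] at this
    have h : (1 : ℤ) = 2 * v (trivIrr G) - 1 := by exact_mod_cast this
    omega
  have hgram : ∀ (w w' : IrrCharacter G → ℤ) (f f' : G → ℂ) (k : ℤ),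
      f = ∑ χ : IrrCharacter G, (w χ : ℂ) • (χ : G → ℂ) →
      f' = ∑ χ : IrrCharacter G, (w' χ : ℂ) • (χ : G → ℂ) →
      Cfsg.classInner f f' = (k : ℂ) → ∑ χ, w χ * w' χ = k := by
    intro w w' f f' k hf hf' h
    rw [hf, hf', classInner_sum_sum] at h
    have h' : ((∑ χ, w χ * w' χ : ℤ) : ℂ) = (k : ℂ) := by
      rw [← h]
      push_cast
      exact Finset.sum_congr rfl fun χ _ => by rw [map_intCast]
    exact_mod_cast h'
  have hdeg0 : ∀ (w : IrrCharacter G → ℤ) (j : ℕ),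
      Cfsg.indFun R (ext (δ j)) = ∑ χ : IrrCharacter G, (w χ : ℂ) • (χ : G → ℂ) →
      ∑ χ, w χ * (degNat χ : ℤ) = 0 := by
    intro w j hw
    have h := congrFun hw 1
    rw [indFun_one, show ext (δ j) 1 = 0 from by simp [ext, δ,
      show eR.symm 1 = 0 from eR.symm_apply_eq.mpr (Subtype.ext hg0.symm), (hδ j).1], mul_zero,
      Finset.sum_apply] at h
    have h' : ((∑ χ, w χ * (degNat χ : ℤ) : ℤ) : ℂ) = ((0 : ℤ) : ℂ) := by
      push_cast
      rw [h]
      exact Finset.sum_congr rfl fun χ _ => by rw [Pi.smul_apply, smul_eq_mul, apply_one_eq_degNat]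
    exact_mod_cast h'
  -- the two constants
  have hpairs : ∀ i : ZMod 4, i = 1 ∨ i = 2 →
      Nat.card {p : G × G // IsConj t p.1 ∧ IsConj t p.2 ∧ p.1 * p.2 = g i} = 4 := by
    intro i hi
    rw [← exists_pair_count i hi, ← Fintype.card_subtype, ← Nat.card_eq_fintype_card]
    have hxP : ∀ x y : G, orderOf x = 2 → orderOf y = 2 → x * y = g i → x ∈ P := by
      intro x y hx hy hxy
      obtain ⟨hx2, -⟩ := orderOf_two_iff.mp hx
      obtain ⟨hy2, -⟩ := orderOf_two_iff.mp hy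
      have h1 : x⁻¹ * g i * x = (g i)⁻¹ := by
        rw [← hxy, inv_mul_cancel_left, mul_inv_rev, inv_eq_of_mul_eq_one_right hx2,
          inv_eq_of_mul_eq_one_right hy2]
      refine hmemP i ?_ x ?_
      · rcases hi with h | h <;> rw [h] <;> decide
      · rw [h1]; exact inv_mem ⟨i, rfl⟩
    refine Nat.card_congr
      { toFun := fun p => ⟨e ⟨p.1.1, hxP _ _ ((hclsiff _).mp p.2.1) ((hclsiff _).mp p.2.2.1) p.2.2.2⟩, ?_⟩
        invFun := fun q => ⟨(((e.symm q.1 : P) : G), ((e.symm (q.1⁻¹ * r i) : P) : G)), ?_, ?_, ?_⟩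
        left_inv := ?_
        right_inv := ?_ }
    · obtain ⟨⟨x, y⟩, hx, hy, hxy⟩ := p
      simp only
      obtain ⟨hx2, hx1⟩ := orderOf_two_iff.mp ((hclsiff _).mp hx)
      obtain ⟨hy2, hy1⟩ := orderOf_two_iff.mp ((hclsiff _).mp hy)
      have hy' : (e ⟨x, hxP _ _ ((hclsiff _).mp hx) ((hclsiff _).mp hy) hxy⟩)⁻¹ * r i =
          e ⟨y, by
            have := mul_mem (inv_mem (hxP _ _ ((hclsiff _).mp hx) ((hclsiff _).mp hy) hxy)) (hgP i)
            rwa [← hxy, inv_mul_cancel_left] at this⟩ := by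
        rw [← e.apply_symm_apply (r i), ← map_inv, ← map_mul]
        refine congrArg e (Subtype.ext ?_)
        show x⁻¹ * g i = y
        rw [← hxy, inv_mul_cancel_left]
      rw [hy', ← map_mul, ← map_mul, map_eq_one_iff e e.injective, map_eq_one_iff e e.injective,
        Ne, Ne, map_eq_one_iff e e.injective, map_eq_one_iff e e.injective]
      exact ⟨⟨Subtype.ext hx2, fun h => hx1 (congrArg Subtype.val h)⟩,
        Subtype.ext hy2, fun h => hy1 (congrArg Subtype.val h)⟩
    · refine hcls _ (orderOf_two_iff.mpr ⟨?_, fun h => q.2.1.2 ?_⟩)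
      · rw [← Subgroup.coe_mul, ← map_mul, q.2.1.1, map_one, Subgroup.coe_one]
      · exact (map_eq_one_iff e.symm e.symm.injective).mp (Subtype.ext h)
    · refine hcls _ (orderOf_two_iff.mpr ⟨?_, fun h => q.2.2.2 ?_⟩)
      · rw [← Subgroup.coe_mul, ← map_mul, q.2.2.1, map_one, Subgroup.coe_one]
      · exact (map_eq_one_iff e.symm e.symm.injective).mp (Subtype.ext h)
    · show ((e.symm q.1 : P) : G) * ((e.symm (q.1⁻¹ * r i) : P) : G) = g i
      rw [← Subgroup.coe_mul, ← map_mul, mul_inv_cancel_left]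
    · rintro ⟨⟨x, y⟩, hx, hy, hxy⟩
      refine Subtype.ext (Prod.ext ?_ ?_)
      · simp
      · simp only [map_mul, map_inv, e.symm_apply_apply, Subgroup.coe_mul, Subgroup.coe_inv]
        show x⁻¹ * g i = y
        rw [← hxy, inv_mul_cancel_left]
    · rintro ⟨q, hq⟩
      exact Subtype.ext (e.apply_symm_apply q)
  have hconst : ∀ i : ZMod 4, i = 1 ∨ i = 2 → ∀ w : IrrCharacter G → ℤ,
      (∀ χ : IrrCharacter G, (χ : G → ℂ) (g i) = (w χ : ℂ)) →
      (Nat.card G : ℚ) * ∑ χ : IrrCharacter G,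
        (((2 * v χ - u χ) * (2 * v χ - u χ) * w χ : ℤ) : ℚ) / (degNat χ : ℚ) = 256 := by
    intro i hi w hw
    have h := card_class_mul t t (g i)
    rw [hpairs i hi] at h
    have hK' : (Nat.card {x : G // IsConj t x} : ℂ) = (Nat.card G : ℂ) / 8 := by
      rw [eq_div_iff (by norm_num : (8 : ℂ) ≠ 0)]
      exact_mod_cast hK
    have hsum : ∑ χ : IrrCharacter G,
        (χ : G → ℂ) t * (χ : G → ℂ) t * conj ((χ : G → ℂ) (g i)) / (χ : G → ℂ) 1 =
        ((∑ χ : IrrCharacter G,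
          (((2 * v χ - u χ) * (2 * v χ - u χ) * w χ : ℤ) : ℚ) / (degNat χ : ℚ) : ℚ) : ℂ) := by
      push_cast
      refine Finset.sum_congr rfl fun χ _ => ?_
      rw [hw χ, (hval χ).2, map_intCast, apply_one_eq_degNat]
      push_cast
      ring
    rw [hsum, hK'] at h
    have hG : (Nat.card G : ℂ) ≠ 0 := Nat.cast_ne_zero.mpr Nat.card_pos.ne'
    field_simp at h
    have h' : (((Nat.card G : ℚ) * ∑ χ : IrrCharacter G,
        (((2 * v χ - u χ) * (2 * v χ - u χ) * w χ : ℤ) : ℚ) / (degNat χ : ℚ) : ℚ) : ℂ) =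
        ((256 : ℚ) : ℂ) := by
      rw [Rat.cast_mul, Rat.cast_natCast, Rat.cast_ofNat]
      linear_combination -h
    exact_mod_cast h'
  exact order_of_mults (trivIrr G) degNat degNat_pos (degNat_eq (by simp)) u v huo hvo
    (hgram u u Ia Ia 4 hu hu (by rw [iaa]; norm_num))
    (hgram v v Ib Ib 3 hv hv (by rw [ibb]; norm_num))
    (hgram u v Ia Ib 2 hu hv (by rw [iab]; norm_num))
    (hdeg0 u 2 hu) (hdeg0 v 1 hv) (Nat.card G)
    (hconst 1 (Or.inl rfl) u fun χ => (hval χ).1)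
    (hconst 2 (Or.inr rfl) (fun χ => 2 * v χ - u χ) fun χ => by rw [hg2]; exact (hval χ).2)
    h8 h16

end Cfsg.Agent.Lib.Characters.DihedralEight
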