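import Cfsg.Prelude.Def_LieExceptional
import Cfsg.Agent.Lib.Characters.Induced
import Cfsg.Agent.Lib.Characters.Ortho
import Cfsg.Agent.Lib.Frobenius.UniqueSubgroup
import Cfsg.Agent.Lib.Frobenius.Kernel
import Mathlib

/-!
# Simple Zassenhaus groups with two-point stabilizer of odd order

Counting, the transfer argument and the irreducible induced characters.
-/

set_option linter.unusedSectionVars false
set_option linter.style.haveILetI false

namespace Cfsg.Agent.Lib.Characters.ZOdd

open MulAction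
open scoped commutatorElement

universe u v

variable {G : Type u} [Group G] [Finite G] {Ω : Type v} [MulAction G Ω] [Fintype Ω]

/-- A Zassenhaus group with two-point stabilizer of odd order `e` on `h + 1` points. -/
structure ZHyp (G : Type u) [Group G] {Ω : Type v} [MulAction G Ω] [Fintype Ω] (a b : Ω)
    (h e : ℕ) : Prop where
  zass : Cfsg.IsZassenhausGroup G Ω
  hab : a ≠ b
  hh : Fintype.card Ω = h + 1
  he : Nat.card ↥(stabilizer G a ⊓ stabilizer G b : Subgroup G) = e
  hodd : Odd e

variable {a b : Ω} {h e : ℕ}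

theorem ZHyp.two_trans (D : ZHyp G a b h e) {c d c' d' : Ω} (h1 : c ≠ d) (h2 : c' ≠ d') :
    ∃ g : G, g • c = c' ∧ g • d = d' :=
  MulAction.is_two_pretransitive_iff.mp D.zass.2.1 h1 h2

theorem ZHyp.three (D : ZHyp G a b h e) {g : G} {x y z : Ω} (hxy : x ≠ y) (hyz : y ≠ z)
    (hxz : x ≠ z) (hx : g • x = x) (hy : g • y = y) (hz : g • z = z) : g = 1 :=
  D.zass.2.2.1 g x y z hxy hyz hxz hx hy hz

theorem ZHyp.one_lt_h (D : ZHyp G a b h e) : 1 < h := by
  classical
  obtain ⟨hF, -, -, ⟨g0, hg0, a0, b0, hab0, hga0, hgb0⟩, -⟩ := D.zass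
  haveI := hF
  by_contra hle
  apply hg0
  refine FaithfulSMul.eq_of_smul_eq_smul (α := Ω) fun c => ?_
  rw [one_smul]
  by_cases hca : c = a0
  · rw [hca, hga0]
  · by_cases hcb : c = b0
    · rw [hcb, hgb0]
    · exfalso
      have hc : ({a0, b0, c} : Finset Ω).card ≤ Fintype.card Ω := Finset.card_le_univ _
      rw [Finset.card_insert_of_notMem (by simp [hab0, Ne.symm hca]),
        Finset.card_pair (Ne.symm hcb), D.hh] at hc
      omega

theorem mem_inf_stabilizer {c d : Ω} {g : G} :
    g ∈ stabilizer G c ⊓ stabilizer G d ↔ g • c = c ∧ g • d = d := by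
  simp [Subgroup.mem_inf]

theorem ZHyp.exists_ne_one_mem (D : ZHyp G a b h e) :
    ∃ x ∈ stabilizer G a ⊓ stabilizer G b, x ≠ 1 := by
  obtain ⟨-, -, -, ⟨g0, hg0, a0, b0, hab0, hga0, hgb0⟩, -⟩ := D.zass
  obtain ⟨t, hta, htb⟩ := D.two_trans hab0 D.hab
  refine ⟨t * g0 * t⁻¹, mem_inf_stabilizer.mpr ⟨?_, ?_⟩, fun h => hg0 (by simpa using h)⟩
  · rw [← hta, mul_smul, inv_smul_smul, mul_smul, hga0]
  · rw [← htb, mul_smul, inv_smul_smul, mul_smul, hgb0]

theorem ZHyp.three_le_e (D : ZHyp G a b h e) : 3 ≤ e := by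
  obtain ⟨x, hx, hx1⟩ := D.exists_ne_one_mem
  have h1 : 1 < e := by
    rw [← D.he, Finite.one_lt_card_iff_nontrivial]
    exact ⟨⟨⟨x, hx⟩, 1, fun h => hx1 (congrArg Subtype.val h)⟩⟩
  have h2 := Nat.odd_iff.mp D.hodd
  omega

/-- All two-point stabilizers have order `e`. -/
theorem ZHyp.card_pair (D : ZHyp G a b h e) {c d : Ω} (hcd : c ≠ d) :
    Nat.card ↥(stabilizer G c ⊓ stabilizer G d : Subgroup G) = e := by
  obtain ⟨t, hta, htb⟩ := D.two_trans D.hab hcd
  rw [← D.he]
  refine Nat.card_congr ((MulAut.conj t⁻¹).toEquiv.subtypeEquiv fun g => ?_)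
  rw [mem_inf_stabilizer, mem_inf_stabilizer]
  simp [MulAut.conj_apply, mul_smul, inv_smul_eq_iff, hta, htb]

/-- Point stabilizers have order `h * e`. -/
theorem ZHyp.card_stabilizer (D : ZHyp G a b h e) (c : Ω) :
    Nat.card (stabilizer G c) = h * e := by
  classical
  obtain ⟨d, hd⟩ : ∃ d, d ≠ c := by
    by_cases hc : a = c
    · exact ⟨b, hc ▸ D.hab.symm⟩
    · exact ⟨a, hc⟩
  have key : Nat.card (orbit (stabilizer G c) d) *
      Nat.card (stabilizer (stabilizer G c) d) = Nat.card (stabilizer G c) := by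
    rw [← Nat.card_prod]
    exact Nat.card_congr (orbitProdStabilizerEquivGroup (stabilizer G c) d)
  have h1 : orbit (stabilizer G c) d = {x | x ≠ c} := by
    ext x
    constructor
    · rintro ⟨⟨g, hg⟩, rfl⟩ hxc
      exact hd (MulAction.injective g (hxc.trans hg.symm))
    · intro hx
      obtain ⟨g, hgc, hgd⟩ := D.two_trans (c := c) (d := d) (c' := c) (d' := x) hd.symm
        (Ne.symm hx)
      exact ⟨⟨g, hgc⟩, hgd⟩
  have h2 : Nat.card (stabilizer (stabilizer G c) d) = e := by
    rw [← D.card_pair hd.symm]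
    exact Nat.card_congr
      { toFun := fun g => ⟨(g.1 : G), mem_inf_stabilizer.mpr ⟨g.1.2, g.2⟩⟩
        invFun := fun g => ⟨⟨g.1, (mem_inf_stabilizer.mp g.2).1⟩, (mem_inf_stabilizer.mp g.2).2⟩
        left_inv := fun _ => rfl
        right_inv := fun _ => rfl }
  rw [← key, h2, h1, Nat.card_eq_fintype_card, Fintype.card_ofFinset]
  simp [Finset.filter_ne', Finset.card_erase_of_mem, D.hh]

theorem ZHyp.isPretransitive (D : ZHyp G a b h e) : IsPretransitive G Ω := by
  refine ⟨fun x y => ?_⟩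
  rcases eq_or_ne x y with rfl | hxy
  · exact ⟨1, one_smul _ _⟩
  · obtain ⟨g, hg, -⟩ := D.two_trans hxy hxy.symm
    exact ⟨g, hg⟩

theorem ZHyp.card_group (D : ZHyp G a b h e) : Nat.card G = (h + 1) * (h * e) := by
  haveI := D.isPretransitive
  rw [← D.card_stabilizer a, ← D.hh, ← Nat.card_eq_fintype_card,
    ← MulAction.index_stabilizer_of_transitive G a, Subgroup.index_mul_card]

/-- No involution fixes two points. -/
theorem ZHyp.not_fix_two (D : ZHyp G a b h e) {t : G} (ht : orderOf t = 2) {c d : Ω}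
    (hcd : c ≠ d) : ¬(t • c = c ∧ t • d = d) := by
  intro hfix
  have h1 : orderOf t ∣ Nat.card ↥(stabilizer G c ⊓ stabilizer G d : Subgroup G) := by
    have := orderOf_dvd_natCard (⟨t, mem_inf_stabilizer.mpr hfix⟩ :
      ↥(stabilizer G c ⊓ stabilizer G d : Subgroup G))
    rwa [Subgroup.orderOf_mk] at this
  rw [ht, D.card_pair hcd] at h1
  exact (Nat.not_even_iff_odd.mpr D.hodd) (even_iff_two_dvd.mpr h1)

section fix

variable [DecidableEq Ω]

/-- The fixed points. -/
def fixSet (g : G) : Finset Ω := Finset.univ.filter fun c => g • c = c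

theorem mem_fixSet {g : G} {c : Ω} : c ∈ fixSet (Ω := Ω) g ↔ g • c = c := by simp [fixSet]

theorem ZHyp.card_fixSet_le (D : ZHyp G a b h e) {g : G} (hg : g ≠ 1) :
    (fixSet (Ω := Ω) g).card ≤ 2 := by
  by_contra hgt
  obtain ⟨x, hx, y, hy, z, hz, hxy, hxz, hyz⟩ := Finset.two_lt_card.mp (not_le.mp hgt)
  exact hg (D.three hxy hyz hxz (mem_fixSet.mp hx) (mem_fixSet.mp hy) (mem_fixSet.mp hz))

theorem ZHyp.card_fixSet_le_one (D : ZHyp G a b h e) {t : G} (ht : orderOf t = 2) :
    (fixSet (Ω := Ω) t).card ≤ 1 :=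
  Finset.card_le_one.mpr fun c hc d hd => by_contra fun hcd =>
    D.not_fix_two ht hcd ⟨mem_fixSet.mp hc, mem_fixSet.mp hd⟩

theorem fixSet_conj_card (g t : G) :
    (fixSet (Ω := Ω) (g * t * g⁻¹)).card = (fixSet (Ω := Ω) t).card := by
  refine Finset.card_bij (fun c _ => g⁻¹ • c) (fun c hc => ?_)
    (fun _ _ _ _ h => MulAction.injective _ h) (fun c hc => ⟨g • c, ?_, inv_smul_smul g c⟩)
  · rw [mem_fixSet] at hc ⊢
    rw [mul_smul, mul_smul] at hc
    exact eq_inv_smul_iff.mpr hc
  · rw [mem_fixSet] at hc ⊢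
    rw [mul_smul, mul_smul, inv_smul_smul, hc]

end fix

/-! ### The two counts -/

theorem ZHyp.sum_fix [Fintype G] [DecidableEq Ω] (D : ZHyp G a b h e) :
    ∑ g : G, (fixSet (Ω := Ω) g).card = (h + 1) * (h * e) := by
  classical
  have := Finset.sum_card_bipartiteAbove_eq_sum_card_bipartiteBelow
    (s := (Finset.univ : Finset G)) (t := (Finset.univ : Finset Ω)) (fun g c => g • c = c)
  simp only [Finset.bipartiteAbove, Finset.bipartiteBelow] at this
  unfold fixSet
  rw [this]
  have h1 : ∀ c : Ω, (Finset.univ.filter fun g : G => g • c = c).card = h * e := fun c => by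
    rw [← D.card_stabilizer c, Nat.card_eq_fintype_card, ← Fintype.card_subtype]
    rfl
  rw [Finset.sum_congr rfl fun c _ => h1 c, Finset.sum_const, Finset.card_univ, D.hh, smul_eq_mul]

theorem ZHyp.sum_fix_sq [Fintype G] [DecidableEq Ω] (D : ZHyp G a b h e) :
    ∑ g : G, ((fixSet (Ω := Ω) g).card * (fixSet (Ω := Ω) g).card - (fixSet (Ω := Ω) g).card) =
      (h + 1) * h * e := by
  classical
  have := Finset.sum_card_bipartiteAbove_eq_sum_card_bipartiteBelow
    (s := (Finset.univ : Finset G)) (t := (Finset.univ : Finset Ω).offDiag)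
    (fun g p => g • p.1 = p.1 ∧ g • p.2 = p.2)
  simp only [Finset.bipartiteAbove, Finset.bipartiteBelow] at this
  have h0 : ∀ g : G, (fixSet (Ω := Ω) g).offDiag =
      (Finset.univ : Finset Ω).offDiag.filter fun p => g • p.1 = p.1 ∧ g • p.2 = p.2 := by
    intro g
    ext p
    simp only [Finset.mem_offDiag, Finset.mem_filter, Finset.mem_univ, true_and, mem_fixSet]
    tauto
  rw [Finset.sum_congr rfl fun g _ => ((Finset.offDiag_card _).symm.trans
    (congrArg Finset.card (h0 g))), this]
  have h1 : ∀ p ∈ (Finset.univ : Finset Ω).offDiag,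
      (Finset.univ.filter fun g : G => g • p.1 = p.1 ∧ g • p.2 = p.2).card = e := by
    intro p hp
    rw [← D.card_pair (Finset.mem_offDiag.mp hp).2.2, Nat.card_eq_fintype_card,
      ← Fintype.card_subtype]
    exact Fintype.card_congr (Equiv.subtypeEquivRight fun g => mem_inf_stabilizer.symm)
  rw [Finset.sum_congr rfl h1, Finset.sum_const, Finset.offDiag_card, Finset.card_univ, D.hh,
    smul_eq_mul]
  congr 1
  rw [Nat.mul_succ, Nat.add_sub_cancel]

/-- S0880 -/
theorem ZHyp.exists_not_isConj (D : ZHyp G a b h e) :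
    ∃ x y : G, (∀ c : Ω, x • c ≠ c) ∧ (∀ c : Ω, y • c ≠ c) ∧ ¬ IsConj x y := by
  classical
  letI := Fintype.ofFinite G
  set f : G → ℕ := fun g => (fixSet (Ω := Ω) g).card with hf
  set Z : Finset G := Finset.univ.filter fun g => f g = 0 with hZ
  have hh1 := D.one_lt_h
  have he3 := D.three_le_e
  -- the identity 2 + f * f = 3 f + 2 [f = 0] for f ≤ 2
  have hf1 : f 1 = h + 1 := by
    simp [hf, fixSet, one_smul, D.hh]
  have hpt : ∀ g ∈ (Finset.univ : Finset G).erase 1,
      2 + (f g * f g - f g) = 2 * f g + 2 * (if f g = 0 then 1 else 0) := by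
    intro g hg
    have : f g ≤ 2 := D.card_fixSet_le (Finset.mem_erase.mp hg).1
    interval_cases (f g) <;> simp
  have hsum := Finset.sum_congr rfl hpt
  rw [Finset.sum_add_distrib, Finset.sum_add_distrib, Finset.sum_const, ← Finset.mul_sum,
    ← Finset.mul_sum] at hsum
  have hS1 : f 1 + ∑ g ∈ (Finset.univ : Finset G).erase 1, f g = (h + 1) * (h * e) := by
    rw [Finset.add_sum_erase _ _ (Finset.mem_univ _)]
    exact D.sum_fix
  have hS2 : (f 1 * f 1 - f 1) + ∑ g ∈ (Finset.univ : Finset G).erase 1, (f g * f g - f g) =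
      (h + 1) * h * e := by
    rw [Finset.add_sum_erase _ (fun g => f g * f g - f g) (Finset.mem_univ _)]
    exact D.sum_fix_sq
  have hcard : ((Finset.univ : Finset G).erase 1).card + 1 = (h + 1) * (h * e) := by
    rw [Finset.card_erase_add_one (Finset.mem_univ _), Finset.card_univ, ← Nat.card_eq_fintype_card,
      D.card_group]
  have hZ0 : (∑ g ∈ (Finset.univ : Finset G).erase 1, if f g = 0 then 1 else 0) = Z.card := by
    rw [hZ, Finset.card_filter, ← Finset.add_sum_erase _ _ (Finset.mem_univ (1 : G)),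
      if_neg (by omega : ¬ f 1 = 0), zero_add]
  have hsq : f 1 * f 1 - f 1 = (h + 1) * h := by
    rw [hf1, Nat.mul_succ, Nat.add_sub_cancel]
  -- `2 |Z| + 2 h h = h (h + 1) (e + 1)`
  have hN : 2 * Z.card + 2 * (h * h) = h * ((h + 1) * (e + 1)) := by
    rw [hsq] at hS2
    rw [hf1] at hS1
    rw [hZ0, smul_eq_mul] at hsum
    nlinarith
  obtain ⟨x, hx⟩ : ∃ x, x ∈ Z := by
    refine Finset.card_pos.mp ?_
    by_contra h0
    rw [not_lt, Nat.le_zero] at h0
    rw [h0] at hN
    nlinarith
  have hfix : ∀ g ∈ Z, ∀ c : Ω, g • c ≠ c := by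
    intro g hg c hc
    have := Finset.card_eq_zero.mp (Finset.mem_filter.mp hg).2
    have hmem : c ∈ fixSet (Ω := Ω) g := mem_fixSet.mpr hc
    rw [this] at hmem
    exact Finset.notMem_empty c hmem
  by_contra hcon
  push Not at hcon
  -- a single class
  have hcls : Z = Finset.univ.filter fun g => IsConj x g := by
    ext g
    simp only [hZ, Finset.mem_filter, Finset.mem_univ, true_and]
    constructor
    · intro hg
      exact hcon x g (hfix x hx) (hfix g (Finset.mem_filter.mpr ⟨Finset.mem_univ _, hg⟩))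
    · intro hg
      obtain ⟨c, rfl⟩ := isConj_iff.mp hg
      simp only [hf, fixSet_conj_card]
      exact (Finset.mem_filter.mp hx).2
  have hdiv : Z.card * Nat.card (Subgroup.centralizer ({x} : Set G)) = (h + 1) * (h * e) := by
    rw [← D.card_group, ← card_conj_mul_card_centralizer x, hcls, Nat.card_eq_fintype_card
      (α := {g : G // IsConj x g}), Fintype.card_subtype]
  set c := Nat.card (Subgroup.centralizer ({x} : Set G)) with hc
  have hz : 0 < Z.card := Finset.card_pos.mpr ⟨x, hx⟩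
  rcases le_or_gt c 2 with hc2 | hc2
  · nlinarith [Nat.mul_le_mul_left Z.card hc2]
  · nlinarith [Nat.mul_le_mul_left Z.card (show 3 ≤ c from hc2),
      Nat.mul_le_mul_left ((h + 1) * h) he3]

/-! ### Transfer: the two-point stabilizer is inverted by a swapping involution -/

/-- A Zassenhaus datum with the Frobenius kernel of the point stabilizer. -/
structure ZKer (G : Type u) [Group G] {Ω : Type v} [MulAction G Ω] [Fintype Ω] (a b : Ω)
    (h e : ℕ) (H : Subgroup G) : Prop extends ZHyp G a b h e where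
  hHa : H ≤ stabilizer G a
  hHcard : Nat.card H = h
  hHfix : ∀ u ∈ H, u ≠ 1 → ∀ c : Ω, u • c = c → c = a

/-- The Frobenius kernel of a point stabilizer exists. -/
theorem ZHyp.exists_kernel (D : ZHyp G a b h e) :
    ∃ H : Subgroup G, H ≤ stabilizer G a ∧ Nat.card H = h ∧
      ∀ u ∈ H, u ≠ 1 → ∀ c : Ω, u • c = c → c = a := by
  set B := stabilizer G a with hB
  set E := (stabilizer G a ⊓ stabilizer G b : Subgroup G) with hE
  have hEB : E ≤ B := inf_le_left
  have hcardE : Nat.card (E.subgroupOf B) = e :=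
    (Nat.card_congr (Subgroup.subgroupOfEquivOfLe hEB).toEquiv).trans D.he
  have hh1 := D.one_lt_h
  have he3 := D.three_le_e
  have hidx : (E.subgroupOf B).index = h := by
    have h1 := (E.subgroupOf B).index_mul_card
    rw [hcardE, D.card_stabilizer a] at h1
    exact Nat.eq_of_mul_eq_mul_right (show 0 < e by omega) h1
  have hF : Cfsg.IsFrobeniusComplement (E.subgroupOf B) := by
    refine Cfsg.Agent.Lib.Frobenius.isFrobeniusComplement_iff.mpr ⟨fun h0 => ?_, fun h0 => ?_, ?_⟩
    · rw [h0, Subgroup.card_bot] at hcardE; omega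
    · rw [h0, Subgroup.index_top] at hidx; omega
    · intro g hg x hx hgx
      by_contra hx1
      have hx1' : (x : G) ≠ 1 := fun h => hx1 (Subtype.ext h)
      have hga : (g : G) • a = a := g.2
      have hxab := mem_inf_stabilizer.mp (Subgroup.mem_subgroupOf.mp hx)
      have hgb := (mem_inf_stabilizer.mp (Subgroup.mem_subgroupOf.mp hgx)).2
      simp only [Subgroup.coe_mul, Subgroup.coe_inv, mul_smul, inv_smul_eq_iff] at hgb
      refine hg (Subgroup.mem_subgroupOf.mpr (mem_inf_stabilizer.mpr ⟨hga, ?_⟩))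
      by_contra hne
      refine hx1' (D.three D.hab (Ne.symm hne) ?_ hxab.1 hxab.2 hgb)
      exact fun h' => D.hab (MulAction.injective (g : G) (hga.trans h'))
  obtain ⟨K, -, hK, -, -, -, -, hKc⟩ := Cfsg.Agent.Lib.Frobenius.exists_frobeniusKernel hF
  refine ⟨K.map B.subtype, Subgroup.map_subtype_le K, ?_, ?_⟩
  · rw [Subgroup.card_subtype, hKc, hidx]
  · rintro u ⟨x, hx, rfl⟩ hu1 c hc
    by_contra hca
    have hx' : x ∈ Cfsg.frobeniusKernel (E.subgroupOf B) := hK ▸ hx
    rcases Cfsg.Agent.Lib.Frobenius.mem_frobeniusKernel_iff.mp hx' with rfl | hx'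
    · exact hu1 rfl
    obtain ⟨t, hta, htb⟩ := D.two_trans D.hab (Ne.symm hca)
    refine hx' ⟨t, hta⟩ (Subgroup.mem_subgroupOf.mpr (mem_inf_stabilizer.mpr ⟨?_, ?_⟩))
    · simp only [Subgroup.coe_mul, Subgroup.coe_inv, mul_smul, inv_smul_eq_iff, hta]
      exact x.2
    · simp only [Subgroup.coe_mul, Subgroup.coe_inv, mul_smul, inv_smul_eq_iff, htb]
      exact hc

variable {H : Subgroup G}

theorem ZKer.mem_iff (K : ZKer G a b h e H) (g : G) :
    g ∈ H ↔ g = 1 ∨ (g • a = a ∧ ∀ c, g • c = c → c = a) := by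
  classical
  refine ⟨fun hg => or_iff_not_imp_left.mpr fun h1 => ⟨K.hHa hg, K.hHfix g hg h1⟩, ?_⟩
  rintro (rfl | hg)
  · exact H.one_mem
  letI := Fintype.ofFinite G
  set Ga : Finset G := Finset.univ.filter fun g => g • a = a with hGa
  set O : Finset Ω := Finset.univ.erase a with hO
  have hOc : O.card = h := by
    rw [hO, Finset.card_erase_of_mem (Finset.mem_univ _), Finset.card_univ, K.hh,
      Nat.add_sub_cancel]
  have hGac : Ga.card = h * e := by
    rw [← K.card_stabilizer a, Nat.card_eq_fintype_card, hGa, ← Fintype.card_subtype]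
    rfl
  set F : Finset G := Ga.filter fun g => ∀ c, g • c = c → c = a with hF
  set NF : Finset G := Ga.filter fun g => ¬ ∀ c, g • c = c → c = a with hNF
  have hsum : ∑ g ∈ Ga, (O.filter fun c => g • c = c).card = h * e := by
    have := Finset.sum_card_bipartiteAbove_eq_sum_card_bipartiteBelow
      (s := Ga) (t := O) (fun g c => g • c = c)
    simp only [Finset.bipartiteAbove, Finset.bipartiteBelow] at this
    rw [this]
    have h1 : ∀ c ∈ O, (Ga.filter fun g => g • c = c).card = e := by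
      intro c hc
      rw [← K.card_pair (Finset.mem_erase.mp hc).1.symm, Nat.card_eq_fintype_card, hGa,
        Finset.filter_filter, ← Fintype.card_subtype]
      exact Fintype.card_congr (Equiv.subtypeEquivRight fun g => mem_inf_stabilizer.symm)
    rw [Finset.sum_congr rfl h1, Finset.sum_const, hOc, smul_eq_mul]
  have hone : (1 : G) ∈ NF := by
    simp only [hNF, hGa, Finset.mem_filter, Finset.mem_univ, one_smul, true_and, not_forall]
    exact ⟨b, trivial, K.hab.symm⟩
  have hNFc : h + (NF.erase 1).card ≤ h * e := by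
    rw [← hsum]
    refine le_trans ?_ (Finset.sum_le_sum_of_subset (Finset.filter_subset
      (fun g => ¬ ∀ c, g • c = c → c = a) Ga))
    rw [← hNF, ← Finset.add_sum_erase _ _ hone]
    refine add_le_add (le_of_eq ?_) ?_
    · simp [one_smul, hOc]
    · rw [Finset.card_eq_sum_ones]
      refine Finset.sum_le_sum fun g hg => ?_
      have h1 := (Finset.mem_filter.mp (Finset.mem_erase.mp hg).2).2
      push Not at h1
      obtain ⟨c, hc, hca⟩ := h1
      exact Finset.card_pos.mpr ⟨c, Finset.mem_filter.mpr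
        ⟨Finset.mem_erase.mpr ⟨hca, Finset.mem_univ _⟩, hc⟩⟩
  have hNFge : h * e ≤ h + (NF.erase 1).card := by
    have h2 : ∑ g ∈ Ga, (O.filter fun c => g • c = c).card =
        ∑ g ∈ NF, (O.filter fun c => g • c = c).card := by
      refine (Finset.sum_subset (Finset.filter_subset _ _) fun g hg hgN => ?_).symm
      simp only [hNF, Finset.mem_filter, hg, true_and, not_not] at hgN
      rw [Finset.card_eq_zero, Finset.filter_eq_empty_iff]
      exact fun c hc h' => (Finset.mem_erase.mp hc).1 (hgN c h')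
    rw [← hsum, h2, ← Finset.add_sum_erase _ _ hone]
    refine add_le_add (le_of_eq (by simp [one_smul, hOc])) ?_
    rw [Finset.card_eq_sum_ones]
    refine Finset.sum_le_sum fun g hg => ?_
    have hga : g • a = a :=
      (Finset.mem_filter.mp (Finset.mem_filter.mp (Finset.mem_erase.mp hg).2).1).2
    refine Finset.card_le_one.mpr fun c hc d hd => by_contra fun hcd => ?_
    simp only [hO, Finset.mem_filter, Finset.mem_erase] at hc hd
    exact (Finset.mem_erase.mp hg).1
      (K.three hcd (hd.1.1) hc.1.1 hc.2 hd.2 hga)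
  have hsplit : F.card + NF.card = h * e := by
    rw [hF, hNF, Finset.card_filter_add_card_filter_not, hGac]
  have hNFer := Finset.card_erase_add_one hone
  have hh1 := K.one_lt_h
  set HS : Finset G := (Finset.univ.filter fun g => g ∈ H).erase 1 with hHS
  have hsub : HS ⊆ F := fun g hg => by
    simp only [hHS, Finset.mem_erase, Finset.mem_filter, Finset.mem_univ, true_and] at hg
    simp only [hF, hGa, Finset.mem_filter, Finset.mem_univ, true_and]
    exact ⟨K.hHa hg.2, K.hHfix g hg.2 hg.1⟩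
  have hHSc : HS.card + 1 = h := by
    rw [hHS, Finset.card_erase_add_one (by simp), ← K.hHcard, Nat.card_eq_fintype_card,
      Fintype.card_subtype]
  have heq := Finset.eq_of_subset_of_card_le hsub (by omega)
  have : g ∈ HS := by rw [heq]; simpa [hF, hGa] using hg
  exact (Finset.mem_filter.mp (Finset.mem_erase.mp this).2).2

theorem ZKer.conj_mem (K : ZKer G a b h e H) {g : G} (hg : g • a = a) {u : G} (hu : u ∈ H) :
    g * u * g⁻¹ ∈ H := by
  rw [K.mem_iff] at hu ⊢
  rcases hu with rfl | ⟨hua, hu⟩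
  · left; simp
  · right
    refine ⟨by rw [mul_smul, mul_smul, inv_smul_eq_iff.mpr hg.symm, hua, hg], fun c hc => ?_⟩
    rw [mul_smul, mul_smul, ← eq_inv_smul_iff] at hc
    rw [← smul_inv_smul g c, hu _ hc, hg]

theorem ZKer.normal (K : ZKer G a b h e H) : (H.subgroupOf (stabilizer G a)).Normal :=
  ⟨fun u hu g => Subgroup.mem_subgroupOf.mpr (K.conj_mem g.2 (Subgroup.mem_subgroupOf.mp hu))⟩

theorem ZKer.disjoint_pair (K : ZKer G a b h e H) {x : G} (hx : x ∈ H) (hxb : x • b = b) :
    x = 1 := by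
  by_contra h1
  exact K.hab (K.hHfix x hx h1 b hxb).symm

/-- The projection of the point stabilizer onto the two-point stabilizer. -/
theorem ZKer.exists_proj (K : ZKer G a b h e H) :
    ∃ π : stabilizer G a →* ↥(stabilizer G a ⊓ stabilizer G b : Subgroup G),
      (∀ x : ↥(stabilizer G a ⊓ stabilizer G b : Subgroup G),
        π ⟨(x : G), (mem_inf_stabilizer.mp x.2).1⟩ = x) ∧
      ∀ u : stabilizer G a, (u : G) ∈ H → π u = 1 := by
  haveI := K.normal
  set B := stabilizer G a
  set E := (stabilizer G a ⊓ stabilizer G b : Subgroup G)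
  set H' := H.subgroupOf B
  let ι : E →* B ⧸ H' := (QuotientGroup.mk' H').comp (Subgroup.inclusion inf_le_left)
  have hinj : Function.Injective ι := by
    rw [injective_iff_map_eq_one]
    intro x hx
    have h1 : (x : G) ∈ H := Subgroup.mem_subgroupOf.mp
      ((QuotientGroup.eq_one_iff (N := H') (Subgroup.inclusion (inf_le_left : E ≤ B) x)).mp hx)
    exact Subtype.ext (K.disjoint_pair h1 (mem_inf_stabilizer.mp x.2).2)
  have hcard : Nat.card (B ⧸ H') = Nat.card E := by
    have h1 : Nat.card H' = h :=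
      (Nat.card_congr (Subgroup.subgroupOfEquivOfLe K.hHa).toEquiv).trans K.hHcard
    have h2 := Subgroup.card_eq_card_quotient_mul_card_subgroup H'
    rw [h1, K.card_stabilizer a] at h2
    rw [K.he]
    exact Nat.eq_of_mul_eq_mul_right (show 0 < h by have := K.one_lt_h; omega)
      (by rw [← h2, mul_comm])
  let ψ := MulEquiv.ofBijective ι ((Nat.bijective_iff_injective_and_card ι).mpr ⟨hinj, hcard.symm⟩)
  refine ⟨ψ.symm.toMonoidHom.comp (QuotientGroup.mk' H'), fun x => ?_, fun u hu => ?_⟩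
  · exact ψ.symm_apply_eq.mpr rfl
  · show ψ.symm (QuotientGroup.mk' H' u) = 1
    have h1 : QuotientGroup.mk' H' u = 1 :=
      (QuotientGroup.eq_one_iff u).mpr (Subgroup.mem_subgroupOf.mpr hu)
    rw [h1, map_one]

theorem ZHyp.commutator_eq_top (D : ZHyp G a b h e) [IsSimpleGroup G] :
    commutator G = ⊤ := by
  refine ((inferInstance : (commutator G).Normal).eq_bot_or_eq_top).resolve_left fun hbot => ?_
  have hcomm : ∀ x y : G, x * y = y * x := by
    intro x y
    have h1 : ⁅x, y⁆ ∈ commutator G :=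
      Subgroup.commutator_mem_commutator (Subgroup.mem_top _) (Subgroup.mem_top _)
    rw [hbot, Subgroup.mem_bot] at h1
    exact commutatorElement_eq_one_iff_mul_comm.mp h1
  obtain ⟨x, hx, hx1⟩ := D.exists_ne_one_mem
  haveI := D.zass.1
  haveI := D.isPretransitive
  refine hx1 (FaithfulSMul.eq_of_smul_eq_smul (α := Ω) fun c => ?_)
  obtain ⟨g, rfl⟩ := MulAction.exists_smul_eq G a c
  rw [one_smul, ← mul_smul, hcomm, mul_smul, (mem_inf_stabilizer.mp hx).1]

theorem ZHyp.conj_mem_pair (D : ZHyp G a b h e) {w x : G} (hwa : w • a = b) (hwb : w • b = a)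
    (hx : x ∈ stabilizer G a ⊓ stabilizer G b) : w⁻¹ * x * w ∈ stabilizer G a ⊓ stabilizer G b := by
  rw [mem_inf_stabilizer] at hx ⊢
  simp [mul_smul, hwa, hwb, hx.1, hx.2, inv_smul_eq_iff]

/-- The transfer lemma. -/
theorem ZHyp.transfer_pair [IsSimpleGroup G] (D : ZHyp G a b h e)
    (φ : stabilizer G a →* ℂˣ) {w x : G} (hwa : w • a = b) (hwb : w • b = a)
    (hx : x ∈ stabilizer G a ⊓ stabilizer G b) :
    φ ⟨x, (mem_inf_stabilizer.mp hx).1⟩ *
      φ ⟨w⁻¹ * x * w, (mem_inf_stabilizer.mp (D.conj_mem_pair hwa hwb hx)).1⟩ = 1 := by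
  classical
  have htriv : MonoidHom.transfer φ x = 1 := by
    have h1 := Abelianization.commutator_subset_ker (MonoidHom.transfer φ)
    rw [D.commutator_eq_top] at h1
    exact h1 (Subgroup.mem_top x)
  letI := Fintype.ofFinite (Quotient (orbitRel (Subgroup.zpowers x) (G ⧸ (stabilizer G a))))
  rw [MonoidHom.transfer_eq_prod_quotient_orbitRel_zpowers_quot] at htriv
  have hxa := (mem_inf_stabilizer.mp hx).1
  have hxb := (mem_inf_stabilizer.mp hx).2
  -- fixed cosets
  set qa : Quotient (orbitRel (Subgroup.zpowers x) (G ⧸ (stabilizer G a))) :=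
    Quotient.mk'' ((1 : G) : G ⧸ (stabilizer G a)) with hqa
  set qb : Quotient (orbitRel (Subgroup.zpowers x) (G ⧸ (stabilizer G a))) :=
    Quotient.mk'' ((w : G) : G ⧸ (stabilizer G a)) with hqb
  have hfixa : x • ((1 : G) : G ⧸ (stabilizer G a)) = ((1 : G) : G ⧸ (stabilizer G a)) := by
    show ((x * 1 : G) : G ⧸ (stabilizer G a)) = _
    rw [QuotientGroup.eq]
    simp [inv_smul_eq_iff, hxa]
  have hfixb : x • ((w : G) : G ⧸ (stabilizer G a)) = ((w : G) : G ⧸ (stabilizer G a)) := by
    show ((x * w : G) : G ⧸ (stabilizer G a)) = _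
    rw [QuotientGroup.eq]
    simp [mul_smul, hwa, hxb, inv_smul_eq_iff]
  have hout : ∀ c : G ⧸ (stabilizer G a), x • c = c →
      (Quotient.mk'' c : Quotient (orbitRel (Subgroup.zpowers x) (G ⧸ (stabilizer G a)))).out = c := by
    intro c hc
    have h1 := Quotient.mk_out (s := orbitRel (Subgroup.zpowers x) (G ⧸ (stabilizer G a))) c
    obtain ⟨⟨z, hz⟩, hzc⟩ := h1
    refine hzc.symm.trans ?_
    show z • c = c
    exact (Subgroup.zpowers_le.mpr (show x ∈ stabilizer G c from hc) hz)
  have hne : qa ≠ qb := by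
    intro heq
    have h1 := congrArg Quotient.out heq
    rw [hqa, hqb, hout _ hfixa, hout _ hfixb, QuotientGroup.eq] at h1
    simp [hwa] at h1
    exact D.hab h1.symm
  have hperiod : ∀ c : G ⧸ (stabilizer G a), x • c = c → Function.minimalPeriod (x • ·) c = 1 :=
    fun c hc => Function.minimalPeriod_eq_one_iff_isFixedPt.mpr hc
  rw [Fintype.prod_eq_mul qa qb hne ?_] at htriv
  · have e1 : ∀ (k : G) (hk : k ∈ (stabilizer G a)) (z : (stabilizer G a)) (hz : k⁻¹ * (z : G) * k ∈ (stabilizer G a)),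
        φ ⟨k⁻¹ * (z : G) * k, hz⟩ = φ z := by
      intro k hk z hz
      rw [show (⟨k⁻¹ * (z : G) * k, hz⟩ : (stabilizer G a)) = (⟨k, hk⟩ : (stabilizer G a))⁻¹ * z * ⟨k, hk⟩ from rfl, map_mul,
        map_mul, map_inv, mul_right_comm, inv_mul_cancel, one_mul]
    refine Eq.trans (congrArg₂ (· * ·) ?_ ?_) htriv
    · have h1 : qa.out = ((1 : G) : G ⧸ (stabilizer G a)) := hout _ hfixa
      have hk : qa.out.out ∈ (stabilizer G a) := by
        have h2 : ((qa.out.out : G) : G ⧸ (stabilizer G a)) = ((1 : G) : G ⧸ (stabilizer G a)) := by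
          rw [QuotientGroup.out_eq', h1]
        have := QuotientGroup.eq.mp h2.symm
        simpa using this
      rw [← e1 _ hk ⟨x, hxa⟩ (mul_mem (mul_mem (inv_mem hk) hxa) hk)]
      congr 1
      apply Subtype.ext
      simp only [h1, hperiod _ hfixa, pow_one]
    · have h1 : qb.out = ((w : G) : G ⧸ (stabilizer G a)) := hout _ hfixb
      set k := w⁻¹ * qb.out.out with hkdef
      have hk : k ∈ (stabilizer G a) := by
        have h2 : ((qb.out.out : G) : G ⧸ (stabilizer G a)) = ((w : G) : G ⧸ (stabilizer G a)) := by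
          rw [QuotientGroup.out_eq', h1]
        exact QuotientGroup.eq.mp h2.symm
      have hwx : w⁻¹ * x * w ∈ (stabilizer G a) := (mem_inf_stabilizer.mp (D.conj_mem_pair hwa hwb hx)).1
      rw [← e1 k hk ⟨w⁻¹ * x * w, hwx⟩ (mul_mem (mul_mem (inv_mem hk) hwx) hk)]
      congr 1
      apply Subtype.ext
      simp only [h1, hperiod _ hfixb, pow_one, hkdef, mul_inv_rev, inv_inv, mul_assoc,
        mul_inv_cancel_left]
  · rintro q ⟨hqa', hqb'⟩
    set g := q.out.out with hg
    have hga : g • a ≠ a := by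
      intro hga
      apply hqa'
      have h2 : q.out = ((1 : G) : G ⧸ (stabilizer G a)) := by
        rw [← QuotientGroup.out_eq' q.out, QuotientGroup.eq]
        simp [← hg, inv_smul_eq_iff, hga]
      rw [← Quotient.out_eq' q, h2]
    have hgb : g • a ≠ b := by
      intro hgb
      apply hqb'
      have h2 : q.out = ((w : G) : G ⧸ (stabilizer G a)) := by
        rw [← QuotientGroup.out_eq' q.out, QuotientGroup.eq]
        simp [← hg, mul_smul, hgb, hwa, inv_smul_eq_iff]
      rw [← Quotient.out_eq' q, h2]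
    set m := Function.minimalPeriod (x • ·) q.out
    have hm := QuotientGroup.out_conj_pow_minimalPeriod_mem (stabilizer G a) x q.out
    have hxm : x ^ m = 1 := by
      refine D.three D.hab (Ne.symm hgb) (Ne.symm hga) ?_ ?_ ?_
      · exact pow_mem (show x ∈ stabilizer G a from hxa) m
      · exact pow_mem (show x ∈ stabilizer G b from hxb) m
      · have : (g⁻¹ * x ^ m * g) • a = a := hm
        rwa [mul_smul, mul_smul, inv_smul_eq_iff] at this
    rw [← map_one φ]
    congr 1
    apply Subtype.ext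
    simp [show x ^ Function.minimalPeriod (x • ·) q.out = 1 from hxm]

theorem ZHyp.exists_swap (D : ZHyp G a b h e) :
    ∃ w : G, w • a = b ∧ w • b = a ∧ orderOf w = 2 := by
  obtain ⟨w', hwa, hwb⟩ := D.two_trans D.hab D.hab.symm
  obtain ⟨j, hj⟩ := D.hodd
  have hE : w' ^ 2 ∈ stabilizer G a ⊓ stabilizer G b := by
    rw [mem_inf_stabilizer, pow_two]
    simp [mul_smul, hwa, hwb]
  have hpj := pow_mem hE j
  rw [mem_inf_stabilizer] at hpj
  have hwe : (w' ^ 2) ^ e = 1 := by
    have := pow_card_eq_one' (x := (⟨w' ^ 2, hE⟩ : ↥(stabilizer G a ⊓ stabilizer G b : Subgroup G)))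
    rw [D.he] at this
    exact congrArg Subtype.val this
  have hwswap : (w' ^ e) • a = b ∧ (w' ^ e) • b = a := by
    rw [show w' ^ e = w' * (w' ^ 2) ^ j by rw [← pow_mul, hj, pow_succ'], mul_smul, mul_smul,
      hpj.1, hpj.2]
    exact ⟨hwa, hwb⟩
  refine ⟨w' ^ e, hwswap.1, hwswap.2, ?_⟩
  refine orderOf_eq_prime (by rw [← pow_mul, mul_comm, pow_mul, hwe]) fun h1 => D.hab ?_
  rw [h1, one_smul] at hwswap
  exact hwswap.1

theorem ZKer.isZGroup (K : ZKer G a b h e H) :
    IsZGroup ↥(stabilizer G a ⊓ stabilizer G b : Subgroup G) := by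
  set E := (stabilizer G a ⊓ stabilizer G b : Subgroup G) with hEdef
  have hnor : ∀ x : E, (x : G) ∈ Subgroup.normalizer (H : Set G) := fun x => by
    refine Subgroup.mem_normalizer_iff.mpr fun u => ⟨K.conj_mem (mem_inf_stabilizer.mp x.2).1, ?_⟩
    intro hu
    have := K.conj_mem (g := (x : G)⁻¹)
      (inv_smul_eq_iff.mpr (mem_inf_stabilizer.mp x.2).1.symm) hu
    simpa [mul_assoc] using this
  let φ : E →* MulAut H := (Subgroup.normalizerMonoidHom H).comp
    ({ toFun := fun x => ⟨(x : G), hnor x⟩, map_one' := rfl, map_mul' := fun _ _ => rfl } :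
      E →* Subgroup.normalizer (H : Set G))
  haveI : Nontrivial H := Finite.one_lt_card_iff_nontrivial.mp (K.hHcard ▸ K.one_lt_h)
  refine ⟨fun p hp P => ?_⟩
  haveI := Fact.mk hp
  refine (Cfsg.Agent.Lib.Frobenius.isCyclic_or_quaternion_of_fixedPointFree φ ?_
    (P : Subgroup E) P.2).resolve_right ?_
  · intro x hx u hu
    by_contra hu1
    have hu1' : (u : G) ≠ 1 := fun h => hu1 (Subtype.ext h)
    have hcomm : (x : G) * u * (x : G)⁻¹ = u := congrArg Subtype.val hu
    have h2 : (u : G) • b = b := by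
      refine by_contra fun hub => hx (Subtype.ext ?_)
      have hxu : (x : G) • (u : G) • b = (u : G) • b := by
        rw [← mul_smul, show (x : G) * u = u * x from mul_inv_eq_iff_eq_mul.mp hcomm, mul_smul,
          (mem_inf_stabilizer.mp x.2).2]
      refine K.three K.hab (Ne.symm hub) ?_ (mem_inf_stabilizer.mp x.2).1
        (mem_inf_stabilizer.mp x.2).2 hxu
      intro h3
      exact K.hab (MulAction.injective (u : G) ((K.hHa u.2).trans h3))
    exact K.hab (K.hHfix u u.2 hu1' b h2).symm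
  · rintro ⟨rfl, m, ⟨eq⟩⟩
    have h1 : Nat.card (P : Subgroup E) ∣ e := by
      rw [← K.he]
      exact Subgroup.card_subgroup_dvd_card _
    rw [Nat.card_congr eq.toEquiv, Nat.card_eq_fintype_card, QuaternionGroup.card] at h1
    exact (Nat.not_even_iff_odd.mpr K.hodd)
      (even_iff_two_dvd.mpr ((Dvd.dvd.mul_right (by norm_num) _).trans h1))

/-- A swapping involution inverts the two-point stabilizer. -/
theorem ZKer.conj_eq_inv [IsSimpleGroup G] (K : ZKer G a b h e H) {w : G} (hwa : w • a = b)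
    (hwb : w • b = a) {x : G} (hx : x ∈ stabilizer G a ⊓ stabilizer G b) :
    w⁻¹ * x * w = x⁻¹ := by
  classical
  set E := (stabilizer G a ⊓ stabilizer G b : Subgroup G) with hEdef
  haveI := K.isZGroup
  haveI : IsCyclic (commutator E) := IsZGroup.isCyclic_commutator E
  let τ : E →* E :=
    { toFun := fun y => ⟨w⁻¹ * (y : G) * w, K.conj_mem_pair hwa hwb y.2⟩
      map_one' := Subtype.ext (by simp)
      map_mul' := fun y z => Subtype.ext (by simp [mul_assoc]) }
  have hτsurj : Function.Surjective τ := Finite.injective_iff_surjective.mp fun y z hyz =>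
    Subtype.ext (mul_left_cancel (mul_right_cancel (congrArg Subtype.val hyz)))
  -- τ y * y lies in the commutator
  have hmem : ∀ y : E, y * τ y ∈ commutator E := by
    intro y
    by_contra hy
    have hne : Abelianization.of (y * τ y) ≠ (1 : Abelianization E) := fun h1 =>
      hy ((QuotientGroup.eq_one_iff _).mp h1)
    haveI : NeZero ((Monoid.exponent (Abelianization E) : ℕ) : ℂ) :=
      ⟨by exact_mod_cast Monoid.ExponentExists.of_finite.exponent_ne_zero⟩
    obtain ⟨ψ, hψ⟩ := CommGroup.exists_apply_ne_one_of_hasEnoughRootsOfUnity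
      (Abelianization E) ℂ hne
    obtain ⟨π, hπ, -⟩ := K.exists_proj
    have := K.transfer_pair ((ψ.comp Abelianization.of).comp π) hwa hwb y.2
    simp only [MonoidHom.comp_apply] at this
    rw [hπ y] at this
    erw [hπ (τ y)] at this
    rw [← map_mul, ← map_mul] at this
    exact hψ this
  -- conjugation on the commutator is by power maps
  have hpow : ∀ y : E, ∃ i : ℤ, ∀ c ∈ commutator E, y * c * y⁻¹ = c ^ i := by
    intro y
    obtain ⟨i, hi⟩ := MonoidHom.map_cyclic
      ((MulAut.conjNormal (H := commutator E) y).toMonoidHom)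
    exact ⟨i, fun c hc => by simpa using congrArg Subtype.val (hi ⟨c, hc⟩)⟩
  have hτc : ∀ c ∈ commutator E, ∃ c₀ ∈ commutator E, τ c₀ = c := by
    intro c hc
    obtain ⟨c₀, rfl⟩ := hτsurj c
    refine ⟨c₀, ?_, rfl⟩
    have h1 : (commutator E).map τ = commutator E := by
      rw [map_commutator_eq, MonoidHom.range_eq_top.mpr hτsurj]
      rfl
    obtain ⟨d, hd, hdc⟩ := (h1.symm ▸ hc : τ c₀ ∈ (commutator E).map τ)
    exact ((Finite.injective_iff_surjective.mpr hτsurj) hdc) ▸ hd
  have hcomm_c : ∀ c ∈ commutator E, ∀ d ∈ commutator E, c * d = d * c := fun c hc d hd =>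
    congrArg Subtype.val (IsCyclic.commGroup.mul_comm (⟨c, hc⟩ : commutator E) ⟨d, hd⟩)
  have hsq : ∀ y : E, ∀ c ∈ commutator E, Commute (y ^ 2) c := by
    intro y c hc
    obtain ⟨i, hi⟩ := hpow y
    obtain ⟨c₀, hc₀, rfl⟩ := hτc c hc
    have h1 : τ y * τ c₀ * (τ y)⁻¹ = y * τ c₀ * y⁻¹ := by
      rw [hi _ hc, ← map_zpow, ← hi _ hc₀, map_mul, map_mul, map_inv]
    set d := y * τ y with hd
    have hty : τ y = y⁻¹ * d := by rw [hd, inv_mul_cancel_left]
    have hdc := hcomm_c d (hmem y) _ hc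
    rw [hty] at h1
    have h2 : y⁻¹ * τ c₀ * y = y * τ c₀ * y⁻¹ := by
      rw [← h1]
      calc y⁻¹ * τ c₀ * y = y⁻¹ * (τ c₀ * (d * d⁻¹)) * y := by rw [mul_inv_cancel, mul_one]
        _ = y⁻¹ * (d * τ c₀) * d⁻¹ * y := by rw [hdc]; group
        _ = y⁻¹ * d * τ c₀ * (y⁻¹ * d)⁻¹ := by group
    show y ^ 2 * τ c₀ = τ c₀ * y ^ 2
    calc y ^ 2 * τ c₀ = y * (y * τ c₀ * y⁻¹) * y := by rw [pow_two]; group
      _ = y * (y⁻¹ * τ c₀ * y) * y := by rw [h2]
      _ = τ c₀ * y ^ 2 := by rw [pow_two]; group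
  have hcentral : commutator E ≤ Subgroup.center E := by
    intro c hc
    rw [Subgroup.mem_center_iff]
    intro y
    obtain ⟨j, hj⟩ := K.hodd
    have hy : y = (y ^ 2) ^ (j + 1) := by
      rw [← pow_mul, show 2 * (j + 1) = e + 1 by omega, pow_succ,
        show y ^ e = 1 from K.he ▸ pow_card_eq_one', one_mul]
    rw [hy]
    exact (hsq y c hc).pow_left _
  have habel : ∀ y z : E, y * z = z * y :=
    commutative_of_cyclic_center_quotient (Abelianization.of (G := E))
      (by rw [Abelianization.ker_of]; exact hcentral)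
  have hbot : commutator E = ⊥ := by
    rw [commutator_def, Subgroup.commutator_eq_bot_iff_le_centralizer]
    intro y _
    rw [Subgroup.mem_centralizer_iff]
    exact fun z _ => habel z y
  have := hmem ⟨x, hx⟩
  rw [hbot, Subgroup.mem_bot] at this
  exact eq_inv_of_mul_eq_one_right (congrArg Subtype.val this)

/-! ### The induced characters -/

theorem sum_hom_units_eq_zero {B : Type*} [Group B] [Fintype B] (lam : B →* ℂˣ) (g : B)
    (hg : lam g ≠ 1) : ∑ x : B, (lam x : ℂ) = 0 := by
  have h1 : (lam g : ℂ) * ∑ x : B, (lam x : ℂ) = ∑ x : B, (lam x : ℂ) := by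
    rw [Finset.mul_sum]
    exact Fintype.sum_equiv (Equiv.mulLeft g) _ _ fun x => by simp
  have h2 : ((lam g : ℂ) - 1) * ∑ x : B, (lam x : ℂ) = 0 := by rw [sub_mul, h1, one_mul, sub_self]
  exact (mul_eq_zero.mp h2).resolve_left (sub_ne_zero.mpr fun h => hg (Units.ext h))

theorem sum_fixing [Fintype G] [DecidableEq Ω] (c : Ω) (v : ℂ) (f : G → ℂ)
    (hf : ∀ x : G, x • a = c → f x = v) {g : G} (hg : g • a = c) :
    ∑ x ∈ Finset.univ.filter (fun x : G => x • a = c), f x = Nat.card (stabilizer G a) * v := by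
  rw [Finset.sum_congr rfl fun x hx => hf x (Finset.mem_filter.mp hx).2, Finset.sum_const,
    nsmul_eq_mul]
  congr 2
  rw [Nat.card_eq_fintype_card, ← Finset.card_univ]
  refine Finset.card_bij (fun x hx => (⟨g⁻¹ * x, ?_⟩ : stabilizer G a))
    (fun _ _ => Finset.mem_univ _) (fun _ _ _ _ h => mul_left_cancel (congrArg Subtype.val h))
    (fun y _ => ⟨g * y, ?_, Subtype.ext (inv_mul_cancel_left g _)⟩)
  · rw [mem_stabilizer_iff, mul_smul, (Finset.mem_filter.mp hx).2, inv_smul_eq_iff, hg]
  · rw [Finset.mem_filter, mul_smul, (show (y : G) • a = a from y.2), hg]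
    exact ⟨Finset.mem_univ _, rfl⟩

/-- The value of the induced function on the nontrivial elements of the kernel. -/
theorem ZKer.indFun_kernel [Fintype G] (K : ZKer G a b h e H) (lam : stabilizer G a →* ℂˣ)
    (hlam : ∀ u : stabilizer G a, (u : G) ∈ H → lam u = 1) {u : G} (hu : u ∈ H) (hu1 : u ≠ 1) :
    Cfsg.indFun (stabilizer G a) (fun g => (lam g : ℂ)) u = 1 := by
  classical
  rw [indFun_apply, ← Finset.sum_subset
    (Finset.subset_univ (Finset.univ.filter fun x : G => x • a = a)) fun x _ hx => ?_]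
  · rw [sum_fixing a 1 _ (fun x hx => ?_) (one_smul G a), mul_one,
      inv_mul_cancel₀ (by exact_mod_cast Nat.card_pos.ne')]
    have hm : x⁻¹ * u * x ∈ H := by
      simpa using K.conj_mem (g := x⁻¹) (inv_smul_eq_iff.mpr hx.symm) hu
    rw [extendByZero_of_mem _ _ (K.hHa hm), hlam _ hm, Units.val_one]
  · refine extendByZero_of_not_mem _ _ fun hm => hx (Finset.mem_filter.mpr ⟨Finset.mem_univ _, ?_⟩)
    rw [mem_stabilizer_iff, mul_smul, mul_smul, inv_smul_eq_iff] at hm
    exact K.hHfix u hu hu1 _ hm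

/-- The value of the induced function on the two-point stabilizer. -/
theorem ZKer.indFun_pair [IsSimpleGroup G] [Fintype G] (K : ZKer G a b h e H)
    (lam : stabilizer G a →* ℂˣ) {y : G} (hy : y ∈ stabilizer G a ⊓ stabilizer G b) (hy1 : y ≠ 1) :
    Cfsg.indFun (stabilizer G a) (fun g => (lam g : ℂ)) y =
      (lam ⟨y, (mem_inf_stabilizer.mp hy).1⟩ : ℂ) +
        ((lam ⟨y, (mem_inf_stabilizer.mp hy).1⟩)⁻¹ : ℂˣ) := by
  classical
  obtain ⟨w, hwa, hwb, -⟩ := K.exists_swap
  have hya := (mem_inf_stabilizer.mp hy).1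
  have hyb := (mem_inf_stabilizer.mp hy).2
  have hconj : ∀ (k : G) (hk : k • a = a) (z : G) (hz : z • a = a) (hm : k⁻¹ * z * k ∈ stabilizer G a),
      lam ⟨k⁻¹ * z * k, hm⟩ = lam ⟨z, hz⟩ := by
    intro k hk z hz hm
    rw [show (⟨k⁻¹ * z * k, hm⟩ : stabilizer G a) =
      (⟨k, hk⟩ : stabilizer G a)⁻¹ * ⟨z, hz⟩ * ⟨k, hk⟩ from rfl, map_mul,
      map_mul, map_inv, mul_right_comm, inv_mul_cancel, one_mul]
  rw [indFun_apply]
  have hdisj : Disjoint (Finset.univ.filter fun x : G => x • a = a)
      (Finset.univ.filter fun x : G => x • a = b) :=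
    Finset.disjoint_filter.mpr fun x _ h1 h2 => K.hab (h1.symm.trans h2)
  rw [← Finset.sum_subset (Finset.subset_univ
    ((Finset.univ.filter fun x : G => x • a = a) ∪ (Finset.univ.filter fun x : G => x • a = b)))
    fun x _ hx => ?_]
  · rw [Finset.sum_union hdisj,
      sum_fixing a (lam ⟨y, hya⟩ : ℂ) _ (fun x hx => ?_) (one_smul G a),
      sum_fixing b (((lam ⟨y, hya⟩)⁻¹ : ℂˣ) : ℂ) _ (fun x hx => ?_) hwa, ← mul_add,
      inv_mul_cancel_left₀ (by exact_mod_cast Nat.card_pos.ne')]
    · have hm : x⁻¹ * y * x ∈ stabilizer G a := by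
        rw [mem_stabilizer_iff, mul_smul, mul_smul, hx, hyb, inv_smul_eq_iff, hx]
      rw [extendByZero_of_mem _ _ hm]
      refine congrArg Units.val ?_
      have hk : (w⁻¹ * x) • a = a := by rw [mul_smul, hx, inv_smul_eq_iff, hwa]
      have he1 : (w⁻¹ * x)⁻¹ * (y⁻¹) * (w⁻¹ * x) = x⁻¹ * y * x := by
        calc (w⁻¹ * x)⁻¹ * y⁻¹ * (w⁻¹ * x) = x⁻¹ * (w * y⁻¹ * w⁻¹) * x := by group
          _ = x⁻¹ * y * x := by
            congr 2
            rw [← K.conj_eq_inv hwa hwb hy]
            group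
      have hm' : (w⁻¹ * x)⁻¹ * y⁻¹ * (w⁻¹ * x) ∈ stabilizer G a := he1.symm ▸ hm
      refine Eq.trans ?_ ((hconj (w⁻¹ * x) hk y⁻¹ (inv_smul_eq_iff.mpr hya.symm) hm').trans
        (map_inv lam ⟨y, hya⟩))
      exact congrArg lam (Subtype.ext he1.symm)
    · have hm : x⁻¹ * y * x ∈ stabilizer G a := by
        rw [mem_stabilizer_iff, mul_smul, mul_smul, hx, hya, inv_smul_eq_iff, hx]
      rw [extendByZero_of_mem _ _ hm]
      exact congrArg Units.val (hconj x hx y hya hm)
  · refine extendByZero_of_not_mem _ _ fun hm => hx ?_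
    rw [mem_stabilizer_iff, mul_smul, mul_smul, inv_smul_eq_iff] at hm
    rw [Finset.mem_union, Finset.mem_filter, Finset.mem_filter]
    by_contra hc
    simp only [Finset.mem_univ, true_and, not_or] at hc
    exact hy1 (K.three K.hab (Ne.symm hc.2) (Ne.symm hc.1) hya hyb hm)

/-- S0881 -/
theorem ZKer.irr_indFun [IsSimpleGroup G] [Fintype G] (K : ZKer G a b h e H)
    {μ : stabilizer G a → ℂ} (hμ : Cfsg.IsCharacter (stabilizer G a) μ ∧ μ 1 = 1)
    (hμH : ∀ u : stabilizer G a, (u : G) ∈ H → μ u = 1) (hμne : μ ≠ fun _ => 1) :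
    Cfsg.IsIrrCharacter G (Cfsg.indFun (stabilizer G a) μ) ∧
      ∀ u ∈ H, u ≠ 1 → Cfsg.indFun (stabilizer G a) μ u = 1 := by
  classical
  obtain ⟨lam, rfl⟩ := IsCharacter.exists_hom_of_apply_one hμ.1 hμ.2
  have hlam : ∀ u : stabilizer G a, (u : G) ∈ H → lam u = 1 := fun u hu => Units.ext (hμH u hu)
  refine ⟨?_, fun u hu hu1 => K.indFun_kernel lam hlam hu hu1⟩
  obtain ⟨π, hπ, hπH⟩ := K.exists_proj
  -- decomposition of an element of the stabilizer
  have hdec : ∀ g : stabilizer G a, lam g = lam ⟨((π g : _) : G),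
      (mem_inf_stabilizer.mp (π g).2).1⟩ := by
    intro g
    set x : stabilizer G a := ⟨((π g : _) : G), (mem_inf_stabilizer.mp (π g).2).1⟩ with hx
    have h1 : π (g * x⁻¹) = 1 := by rw [map_mul, map_inv, hπ (π g), mul_inv_cancel]
    have h2 : ((g * x⁻¹ : stabilizer G a) : G) ∈ H := by
      haveI := K.normal
      by_contra hno
      set q := g * x⁻¹
      have hinj : ∀ z : stabilizer G a, π z = 1 → (z : G) ∈ H := by
        have hker : (H.subgroupOf (stabilizer G a)) = π.ker := by
          refine Subgroup.eq_of_le_of_card_ge (fun z hz => hπH z hz) ?_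
          have hsurj : Function.Surjective π := fun z => ⟨_, hπ z⟩
          have hq := Subgroup.card_eq_card_quotient_mul_card_subgroup π.ker
          rw [Nat.card_congr (QuotientGroup.quotientKerEquivOfSurjective π hsurj).toEquiv,
            K.he, K.card_stabilizer a] at hq
          rw [Nat.card_congr (Subgroup.subgroupOfEquivOfLe K.hHa).toEquiv, K.hHcard]
          refine le_of_eq (Nat.eq_of_mul_eq_mul_left (show 0 < e by have := K.three_le_e; omega) ?_)
          rw [← hq, mul_comm]
        intro z hz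
        have : z ∈ H.subgroupOf (stabilizer G a) := hker.symm ▸ hz
        exact this
      exact hno (hinj q h1)
    have h3 := hlam _ h2
    rw [map_mul, map_inv, mul_inv_eq_one] at h3
    exact h3
  -- the square is nontrivial
  obtain ⟨g₀, hg₀⟩ : ∃ g, lam g * lam g ≠ 1 := by
    by_contra hall
    push Not at hall
    apply hμne
    funext g
    have h1 : lam g ^ e = 1 := by
      rw [hdec g, ← map_pow]
      have hp : π g ^ e = 1 := K.he ▸ pow_card_eq_one'
      have : (⟨((π g : _) : G), (mem_inf_stabilizer.mp (π g).2).1⟩ : stabilizer G a) ^ e = 1 :=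
        Subtype.ext (by simpa using congrArg Subtype.val hp)
      rw [this, map_one]
    obtain ⟨j, hj⟩ := K.hodd
    rw [hj, pow_succ, pow_mul, pow_two, hall g, one_pow, one_mul] at h1
    simp [h1]
  have hchar : Cfsg.IsCharacter G (Cfsg.indFun (stabilizer G a) fun g => (lam g : ℂ)) :=
    IsCharacter.indFun _ hμ.1
  rw [IsCharacter.isIrr_iff hchar, classInner_indFun _ _ (isClassFunction_indFun _ _)]
  set θ := Cfsg.indFun (stabilizer G a) fun g => (lam g : ℂ) with hθ
  have hunit : ∀ g : stabilizer G a, starRingEnd ℂ (lam g : ℂ) = ((lam g)⁻¹ : ℂˣ) := by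
    intro g
    rw [Units.val_inv_eq_inv_val, Complex.inv_def, Complex.normSq_eq_norm_sq]
    have hn : ‖(lam g : ℂ)‖ = 1 := by
      refine Complex.norm_eq_one_of_pow_eq_one (n := Nat.card (stabilizer G a)) ?_ Nat.card_pos.ne'
      rw [← Units.val_pow_eq_pow_val, ← map_pow, pow_card_eq_one', map_one, Units.val_one]
    simp [hn]
  -- value on the outside of the kernel
  have hval : ∀ g : stabilizer G a, (g : G) ∉ H →
      θ (g : G) = (lam g : ℂ) + ((lam g)⁻¹ : ℂˣ) := by
    intro g hg
    rw [K.mem_iff] at hg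
    push Not at hg
    obtain ⟨hg1, hg2⟩ := hg
    obtain ⟨c, hgc, hca⟩ := hg2 g.2
    obtain ⟨t, hta, htb⟩ := K.two_trans K.hab (Ne.symm hca)
    have hyE : t⁻¹ * (g : G) * t ∈ stabilizer G a ⊓ stabilizer G b := by
      rw [mem_inf_stabilizer, mul_smul, mul_smul, mul_smul, mul_smul, hta, htb,
        (show (g : G) • a = a from g.2), hgc, inv_smul_eq_iff, inv_smul_eq_iff]
      exact ⟨hta.symm, htb.symm⟩
    have hy1 : t⁻¹ * (g : G) * t ≠ 1 := fun h1 => hg1 <| by
      have := congrArg (fun z => t * z * t⁻¹) h1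
      simpa [mul_assoc] using this
    have h1 : θ (g : G) = θ (t⁻¹ * (g : G) * t) := by
      have := isClassFunction_indFun (stabilizer G a) (fun g => (lam g : ℂ)) (g : G) t⁻¹
      rw [inv_inv] at this
      exact this.symm
    have h2 : lam ⟨t⁻¹ * (g : G) * t, (mem_inf_stabilizer.mp hyE).1⟩ = lam g := by
      rw [show (⟨t⁻¹ * (g : G) * t, (mem_inf_stabilizer.mp hyE).1⟩ : stabilizer G a) =
        (⟨t, hta⟩ : stabilizer G a)⁻¹ * g * ⟨t, hta⟩ from rfl, map_mul,
        map_mul, map_inv, mul_right_comm, inv_mul_cancel, one_mul]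
    rw [h1, hθ, K.indFun_pair lam hyE hy1, h2]
  have hpt : ∀ g : stabilizer G a, (lam g : ℂ) * starRingEnd ℂ (θ (g : G)) =
      1 + (lam g : ℂ) * (lam g : ℂ) + (if g = 1 then (h : ℂ) - 1 else 0) +
        (if (g : G) ∈ H ∧ g ≠ 1 then -1 else 0) := by
    intro g
    by_cases hg1 : g = 1
    · subst hg1
      rw [hθ, show ((1 : stabilizer G a) : G) = 1 from rfl, indFun_one]
      haveI := K.isPretransitive
      have hidx : (stabilizer G a).index = h + 1 := by
        rw [MulAction.index_stabilizer_of_transitive, Nat.card_eq_fintype_card, K.hh]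
      simp [hidx]
      ring
    · by_cases hgH : (g : G) ∈ H
      · have hg1' : (g : G) ≠ 1 := fun h => hg1 (Subtype.ext h)
        rw [hθ, K.indFun_kernel lam hlam hgH hg1', hlam g hgH]
        simp [hg1, hgH]
      · rw [hval g hgH]
        simp only [map_add, hunit, hg1, hgH, if_false, false_and, add_zero, mul_add]
        rw [← map_inv, hunit, ← map_inv, inv_inv, ← Units.val_mul, ← map_mul, mul_inv_cancel,
          map_one, Units.val_one]
  rw [classInner, Finset.sum_congr rfl fun g _ => hpt g]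
  simp only [Finset.sum_add_distrib, Finset.sum_const, Finset.card_univ, nsmul_eq_mul, mul_one,
    Finset.sum_ite_eq', Finset.mem_univ, if_true]
  have hs0 : ∑ g : stabilizer G a, (lam g : ℂ) * (lam g : ℂ) = 0 := by
    have := sum_hom_units_eq_zero (lam * lam) g₀ hg₀
    simpa using this
  have hsH : (Finset.univ.filter fun g : stabilizer G a => (g : G) ∈ H ∧ g ≠ 1).card + 1 = h := by
    have h1 : (Finset.univ.filter fun g : stabilizer G a => (g : G) ∈ H ∧ g ≠ 1) =
        (Finset.univ.filter fun g : stabilizer G a => g ∈ H.subgroupOf (stabilizer G a)).erase 1 := by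
      ext g
      simp [Subgroup.mem_subgroupOf, and_comm]
    rw [h1, Finset.card_erase_add_one (by simp), ← Fintype.card_subtype, ← Nat.card_eq_fintype_card]
    exact (Nat.card_congr (Subgroup.subgroupOfEquivOfLe K.hHa).toEquiv).trans K.hHcard
  rw [hs0, Finset.sum_ite, Finset.sum_const, Finset.sum_const_zero, add_zero, nsmul_eq_mul,
    ← Nat.card_eq_fintype_card]
  have hB : (Nat.card (stabilizer G a) : ℂ) ≠ 0 := by exact_mod_cast Nat.card_pos.ne'
  have hsH' : ((Finset.univ.filter fun g : stabilizer G a => (g : G) ∈ H ∧ g ≠ 1).card : ℂ) =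
      (h : ℂ) - 1 := by
    rw [eq_sub_iff_add_eq]
    exact_mod_cast hsH
  rw [hsH']
  field_simp
  ring

/-! ### Involutions -/

theorem ZKer.isConj_involution [IsSimpleGroup G] (K : ZKer G a b h e H) {x y : G}
    (hx : orderOf x = 2) (hy : orderOf y = 2) : IsConj x y := by
  haveI := K.zass.1
  obtain ⟨w, hwa, hwb, hw⟩ := K.exists_swap
  suffices H : ∀ t : G, orderOf t = 2 → IsConj w t from (H x hx).symm.trans (H y hy)
  intro t ht
  have ht2 : t * t = 1 := by rw [← pow_two, ← ht, pow_orderOf_eq_one]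
  obtain ⟨c, hc⟩ : ∃ c : Ω, t • c ≠ c := by
    by_contra hall
    push Not at hall
    have : t = 1 := FaithfulSMul.eq_of_smul_eq_smul (α := Ω) fun c => by rw [hall c, one_smul]
    simp [this] at ht
  obtain ⟨g, hga, hgb⟩ := K.two_trans (Ne.symm hc) K.hab
  have hgai : g⁻¹ • a = c := inv_smul_eq_iff.mpr hga.symm
  have hgbi : g⁻¹ • b = t • c := inv_smul_eq_iff.mpr hgb.symm
  set x := w⁻¹ * (g * t * g⁻¹) with hxdef
  have hxE : x ∈ stabilizer G a ⊓ stabilizer G b := by
    rw [mem_inf_stabilizer, hxdef]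
    refine ⟨?_, ?_⟩
    · rw [mul_smul, mul_smul, mul_smul, hgai, hgb, inv_smul_eq_iff, hwa]
    · rw [mul_smul, mul_smul, mul_smul, hgbi, ← mul_smul t t, ht2, one_smul, hga, inv_smul_eq_iff,
        hwb]
  -- x is a square
  obtain ⟨j, hj⟩ := K.hodd
  set y := (x ^ j) with hydef
  have hyE : y ∈ stabilizer G a ⊓ stabilizer G b := pow_mem hxE _
  have hxe : x ^ e = 1 := by
    have := pow_card_eq_one' (x := (⟨x, hxE⟩ : ↥(stabilizer G a ⊓ stabilizer G b : Subgroup G)))
    rw [K.he] at this
    exact congrArg Subtype.val this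
  have h1 : IsConj w (g * t * g⁻¹) := by
    refine isConj_iff.mpr ⟨y, ?_⟩
    have h2 : w⁻¹ * y * w = y⁻¹ := K.conj_eq_inv hwa hwb hyE
    have h3 : y⁻¹ * y⁻¹ = x := by
      rw [← mul_inv_rev, hydef, ← pow_add]
      refine inv_eq_of_mul_eq_one_right ?_
      rw [← pow_succ, show j + j + 1 = e by omega, hxe]
    calc y * w * y⁻¹ = w * (w⁻¹ * y * w) * y⁻¹ := by group
      _ = w * (y⁻¹ * y⁻¹) := by rw [h2, mul_assoc]
      _ = g * t * g⁻¹ := by rw [h3, hxdef, mul_inv_cancel_left]
  exact h1.trans (isConj_iff.mpr ⟨g⁻¹, by group⟩)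

theorem ZKer.card_swapping [IsSimpleGroup G] [Fintype G] [DecidableEq G] [DecidableEq Ω]
    (K : ZKer G a b h e H) :
    (Finset.univ.filter fun t : G => orderOf t = 2 ∧ t • a = b).card = e := by
  obtain ⟨w, hwa, hwb, hw⟩ := K.exists_swap
  letI : Fintype ↥(stabilizer G a ⊓ stabilizer G b : Subgroup G) := Fintype.ofFinite _
  rw [← K.he, Nat.card_eq_fintype_card, ← Finset.card_univ]
  refine Finset.card_bij (fun t ht => (⟨w⁻¹ * t, ?_⟩ :
      ↥(stabilizer G a ⊓ stabilizer G b : Subgroup G))) (fun _ _ => Finset.mem_univ _)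
    (fun _ _ _ _ h => mul_left_cancel (congrArg Subtype.val h))
    (fun y _ => ⟨w * (y : G), ?_, Subtype.ext (inv_mul_cancel_left w _)⟩)
  · simp only [Finset.mem_filter, Finset.mem_univ, true_and] at ht
    have ht2 : t * t = 1 := by rw [← pow_two, ← ht.1, pow_orderOf_eq_one]
    have htb : t • b = a := by rw [← ht.2, ← mul_smul, ht2, one_smul]
    rw [mem_inf_stabilizer, mul_smul, mul_smul, ht.2, htb, inv_smul_eq_iff, inv_smul_eq_iff]
    exact ⟨hwa.symm, hwb.symm⟩
  · have hy := mem_inf_stabilizer.mp y.2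
    have hs : (w * (y : G)) • a = b := by rw [mul_smul, hy.1, hwa]
    rw [Finset.mem_filter]
    refine ⟨Finset.mem_univ _, orderOf_eq_prime ?_ (fun h1 => K.hab ?_), hs⟩
    · have hw2 : w * w = 1 := by rw [← pow_two, ← hw, pow_orderOf_eq_one]
      have hwi : w⁻¹ = w := inv_eq_of_mul_eq_one_right hw2
      have h2 := K.conj_eq_inv hwa hwb y.2
      rw [hwi] at h2
      calc (w * (y : G)) ^ 2 = (w * (y : G) * w) * y := by rw [pow_two]; group
        _ = 1 := by rw [h2, inv_mul_cancel]
    · rw [h1, one_smul] at hs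
      exact hs

/-- Fundamental count: `I (n - f t) = n h e`, and `n ≡ f t` mod 2. -/
theorem ZKer.involution_count [IsSimpleGroup G] [Fintype G] [DecidableEq G] [DecidableEq Ω]
    (K : ZKer G a b h e H) {t₀ : G} (ht₀ : orderOf t₀ = 2) :
    (Finset.univ.filter fun t : G => orderOf t = 2).card *
      (h + 1 - (fixSet (Ω := Ω) t₀).card) = (h + 1) * h * e ∧
      Even (h + 1 - (fixSet (Ω := Ω) t₀).card) := by
  set I := Finset.univ.filter fun t : G => orderOf t = 2 with hI
  have hmoved : ∀ t ∈ I, (Finset.univ.filter fun c : Ω => t • c ≠ c).card =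
      h + 1 - (fixSet (Ω := Ω) t₀).card := by
    intro t ht
    obtain ⟨g, rfl⟩ := isConj_iff.mp (K.isConj_involution ht₀ (Finset.mem_filter.mp ht).2)
    rw [← fixSet_conj_card g t₀]
    have hne : (Finset.univ.filter fun c : Ω => (g * t₀ * g⁻¹) • c ≠ c) =
        (fixSet (Ω := Ω) (g * t₀ * g⁻¹))ᶜ := Finset.ext fun c => by simp [mem_fixSet]
    rw [hne, Finset.card_compl, K.hh]
  refine ⟨?_, ?_⟩
  · have := Finset.sum_card_bipartiteAbove_eq_sum_card_bipartiteBelow
      (s := I) (t := (Finset.univ : Finset Ω).offDiag) (fun t p => t • p.1 = p.2)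
    simp only [Finset.bipartiteAbove, Finset.bipartiteBelow] at this
    have h1 : ∀ t ∈ I, ((Finset.univ : Finset Ω).offDiag.filter fun p => t • p.1 = p.2).card =
        h + 1 - (fixSet (Ω := Ω) t₀).card := by
      intro t ht
      rw [← hmoved t ht]
      refine Finset.card_bij (fun p _ => p.1) (fun p hp => ?_) (fun p hp q hq hpq => ?_)
        (fun c hc => ⟨(c, t • c), ?_, rfl⟩)
      · simp only [Finset.mem_filter, Finset.mem_offDiag, Finset.mem_univ, true_and] at hp ⊢
        exact fun hc => hp.1 (hc.symm.trans hp.2)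
      · simp only [Finset.mem_filter] at hp hq
        exact Prod.ext hpq (by rw [← hp.2, ← hq.2, hpq])
      · simp only [Finset.mem_filter, Finset.mem_offDiag, Finset.mem_univ, true_and] at hc ⊢
        exact ⟨Ne.symm hc, trivial⟩
    have h2 : ∀ p ∈ (Finset.univ : Finset Ω).offDiag, (I.filter fun t => t • p.1 = p.2).card = e := by
      intro p hp
      obtain ⟨g, hga, hgb⟩ := K.two_trans K.hab (Finset.mem_offDiag.mp hp).2.2
      rw [← K.card_swapping, hI, Finset.filter_filter]
      refine Finset.card_bij (fun t _ => g⁻¹ * t * g) (fun t ht => ?_)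
        (fun _ _ _ _ h => mul_left_cancel (mul_right_cancel h))
        (fun t ht => ⟨g * t * g⁻¹, ?_, by group⟩)
      · simp only [Finset.mem_filter, Finset.mem_univ, true_and] at ht ⊢
        refine ⟨?_, by rw [mul_smul, mul_smul, hga, ht.2, inv_smul_eq_iff, hgb]⟩
        rw [← ht.1, ← MulEquiv.orderOf_eq (MulAut.conj g⁻¹) t]
        simp
      · simp only [Finset.mem_filter, Finset.mem_univ, true_and] at ht ⊢
        refine ⟨?_, by rw [mul_smul, mul_smul, inv_smul_eq_iff.mpr hga.symm, ht.2, hgb]⟩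
        rw [← ht.1, ← MulEquiv.orderOf_eq (MulAut.conj g) t]
        simp
    rw [Finset.sum_congr rfl h1, Finset.sum_congr rfl h2, Finset.sum_const, Finset.sum_const,
      Finset.offDiag_card, Finset.card_univ, K.hh, smul_eq_mul, smul_eq_mul] at this
    rw [this, Nat.mul_succ, Nat.add_sub_cancel]
  · have ht : t₀ ∈ I := Finset.mem_filter.mpr ⟨Finset.mem_univ _, ht₀⟩
    rw [← hmoved t₀ ht, ← ZMod.natCast_eq_zero_iff_even, Finset.card_eq_sum_ones, Nat.cast_sum,
      Nat.cast_one]
    have ht2 : ∀ c : Ω, t₀ • t₀ • c = c := fun c => by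
      rw [← mul_smul, ← pow_two, ← ht₀, pow_orderOf_eq_one, one_smul]
    refine Finset.sum_involution (fun c _ => t₀ • c) (fun c _ => by decide)
      (fun c hc _ => (Finset.mem_filter.mp hc).2) (fun c hc => ?_) (fun c _ => ht2 c)
    refine Finset.mem_filter.mpr ⟨Finset.mem_univ _, fun h' => (Finset.mem_filter.mp hc).2 ?_⟩
    rw [ht2] at h'
    exact h'.symm

/-- S0882, second half, with the number of fixed points. -/
theorem ZKer.involutions [IsSimpleGroup G] [Fintype G] [DecidableEq G] [DecidableEq Ω]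
    (K : ZKer G a b h e H) {t : G} (ht : orderOf t = 2) :
    (Even h ∧ (fixSet (Ω := Ω) t).card = 1 ∧
        (Finset.univ.filter fun t : G => orderOf t = 2).card = e * (h + 1)) ∨
      (¬Even h ∧ (fixSet (Ω := Ω) t).card = 0 ∧
        (Finset.univ.filter fun t : G => orderOf t = 2).card = e * h) := by
  obtain ⟨h1, h2⟩ := K.involution_count ht
  have hf := K.card_fixSet_le_one ht (Ω := Ω)
  have hh1 := K.one_lt_h
  rcases Nat.le_one_iff_eq_zero_or_eq_one.mp hf with hf0 | hf1
  · rw [hf0, Nat.sub_zero] at h1 h2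
    refine Or.inr ⟨fun he' => (Nat.not_even_iff_odd.mpr (Even.add_one he')) h2, hf0, ?_⟩
    refine Nat.eq_of_mul_eq_mul_right (show 0 < h + 1 by omega) ?_
    rw [h1]; ring
  · rw [hf1, Nat.add_sub_cancel] at h1 h2
    refine Or.inl ⟨h2, hf1, ?_⟩
    refine Nat.eq_of_mul_eq_mul_right (show 0 < h by omega) ?_
    rw [h1]; ring

theorem ZKer.mem_of_involution (K : ZKer G a b h e H) {t : G} (ht : orderOf t = 2)
    (hta : t • a = a) : t ∈ H := by
  refine (K.mem_iff t).mpr (Or.inr ⟨hta, fun c hc => ?_⟩)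
  by_contra hca
  exact K.not_fix_two ht hca ⟨hc, hta⟩

theorem ZKer.centralizer_le (K : ZKer G a b h e H) {t : G} (ht : t ∈ H) (ht1 : t ≠ 1) {g : G}
    (hg : Commute g t) : g ∈ H := by
  have hta : t • a = a := K.hHa ht
  have hga : g • a = a := by
    refine K.hHfix t ht ht1 _ ?_
    rw [← mul_smul, ← hg.eq, mul_smul, hta]
  refine (K.mem_iff g).mpr (or_iff_not_imp_left.mpr fun hg1 => ⟨hga, fun c hc => ?_⟩)
  by_contra hca
  have htc : g • t • c = t • c := by rw [← mul_smul, hg.eq, mul_smul, hc]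
  refine hg1 (K.three (Ne.symm hca) ?_ ?_ hga hc htc)
  · exact fun h' => hca (K.hHfix t ht ht1 c h'.symm)
  · exact fun h' => hca (MulAction.injective t (h'.symm.trans hta.symm))

/-- If `h` is even, each point is fixed by exactly `e` involutions. -/
theorem ZKer.card_involutions_fix [IsSimpleGroup G] [Fintype G] [DecidableEq G] [DecidableEq Ω]
    (K : ZKer G a b h e H) {t₀ : G} (ht₀ : orderOf t₀ = 2) (ha : t₀ • a = a) :
    Even h ∧ (Finset.univ.filter fun t : G => orderOf t = 2 ∧ t • a = a).card = e := by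
  have hcase : Even h ∧ (Finset.univ.filter fun t : G => orderOf t = 2).card = e * (h + 1) := by
    rcases K.involutions ht₀ with ⟨h1, -, h3⟩ | ⟨-, h2, -⟩
    · exact ⟨h1, h3⟩
    · exfalso
      have hmem : a ∈ fixSet (Ω := Ω) t₀ := mem_fixSet.mpr ha
      rw [Finset.card_eq_zero.mp h2] at hmem
      exact Finset.notMem_empty a hmem
  refine ⟨hcase.1, ?_⟩
  set I := Finset.univ.filter fun t : G => orderOf t = 2
  have := Finset.sum_card_bipartiteAbove_eq_sum_card_bipartiteBelow
    (s := I) (t := (Finset.univ : Finset Ω)) (fun t c => t • c = c)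
  simp only [Finset.bipartiteAbove, Finset.bipartiteBelow] at this
  have h1 : ∀ t ∈ I, (Finset.univ.filter fun c : Ω => t • c = c).card = 1 := by
    intro t ht
    rcases K.involutions (Finset.mem_filter.mp ht).2 with ⟨-, h2, -⟩ | ⟨h2, -, -⟩
    · exact h2
    · exact absurd hcase.1 h2
  have h2 : ∀ c : Ω, (I.filter fun t => t • c = c).card =
      (Finset.univ.filter fun t : G => orderOf t = 2 ∧ t • a = a).card := by
    intro c
    haveI := K.isPretransitive
    obtain ⟨g, hg⟩ := MulAction.exists_smul_eq G a c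
    rw [Finset.filter_filter]
    refine Finset.card_bij (fun t _ => g⁻¹ * t * g) (fun t ht => ?_)
      (fun _ _ _ _ h => mul_left_cancel (mul_right_cancel h))
      (fun t ht => ⟨g * t * g⁻¹, ?_, by group⟩)
    · simp only [Finset.mem_filter, Finset.mem_univ, true_and] at ht ⊢
      refine ⟨?_, by rw [mul_smul, mul_smul, hg, ht.2, inv_smul_eq_iff, hg]⟩
      rw [← ht.1, ← MulEquiv.orderOf_eq (MulAut.conj g⁻¹) t]
      simp
    · simp only [Finset.mem_filter, Finset.mem_univ, true_and] at ht ⊢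
      refine ⟨?_, by rw [mul_smul, mul_smul, inv_smul_eq_iff.mpr hg.symm, ht.2, hg]⟩
      rw [← ht.1, ← MulEquiv.orderOf_eq (MulAut.conj g) t]
      simp
  rw [Finset.sum_congr rfl h1, Finset.sum_congr rfl fun c _ => h2 c, Finset.sum_const,
    Finset.sum_const, Finset.card_univ, K.hh, smul_eq_mul, smul_eq_mul, mul_one, hcase.2] at this
  exact (Nat.eq_of_mul_eq_mul_left (Nat.succ_pos h) (by rw [← this, mul_comm])).symm

/-- Involutions of the kernel are central in it. -/
theorem ZKer.involution_central [IsSimpleGroup G] (K : ZKer G a b h e H) {t k : G} (ht : t ∈ H)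
    (ht2 : orderOf t = 2) (hk : k ∈ H) : Commute k t := by
  classical
  letI := Fintype.ofFinite G
  have ht1 : t ≠ 1 := fun h => by simp [h] at ht2
  obtain ⟨-, hcard⟩ := K.card_involutions_fix ht2 (K.hHa ht)
  set E := (stabilizer G a ⊓ stabilizer G b : Subgroup G) with hEdef
  set S := Finset.univ.filter fun t : G => orderOf t = 2 ∧ t • a = a with hS
  have hmem : ∀ g : G, g • a = a → g * t * g⁻¹ ∈ S := fun g hg => by
    refine Finset.mem_filter.mpr ⟨Finset.mem_univ _, ?_, K.hHa (K.conj_mem hg ht)⟩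
    rw [← MulAut.conj_apply, MulEquiv.orderOf_eq, ht2]
  have hinj : Set.InjOn (fun y : E => (y : G) * t * (y : G)⁻¹) Set.univ := by
    intro y _ z _ hyz
    have hc : Commute ((z : G)⁻¹ * y) t := by
      show (z : G)⁻¹ * y * t = t * ((z : G)⁻¹ * y)
      have h1 : (y : G) * t * (y : G)⁻¹ = z * t * (z : G)⁻¹ := hyz
      calc (z : G)⁻¹ * y * t = (z : G)⁻¹ * ((y : G) * t * (y : G)⁻¹) * y := by group
        _ = t * ((z : G)⁻¹ * y) := by rw [h1]; group
    have h2 := K.centralizer_le ht ht1 hc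
    have h3 := K.disjoint_pair h2
      (mem_inf_stabilizer.mp (mul_mem (inv_mem z.2) y.2)).2
    exact Subtype.ext (inv_mul_eq_one.mp h3).symm
  have himg : (Finset.univ : Finset E).image (fun y : E => (y : G) * t * (y : G)⁻¹) = S := by
    refine Finset.eq_of_subset_of_card_le (Finset.image_subset_iff.mpr fun y _ =>
      hmem _ (mem_inf_stabilizer.mp y.2).1) ?_
    rw [Finset.card_image_of_injOn (hinj.mono (Set.subset_univ _)), hcard, Finset.card_univ,
      ← Nat.card_eq_fintype_card, K.he]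
  obtain ⟨y, -, hy⟩ := Finset.mem_image.mp (himg.symm ▸ hmem k (K.hHa hk) :
    k * t * k⁻¹ ∈ (Finset.univ : Finset E).image (fun y : E => (y : G) * t * (y : G)⁻¹))
  have hc : Commute ((y : G)⁻¹ * k) t := by
    show (y : G)⁻¹ * k * t = t * ((y : G)⁻¹ * k)
    calc (y : G)⁻¹ * k * t = (y : G)⁻¹ * (k * t * k⁻¹) * k := by group
      _ = t * ((y : G)⁻¹ * k) := by rw [← hy]; group
  have h2 := K.centralizer_le ht ht1 hc
  have hyH : (y : G) ∈ H := by
    have := mul_mem hk (inv_mem h2)
    simpa [mul_assoc] using this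
  have hy1 := K.disjoint_pair hyH (mem_inf_stabilizer.mp y.2).2
  rw [hy1] at hc
  simpa using hc

/-- S0883 -/
theorem ZKer.strongly_real [IsSimpleGroup G] (K : ZKer G a b h e H) {u : G} (hu : u ∈ H)
    (hu1 : u ≠ 1) {x y : G} (hx : orderOf x = 2) (hy : orderOf y = 2) (hxy : x * y = u) :
    orderOf u = 2 := by
  have hx2 : x * x = 1 := by rw [← pow_two, ← hx, pow_orderOf_eq_one]
  have hy2 : y * y = 1 := by rw [← pow_two, ← hy, pow_orderOf_eq_one]
  have hua : u • a = a := K.hHa hu
  have hinv : u * x * u = x := by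
    rw [← hxy]
    calc x * y * x * (x * y) = x * y * (x * x) * y := by group
      _ = x * (y * y) := by rw [hx2]; group
      _ = x := by rw [hy2, mul_one]
  have hxa : x • a = a := by
    refine K.hHfix u hu hu1 _ ?_
    calc u • x • a = (u * x * u) • u⁻¹ • a := by rw [← mul_smul, ← mul_smul]; group
      _ = x • a := by rw [hinv, inv_smul_eq_iff.mpr hua.symm]
  have hya : y • a = a := by
    have : y = x * u := by rw [← hxy, ← mul_assoc, hx2, one_mul]
    rw [this, mul_smul, hua, hxa]
  have hc := K.involution_central (K.mem_of_involution hy hya) hy (K.mem_of_involution hx hxa)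
  refine orderOf_eq_prime ?_ hu1
  rw [← hxy, hc.mul_pow, pow_two, pow_two, hx2, hy2, one_mul]

/-! ### Classes avoiding the kernel -/

/-- The number of ways to write `g` as a product of two involutions. -/
noncomputable def prodCount (g : G) : ℕ :=
  Nat.card {x : G // orderOf x = 2 ∧ orderOf (x * g) = 2}

theorem prodCount_le (g : G) :
    prodCount g ≤ Nat.card (Subgroup.centralizer ({g} : Set G)) := by
  classical
  unfold prodCount
  by_cases hne : Nonempty {x : G // orderOf x = 2 ∧ orderOf (x * g) = 2}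
  · obtain ⟨⟨x₀, hx₀⟩⟩ := hne
    have hinv : ∀ x : G, orderOf x = 2 ∧ orderOf (x * g) = 2 → x * g * x = g⁻¹ := by
      intro x hx
      have h1 : (x * g) * (x * g) = 1 := by rw [← pow_two, ← hx.2, pow_orderOf_eq_one]
      exact eq_inv_of_mul_eq_one_left (by rw [mul_assoc, mul_assoc, ← mul_assoc, h1])
    have hsq : ∀ x : G, orderOf x = 2 → x⁻¹ = x := fun x hx =>
      inv_eq_of_mul_eq_one_right (by rw [← pow_two, ← hx, pow_orderOf_eq_one])
    refine Nat.card_le_card_of_injective
      (fun x => (⟨x₀ * (x : G), ?_⟩ : Subgroup.centralizer ({g} : Set G))) ?_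
    · rw [Subgroup.mem_centralizer_singleton_iff]
      have h1 := hinv x x.2
      have h2 := hinv x₀ hx₀
      have h1' : (x : G) * g * (x : G)⁻¹ = g⁻¹ := by rw [hsq _ x.2.1]; exact h1
      have h2' : x₀ * g⁻¹ * x₀⁻¹ = g := by
        have := congrArg (·⁻¹) h2
        simp only [mul_inv_rev, inv_inv, hsq _ hx₀.1, ← mul_assoc] at this
        rw [hsq _ hx₀.1, this]
      calc x₀ * (x : G) * g = x₀ * ((x : G) * g * (x : G)⁻¹) * x := by group
        _ = x₀ * g⁻¹ * x₀⁻¹ * (x₀ * x) := by rw [h1']; group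
        _ = g * (x₀ * x) := by rw [h2']
    · intro x y hxy
      exact Subtype.ext (mul_left_cancel (congrArg Subtype.val hxy))
  · rw [not_nonempty_iff] at hne
    simp

theorem prodCount_conj (g c : G) : prodCount (c * g * c⁻¹) = prodCount g := by
  unfold prodCount
  refine Nat.card_congr ((MulAut.conj c⁻¹).toEquiv.subtypeEquiv fun x => ?_)
  have h1 : (MulAut.conj c⁻¹).toEquiv x * g = MulAut.conj c⁻¹ (x * (c * g * c⁻¹)) := by
    simp [mul_assoc]
  rw [h1, MulEquiv.orderOf_eq]
  show _ ↔ orderOf (MulAut.conj c⁻¹ x) = 2 ∧ _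
  rw [MulEquiv.orderOf_eq]

theorem ZKer.prodCount_kernel [IsSimpleGroup G] (K : ZKer G a b h e H) {u : G} (hu : u ∈ H)
    (hu1 : u ≠ 1) :
    prodCount u = 0 ∨ (Even h ∧ orderOf u = 2 ∧ prodCount u = e - 1) := by
  classical
  letI := Fintype.ofFinite G
  by_cases hne : Nonempty {x : G // orderOf x = 2 ∧ orderOf (x * u) = 2}
  · obtain ⟨⟨x₀, hx₀⟩⟩ := hne
    have hu2 : orderOf u = 2 := by
      refine K.strongly_real hu hu1 hx₀.1 hx₀.2 ?_
      rw [← mul_assoc, ← pow_two, ← hx₀.1, pow_orderOf_eq_one, one_mul]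
    obtain ⟨he', hcard⟩ := K.card_involutions_fix hu2 (K.hHa hu)
    refine Or.inr ⟨he', hu2, ?_⟩
    set S := Finset.univ.filter fun t : G => orderOf t = 2 ∧ t • a = a with hS
    have huS : u ∈ S := Finset.mem_filter.mpr ⟨Finset.mem_univ _, hu2, K.hHa hu⟩
    unfold prodCount
    rw [Nat.card_eq_fintype_card, Fintype.card_subtype, ← hcard, ← Finset.card_erase_of_mem huS]
    congr 1
    ext x
    simp only [hS, Finset.mem_filter, Finset.mem_univ, true_and, Finset.mem_erase]
    have hu22 : u * u = 1 := by rw [← pow_two, ← hu2, pow_orderOf_eq_one]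
    constructor
    · rintro ⟨hx, hxu⟩
      have h1 : x * u * (x * u) = 1 := by rw [← pow_two, ← hxu, pow_orderOf_eq_one]
      have hx2 : x * x = 1 := by rw [← pow_two, ← hx, pow_orderOf_eq_one]
      have hc : Commute x u := by
        show x * u = u * x
        calc x * u = (x * u)⁻¹ := eq_inv_of_mul_eq_one_left h1
          _ = u * x := by
            rw [mul_inv_rev, inv_eq_of_mul_eq_one_right hu22, inv_eq_of_mul_eq_one_right hx2]
      refine ⟨fun hxu' => ?_, hx, K.hHa (K.centralizer_le hu hu1 hc)⟩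
      rw [hxu', hu22] at hxu
      simp at hxu
    · rintro ⟨hxne, hx, hxa⟩
      refine ⟨hx, orderOf_eq_prime ?_ fun h1 => hxne ?_⟩
      · have hc := K.involution_central hu hu2 (K.mem_of_involution hx hxa)
        rw [hc.mul_pow, pow_two, pow_two, hu22, ← pow_two, ← hx, pow_orderOf_eq_one, one_mul]
      · exact (mul_eq_one_iff_eq_inv.mp h1).trans (inv_eq_of_mul_eq_one_right hu22)
  · rw [not_nonempty_iff] at hne
    left
    unfold prodCount
    exact Nat.card_of_isEmpty

/-- S0884 -/
theorem ZKer.classes_avoiding [IsSimpleGroup G] (K : ZKer G a b h e H) (hlt : e < h) :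
    e ≤ Nat.card {C : ConjClasses G // ∀ g : G, ConjClasses.mk g = C → g ∉ H} := by
  classical
  letI := Fintype.ofFinite G
  set I := Finset.univ.filter fun t : G => orderOf t = 2 with hI
  obtain ⟨w, -, -, hw⟩ := K.exists_swap
  have hwI : w ∈ I := Finset.mem_filter.mpr ⟨Finset.mem_univ _, hw⟩
  have hsum : ∑ g : G, prodCount g = I.card * I.card := by
    have h0 : ∀ g : G, prodCount g = (I.filter fun x => x * g ∈ I).card := fun g => by
      unfold prodCount
      rw [Nat.card_eq_fintype_card, Fintype.card_subtype, hI, Finset.filter_filter]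
      simp
    have := Finset.sum_card_bipartiteAbove_eq_sum_card_bipartiteBelow
      (s := (Finset.univ : Finset G)) (t := I) (fun g x => x * g ∈ I)
    simp only [Finset.bipartiteAbove, Finset.bipartiteBelow] at this
    rw [Finset.sum_congr rfl fun g _ => h0 g, this]
    have h1 : ∀ x ∈ I, (Finset.univ.filter fun g : G => x * g ∈ I).card = I.card := fun x _ =>
      Finset.card_bij (fun g _ => x * g) (fun g hg => (Finset.mem_filter.mp hg).2)
        (fun _ _ _ _ h => mul_left_cancel h)
        (fun y hy => ⟨x⁻¹ * y, Finset.mem_filter.mpr ⟨Finset.mem_univ _, by simpa using hy⟩,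
          mul_inv_cancel_left x y⟩)
    rw [Finset.sum_congr rfl h1, Finset.sum_const, smul_eq_mul]
  set A := Finset.univ.filter fun g : G => ∀ c : G, c * g * c⁻¹ ∉ H with hA
  set M := Finset.univ.filter fun g : G => ¬ ∀ c : G, c * g * c⁻¹ ∉ H with hM
  -- upper bound
  have hupper : ∑ g ∈ A, prodCount g ≤
      Nat.card {C : ConjClasses G // ∀ g : G, ConjClasses.mk g = C → g ∉ H} * Nat.card G := by
    set T := Finset.univ.filter fun C : ConjClasses G => ∀ g : G, ConjClasses.mk g = C → g ∉ H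
    have hT : Nat.card {C : ConjClasses G // ∀ g : G, ConjClasses.mk g = C → g ∉ H} = T.card := by
      rw [Nat.card_eq_fintype_card, Fintype.card_subtype]
    have hmaps : ∀ g ∈ A, ConjClasses.mk g ∈ T := by
      intro g hg
      refine Finset.mem_filter.mpr ⟨Finset.mem_univ _, fun g' hg' => ?_⟩
      obtain ⟨c, rfl⟩ := isConj_iff.mp (ConjClasses.mk_eq_mk_iff_isConj.mp hg'.symm)
      exact (Finset.mem_filter.mp hg).2 c
    rw [hT, ← Finset.sum_fiberwise_of_maps_to hmaps, ← smul_eq_mul, ← Finset.sum_const]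
    refine Finset.sum_le_sum fun C _ => ?_
    obtain ⟨g₀, rfl⟩ := ConjClasses.mk_surjective C
    calc ∑ g ∈ A.filter (fun g => ConjClasses.mk g = ConjClasses.mk g₀), prodCount g
        ≤ ∑ _g ∈ A.filter (fun g => ConjClasses.mk g = ConjClasses.mk g₀),
            Nat.card (Subgroup.centralizer ({g₀} : Set G)) := by
          refine Finset.sum_le_sum fun g hg => ?_
          obtain ⟨c, rfl⟩ :=
            isConj_iff.mp (ConjClasses.mk_eq_mk_iff_isConj.mp (Finset.mem_filter.mp hg).2.symm)
          rw [prodCount_conj]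
          exact prodCount_le g₀
      _ ≤ Nat.card G := by
          rw [Finset.sum_const, smul_eq_mul, ← card_conj_mul_card_centralizer g₀]
          refine Nat.mul_le_mul_right _ ?_
          rw [Nat.card_eq_fintype_card, Fintype.card_subtype]
          refine Finset.card_le_card fun g hg => Finset.mem_filter.mpr ⟨Finset.mem_univ _, ?_⟩
          exact (ConjClasses.mk_eq_mk_iff_isConj.mp (Finset.mem_filter.mp hg).2).symm
  -- the part meeting the kernel
  have hMsum : ∑ g ∈ M, prodCount g ≤ I.card + (if Even h then I.card * (e - 1) else 0) := by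
    have h1M : (1 : G) ∈ M := Finset.mem_filter.mpr ⟨Finset.mem_univ _, fun h1 => h1 1 (by simp)⟩
    rw [← Finset.add_sum_erase _ _ h1M]
    refine add_le_add (le_of_eq ?_) ?_
    · unfold prodCount
      rw [Nat.card_eq_fintype_card, Fintype.card_subtype, hI]
      simp
    · have hval : ∀ g ∈ M.erase 1, prodCount g = 0 ∨ (Even h ∧ g ∈ I ∧ prodCount g = e - 1) := by
        intro g hg
        obtain ⟨hg1, hgM⟩ := Finset.mem_erase.mp hg
        have := (Finset.mem_filter.mp hgM).2
        push Not at this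
        obtain ⟨c, hc⟩ := this
        have hc1 : c * g * c⁻¹ ≠ 1 := fun h1 => hg1 (by simpa using h1)
        rcases K.prodCount_kernel hc hc1 with h0 | ⟨h2, h3, h4⟩
        · left; rwa [prodCount_conj] at h0
        · rw [prodCount_conj] at h4
          rw [← MulAut.conj_apply, MulEquiv.orderOf_eq] at h3
          exact Or.inr ⟨h2, Finset.mem_filter.mpr ⟨Finset.mem_univ _, h3⟩, h4⟩
      calc ∑ g ∈ M.erase 1, prodCount g
          ≤ ∑ g ∈ M.erase 1, if g ∈ I then (if Even h then e - 1 else 0) else 0 := by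
            refine Finset.sum_le_sum fun g hg => ?_
            rcases hval g hg with h0 | ⟨h2, h3, h4⟩
            · simp [h0]
            · simp [h2, h3, h4]
        _ ≤ ∑ g : G, if g ∈ I then (if Even h then e - 1 else 0) else 0 :=
            Finset.sum_le_sum_of_subset (Finset.subset_univ _)
        _ = if Even h then I.card * (e - 1) else 0 := by
            rw [Finset.sum_ite_mem, Finset.univ_inter, Finset.sum_const, smul_eq_mul]
            split_ifs <;> simp
  have hsplit : ∑ g ∈ A, prodCount g + ∑ g ∈ M, prodCount g = I.card * I.card := by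
    rw [hA, hM, Finset.sum_filter_add_sum_filter_not, hsum]
  rw [K.card_group] at hupper
  have he3 := K.three_le_e
  have hh1 := K.one_lt_h
  obtain ⟨j, rfl⟩ : ∃ j, e = j + 1 := ⟨e - 1, by omega⟩
  rw [Nat.add_sub_cancel] at hMsum
  set N := Nat.card {C : ConjClasses G // ∀ g : G, ConjClasses.mk g = C → g ∉ H}
  by_contra hN
  have hNj : N ≤ j := by omega
  have hup2 := hupper.trans (Nat.mul_le_mul_right _ hNj)
  rcases K.involutions hw with ⟨hev, -, hcard⟩ | ⟨hev, -, hcard⟩
  · rw [if_pos hev] at hMsum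
    rw [← hI] at hcard
    rw [hcard] at hMsum hsplit
    nlinarith [Nat.mul_le_mul_left ((j + 1) * h) (show j + 2 ≤ h from hlt)]
  · rw [if_neg hev, add_zero] at hMsum
    rw [← hI] at hcard
    rw [hcard] at hMsum hsplit
    nlinarith [Nat.mul_le_mul_left ((j + 1) * h) (show j + 2 ≤ h from hlt)]

end Cfsg.Agent.Lib.Characters.ZOdd
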