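import Cfsg.Agent.Lib.Characters.Coherence
import Cfsg.Agent.Lib.Characters.ZassenhausOdd
import Cfsg.Agent.Lib.Characters.Convolution
import Cfsg.Agent.Lib.Characters.FrobeniusSchur
import Cfsg.Agent.Lib.Characters.Integrality

/-!
# Feit's inequality for Zassenhaus groups with two-point stabilizer of odd order: the simple case

Coherence forces `(h - 1) / e ≤ 2`; for an odd `p`-kernel the Frobenius–Schur count and the class
algebra at an involution give a contradiction.
-/

namespace Cfsg.Agent.Lib.Characters.ZOdd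

open MulAction
open scoped ComplexConjugate

set_option linter.unusedSectionVars false
set_option linter.style.haveILetI false

universe u v

variable {G : Type u} [Group G] [Fintype G] {Ω : Type v} [MulAction G Ω] [Fintype Ω]
  {a b : Ω} {h e : ℕ} {H : Subgroup G} [Fintype (stabilizer G a)]
  [Fintype (H.subgroupOf (stabilizer G a))] [(H.subgroupOf (stabilizer G a)).Normal]

/-! ### The Frobenius data of the point stabilizer -/

theorem ZKer.hC (K : ZKer G a b h e H) :
    ∀ k ∈ H.subgroupOf (stabilizer G a), k ≠ 1 → ∀ x : stabilizer G a, x * k = k * x →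
      x ∈ H.subgroupOf (stabilizer G a) := fun _ hk h1 _ hx =>
  Subgroup.mem_subgroupOf.mpr (K.centralizer_le (Subgroup.mem_subgroupOf.mp hk)
    (fun h => h1 (Subtype.ext h)) (congrArg Subtype.val hx))

theorem ZKer.card_kernel (K : ZKer G a b h e H) :
    Nat.card (H.subgroupOf (stabilizer G a)) = h :=
  (Nat.card_congr (Subgroup.subgroupOfEquivOfLe K.hHa).toEquiv).trans K.hHcard

theorem ZKer.index_kernel (K : ZKer G a b h e H) : (H.subgroupOf (stabilizer G a)).index = e := by
  have h1 := (H.subgroupOf (stabilizer G a)).index_mul_card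
  rw [K.card_kernel, K.card_stabilizer a, mul_comm h] at h1
  exact Nat.eq_of_mul_eq_mul_right (show 0 < h by have := K.one_lt_h; omega) h1

theorem ZKer.conj_notMem (K : ZKer G a b h e H) {u : G} (hu : u ∈ H) (hu1 : u ≠ 1) {x : G}
    (hx : x ∉ stabilizer G a) : x⁻¹ * u * x ∉ stabilizer G a := fun hm => hx <| by
  rw [mem_stabilizer_iff, mul_smul, mul_smul, inv_smul_eq_iff] at hm
  exact K.hHfix u hu hu1 _ hm

/-- An induced function agrees with the function on the non-identity elements of the kernel. -/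
theorem ZKer.indFun_on_kernel (K : ZKer G a b h e H) {f : stabilizer G a → ℂ}
    (hf : Cfsg.IsClassFunction (stabilizer G a) f) {u : stabilizer G a} (hu : (u : G) ∈ H)
    (hu1 : u ≠ 1) : Cfsg.indFun (stabilizer G a) f (u : G) = f u :=
  indFun_eq_self (stabilizer G a) (stabilizer G a : Set G) hf (fun x hx => absurd x.2 hx) u
    fun _ hx => K.conj_notMem hu (fun h => hu1 (Subtype.ext h)) hx

theorem indFun_eq_zero_of_fpf (θ : stabilizer G a → ℂ) {g : G} (hg : ∀ c : Ω, g • c ≠ c) :
    Cfsg.indFun (stabilizer G a) θ g = 0 := by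
  refine indFun_eq_zero _ θ fun x hx => hg (x • a) ?_
  rwa [mem_stabilizer_iff, mul_smul, mul_smul, inv_smul_eq_iff] at hx

theorem ZKer.classInner_rel (K : ZKer G a b h e H) {χ : stabilizer G a → ℂ}
    (hχ : Cfsg.IsIrrCharacter (stabilizer G a) χ)
    (hrel : IsRelevant (H.subgroupOf (stabilizer G a)) χ) (F F₀ : stabilizer G a → ℂ)
    (hF : ∀ u : stabilizer G a, (u : G) ∈ H → u ≠ 1 → F u = F₀ u) :
    Cfsg.classInner χ F = Cfsg.classInner χ F₀ + χ 1 * conj (F 1 - F₀ 1) / ((h * e : ℕ) : ℂ) := by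
  classical
  have hval : ∀ g : stabilizer G a, χ g * conj (F g) =
      χ g * conj (F₀ g) + if g = 1 then χ 1 * conj (F 1 - F₀ 1) else 0 := by
    intro g
    by_cases hg : g = 1
    · subst hg; rw [if_pos rfl, map_sub]; ring
    rw [if_neg hg, add_zero]
    by_cases hgH : (g : G) ∈ H
    · rw [hF g hgH hg]
    · rw [frob_vanish _ K.hC hχ hrel (fun h' => hgH (Subgroup.mem_subgroupOf.mp h')), zero_mul,
        zero_mul]
  simp only [Cfsg.classInner, Finset.sum_congr rfl fun g _ => hval g, Finset.sum_add_distrib,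
    Finset.sum_ite_eq', Finset.mem_univ, if_true, K.card_stabilizer a, mul_add]
  ring

/-- The inner product of an induced relevant character with a function constant on the kernel. -/
theorem ZKer.classInner_ind_const (K : ZKer G a b h e H) {χ : stabilizer G a → ℂ}
    (hχ : Cfsg.IsIrrCharacter (stabilizer G a) χ)
    (hrel : IsRelevant (H.subgroupOf (stabilizer G a)) χ) {F : G → ℂ}
    (hFc : Cfsg.IsClassFunction G F) {κ : ℂ} (hF : ∀ u ∈ H, u ≠ 1 → F u = κ) :
    Cfsg.classInner (Cfsg.indFun (stabilizer G a) χ) F =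
      χ 1 * conj (F 1 - κ) / ((h * e : ℕ) : ℂ) := by
  rw [classInner_indFun _ _ hFc, K.classInner_rel hχ hrel _ (κ • fun _ => (1 : ℂ))
    (fun u hu hu1 => by simp [hF u hu fun h => hu1 (Subtype.ext h)]), classInner_smul_right,
    IsIrrCharacter.classInner_ne hχ isIrrCharacter_one, mul_zero, zero_add]
  · simp
  · intro h1
    obtain ⟨k, hk, hne⟩ := hrel
    exact hne (by rw [h1])

theorem ZKer.classInner_ind_ind (K : ZKer G a b h e H) {χ η : stabilizer G a → ℂ}
    (hχ : Cfsg.IsIrrCharacter (stabilizer G a) χ)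
    (hrel : IsRelevant (H.subgroupOf (stabilizer G a)) χ)
    (hη : Cfsg.IsIrrCharacter (stabilizer G a) η) {d d' : ℕ} (hd : χ 1 = ((e * d : ℕ) : ℂ))
    (hd' : η 1 = ((e * d' : ℕ) : ℂ)) :
    Cfsg.classInner (Cfsg.indFun (stabilizer G a) χ) (Cfsg.indFun (stabilizer G a) η) =
      Cfsg.classInner χ η + ((e * (d * d') : ℕ) : ℂ) := by
  haveI := K.isPretransitive
  have hidx : (stabilizer G a).index = h + 1 := by
    rw [MulAction.index_stabilizer_of_transitive, Nat.card_eq_fintype_card, K.hh]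
  rw [classInner_indFun _ _ (isClassFunction_indFun _ _), K.classInner_rel hχ hrel _ η
    (fun u hu hu1 => K.indFun_on_kernel
      (IsCharacter.isClassFunction (IsIrrCharacter.isCharacter hη)) hu hu1)]
  congr 1
  show χ 1 * conj (Cfsg.indFun (stabilizer G a) η ((1 : stabilizer G a) : G) - η 1) / _ = _
  rw [OneMemClass.coe_one, indFun_one, hidx, hd, hd']
  have hh : (h : ℂ) ≠ 0 := Nat.cast_ne_zero.mpr (by have := K.one_lt_h; omega)
  have he : (e : ℂ) ≠ 0 := Nat.cast_ne_zero.mpr (by have := K.three_le_e; omega)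
  push_cast
  simp only [map_sub, map_mul, map_add, map_natCast, map_one]
  field_simp
  ring

/-- The value of an induced linear character outside the kernel. -/
theorem ZKer.indFun_outside [IsSimpleGroup G] (K : ZKer G a b h e H)
    (lam : stabilizer G a →* ℂˣ) {g : stabilizer G a} (hg : (g : G) ∉ H) :
    Cfsg.indFun (stabilizer G a) (fun x => (lam x : ℂ)) (g : G) =
      (lam g : ℂ) + ((lam g)⁻¹ : ℂˣ) := by
  rw [K.mem_iff] at hg
  push Not at hg
  obtain ⟨hg1, hg2⟩ := hg
  obtain ⟨c, hgc, hca⟩ := hg2 g.2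
  obtain ⟨t, hta, htb⟩ := K.two_trans K.hab (Ne.symm hca)
  have hyE : t⁻¹ * (g : G) * t ∈ stabilizer G a ⊓ stabilizer G b := by
    rw [mem_inf_stabilizer, mul_smul, mul_smul, mul_smul, mul_smul, hta, htb,
      (show (g : G) • a = a from g.2), hgc, inv_smul_eq_iff, inv_smul_eq_iff]
    exact ⟨hta.symm, htb.symm⟩
  have hy1 : t⁻¹ * (g : G) * t ≠ 1 := fun h1 => hg1 <| by
    have := congrArg (fun z => t * z * t⁻¹) h1
    simpa [mul_assoc] using this
  have h1 : Cfsg.indFun (stabilizer G a) (fun x => (lam x : ℂ)) (g : G) =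
      Cfsg.indFun (stabilizer G a) (fun x => (lam x : ℂ)) (t⁻¹ * (g : G) * t) := by
    have := isClassFunction_indFun (stabilizer G a) (fun x => (lam x : ℂ)) (g : G) t⁻¹
    rw [inv_inv] at this
    exact this.symm
  have h2 : lam ⟨t⁻¹ * (g : G) * t, (mem_inf_stabilizer.mp hyE).1⟩ = lam g := by
    rw [show (⟨t⁻¹ * (g : G) * t, (mem_inf_stabilizer.mp hyE).1⟩ : stabilizer G a) =
      (⟨t, hta⟩ : stabilizer G a)⁻¹ * g * ⟨t, hta⟩ from rfl, map_mul,
      map_mul, map_inv, mul_right_comm, inv_mul_cancel, one_mul]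
  rw [h1, K.indFun_pair lam hyE hy1, h2]

/-! ### Characters of the point stabilizer that are trivial on the kernel -/

theorem ZKer.pair_comm [IsSimpleGroup G] (K : ZKer G a b h e H)
    (x y : ↥(stabilizer G a ⊓ stabilizer G b : Subgroup G)) : x * y = y * x := by
  obtain ⟨w, hwa, hwb, -⟩ := K.exists_swap
  have h1 : ∀ z ∈ stabilizer G a ⊓ stabilizer G b, w⁻¹ * z * w = z⁻¹ :=
    fun z hz => K.conj_eq_inv hwa hwb hz
  refine Subtype.ext (inv_injective ?_)
  have h2 := h1 _ (mul_mem x.2 y.2)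
  rw [show w⁻¹ * ((x : G) * y) * w = (w⁻¹ * x * w) * (w⁻¹ * y * w) by group, h1 _ x.2, h1 _ y.2]
    at h2
  simpa using h2.symm

open scoped Classical in
/-- The non-relevant characters of the point stabilizer are `e` linear characters. -/
theorem ZKer.nonrel [IsSimpleGroup G] (K : ZKer G a b h e H)
    [Fintype (Cfsg.IrrCharacter (stabilizer G a))] :
    (Finset.univ.filter fun η : Cfsg.IrrCharacter (stabilizer G a) =>
        ¬ IsRelevant (H.subgroupOf (stabilizer G a)) (η : stabilizer G a → ℂ)).card = e ∧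
      ∀ η : Cfsg.IrrCharacter (stabilizer G a),
        ¬ IsRelevant (H.subgroupOf (stabilizer G a)) (η : stabilizer G a → ℂ) →
          ∃ lam : stabilizer G a →* ℂˣ, (η : stabilizer G a → ℂ) = (fun g => (lam g : ℂ)) ∧
            ∀ u : stabilizer G a, (u : G) ∈ H → lam u = 1 := by
  classical
  set E := (stabilizer G a ⊓ stabilizer G b : Subgroup G) with hE
  set H' := H.subgroupOf (stabilizer G a) with hH'
  set NR := Finset.univ.filter fun η : Cfsg.IrrCharacter (stabilizer G a) =>
    ¬ IsRelevant H' (η : stabilizer G a → ℂ) with hNR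
  obtain ⟨π, hπ, hπH⟩ := K.exists_proj
  have hsurj : Function.Surjective π := fun x => ⟨_, hπ x⟩
  have hdeg : ∀ η : Cfsg.IrrCharacter (stabilizer G a), 1 ≤ degNat η ^ 2 := fun η =>
    Nat.one_le_pow _ _ (degNat_pos η)
  -- the total of the squared degrees
  have hsum : ∑ η ∈ NR, degNat η ^ 2 = e := by
    have h1 := sum_degree_mul (G := stabilizer G a) 1
    have h2 := frob_sum_relevant H' (1 : stabilizer G a)
    rw [← Finset.sum_filter_add_sum_filter_not Finset.univ
      (fun χ : Cfsg.IrrCharacter (stabilizer G a) => IsRelevant H' (χ : stabilizer G a → ℂ)),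
      h2] at h1
    have h3 : ((∑ η ∈ NR, degNat η ^ 2 : ℕ) : ℂ) = (e : ℂ) := by
      rw [if_pos H'.one_mem, K.index_kernel] at h1
      simp only [↓reduceIte] at h1
      rw [Nat.cast_sum, Finset.sum_congr rfl (g := fun η : Cfsg.IrrCharacter (stabilizer G a) =>
        (η : stabilizer G a → ℂ) 1 * (η : stabilizer G a → ℂ) 1) fun η _ => by
          rw [apply_one_eq_degNat]; push_cast; ring]
      linear_combination h1
    exact_mod_cast h3
  -- inflation
  let f : Cfsg.IrrCharacter E → Cfsg.IrrCharacter (stabilizer G a) := fun ψ =>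
    ⟨_, IsIrrCharacter.comp_surjective ψ.2 π hsurj⟩
  have hf : Function.Injective f := fun ψ ψ' hψ => Subtype.ext <| funext fun x => by
    obtain ⟨g, rfl⟩ := hsurj x
    exact congrFun (congrArg Subtype.val hψ) g
  letI := Fintype.ofFinite (Cfsg.IrrCharacter E)
  have hfmem : ∀ ψ, f ψ ∈ NR := fun ψ => by
    refine Finset.mem_filter.mpr ⟨Finset.mem_univ _, ?_⟩
    rintro ⟨k, hk, hne⟩
    exact hne (by
      show (ψ : E → ℂ) (π k) = (ψ : E → ℂ) (π 1)
      rw [hπH k (Subgroup.mem_subgroupOf.mp hk), map_one])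
  have hcE : Nat.card (Cfsg.IrrCharacter E) = e := by
    rw [card_irrCharacter, ← K.he]
    refine (Nat.card_eq_of_bijective (ConjClasses.mk : E → _)
      ⟨fun x y hxy => ?_, ConjClasses.mk_surjective⟩).symm
    obtain ⟨c, hc⟩ := isConj_iff.mp (ConjClasses.mk_eq_mk_iff_isConj.mp hxy)
    rw [← hc, K.pair_comm c x, mul_inv_cancel_right]
  have hge : e ≤ NR.card := by
    rw [← hcE, Nat.card_eq_fintype_card, ← Finset.card_univ,
      ← Finset.card_image_of_injective _ hf]
    exact Finset.card_le_card fun η hη => by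
      obtain ⟨ψ, -, rfl⟩ := Finset.mem_image.mp hη
      exact hfmem ψ
  have hle : NR.card ≤ e := by
    rw [← hsum, Finset.card_eq_sum_ones]
    exact Finset.sum_le_sum fun η _ => hdeg η
  refine ⟨le_antisymm hle hge, fun η hη => ?_⟩
  have hmem : η ∈ NR := Finset.mem_filter.mpr ⟨Finset.mem_univ _, hη⟩
  have hone : degNat η = 1 := by
    by_contra hne
    have hlt : ∑ _x ∈ NR, 1 < ∑ x ∈ NR, degNat x ^ 2 :=
      Finset.sum_lt_sum (fun x _ => hdeg x) ⟨η, hmem, by
        have := degNat_pos η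
        nlinarith [show 2 ≤ degNat η by omega]⟩
    rw [← Finset.card_eq_sum_ones, hsum] at hlt
    omega
  have h1 : (η : stabilizer G a → ℂ) 1 = 1 := by
    rw [apply_one_eq_degNat, hone, Nat.cast_one]
  obtain ⟨lam, hlam⟩ := IsCharacter.exists_hom_of_apply_one (irr_isCharacter η) h1
  refine ⟨lam, hlam, fun u hu => Units.ext ?_⟩
  rw [← congrFun hlam u, Units.val_one, ← h1]
  by_contra hne
  exact hη ⟨u, Subgroup.mem_subgroupOf.mpr hu, hne⟩

/-- The number of irreducible characters of the group. -/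
theorem ZKer.irr_count [IsSimpleGroup G] (K : ZKer G a b h e H) (hlt : e < h)
    [Fintype {χ : Cfsg.IrrCharacter (stabilizer G a) //
      IsRelevant (H.subgroupOf (stabilizer G a)) (χ : stabilizer G a → ℂ)}] :
    Fintype.card {χ : Cfsg.IrrCharacter (stabilizer G a) //
        IsRelevant (H.subgroupOf (stabilizer G a)) (χ : stabilizer G a → ℂ)} + 1 + e ≤
      Nat.card (Cfsg.IrrCharacter G) := by
  classical
  set B := stabilizer G a with hB
  haveI := Fintype.ofFinite (Cfsg.IrrCharacter B)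
  set H' := H.subgroupOf B with hH'
  let InH := {C : ConjClasses B // ∀ g : B, ConjClasses.mk g = C → (g : G) ∈ H}
  let Av := {C : ConjClasses G // ∀ g : G, ConjClasses.mk g = C → g ∉ H}
  -- classes of the point stabilizer
  have hout : Nat.card {C : ConjClasses B // ¬ ∀ g : B, ConjClasses.mk g = C → (g : G) ∈ H} + 1 ≤
      e := by
    have hgmem : ∀ (y : ↥(stabilizer G a ⊓ stabilizer G b : Subgroup G)), y ≠ 1 →
        ¬ ∀ g : B, ConjClasses.mk g = ConjClasses.mk (⟨(y : G), (mem_inf_stabilizer.mp y.2).1⟩ : B) →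
          (g : G) ∈ H := fun y hy hall =>
      hy (Subtype.ext (K.disjoint_pair (hall _ rfl) (mem_inf_stabilizer.mp y.2).2))
    have hle := Nat.card_le_card_of_surjective
      (fun y : {y : ↥(stabilizer G a ⊓ stabilizer G b : Subgroup G) // y ≠ 1} =>
        (⟨ConjClasses.mk (⟨(y.1 : G), (mem_inf_stabilizer.mp y.1.2).1⟩ : B), hgmem y.1 y.2⟩ :
          {C : ConjClasses B // ¬ ∀ g : B, ConjClasses.mk g = C → (g : G) ∈ H})) (by
        rintro ⟨C, hC⟩
        push Not at hC
        obtain ⟨g, rfl, hg⟩ := hC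
        have hg' := hg
        rw [K.mem_iff] at hg'
        push Not at hg'
        obtain ⟨hg1, hg2⟩ := hg'
        obtain ⟨c, hgc, hca⟩ := hg2 g.2
        obtain ⟨t, hta, htb⟩ := K.two_trans K.hab (Ne.symm hca)
        have hyE : t⁻¹ * (g : G) * t ∈ stabilizer G a ⊓ stabilizer G b := by
          rw [mem_inf_stabilizer, mul_smul, mul_smul, mul_smul, mul_smul, hta, htb,
            (show (g : G) • a = a from g.2), hgc, inv_smul_eq_iff, inv_smul_eq_iff]
          exact ⟨hta.symm, htb.symm⟩
        refine ⟨⟨⟨_, hyE⟩, fun h1 => hg1 ?_⟩, Subtype.ext (ConjClasses.mk_eq_mk_iff_isConj.mpr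
          (isConj_iff.mpr ⟨⟨t, hta⟩, Subtype.ext (by simp [mul_assoc])⟩))⟩
        have := congrArg (fun z => t * z * t⁻¹) (congrArg Subtype.val h1)
        simpa [mul_assoc] using this)
    have hcard : Nat.card {y : ↥(stabilizer G a ⊓ stabilizer G b : Subgroup G) // y ≠ 1} + 1 = e := by
      letI := Fintype.ofFinite ↥(stabilizer G a ⊓ stabilizer G b : Subgroup G)
      rw [← K.he, Nat.card_eq_fintype_card, Nat.card_eq_fintype_card, Fintype.card_subtype,
        Finset.filter_ne', Finset.card_erase_add_one (Finset.mem_univ _), Finset.card_univ]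
    omega
  have hsplitB : Nat.card InH +
      Nat.card {C : ConjClasses B // ¬ ∀ g : B, ConjClasses.mk g = C → (g : G) ∈ H} =
      Nat.card (ConjClasses B) := by
    rw [← Nat.card_sum]
    exact Nat.card_congr (Equiv.sumCompl _)
  have hkB : Fintype.card {χ : Cfsg.IrrCharacter B // IsRelevant H' (χ : B → ℂ)} + e =
      Nat.card (ConjClasses B) := by
    rw [← card_irrCharacter, Nat.card_eq_fintype_card, Fintype.card_subtype, ← Finset.card_univ,
      ← Finset.card_filter_add_card_filter_not (s := Finset.univ)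
        (fun χ : Cfsg.IrrCharacter B => IsRelevant H' (χ : B → ℂ))]
    exact congrArg _ K.nonrel.1.symm
  -- classes of the group
  have hG : Nat.card InH + Nat.card Av ≤ Nat.card (ConjClasses G) := by
    rw [← Nat.card_sum]
    refine Nat.card_le_card_of_injective
      (Sum.elim (fun C : InH => C.1.map B.subtype) (fun C : Av => C.1)) ?_
    rintro (⟨C, hC⟩ | ⟨C, hC⟩) (⟨D, hD⟩ | ⟨D, hD⟩) hCD
    · obtain ⟨x, rfl⟩ := ConjClasses.mk_surjective C
      obtain ⟨y, rfl⟩ := ConjClasses.mk_surjective D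
      obtain ⟨g, hg⟩ := isConj_iff.mp
        (ConjClasses.mk_eq_mk_iff_isConj.mp (hCD : ConjClasses.mk (x : G) = ConjClasses.mk (y : G)))
      have hg : g * (x : G) * g⁻¹ = (y : G) := hg
      refine congrArg Sum.inl (Subtype.ext (ConjClasses.mk_eq_mk_iff_isConj.mpr ?_))
      by_cases hx1 : x = 1
      · subst hx1
        have : (y : G) = 1 := by rw [← hg]; simp
        rw [show y = 1 from Subtype.ext this]
      · have hxH := hC x rfl
        have hyH := hD y rfl
        have hgB : g ∈ B := by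
          by_contra hgB
          refine K.conj_notMem hxH (fun h => hx1 (Subtype.ext h)) (x := g⁻¹)
            (fun h => hgB (by have := inv_mem h; rwa [inv_inv] at this)) ?_
          rw [inv_inv, hg]
          exact K.hHa hyH
        exact isConj_iff.mpr ⟨⟨g, hgB⟩, Subtype.ext hg⟩
    · obtain ⟨x, rfl⟩ := ConjClasses.mk_surjective C
      exact absurd (hC x rfl) (hD (x : G) hCD)
    · obtain ⟨x, rfl⟩ := ConjClasses.mk_surjective D
      exact absurd (hD x rfl) (hC (x : G) hCD.symm)
    · exact congrArg Sum.inr (Subtype.ext hCD)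
  have hAv : e ≤ Nat.card Av := K.classes_avoiding hlt
  rw [card_irrCharacter]
  rw [← Nat.card_eq_fintype_card] at hkB
  have hfin : Nat.card {χ : Cfsg.IrrCharacter B // IsRelevant H' (χ : B → ℂ)} + 1 + e ≤
      Nat.card (ConjClasses G) := by omega
  convert hfin using 3
  exact (@Nat.card_eq_fintype_card _ (_)).symm

theorem ZKer.ne_bot (K : ZKer G a b h e H) : H.subgroupOf (stabilizer G a) ≠ ⊥ := fun h0 => by
  have h1 := K.card_kernel
  rw [h0, Subgroup.card_bot] at h1
  have := K.one_lt_h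
  omega

theorem ZKer.ne_top (K : ZKer G a b h e H) : H.subgroupOf (stabilizer G a) ≠ ⊤ := fun h0 => by
  have h1 := K.index_kernel
  rw [h0, Subgroup.index_top] at h1
  have := K.three_le_e
  omega

theorem ZKer.redDeg_one (K : ZKer G a b h e H)
    (χ : {χ : Cfsg.IrrCharacter (stabilizer G a) //
      IsRelevant (H.subgroupOf (stabilizer G a)) (χ : stabilizer G a → ℂ)}) :
    (χ.1 : stabilizer G a → ℂ) 1 = ((e * redDeg (H.subgroupOf (stabilizer G a)) χ : ℕ) : ℂ) := by
  haveI := Fintype.ofFinite (Cfsg.IrrCharacter (H.subgroupOf (stabilizer G a)))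
  rw [apply_one_eq_degNat, (redDeg_spec _ K.hC χ).1, K.index_kernel]

open scoped Classical in
/-- `e Σ d² = h - 1`. -/
theorem ZKer.sum_redDeg (K : ZKer G a b h e H)
    [Fintype {χ : Cfsg.IrrCharacter (stabilizer G a) //
      IsRelevant (H.subgroupOf (stabilizer G a)) (χ : stabilizer G a → ℂ)}] :
    e * ∑ χ : {χ : Cfsg.IrrCharacter (stabilizer G a) //
        IsRelevant (H.subgroupOf (stabilizer G a)) (χ : stabilizer G a → ℂ)},
      redDeg (H.subgroupOf (stabilizer G a)) χ ^ 2 + 1 = h := by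
  haveI := Fintype.ofFinite (Cfsg.IrrCharacter (stabilizer G a))
  have h1 := frob_sum_relevant (H.subgroupOf (stabilizer G a)) (1 : (stabilizer G a))
  rw [if_pos (H.subgroupOf (stabilizer G a)).one_mem, K.index_kernel, K.card_stabilizer a] at h1
  simp only [↓reduceIte] at h1
  rw [Finset.sum_subtype (p := fun χ : Cfsg.IrrCharacter (stabilizer G a) => IsRelevant (H.subgroupOf (stabilizer G a)) (χ : (stabilizer G a) → ℂ)) _
    (fun x => by simp)] at h1
  rw [Finset.sum_congr rfl fun χ _ => by rw [K.redDeg_one χ]] at h1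
  refine Nat.eq_of_mul_eq_mul_right (show 0 < e by have := K.three_le_e; omega) ?_
  have h2 : (((e * ∑ χ : {χ : Cfsg.IrrCharacter (stabilizer G a) // IsRelevant (H.subgroupOf (stabilizer G a)) (χ : (stabilizer G a) → ℂ)},
      redDeg (H.subgroupOf (stabilizer G a)) χ ^ 2 + 1) * e : ℕ) : ℂ) = ((h * e : ℕ) : ℂ) := by
    push_cast at h1 ⊢
    rw [add_mul, Finset.mul_sum, Finset.sum_mul, one_mul, ← eq_sub_iff_add_eq, ← h1]
    exact Finset.sum_congr rfl fun χ _ => by ring
  exact_mod_cast h2

theorem ZKer.indFun_conj_linear [IsSimpleGroup G] (K : ZKer G a b h e H)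
    (lam : stabilizer G a →* ℂˣ) (hlam : ∀ u : stabilizer G a, (u : G) ∈ H → lam u = 1)
    (g : stabilizer G a) :
    Cfsg.indFun (stabilizer G a) (fun x => ((lam⁻¹ : stabilizer G a →* ℂˣ) x : ℂ)) (g : G) =
      Cfsg.indFun (stabilizer G a) (fun x => (lam x : ℂ)) (g : G) := by
  by_cases hg1 : g = 1
  · subst hg1
    rw [OneMemClass.coe_one, indFun_one, indFun_one, map_one, map_one]
  by_cases hgH : (g : G) ∈ H
  · rw [K.indFun_kernel _ (fun u hu => by rw [MonoidHom.inv_apply, hlam u hu, inv_one]) hgH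
      (fun h' => hg1 (Subtype.ext h')), K.indFun_kernel lam hlam hgH fun h' => hg1 (Subtype.ext h')]
  · rw [K.indFun_outside _ hgH, K.indFun_outside _ hgH, MonoidHom.inv_apply, inv_inv, add_comm]

theorem ZKer.classInner_ind_trivial [IsSimpleGroup G] (K : ZKer G a b h e H) :
    Cfsg.classInner (Cfsg.indFun (stabilizer G a) fun _ => (1 : ℂ))
      (Cfsg.indFun (stabilizer G a) fun _ => (1 : ℂ)) = 2 := by
  classical
  haveI := K.isPretransitive
  have hidx : (stabilizer G a).index = h + 1 := by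
    rw [MulAction.index_stabilizer_of_transitive, Nat.card_eq_fintype_card, K.hh]
  rw [classInner_indFun _ _ (isClassFunction_indFun _ _)]
  have hval : ∀ g : stabilizer G a,
      (1 : ℂ) * conj (Cfsg.indFun (stabilizer G a) (fun _ => (1 : ℂ)) (g : G)) =
        2 + (if g = 1 then ((h : ℂ) - 1) else 0) + (if (g : G) ∈ H ∧ g ≠ 1 then -1 else 0) := by
    intro g
    by_cases hg1 : g = 1
    · subst hg1
      rw [OneMemClass.coe_one, indFun_one, hidx]
      simp
      ring
    by_cases hgH : (g : G) ∈ H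
    · have := K.indFun_kernel (1 : stabilizer G a →* ℂˣ) (fun u _ => rfl) hgH
        (fun h' => hg1 (Subtype.ext h'))
      simp only [MonoidHom.one_apply, Units.val_one] at this
      rw [this]
      simp [hg1, hgH]
      norm_num
    · have := K.indFun_outside (1 : stabilizer G a →* ℂˣ) hgH
      simp only [MonoidHom.one_apply, Units.val_one, inv_one] at this
      rw [this]
      simp [hg1, hgH]
      norm_num [map_ofNat]
  rw [Cfsg.classInner, Finset.sum_congr rfl fun g _ => hval g]
  simp only [Finset.sum_add_distrib, Finset.sum_ite_eq', Finset.mem_univ, if_true, Finset.sum_const,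
    Finset.card_univ, nsmul_eq_mul]
  have hsH : (Finset.univ.filter fun g : stabilizer G a => (g : G) ∈ H ∧ g ≠ 1).card + 1 = h := by
    have h1 : (Finset.univ.filter fun g : stabilizer G a => (g : G) ∈ H ∧ g ≠ 1) =
        (Finset.univ.filter fun g : stabilizer G a =>
          g ∈ H.subgroupOf (stabilizer G a)).erase 1 := by
      ext g
      simp [Subgroup.mem_subgroupOf, and_comm]
    rw [h1, Finset.card_erase_add_one (by simp), ← Fintype.card_subtype, ← Nat.card_eq_fintype_card]
    exact K.card_kernel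
  rw [Finset.sum_ite, Finset.sum_const_zero, add_zero, Finset.sum_const, nsmul_eq_mul,
    ← Nat.card_eq_fintype_card]
  have hB : (Nat.card (stabilizer G a) : ℂ) ≠ 0 := by exact_mod_cast Nat.card_pos.ne'
  have hsH' : ((Finset.univ.filter fun g : stabilizer G a => (g : G) ∈ H ∧ g ≠ 1).card : ℂ) =
      (h : ℂ) - 1 := by
    rw [eq_sub_iff_add_eq]
    exact_mod_cast hsH
  rw [hsH']
  field_simp
  ring

/-- A nontrivial irreducible character of the group has a relevant constituent. -/
theorem ZKer.exists_rel_constituent [IsSimpleGroup G] (K : ZKer G a b h e H) {ψ : G → ℂ}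
    (hψ : Cfsg.IsIrrCharacter G ψ) (hne : ψ ≠ fun _ => 1) :
    ∃ χ : {χ : Cfsg.IrrCharacter (stabilizer G a) //
        IsRelevant (H.subgroupOf (stabilizer G a)) (χ : stabilizer G a → ℂ)},
      Cfsg.classInner (Cfsg.indFun (stabilizer G a) (χ.1 : stabilizer G a → ℂ)) ψ ≠ 0 := by
  classical
  haveI := Fintype.ofFinite (Cfsg.IrrCharacter (stabilizer G a))
  by_contra hall
  push Not at hall
  haveI : Nontrivial H := Finite.one_lt_card_iff_nontrivial.mp (K.hHcard ▸ K.one_lt_h)
  obtain ⟨⟨u, hu⟩, hu1⟩ := exists_ne (1 : H)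
  have hu1' : u ≠ 1 := fun h' => hu1 (Subtype.ext h')
  have hres : Cfsg.IsClassFunction (stabilizer G a) fun g : stabilizer G a => ψ g :=
    IsCharacter.isClassFunction (IsCharacter.restrict (IsIrrCharacter.isCharacter hψ) _)
  have key : ψ u = ψ ((1 : stabilizer G a) : G) := by
    have h1 := congrFun (eq_sum_classInner hres) ⟨u, K.hHa hu⟩
    have h2 := congrFun (eq_sum_classInner hres) 1
    simp only [Finset.sum_apply, Pi.smul_apply, smul_eq_mul] at h1 h2
    rw [h1, h2]
    refine Finset.sum_congr rfl fun η _ => ?_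
    by_cases hr : IsRelevant (H.subgroupOf (stabilizer G a)) (η : stabilizer G a → ℂ)
    · have := hall ⟨η, hr⟩
      rw [classInner_indFun _ _ (IsCharacter.isClassFunction (IsIrrCharacter.isCharacter hψ))] at this
      rw [← classInner_conj_symm, this, map_zero, zero_mul, zero_mul]
    · congr 1
      by_contra hne'
      exact hr ⟨⟨u, K.hHa hu⟩, Subgroup.mem_subgroupOf.mpr hu, hne'⟩
  exact hu1' (IsCharacter.eq_one_of_isSimpleGroup (IsIrrCharacter.isCharacter hψ)
    (IsIrrCharacter.exists_ne_apply_one hψ hne) key)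

open scoped Classical in
/-- The relevant characters of the point stabilizer are not coherent. -/
theorem ZKer.not_coherent [IsSimpleGroup G] (K : ZKer G a b h e H) (hlt : 2 * e < h - 1) :
    ¬ Cfsg.IsCoherent {χ : stabilizer G a → ℂ | Cfsg.IsIrrCharacter (stabilizer G a) χ ∧
        ∃ u ∈ H.subgroupOf (stabilizer G a), χ u ≠ χ 1} {1}ᶜ
      (Cfsg.indFun (stabilizer G a)) := by
  rintro ⟨-, τ₁, ⟨hadd, hsmul, hiso, hgen⟩, hext⟩
  set S : Set ((stabilizer G a) → ℂ) := {χ : (stabilizer G a) → ℂ | Cfsg.IsIrrCharacter (stabilizer G a) χ ∧ ∃ u ∈ (H.subgroupOf (stabilizer G a)), χ u ≠ χ 1}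
  let ι := {χ : Cfsg.IrrCharacter (stabilizer G a) // IsRelevant (H.subgroupOf (stabilizer G a)) (χ : (stabilizer G a) → ℂ)}
  haveI := Fintype.ofFinite ι
  haveI := Fintype.ofFinite (Cfsg.IrrCharacter G)
  haveI := Fintype.ofFinite (Cfsg.IrrCharacter (stabilizer G a))
  let d : ι → ℕ := redDeg (H.subgroupOf (stabilizer G a))
  obtain ⟨i₀, hi₀⟩ : ∃ i : ι, d i = 1 := frob_exists_linear (H.subgroupOf (stabilizer G a)) K.ne_bot K.ne_top K.hC
  have he3 := K.three_le_e
  let χs : ι → ((stabilizer G a) → ℂ) := fun i => (i.1 : (stabilizer G a) → ℂ)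
  have hmem : ∀ i, χs i ∈ S := fun i => ⟨i.1.2, i.2⟩
  have hχ1 : ∀ i, χs i 1 = ((e * d i : ℕ) : ℂ) := fun i => K.redDeg_one i
  have hinner : ∀ i j, Cfsg.classInner (χs i) (χs j) = if i = j then 1 else 0 := by
    intro i j
    show Cfsg.classInner (i.1 : (stabilizer G a) → ℂ) (j.1 : (stabilizer G a) → ℂ) = _
    rw [classInner_irr]
    by_cases h' : i = j
    · simp [h']
    · rw [if_neg fun h'' => h' (Subtype.ext h''), if_neg h']
  let θ : ι → (G → ℂ) := fun i => τ₁ (χs i)
  let I : ι → (G → ℂ) := fun i => Cfsg.indFun (stabilizer G a) (χs i)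
  have hθ : ∀ i j, Cfsg.classInner (θ i) (θ j) = if i = j then 1 else 0 := fun i j => by
    rw [hiso _ (zspan_mem (hmem i)) _ (zspan_mem (hmem j)), hinner]
  have hθgen : ∀ i, Cfsg.IsGeneralizedCharacter G (θ i) := fun i => hgen _ (zspan_mem (hmem i))
  choose φ hφ using fun i =>
    IsGeneralizedCharacter.eq_pm_irr (hθgen i) (by rw [hθ, if_pos rfl])
  have hI : ∀ i j, Cfsg.classInner (I i) (I j) =
      (if i = j then 1 else 0) + ((e * (d i * d j) : ℕ) : ℂ) := fun i j => by
    rw [← hinner]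
    exact K.classInner_ind_ind i.1.2 i.2 j.1.2 (hχ1 i) (hχ1 j)
  -- the relation with the coherent extension
  have hrel : ∀ i, I i - (d i : ℂ) • I i₀ = θ i - (d i : ℂ) • θ i₀ := by
    intro i
    have hA : χs i ∈ Cfsg.zspan S := zspan_mem (hmem i)
    have hA0 : χs i₀ ∈ Cfsg.zspan S := zspan_mem (hmem i₀)
    have hB' : ((-(d i : ℤ)) • χs i₀) ∈ Cfsg.zspan S := Submodule.smul_mem _ _ hA0
    have hmem0 : χs i + (-(d i : ℤ)) • χs i₀ ∈ Cfsg.zspanOn S {1}ᶜ := by
      refine ⟨Submodule.add_mem _ hA hB', fun x hx => ?_⟩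
      rw [Set.mem_compl_iff, not_not, Set.mem_singleton_iff] at hx
      subst hx
      simp [hχ1, hi₀]
      ring
    have h1 := hext _ hmem0
    rw [hadd _ hA _ hB', hsmul _ hA0, indFun_add] at h1
    simp only [← Int.cast_smul_eq_zsmul ℂ, indFun_smul] at h1
    simp only [Int.cast_neg, Int.cast_natCast, neg_smul, ← sub_eq_add_neg] at h1
    exact h1.symm
  let Φ : G → ℂ := I i₀ - θ i₀
  have hΦ : ∀ i, I i = θ i + (d i : ℂ) • Φ := by
    intro i
    have := hrel i
    rw [sub_eq_iff_eq_add] at this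
    rw [this]
    simp only [Φ, smul_sub]
    abel
  have hΦgen : Cfsg.IsGeneralizedCharacter G Φ :=
    IsGeneralizedCharacter.sub (IsCharacter.isGeneralizedCharacter
      (IsCharacter.indFun (stabilizer G a) (irr_isCharacter i₀.1))) (hθgen i₀)
  choose c hc using fun j => IsGeneralizedCharacter.exists_classInner_int hΦgen (hθgen j)
  obtain ⟨P, hP⟩ := IsGeneralizedCharacter.exists_classInner_int hΦgen hΦgen
  have hc' : ∀ j, Cfsg.classInner (θ j) Φ = (c j : ℂ) := fun j => by
    rw [← classInner_conj_symm, hc, map_intCast]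
  have hgram : ∀ i, (c i : ℂ) + (d i : ℂ) * (c i₀ : ℂ) + (d i : ℂ) * (P : ℂ) =
      ((e * (d i * d i₀) : ℕ) : ℂ) := by
    intro i
    have h1 := hI i i₀
    rw [hΦ i, hΦ i₀, hi₀, Nat.cast_one, one_smul] at h1
    simp only [classInner_add_left, classInner_add_right, classInner_smul_left, hθ, hc, hc', hP]
      at h1
    rw [← hi₀] at h1
    linear_combination h1
  have hPc : (P : ℤ) = (e : ℤ) - 2 * c i₀ := by
    have h1 := hgram i₀
    rw [hi₀] at h1
    push_cast at h1
    have : ((P : ℤ) : ℂ) = ((((e : ℤ) - 2 * c i₀ : ℤ)) : ℂ) := by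
      push_cast; linear_combination h1
    exact_mod_cast this
  have hcd : ∀ i, c i = (d i : ℤ) * c i₀ := by
    intro i
    have h1 := hgram i
    rw [hi₀, hPc] at h1
    push_cast at h1
    have : ((c i : ℤ) : ℂ) = (((d i : ℤ) * c i₀ : ℤ) : ℂ) := by
      push_cast; linear_combination h1
    exact_mod_cast this
  set q : ℕ := ∑ i, d i ^ 2 with hq
  have hqe : e * q + 1 = h := K.sum_redDeg
  have hq3 : 3 ≤ q := by
    by_contra hlt'
    have : e * q ≤ e * 2 := Nat.mul_le_mul_left _ (by omega)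
    omega
  -- the orthogonal part
  let Ψ : G → ℂ := Φ - (c i₀ : ℂ) • ∑ i, (d i : ℂ) • θ i
  have hΨgen : Cfsg.IsGeneralizedCharacter G Ψ := by
    refine IsGeneralizedCharacter.sub hΦgen (IsGeneralizedCharacter.intCast_smul
      (IsGeneralizedCharacter.sum _ fun i _ => ?_) _)
    simpa using IsGeneralizedCharacter.intCast_smul (hθgen i) (d i : ℤ)
  let T : G → ℂ := ∑ i, (d i : ℂ) • θ i
  have hΦT : Cfsg.classInner Φ T = ((c i₀ * (q : ℤ) : ℤ) : ℂ) := by
    rw [classInner_sum_right, hq]
    push_cast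
    rw [Finset.mul_sum]
    refine Finset.sum_congr rfl fun i _ => ?_
    rw [classInner_smul_right, map_natCast, hc, hcd i]
    push_cast
    ring
  have hTT : Cfsg.classInner T T = (q : ℂ) := by
    rw [classInner_sum_left, hq, Nat.cast_sum]
    refine Finset.sum_congr rfl fun i _ => ?_
    rw [classInner_sum_right, Finset.sum_eq_single i, classInner_smul_left, classInner_smul_right,
      map_natCast, hθ, if_pos rfl]
    · push_cast; ring
    · intro j _ hji
      rw [classInner_smul_left, classInner_smul_right, hθ, if_neg (Ne.symm hji), mul_zero, mul_zero]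
    · exact fun h' => absurd (Finset.mem_univ i) h'
  have hΨΨ : Cfsg.classInner Ψ Ψ = ((P - c i₀ ^ 2 * (q : ℤ) : ℤ) : ℂ) := by
    have hTΦ : Cfsg.classInner T Φ = ((c i₀ * (q : ℤ) : ℤ) : ℂ) := by
      rw [← classInner_conj_symm Φ T, hΦT, map_intCast]
    rw [show Ψ = Φ - (c i₀ : ℂ) • T from rfl]
    simp only [classInner_sub_left, classInner_sub_right, classInner_smul_left,
      classInner_smul_right, hΦT, hTΦ, hTT, hP]
    simp only [map_intCast]
    push_cast
    ring
  -- the characters outside the exceptional ones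
  set X : Finset (Cfsg.IrrCharacter G) :=
    Finset.univ \ insert (trivIrr G) (Finset.univ.image φ) with hX
  have hXorth : ∀ ψ ∈ X, ∀ i, Cfsg.classInner (θ i) (ψ : G → ℂ) = 0 := by
    intro ψ hψ i
    simp only [hX, Finset.mem_sdiff, Finset.mem_univ, true_and, Finset.mem_insert,
      Finset.mem_image, not_or, not_exists] at hψ
    have hne : φ i ≠ ψ := hψ.2 i
    rcases hφ i with h' | h'
    · rw [h']; exact IsIrrCharacter.classInner_ne (φ i).2 ψ.2 fun h'' => hne (Subtype.ext h'')
    · rw [h', classInner_neg_left,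
        IsIrrCharacter.classInner_ne (φ i).2 ψ.2 fun h'' => hne (Subtype.ext h''), neg_zero]
  obtain ⟨k, -, hk⟩ := IsGeneralizedCharacter.exists_int_decomp hΨgen
  have hbI : ∀ ψ ∈ X, ∀ i, Cfsg.classInner (I i) (ψ : G → ℂ) = (d i : ℂ) * (k ψ : ℂ) := by
    intro ψ hψ i
    rw [← hk ψ, hΦ i]
    simp only [Ψ, classInner_add_left, classInner_smul_left, classInner_sub_left,
      classInner_sum_left, hXorth ψ hψ, mul_zero, Finset.sum_const_zero, sub_zero, zero_add]
  have hk0 : ∀ ψ ∈ X, k ψ ≠ 0 := by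
    intro ψ hψ h0
    have hne : (ψ : G → ℂ) ≠ fun _ => 1 := fun h' => by
      simp only [hX, Finset.mem_sdiff, Finset.mem_insert, not_or] at hψ
      exact hψ.2.1 (Subtype.ext h')
    obtain ⟨i, hi⟩ := K.exists_rel_constituent ψ.2 hne
    refine hi ?_
    rw [show Cfsg.classInner (Cfsg.indFun (stabilizer G a) (i.1 : (stabilizer G a) → ℂ)) (ψ : G → ℂ) =
      Cfsg.classInner (I i) (ψ : G → ℂ) from rfl, hbI ψ hψ i, h0, Int.cast_zero, mul_zero]
  have hcardX : e ≤ X.card := by
    have h1 := K.irr_count (show e < h by omega)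
    rw [Nat.card_eq_fintype_card] at h1
    have h2 : (insert (trivIrr G) (Finset.univ.image φ)).card ≤ Fintype.card ι + 1 :=
      (Finset.card_insert_le _ _).trans (Nat.add_le_add_right Finset.card_image_le 1)
    have h3 : Fintype.card ι = Fintype.card {χ : Cfsg.IrrCharacter (stabilizer G a) //
        IsRelevant (H.subgroupOf (stabilizer G a)) (χ : stabilizer G a → ℂ)} := rfl
    rw [hX, Finset.card_sdiff, Finset.inter_univ, Finset.card_univ]
    omega
  have hbessel : (X.card : ℤ) + ∑ ψ ∈ X, (k ψ ^ 2 - 1) ≤ P - c i₀ ^ 2 * (q : ℤ) := by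
    have h1 : ((∑ ψ : Cfsg.IrrCharacter G, k ψ ^ 2 : ℤ) : ℂ) =
        ((P - c i₀ ^ 2 * (q : ℤ) : ℤ) : ℂ) := by
      rw [← hΨΨ, classInner_eq_sum_irr (IsGeneralizedCharacter.isClassFunction hΨgen)
        (IsGeneralizedCharacter.isClassFunction hΨgen)]
      simp only [hk, map_intCast]
      push_cast
      exact Finset.sum_congr rfl fun ψ _ => by ring
    rw [← (Int.cast_inj.mp h1 : ∑ ψ : Cfsg.IrrCharacter G, k ψ ^ 2 = _), Finset.sum_sub_distrib,
      Finset.sum_const, nsmul_eq_mul, mul_one, add_sub_cancel]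
    exact Finset.sum_le_sum_of_subset_of_nonneg (Finset.subset_univ _) fun _ _ _ => sq_nonneg _
  have hsq : ∀ ψ ∈ X, 0 ≤ k ψ ^ 2 - 1 := fun ψ hψ => by
    have := hk0 ψ hψ
    nlinarith [Int.one_le_abs this, sq_abs (k ψ)]
  have hsum0 := Finset.sum_nonneg hsq
  have hc0 : c i₀ = 0 := by
    have h1 : (X.card : ℤ) ≥ e := by exact_mod_cast hcardX
    have h3 : (3 : ℤ) ≤ q := by exact_mod_cast hq3
    rcases lt_trichotomy (c i₀) 0 with h4 | h4 | h4
    · nlinarith
    · exact h4
    · nlinarith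
  rw [hPc, hc0] at hbessel
  have hcardX' : X.card = e := by
    have : (X.card : ℤ) ≤ e := by linarith
    omega
  have hk1 : ∀ ψ ∈ X, k ψ = 1 := by
    intro ψ hψ
    have h2 : k ψ ^ 2 - 1 = 0 := by
      refine (Finset.sum_eq_zero_iff_of_nonneg hsq).mp ?_ ψ hψ
      have : (X.card : ℤ) = e := by exact_mod_cast hcardX'
      linarith
    obtain ⟨m, hm⟩ := IsCharacter.exists_classInner_nat
      (IsCharacter.indFun (stabilizer G a) (irr_isCharacter i₀.1)) (irr_isCharacter ψ)
    have h3 := hbI ψ hψ i₀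
    rw [show Cfsg.classInner (I i₀) (ψ : G → ℂ) = (m : ℂ) from hm, hi₀, Nat.cast_one, one_mul] at h3
    have h4 : k ψ = (m : ℤ) := by exact_mod_cast h3.symm
    rcases mul_eq_zero.mp (show (k ψ - 1) * (k ψ + 1) = 0 by linear_combination h2) with h5 | h5
    · linarith
    · linarith [Int.natCast_nonneg m]
  -- one of them has no constituent trivial on the kernel
  obtain ⟨hNRcard, hNRlin⟩ := K.nonrel
  set NR := Finset.univ.filter fun η : Cfsg.IrrCharacter (stabilizer G a) => ¬ IsRelevant (H.subgroupOf (stabilizer G a)) (η : (stabilizer G a) → ℂ) with hNR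
  have htriv : trivIrr (stabilizer G a) ∈ NR := Finset.mem_filter.mpr ⟨Finset.mem_univ _,
    fun ⟨u, _, hne⟩ => hne rfl⟩
  let g : Cfsg.IrrCharacter (stabilizer G a) → Cfsg.IrrCharacter G := fun η =>
    if hη : Cfsg.IsIrrCharacter G (Cfsg.indFun (stabilizer G a) (η : (stabilizer G a) → ℂ)) then ⟨_, hη⟩ else trivIrr G
  have hgirr : ∀ η ∈ NR.erase (trivIrr (stabilizer G a)), Cfsg.IsIrrCharacter G (Cfsg.indFun (stabilizer G a) (η : (stabilizer G a) → ℂ)) := by
    intro η hη
    obtain ⟨hne, hmemη⟩ := Finset.mem_erase.mp hη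
    obtain ⟨lam, hlam, hlamH⟩ := hNRlin η (Finset.mem_filter.mp hmemη).2
    refine (K.irr_indFun ⟨irr_isCharacter η, by rw [hlam]; simp⟩ (fun u hu => ?_)
      (fun h' => hne (Subtype.ext h'))).1
    rw [hlam]
    simp [hlamH u hu]
  have hgval : ∀ η ∈ NR.erase (trivIrr (stabilizer G a)), (g η : G → ℂ) = Cfsg.indFun (stabilizer G a) (η : (stabilizer G a) → ℂ) := by
    intro η hη
    simp only [g, dif_pos (hgirr η hη)]
  set Z := (NR.erase (trivIrr (stabilizer G a))).image g with hZ
  have hZcard : 2 * Z.card ≤ e - 1 := by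
    rw [← hNRcard, ← Finset.card_erase_of_mem htriv,
      Finset.card_eq_sum_card_image g (NR.erase (trivIrr (stabilizer G a))), mul_comm, ← smul_eq_mul,
      ← Finset.sum_const]
    refine Finset.sum_le_sum fun z hz => ?_
    obtain ⟨η, hη, rfl⟩ := Finset.mem_image.mp hz
    obtain ⟨hne, hmemη⟩ := Finset.mem_erase.mp hη
    obtain ⟨lam, hlam, hlamH⟩ := hNRlin η (Finset.mem_filter.mp hmemη).2
    let η' : Cfsg.IrrCharacter (stabilizer G a) := ⟨_, isIrrCharacter_unitsHom lam⁻¹⟩
    have hη'η : η' ≠ η := by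
      intro h'
      apply hne
      refine Subtype.ext (funext fun x => ?_)
      have h1 : lam x = (lam x)⁻¹ := Units.ext <| by
        have := congrFun (congrArg Subtype.val h') x
        rw [hlam] at this
        exact this.symm
      have h2 : lam x ^ 2 = 1 := by rw [pow_two]; nth_rewrite 1 [h1]; rw [inv_mul_cancel]
      -- the values have odd order
      obtain ⟨π, hπ, hπH⟩ := K.exists_proj
      have h3 : lam x ^ e = 1 := by
        rw [← map_pow]
        refine hlamH _ ?_
        have h5 : π (x ^ e) = 1 := by rw [map_pow, ← K.he, pow_card_eq_one']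
        by_contra hno
        obtain ⟨hg1, hg2⟩ : ((x ^ e : (stabilizer G a)) : G) ≠ 1 ∧ ∃ c, ((x ^ e : (stabilizer G a)) : G) • c = c ∧ c ≠ a := by
          rw [K.mem_iff] at hno
          push Not at hno
          exact ⟨hno.1, hno.2 (x ^ e : (stabilizer G a)).2⟩
        obtain ⟨c, hgc, hca⟩ := hg2
        obtain ⟨t, hta, htb⟩ := K.two_trans K.hab (Ne.symm hca)
        have hyE : t⁻¹ * ((x ^ e : (stabilizer G a)) : G) * t ∈ stabilizer G a ⊓ stabilizer G b := by
          rw [mem_inf_stabilizer, mul_smul, mul_smul, mul_smul, mul_smul, hta, htb,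
            (show ((x ^ e : (stabilizer G a)) : G) • a = a from (x ^ e : (stabilizer G a)).2), hgc, inv_smul_eq_iff,
            inv_smul_eq_iff]
          exact ⟨hta.symm, htb.symm⟩
        have h6 := hπ ⟨_, hyE⟩
        rw [show (⟨((⟨_, hyE⟩ : ↥(stabilizer G a ⊓ stabilizer G b : Subgroup G)) : G),
          (mem_inf_stabilizer.mp hyE).1⟩ : (stabilizer G a)) = (⟨t, hta⟩ : (stabilizer G a))⁻¹ * (x ^ e) * ⟨t, hta⟩ from
            Subtype.ext rfl, map_mul, map_mul, h5, mul_one, map_inv, inv_mul_cancel] at h6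
        have h7 : t⁻¹ * ((x ^ e : (stabilizer G a)) : G) * t = 1 := (congrArg Subtype.val h6).symm
        exact hg1 (by simpa [mul_assoc] using congrArg (fun z => t * z * t⁻¹) h7)
      obtain ⟨j, hj⟩ := K.hodd
      rw [hj, pow_succ, pow_mul, h2, one_pow, one_mul] at h3
      rw [hlam]
      simp [h3]
    have hη'mem : η' ∈ NR.erase (trivIrr (stabilizer G a)) := by
      refine Finset.mem_erase.mpr ⟨fun h' => hne ?_, Finset.mem_filter.mpr ⟨Finset.mem_univ _, ?_⟩⟩
      · refine Subtype.ext (funext fun x => ?_)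
        have h9 : ((lam x)⁻¹ : ℂˣ) = 1 := Units.ext (congrFun (congrArg Subtype.val h') x)
        rw [inv_eq_one] at h9
        rw [hlam]
        simp [h9]
      · rintro ⟨u, hu, hne'⟩
        refine hne' ?_
        show (((lam⁻¹ : (stabilizer G a) →* ℂˣ) u : ℂˣ) : ℂ) = (((lam⁻¹ : (stabilizer G a) →* ℂˣ) 1 : ℂˣ) : ℂ)
        rw [map_one, MonoidHom.inv_apply, hlamH u (Subgroup.mem_subgroupOf.mp hu), inv_one]
    have hgg : g η' = g η := by
      refine Subtype.ext ?_
      rw [hgval η' hη'mem, hgval η hη]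
      by_contra hne'
      have h0 := IsIrrCharacter.classInner_ne (hgirr η hη) (hgirr η' hη'mem) (Ne.symm hne')
      have h1 := IsIrrCharacter.classInner_self (hgirr η hη)
      rw [classInner_indFun _ _ (isClassFunction_indFun _ _)] at h0 h1
      rw [show (fun x : (stabilizer G a) => Cfsg.indFun (stabilizer G a) (η' : (stabilizer G a) → ℂ) x) =
        fun x : (stabilizer G a) => Cfsg.indFun (stabilizer G a) (η : (stabilizer G a) → ℂ) x from funext fun x => by
          rw [hlam]; exact K.indFun_conj_linear lam hlamH x, h1] at h0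
      exact one_ne_zero h0
    refine Finset.one_lt_card.mpr ⟨η', Finset.mem_filter.mpr ⟨hη'mem, hgg⟩, η,
      Finset.mem_filter.mpr ⟨hη, rfl⟩, hη'η⟩
  set W := X.filter fun ψ : Cfsg.IrrCharacter G => Cfsg.classInner (Cfsg.indFun (stabilizer G a) fun _ => (1 : ℂ)) (ψ : G → ℂ) ≠ 0
    with hW
  have hWcard : W.card ≤ 1 := by
    by_contra hgt
    obtain ⟨ψ₁, h₁, ψ₂, h₂, h12⟩ := Finset.one_lt_card.mp (not_le.mp hgt)
    have hπc : Cfsg.IsCharacter G (Cfsg.indFun (stabilizer G a) fun _ => (1 : ℂ)) :=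
      IsCharacter.indFun (stabilizer G a) isCharacter_one
    obtain ⟨m, -, hm⟩ := IsCharacter.exists_nat_decomp hπc
    have h1 : ((∑ ψ : Cfsg.IrrCharacter G, m ψ ^ 2 : ℕ) : ℂ) = ((2 : ℕ) : ℂ) := by
      rw [Nat.cast_ofNat, ← K.classInner_ind_trivial,
        classInner_eq_sum_irr (IsCharacter.isClassFunction hπc) (IsCharacter.isClassFunction hπc)]
      simp only [hm, map_natCast]
      push_cast
      exact Finset.sum_congr rfl fun ψ _ => by ring
    have h2 : ∑ ψ : Cfsg.IrrCharacter G, m ψ ^ 2 = 2 := by exact_mod_cast h1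
    have hmT : m (trivIrr G) ≠ 0 := by
      intro h0
      have h3 := hm (trivIrr G)
      rw [classInner_indFun _ _ (irr_isClassFunction _), h0, Nat.cast_zero] at h3
      simp only [trivIrr_apply] at h3
      rw [IsIrrCharacter.classInner_self isIrrCharacter_one] at h3
      exact one_ne_zero h3
    have hm' : ∀ ψ ∈ W, m ψ ≠ 0 := fun ψ hψ h0 => (Finset.mem_filter.mp hψ).2 (by
      rw [hm ψ, h0, Nat.cast_zero])
    have hne : ∀ ψ ∈ W, trivIrr G ≠ ψ := fun ψ hψ h' => by
      have := (Finset.mem_filter.mp hψ).1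
      simp only [hX, Finset.mem_sdiff, Finset.mem_insert, not_or] at this
      exact this.2.1 h'.symm
    have h4 := Finset.sum_le_sum_of_subset (f := fun ψ => m ψ ^ 2)
      (Finset.subset_univ ({trivIrr G, ψ₁, ψ₂} : Finset (Cfsg.IrrCharacter G)))
    rw [Finset.sum_insert (by simp [hne ψ₁ h₁, hne ψ₂ h₂]), Finset.sum_pair h12, h2] at h4
    have := Nat.one_le_pow 2 _ (Nat.pos_of_ne_zero hmT)
    have := Nat.one_le_pow 2 _ (Nat.pos_of_ne_zero (hm' ψ₁ h₁))
    have := Nat.one_le_pow 2 _ (Nat.pos_of_ne_zero (hm' ψ₂ h₂))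
    omega
  obtain ⟨ψ, hψX, hψ⟩ : ∃ ψ ∈ X, ψ ∉ W ∪ Z := by
    by_contra hall
    push Not at hall
    have := (Finset.card_le_card hall).trans (Finset.card_union_le _ _)
    omega
  rw [Finset.mem_union, not_or] at hψ
  have hψnr : ∀ η ∈ NR, Cfsg.classInner (fun x : (stabilizer G a) => (ψ : G → ℂ) x) (η : (stabilizer G a) → ℂ) = 0 := by
    intro η hη
    rw [← classInner_conj_symm, ← classInner_indFun _ _ (irr_isClassFunction ψ), map_eq_zero]
    by_cases h1 : η = trivIrr (stabilizer G a)
    · subst h1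
      by_contra h0
      exact hψ.1 (Finset.mem_filter.mpr ⟨hψX, h0⟩)
    · have hη' : η ∈ NR.erase (trivIrr (stabilizer G a)) := Finset.mem_erase.mpr ⟨h1, hη⟩
      rw [← hgval η hη']
      refine IsIrrCharacter.classInner_ne (g η).2 ψ.2 fun h' => hψ.2 ?_
      exact Finset.mem_image.mpr ⟨η, hη', Subtype.ext h'⟩
  have hψ1 : (ψ : G → ℂ) 1 = ((e * q : ℕ) : ℂ) := by
    have hres : Cfsg.IsClassFunction (stabilizer G a) fun x : (stabilizer G a) => (ψ : G → ℂ) x :=
      IsCharacter.isClassFunction (IsCharacter.restrict (irr_isCharacter ψ) _)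
    have h1 := congrFun (eq_sum_classInner hres) 1
    simp only [Finset.sum_apply, Pi.smul_apply, smul_eq_mul, OneMemClass.coe_one] at h1
    rw [h1, ← Finset.sum_filter_add_sum_filter_not Finset.univ
      (fun η : Cfsg.IrrCharacter (stabilizer G a) => IsRelevant (H.subgroupOf (stabilizer G a)) (η : (stabilizer G a) → ℂ)),
      Finset.sum_eq_zero (s := Finset.univ.filter fun η : Cfsg.IrrCharacter (stabilizer G a) =>
        ¬ IsRelevant (H.subgroupOf (stabilizer G a)) (η : (stabilizer G a) → ℂ)) (fun η hη => by rw [hψnr η hη, zero_mul]), add_zero,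
      Finset.sum_subtype (p := fun η : Cfsg.IrrCharacter (stabilizer G a) => IsRelevant (H.subgroupOf (stabilizer G a)) (η : (stabilizer G a) → ℂ)) _
        (fun x => by simp), hq, Nat.cast_mul, Nat.cast_sum, Finset.mul_sum]
    refine Finset.sum_congr rfl fun i _ => ?_
    have h2 := hbI ψ hψX i
    rw [hk1 ψ hψX, Int.cast_one, mul_one] at h2
    rw [← classInner_conj_symm, ← classInner_indFun _ _ (irr_isClassFunction ψ),
      show Cfsg.classInner (Cfsg.indFun (stabilizer G a) (i.1 : (stabilizer G a) → ℂ)) (ψ : G → ℂ) = (d i : ℂ) from h2,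
      map_natCast, show (i.1 : (stabilizer G a) → ℂ) 1 = ((e * d i : ℕ) : ℂ) from hχ1 i]
    push_cast
    ring
  obtain ⟨t, -, ht, htd⟩ := IsIrrCharacter.exists_degree_dvd ψ.2
  have ht' : t = e * q := by
    rw [hψ1] at ht
    exact_mod_cast ht.symm
  rw [ht', K.card_group, show (h + 1) * (h * e) = e * ((h + 1) * h) by ring] at htd
  have hq2 : q ∣ (h + 1) * h := Nat.dvd_of_mul_dvd_mul_left (by omega) htd
  rw [show (h + 1) * h = q * (e * (e * q + 3)) + 2 by rw [← hqe]; ring] at hq2
  have := Nat.le_of_dvd (by omega) ((Nat.dvd_add_right (dvd_mul_right q _)).mp hq2)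
  omega

/-! ### The case of an odd prime power kernel -/

theorem exists_int_value_involution {G' : Type u} [Group G'] [Fintype G'] {χ : G' → ℂ} {g : G'}
    (hχ : Cfsg.IsCharacter G' χ) (hg : orderOf g = 2) : ∃ z : ℤ, χ g = (z : ℂ) := by
  classical
  set T := Subgroup.zpowers g with hT
  haveI := Fintype.ofFinite T
  obtain ⟨m, hm⟩ := IsCharacter.exists_classInner_nat (IsCharacter.restrict hχ T)
    (isCharacter_one (G := T))
  obtain ⟨k, hk⟩ := IsCharacter.exists_apply_one hχ
  have hcard : Nat.card T = 2 := by rw [hT, Nat.card_zpowers, hg]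
  have hne : (1 : T) ≠ ⟨g, Subgroup.mem_zpowers g⟩ := fun h' => by
    have h1 : g = 1 := (congrArg Subtype.val h').symm
    rw [h1, orderOf_one] at hg
    exact absurd hg (by norm_num)
  have huniv : (Finset.univ : Finset T) = {1, ⟨g, Subgroup.mem_zpowers g⟩} :=
    (Finset.eq_univ_of_card _ (by rw [Finset.card_pair hne, ← Nat.card_eq_fintype_card, hcard])).symm
  simp only [Cfsg.classInner, hcard, huniv, Finset.sum_pair hne, map_one, mul_one] at hm
  refine ⟨2 * m - k, ?_⟩
  rw [OneMemClass.coe_one, hk] at hm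
  push_cast at hm ⊢
  linear_combination 2 * hm

theorem odd_real_irr_trivial {L : Type u} [Group L] [Finite L] (hodd : Odd (Nat.card L))
    {χ : Cfsg.IrrCharacter L} (hreal : ∀ g, ((χ : L → ℂ) g).im = 0) : χ = trivIrr L := by
  classical
  have h1 := card_real_irr (G := L)
  have h2 : Nat.card {C : ConjClasses L // ∀ g : L, ConjClasses.mk g = C → IsConj g g⁻¹} = 1 := by
    refine Nat.card_eq_one_iff_exists.mpr ⟨⟨ConjClasses.mk 1, fun g hg => ?_⟩, ?_⟩
    · rw [isConj_one_right.mp (ConjClasses.mk_eq_mk_iff_isConj.mp hg).symm, inv_one]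
    rintro ⟨C, hC⟩
    obtain ⟨g, rfl⟩ := ConjClasses.mk_surjective C
    refine Subtype.ext ?_
    obtain ⟨c, hc⟩ := isConj_iff.mp (hC g rfl)
    have hc2 : Commute (c ^ 2) g := by
      show c ^ 2 * g = g * c ^ 2
      calc c ^ 2 * g = c * (c * g * c⁻¹) * c⁻¹ * c ^ 2 := by rw [pow_two]; group
        _ = c * g⁻¹ * c⁻¹ * c ^ 2 := by rw [hc]
        _ = (c * g * c⁻¹)⁻¹ * c ^ 2 := by group
        _ = g * c ^ 2 := by rw [hc, inv_inv]
    obtain ⟨j, hj⟩ := hodd
    have hc1 : Commute c g := by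
      have : c = (c ^ 2) ^ (j + 1) := by
        rw [← pow_mul, show 2 * (j + 1) = Nat.card L + 1 by omega, pow_succ, pow_card_eq_one',
          one_mul]
      rw [this]
      exact hc2.pow_left _
    rw [hc1.eq, mul_inv_cancel_right] at hc
    have hg2 : g ^ 2 = 1 := by rw [pow_two]; nth_rewrite 2 [hc]; rw [mul_inv_cancel]
    have hg1 : g = 1 := by
      have h3 : g ^ Nat.card L = 1 := pow_card_eq_one'
      rwa [hj, pow_succ, pow_mul, hg2, one_pow, one_mul] at h3
    show ConjClasses.mk g = ConjClasses.mk 1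
    rw [hg1]
  rw [h2, Nat.card_eq_one_iff_exists] at h1
  obtain ⟨x, hx⟩ := h1
  exact (congrArg Subtype.val (hx ⟨χ, hreal⟩)).trans
    (congrArg Subtype.val (hx ⟨trivIrr L, fun g => by simp⟩)).symm

set_option maxHeartbeats 1600000 in
open scoped Classical in
/-- The kernel is not a nonabelian group of odd prime power order. -/
theorem ZKer.not_odd_pgroup [IsSimpleGroup G] (K : ZKer G a b h e H) {p : ℕ} (hp : p.Prime)
    (hp2 : p ≠ 2) (hpg : IsPGroup p (H.subgroupOf (stabilizer G a)))
    (hnab : ∃ u v : H.subgroupOf (stabilizer G a), u * v ≠ v * u) : False := by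
  haveI := Fact.mk hp
  haveI := Fintype.ofFinite (Cfsg.IrrCharacter G)
  haveI := Fintype.ofFinite (Cfsg.IrrCharacter (stabilizer G a))
  haveI := Fintype.ofFinite (Cfsg.IrrCharacter (H.subgroupOf (stabilizer G a)))
  haveI := Fintype.ofFinite {χ : Cfsg.IrrCharacter (stabilizer G a) //
    IsRelevant (H.subgroupOf (stabilizer G a)) (χ : stabilizer G a → ℂ)}
  haveI := K.isPretransitive
  obtain ⟨m, hm⟩ := IsPGroup.iff_card.mp hpg
  rw [K.card_kernel] at hm
  have he3 := K.three_le_e
  have hh1 := K.one_lt_h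
  have hpodd : Odd p := hp.odd_of_ne_two hp2
  have hhodd : Odd h := hm ▸ hpodd.pow
  have hheven : ¬ Even h := Nat.not_even_iff_odd.mpr hhodd
  have hBodd : Odd (Nat.card (stabilizer G a)) := by
    rw [K.card_stabilizer a]; exact hhodd.mul K.hodd
  obtain ⟨w, hwa, hwb, hw⟩ := K.exists_swap
  -- involutions have no fixed points
  have hfix0 : ∀ t : G, orderOf t = 2 → ∀ c : Ω, t • c ≠ c := by
    intro t ht c hc
    rcases K.involutions ht with ⟨h1, -⟩ | ⟨-, h2, -⟩
    · exact hheven h1
    · have hmem : c ∈ fixSet (Ω := Ω) t := mem_fixSet.mpr hc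
      rw [Finset.card_eq_zero.mp h2] at hmem
      exact Finset.notMem_empty c hmem
  have hI : (Finset.univ.filter fun t : G => orderOf t = 2).card = e * h := by
    rcases K.involutions hw with ⟨h1, -⟩ | ⟨-, -, h3⟩
    · exact absurd h1 hheven
    · exact h3
  -- `4` divides the degree
  have h4 : 4 ∣ h + 1 := by
    let f : G →* ℤˣ := Equiv.Perm.sign.comp (MulAction.toPermHom G Ω)
    have hf : f w = 1 := by
      have h1 := Abelianization.commutator_subset_ker f
      rw [K.commutator_eq_top] at h1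
      exact h1 (Subgroup.mem_top w)
    have hsq : (MulAction.toPermHom G Ω w) ^ 2 = 1 := by
      rw [← map_pow, ← hw, pow_orderOf_eq_one, map_one]
    have hfp : Fintype.card (Function.fixedPoints (MulAction.toPermHom G Ω w)) = 0 := by
      rw [Fintype.card_eq_zero_iff]
      exact ⟨fun c => hfix0 w hw c.1 c.2⟩
    have h2 : f w = (-1) ^ ((h + 1) / 2) := by
      show Equiv.Perm.sign (MulAction.toPermHom G Ω w) = _
      rw [Equiv.Perm.sign_of_pow_two_eq_one hsq, hfp, Nat.sub_zero, K.hh]
    have h3 : Even ((h + 1) / 2) := by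
      by_contra hno
      rw [hf, (Nat.not_even_iff_odd.mp hno).neg_one_pow] at h2
      exact absurd h2 (by decide)
    obtain ⟨r, hr⟩ := h3
    obtain ⟨s, hs⟩ := hhodd
    exact ⟨r, by omega⟩
  have hmodd : Odd m := by
    by_contra hev
    obtain ⟨r, hr⟩ := Nat.not_odd_iff_even.mp hev
    obtain ⟨s, hs⟩ := (hpodd.pow (n := r))
    rw [hm, hr, pow_add, hs, show (2 * s + 1) * (2 * s + 1) + 1 = 4 * (s * s + s) + 2 by ring] at h4
    have := (Nat.dvd_add_right (dvd_mul_right 4 _)).mp h4
    exact absurd (Nat.le_of_dvd (by norm_num) this) (by norm_num)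
  -- the size of the kernel
  have hlin := frob_linear_count (H.subgroupOf (stabilizer G a)) K.hC
  rw [K.index_kernel] at hlin
  set s := (Finset.univ.filter fun χ : {χ : Cfsg.IrrCharacter (stabilizer G a) //
    IsRelevant (H.subgroupOf (stabilizer G a)) (χ : stabilizer G a → ℂ)} =>
      redDeg (H.subgroupOf (stabilizer G a)) χ = 1).card with hs
  have hspos : 0 < s := by
    obtain ⟨i, hi⟩ := frob_exists_linear _ K.ne_bot K.ne_top K.hC
    exact Finset.card_pos.mpr ⟨i, Finset.mem_filter.mpr ⟨Finset.mem_univ _, hi⟩⟩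
  have hidxdvd : (commutator (H.subgroupOf (stabilizer G a))).index ∣ p ^ m := by
    rw [← hm, ← K.card_kernel]; exact Subgroup.index_dvd_card _
  obtain ⟨j, hjm, hj⟩ := (Nat.dvd_prime_pow hp).mp hidxdvd
  have hj0 : 0 < j := by
    by_contra h0
    rw [show j = 0 by omega, pow_zero] at hj
    rw [hj] at hlin
    have := Nat.mul_pos (show 0 < e by omega) hspos
    omega
  have hjlt : j < m := by
    refine lt_of_le_of_ne hjm fun h' => ?_
    obtain ⟨u, v, huv⟩ := hnab
    apply huv
    have hc := (commutator (H.subgroupOf (stabilizer G a))).index_mul_card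
    rw [hj, h', K.card_kernel, hm] at hc
    have hc1 : commutator (H.subgroupOf (stabilizer G a)) = ⊥ :=
      Subgroup.card_eq_one.mp (Nat.eq_of_mul_eq_mul_left (pow_pos hp.pos m) (hc.trans (mul_one _).symm))
    rw [commutator_def, Subgroup.commutator_eq_bot_iff_le_centralizer] at hc1
    exact Subgroup.mem_centralizer_iff.mp (hc1 (Subgroup.mem_top v)) u (Subgroup.mem_top u)
  have hbig : e * e * e < h := by
    have hj1 : e ∣ p ^ j - 1 := ⟨s, by rw [← hj, ← hlin, Nat.add_sub_cancel]⟩
    have hsum := K.sum_redDeg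
    have hm1 : e ∣ p ^ m - 1 := ⟨∑ χ : {χ : Cfsg.IrrCharacter (stabilizer G a) //
        IsRelevant (H.subgroupOf (stabilizer G a)) (χ : stabilizer G a → ℂ)},
      redDeg (H.subgroupOf (stabilizer G a)) χ ^ 2, by rw [← hm]; omega⟩
    have hi1 : e ∣ p ^ (m - j) - 1 := by
      have h5 : p ^ m - 1 = p ^ (m - j) * (p ^ j - 1) + (p ^ (m - j) - 1) := by
        have h6 : p ^ (m - j) * p ^ j = p ^ m := by rw [← pow_add, Nat.sub_add_cancel hjm]
        have h7 := Nat.one_le_pow (m - j) p hp.pos
        have h8 := Nat.one_le_pow j p hp.pos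
        rw [Nat.mul_sub_one, h6]
        have h9 : p ^ (m - j) ≤ p ^ m := Nat.pow_le_pow_right hp.pos (by omega)
        omega
      rw [h5] at hm1
      exact (Nat.dvd_add_right (hj1.mul_left _)).mp hm1
    set g := Nat.gcd j (m - j) with hg
    have hg1 : e ∣ p ^ g - 1 := by
      rw [← Nat.pow_sub_one_gcd_pow_sub_one]
      exact Nat.dvd_gcd hj1 hi1
    have hg2 : 2 ∣ p ^ g - 1 := by
      obtain ⟨r, hr⟩ := hpodd.pow (n := g)
      exact ⟨r, by omega⟩
    have hg0 : 0 < g := Nat.gcd_pos_of_pos_left _ hj0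
    have h2e : 2 * e ∣ p ^ g - 1 :=
      (Nat.coprime_two_left.mpr K.hodd).mul_dvd_of_dvd_of_dvd hg2 hg1
    have hpg' : 2 * e + 1 ≤ p ^ g := by
      have h5 := Nat.one_lt_pow hg0.ne' hp.one_lt
      have := Nat.le_of_dvd (by omega) h2e
      omega
    obtain ⟨k, hk⟩ : g ∣ m := by
      have h5 := dvd_add (Nat.gcd_dvd_left j (m - j)) (Nat.gcd_dvd_right j (m - j))
      rwa [Nat.add_sub_cancel' hjm] at h5
    have hk3 : 3 ≤ k := by
      have hjg : g ≤ j := Nat.le_of_dvd hj0 (Nat.gcd_dvd_left _ _)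
      have hig : g ≤ m - j := Nat.le_of_dvd (by omega) (Nat.gcd_dvd_right _ _)
      have hkodd : Odd k := (Nat.odd_mul.mp (hk ▸ hmodd)).2
      have : 2 ≤ k := by
        by_contra hk2
        interval_cases k <;> omega
      obtain ⟨r, hr⟩ := hkodd
      omega
    rw [hm, hk, pow_mul]
    refine lt_of_lt_of_le ?_ (Nat.pow_le_pow_right (Nat.one_le_pow _ _ hp.pos) hk3)
    calc e * e * e = e ^ 3 := by ring
      _ < (p ^ g) ^ 3 := Nat.pow_lt_pow_left (by omega) (by norm_num)
  -- notation
  let ι := {χ : Cfsg.IrrCharacter (stabilizer G a) //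
    IsRelevant (H.subgroupOf (stabilizer G a)) (χ : stabilizer G a → ℂ)}
  let d : ι → ℕ := redDeg (H.subgroupOf (stabilizer G a))
  let I : ι → (G → ℂ) := fun i => Cfsg.indFun (stabilizer G a) (i.1 : stabilizer G a → ℂ)
  have hχ1 : ∀ i : ι, (i.1 : stabilizer G a → ℂ) 1 = ((e * d i : ℕ) : ℂ) := fun i => K.redDeg_one i
  have hIchar : ∀ i, Cfsg.IsCharacter G (I i) := fun i =>
    IsCharacter.indFun _ (irr_isCharacter i.1)
  choose mult hmult using fun (i : ι) (ψ : Cfsg.IrrCharacter G) =>
    IsCharacter.exists_classInner_nat (hIchar i) (irr_isCharacter ψ)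
  have hgram : ∀ i k : ι, d i = 1 → d k = 1 →
      ∑ ψ : Cfsg.IrrCharacter G, mult i ψ * mult k ψ = (if i = k then 1 else 0) + e := by
    intro i k hi hk
    have h1 : ((∑ ψ : Cfsg.IrrCharacter G, mult i ψ * mult k ψ : ℕ) : ℂ) =
        (((if i = k then 1 else 0) + e : ℕ) : ℂ) := by
      have h2 := K.classInner_ind_ind i.1.2 i.2 k.1.2 (hχ1 i) (hχ1 k)
      rw [hi, hk, one_mul, mul_one, classInner_eq_sum_irr (isClassFunction_indFun _ _)
        (isClassFunction_indFun _ _), classInner_irr] at h2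
      have hite : ((if i = k then 1 else 0 : ℕ) : ℂ) = if i.1 = k.1 then 1 else 0 := by
        by_cases h' : i = k
        · simp [h']
        · rw [if_neg h', if_neg fun h'' => h' (Subtype.ext h''), Nat.cast_zero]
      rw [Nat.cast_add, hite, ← h2, Nat.cast_sum]
      refine Finset.sum_congr rfl fun ψ _ => ?_
      rw [hmult i ψ, hmult k ψ, map_natCast, Nat.cast_mul]
    exact_mod_cast h1
  -- conjugation
  let conjB : ι → ι := fun i => ⟨⟨_, IsIrrCharacter.conjugate i.1.2⟩, by
    obtain ⟨u, hu, hne⟩ := i.2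
    exact ⟨u, hu, fun h' => hne ((starRingEnd ℂ).injective h')⟩⟩
  let conjG : Cfsg.IrrCharacter G → Cfsg.IrrCharacter G := fun ψ =>
    ⟨_, IsIrrCharacter.conjugate ψ.2⟩
  have hdconj : ∀ i, d (conjB i) = d i := by
    intro i
    have h1 : ((e * d (conjB i) : ℕ) : ℂ) = ((e * d i : ℕ) : ℂ) := by
      rw [← hχ1 (conjB i)]
      show conj ((i.1 : stabilizer G a → ℂ) 1) = _
      rw [hχ1 i, map_natCast]
    exact Nat.eq_of_mul_eq_mul_left (show 0 < e by omega) (by exact_mod_cast h1)
  have hmconj : ∀ i ψ, mult (conjB i) ψ = mult i (conjG ψ) := by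
    intro i ψ
    have h1 : ((mult (conjB i) ψ : ℕ) : ℂ) = ((mult i (conjG ψ) : ℕ) : ℂ) := by
      rw [← hmult (conjB i) ψ, ← hmult i (conjG ψ)]
      have h2 : I (conjB i) = fun g => conj (I i g) := funext fun g =>
        (indFun_conj _ (i.1 : stabilizer G a → ℂ) g).symm
      have h3 : (ψ : G → ℂ) = fun g => conj ((conjG ψ : G → ℂ) g) := funext fun g =>
        (Complex.conj_conj _).symm
      rw [h2]
      conv_lhs => arg 2; rw [h3]
      rw [classInner_conj_conj, ← classInner_conj_symm, hmult i (conjG ψ), map_natCast]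
    exact_mod_cast h1
  have hne_conj : ∀ i, conjB i ≠ i := by
    intro i h'
    have hreal : ∀ g, ((i.1 : stabilizer G a → ℂ) g).im = 0 := fun g =>
      Complex.conj_eq_iff_im.mp (congrFun (congrArg (fun x : ι => (x.1 : stabilizer G a → ℂ)) h') g)
    obtain ⟨u, hu, hne⟩ := i.2
    rw [odd_real_irr_trivial hBodd hreal] at hne
    exact hne rfl
  let IsReal : Cfsg.IrrCharacter G → Prop := fun ψ => ∀ g, ((ψ : G → ℂ) g).im = 0
  have hreal_iff : ∀ ψ, IsReal ψ → conjG ψ = ψ := fun ψ hψ =>
    Subtype.ext (funext fun g => Complex.conj_eq_iff_im.mpr (hψ g))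
  -- the Frobenius-Schur identity
  let roots : G → ℂ := fun g => ((Finset.univ.filter fun x : G => x * x = g).card : ℂ)
  let ν : Cfsg.IrrCharacter G → ℂ := fun ψ =>
    (Nat.card G : ℂ)⁻¹ * ∑ x : G, (ψ : G → ℂ) (x * x)
  have hν0 : ∀ ψ, ¬ IsReal ψ → ν ψ = 0 := fun ψ hψ =>
    (frobeniusSchur ψ.2).1 (by simpa [IsReal] using hψ)
  have hν1 : ∀ ψ, IsReal ψ → ν ψ = 1 ∨ ν ψ = -1 := by
    intro ψ hψ
    obtain ⟨n, M, ε, -, -, hε, -, hνε⟩ := (frobeniusSchur ψ.2).2 hψ
    rcases hε with rfl | rfl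
    · exact Or.inl hνε
    · exact Or.inr hνε
  have hrootsc : Cfsg.IsClassFunction G roots := by
    intro g c
    show ((Finset.univ.filter fun x : G => x * x = c * g * c⁻¹).card : ℂ) = _
    congr 1
    refine Finset.card_bij (fun x _ => c⁻¹ * x * c) (fun x hx => ?_)
      (fun _ _ _ _ h' => mul_left_cancel (mul_right_cancel h'))
      (fun x hx => ⟨c * x * c⁻¹, ?_, by group⟩)
    · simp only [Finset.mem_filter, Finset.mem_univ, true_and] at hx ⊢
      calc c⁻¹ * x * c * (c⁻¹ * x * c) = c⁻¹ * (x * x) * c := by group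
        _ = g := by rw [hx]; group
    · simp only [Finset.mem_filter, Finset.mem_univ, true_and] at hx ⊢
      rw [← hx]; group
  have hrootsψ : ∀ ψ : Cfsg.IrrCharacter G, conj (Cfsg.classInner roots (ψ : G → ℂ)) = ν ψ := by
    intro ψ
    simp only [Cfsg.classInner, map_mul, map_inv₀, map_natCast, map_sum, Complex.conj_conj, roots, ν]
    congr 1
    rw [← Finset.sum_fiberwise_of_maps_to (g := fun x : G => x * x) (s := Finset.univ)
      (t := Finset.univ) (fun x _ => Finset.mem_univ _) (fun x => (ψ : G → ℂ) (x * x))]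
    refine Finset.sum_congr rfl fun g _ => ?_
    rw [Finset.sum_congr rfl fun x hx => by rw [(Finset.mem_filter.mp hx).2], Finset.sum_const,
      nsmul_eq_mul]
  have hroots_kernel : ∀ u ∈ H, u ≠ 1 → roots u = 1 := by
    intro u hu hu1
    show ((Finset.univ.filter fun x : G => x * x = u).card : ℂ) = 1
    obtain ⟨r, hr⟩ := hhodd
    have hpow : ∀ x ∈ H, x ^ h = 1 := fun x hx => by
      have := pow_card_eq_one' (x := (⟨x, hx⟩ : H))
      rw [K.hHcard] at this
      exact congrArg Subtype.val this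
    rw [Finset.card_eq_one.mpr ⟨u ^ (r + 1), ?_⟩, Nat.cast_one]
    ext x
    simp only [Finset.mem_filter, Finset.mem_univ, true_and, Finset.mem_singleton]
    constructor
    · intro hx
      have hc : Commute x u := by rw [← hx]; exact (Commute.refl x).mul_right (Commute.refl x)
      have hxH := K.centralizer_le hu hu1 hc
      rw [← hx, ← pow_two, ← pow_mul, show 2 * (r + 1) = h + 1 by omega, pow_succ, hpow x hxH,
        one_mul]
    · rintro rfl
      rw [← pow_add, show r + 1 + (r + 1) = h + 1 by omega, pow_succ, hpow u hu, one_mul]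
  have hroots1 : roots 1 = ((e * h + 1 : ℕ) : ℂ) := by
    show ((Finset.univ.filter fun x : G => x * x = 1).card : ℂ) = _
    rw [← hI, ← Finset.card_insert_of_notMem (a := (1 : G)) (by simp)]
    congr 2
    ext x
    simp only [Finset.mem_filter, Finset.mem_univ, true_and, Finset.mem_insert]
    refine ⟨fun hx => or_iff_not_imp_left.mpr fun h1 => orderOf_eq_prime (by rw [pow_two, hx]) h1,
      ?_⟩
    rintro (rfl | hx)
    · exact one_mul 1
    · rw [← pow_two, ← hx, pow_orderOf_eq_one]
  have hFS : ∀ i, d i = 1 → ∑ ψ : Cfsg.IrrCharacter G, (mult i ψ : ℂ) * ν ψ = (e : ℂ) := by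
    intro i hi
    have h1 := K.classInner_ind_const i.1.2 i.2 hrootsc hroots_kernel
    rw [classInner_eq_sum_irr (isClassFunction_indFun _ _) hrootsc, hχ1 i, hi, mul_one, hroots1]
      at h1
    rw [Finset.sum_congr rfl fun ψ _ => by rw [← hmult i ψ, ← hrootsψ ψ], h1]
    have hh : (h : ℂ) ≠ 0 := Nat.cast_ne_zero.mpr (by omega)
    have he : (e : ℂ) ≠ 0 := Nat.cast_ne_zero.mpr (by omega)
    push_cast
    simp only [map_sub, map_add, map_mul, map_natCast, map_one]
    field_simp
    ring
  -- the shape of a linear column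
  let Rs : ι → Finset (Cfsg.IrrCharacter G) := fun i =>
    Finset.univ.filter fun ψ => IsReal ψ ∧ mult i ψ ≠ 0
  let Ns : ι → Finset (Cfsg.IrrCharacter G) := fun i =>
    Finset.univ.filter fun ψ => ¬ IsReal ψ ∧ mult i ψ ≠ 0
  have hcol : ∀ i, d i = 1 → (Rs i).card = e ∧ (∀ ψ, mult i ψ ≤ 1) ∧
      ∃ χ₀, Ns i = {χ₀} := by
    intro i hi
    have hdec : ∀ f : Cfsg.IrrCharacter G → ℕ, (∀ ψ, mult i ψ = 0 → f ψ = 0) →
        ∑ ψ ∈ Rs i, f ψ + ∑ ψ ∈ Ns i, f ψ = ∑ ψ, f ψ := by
      intro f hf
      rw [← Finset.sum_filter_add_sum_filter_not Finset.univ IsReal f]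
      congr 1
      · refine Finset.sum_subset (fun ψ hψ => Finset.mem_filter.mpr ⟨Finset.mem_univ _,
          (Finset.mem_filter.mp hψ).2.1⟩) fun ψ hψ hψ' => hf ψ ?_
        by_contra h0
        exact hψ' (Finset.mem_filter.mpr ⟨Finset.mem_univ _, (Finset.mem_filter.mp hψ).2, h0⟩)
      · refine Finset.sum_subset (fun ψ hψ => Finset.mem_filter.mpr ⟨Finset.mem_univ _,
          (Finset.mem_filter.mp hψ).2.1⟩) fun ψ hψ hψ' => hf ψ ?_
        by_contra h0
        exact hψ' (Finset.mem_filter.mpr ⟨Finset.mem_univ _, (Finset.mem_filter.mp hψ).2, h0⟩)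
    have hNne : (Ns i).Nonempty := by
      by_contra hN
      rw [Finset.not_nonempty_iff_eq_empty, Finset.filter_eq_empty_iff] at hN
      have heq : ∀ ψ, mult (conjB i) ψ = mult i ψ := by
        intro ψ
        rw [hmconj]
        by_cases hψ : IsReal ψ
        · rw [hreal_iff ψ hψ]
        · have h0 : mult i ψ = 0 := by
            by_contra h0; exact hN (Finset.mem_univ ψ) ⟨hψ, h0⟩
          have hψ' : ¬ IsReal (conjG ψ) := fun h' => hψ fun g => by
            have := h' g
            simpa [conjG] using this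
          rw [h0]
          by_contra h1
          exact hN (Finset.mem_univ _) ⟨hψ', h1⟩
      have h1 := hgram i (conjB i) hi ((hdconj i).trans hi)
      have h2 := hgram i i hi hi
      rw [if_neg (hne_conj i).symm, Finset.sum_congr rfl fun ψ _ => by rw [heq ψ], h2, if_pos rfl]
        at h1
      omega
    have hsq : ∑ ψ ∈ Rs i, mult i ψ * mult i ψ + ∑ ψ ∈ Ns i, mult i ψ * mult i ψ = 1 + e := by
      rw [hdec (fun ψ => mult i ψ * mult i ψ) (fun ψ h0 => by simp [h0]), hgram i i hi hi,
        if_pos rfl]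
    have hsig : e ≤ ∑ ψ ∈ Rs i, mult i ψ := by
      have h1 := hFS i hi
      rw [← Finset.sum_subset (Finset.subset_univ (Rs i)) fun ψ _ hψ => ?_] at h1
      · have h2 : ∀ ψ ∈ Rs i, ((mult i ψ : ℂ) * ν ψ).re ≤ (mult i ψ : ℝ) := by
          intro ψ hψ
          rcases hν1 ψ (Finset.mem_filter.mp hψ).2.1 with h' | h' <;> rw [h'] <;> simp
        have h3 : ((e : ℝ)) ≤ ∑ ψ ∈ Rs i, (mult i ψ : ℝ) := by
          have h4 := congrArg Complex.re h1
          rw [Complex.re_sum, Complex.natCast_re] at h4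
          rw [← h4]
          exact Finset.sum_le_sum h2
        exact_mod_cast h3
      · by_cases hr : IsReal ψ
        · have : mult i ψ = 0 := by
            by_contra h0; exact hψ (Finset.mem_filter.mpr ⟨Finset.mem_univ _, hr, h0⟩)
          rw [this, Nat.cast_zero, zero_mul]
        · rw [hν0 ψ hr, mul_zero]
    have hone : ∀ ψ ∈ Rs i, 1 ≤ mult i ψ := fun ψ hψ =>
      Nat.pos_of_ne_zero (Finset.mem_filter.mp hψ).2.2
    have honeN : ∀ ψ ∈ Ns i, 1 ≤ mult i ψ * mult i ψ := fun ψ hψ =>
      Nat.pos_of_ne_zero (mul_ne_zero (Finset.mem_filter.mp hψ).2.2 (Finset.mem_filter.mp hψ).2.2)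
    have hNs : (Ns i).card ≤ ∑ ψ ∈ Ns i, mult i ψ * mult i ψ := by
      rw [Finset.card_eq_sum_ones]; exact Finset.sum_le_sum honeN
    have hRle : ∑ ψ ∈ Rs i, mult i ψ ≤ ∑ ψ ∈ Rs i, mult i ψ * mult i ψ :=
      Finset.sum_le_sum fun ψ _ => Nat.le_mul_self _
    have hNpos := Finset.card_pos.mpr hNne
    have hN1 : (Ns i).card = 1 := by omega
    have hmR : ∀ ψ ∈ Rs i, mult i ψ = 1 := by
      intro ψ hψ
      by_contra hne1
      have : ∑ φ ∈ Rs i, mult i φ < ∑ φ ∈ Rs i, mult i φ * mult i φ :=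
        Finset.sum_lt_sum (fun φ _ => Nat.le_mul_self _)
          ⟨ψ, hψ, lt_mul_of_one_lt_right (hone ψ hψ) (lt_of_le_of_ne (hone ψ hψ) (Ne.symm hne1))⟩
      omega
    obtain ⟨χ₀, hχ₀⟩ := Finset.card_eq_one.mp hN1
    refine ⟨?_, fun ψ => ?_, χ₀, hχ₀⟩
    · have h1 : ∑ ψ ∈ Rs i, mult i ψ = (Rs i).card := by
        rw [Finset.sum_congr rfl hmR, ← Finset.card_eq_sum_ones]
      omega
    · by_cases h0 : mult i ψ = 0
      · omega
      by_cases hr : IsReal ψ
      · rw [hmR ψ (Finset.mem_filter.mpr ⟨Finset.mem_univ _, hr, h0⟩)]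
      · have hmem : ψ ∈ Ns i := Finset.mem_filter.mpr ⟨Finset.mem_univ _, hr, h0⟩
        have hle : mult i ψ * mult i ψ ≤ ∑ φ ∈ Ns i, mult i φ * mult i φ :=
          Finset.single_le_sum (f := fun φ => mult i φ * mult i φ) (fun _ _ => Nat.zero_le _) hmem
        exact le_trans (Nat.le_mul_self _) (by omega)
  have hRconj : ∀ i, Rs (conjB i) = Rs i := by
    intro i
    refine Finset.filter_congr fun ψ _ => and_congr_right fun hr => ?_
    rw [hmconj, hreal_iff ψ hr]
  -- the linear columns agree on the real characters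
  have hsame : ∀ i k, d i = 1 → d k = 1 → Rs i = Rs k := by
    intro i k hi hk
    by_contra hne
    have hik : i ≠ k := fun h' => hne (by rw [h'])
    have hikc : i ≠ conjB k := fun h' => hne (by rw [h', hRconj])
    obtain ⟨hci, hlei, χi, hχi⟩ := hcol i hi
    have hbound : ∀ l, d l = 1 → Rs l = Rs k → i ≠ l → χi ∈ Ns l := by
      intro l hl hRl hil
      obtain ⟨hcl, hlel, χl, hχl⟩ := hcol l hl
      by_contra hno
      have h1 := hgram i l hi hl
      rw [if_neg hil, zero_add] at h1
      have h2 : ∀ ψ, mult i ψ * mult l ψ ≤ if ψ ∈ Rs i ∩ Rs k then 1 else 0 := by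
        intro ψ
        by_cases hi0 : mult i ψ = 0
        · simp [hi0]
        by_cases hl0 : mult l ψ = 0
        · simp [hl0]
        by_cases hr : IsReal ψ
        · rw [if_pos]
          · exact Nat.mul_le_mul (hlei ψ) (hlel ψ)
          · rw [← hRl, Finset.mem_inter]
            exact ⟨Finset.mem_filter.mpr ⟨Finset.mem_univ _, hr, hi0⟩,
              Finset.mem_filter.mpr ⟨Finset.mem_univ _, hr, hl0⟩⟩
        · exfalso
          have hψi : ψ ∈ Ns i := Finset.mem_filter.mpr ⟨Finset.mem_univ _, hr, hi0⟩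
          rw [hχi, Finset.mem_singleton] at hψi
          exact hno (hψi ▸ Finset.mem_filter.mpr ⟨Finset.mem_univ _, hr, hl0⟩)
      have h3 := Finset.sum_le_sum (s := (Finset.univ : Finset (Cfsg.IrrCharacter G)))
        fun ψ _ => h2 ψ
      rw [h1, Finset.sum_ite_mem, Finset.univ_inter, ← Finset.card_eq_sum_ones] at h3
      have h4 : Rs i ∩ Rs k = Rs i :=
        Finset.eq_of_subset_of_card_le Finset.inter_subset_left (by omega)
      have h5 : Rs i ⊆ Rs k := fun ψ hψ => (Finset.mem_inter.mp (h4.symm ▸ hψ)).2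
      exact hne (Finset.eq_of_subset_of_card_le h5 (by rw [hci, (hcol k hk).1]))
    obtain ⟨-, -, χk, hχk⟩ := hcol k hk
    have hm1 := hbound k hk rfl hik
    have hm2 := hbound (conjB k) ((hdconj k).trans hk) (hRconj k) hikc
    rw [hχk, Finset.mem_singleton] at hm1
    subst hm1
    obtain ⟨hnr, hm0⟩ := (Finset.mem_filter.mp hm2).2
    rw [hmconj] at hm0
    have hmem : conjG χi ∈ Ns k := Finset.mem_filter.mpr ⟨Finset.mem_univ _, fun h' => hnr fun g => by
      have := h' g
      simpa [conjG] using this, hm0⟩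
    rw [hχk, Finset.mem_singleton] at hmem
    exact hnr fun g => Complex.conj_eq_iff_im.mp (congrFun (congrArg Subtype.val hmem) g)
  -- the values at an involution
  obtain ⟨i₀, hi₀⟩ : ∃ i : ι, d i = 1 := frob_exists_linear _ K.ne_bot K.ne_top K.hC
  choose z hz using fun ψ : Cfsg.IrrCharacter G => exists_int_value_involution (irr_isCharacter ψ) hw
  have hid1 : ∑ ψ : Cfsg.IrrCharacter G, (mult i₀ ψ : ℂ) * (z ψ : ℂ) = 0 := by
    have h1 := congrFun (eq_sum_classInner (isClassFunction_indFun (stabilizer G a)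
      (i₀.1 : stabilizer G a → ℂ))) w
    rw [indFun_eq_zero_of_fpf _ (hfix0 w hw), Finset.sum_apply] at h1
    rw [h1]
    refine Finset.sum_congr rfl fun ψ _ => ?_
    rw [Pi.smul_apply, smul_eq_mul, ← hz ψ]
    congr 1
    exact (hmult i₀ ψ).symm
  have hconjcls : ∀ y : G, IsConj w y ↔ orderOf y = 2 := by
    intro y
    refine ⟨fun hy => ?_, fun hy => K.isConj_involution hw hy⟩
    obtain ⟨c, rfl⟩ := isConj_iff.mp hy
    rw [← MulAut.conj_apply, MulEquiv.orderOf_eq, hw]
  have hclass : Nat.card {x : G // IsConj w x} = e * h := by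
    rw [← hI, Nat.card_eq_fintype_card, Fintype.card_subtype]
    congr 1
    exact Finset.filter_congr fun x _ => hconjcls x
  have hcent : Nat.card (Subgroup.centralizer ({w} : Set G)) = h + 1 := by
    have h1 := card_conj_mul_card_centralizer w
    rw [hclass, K.card_group, show (h + 1) * (h * e) = e * h * (h + 1) by ring] at h1
    exact Nat.eq_of_mul_eq_mul_left (Nat.mul_pos (by omega) (by omega)) h1
  let F₂ : G → ℂ := ∑ ψ : Cfsg.IrrCharacter G,
    ((z ψ : ℂ) * (z ψ : ℂ) / (ψ : G → ℂ) 1) • (ψ : G → ℂ)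
  have hF₂ker : ∀ u ∈ H, u ≠ 1 → F₂ u = 0 := by
    intro u hu hu1
    have h1 := card_class_mul w w u⁻¹
    haveI : IsEmpty {q : G × G // IsConj w q.1 ∧ IsConj w q.2 ∧ q.1 * q.2 = u⁻¹} := by
      refine ⟨fun q => ?_⟩
      have h2 := K.strongly_real (inv_mem hu) (inv_ne_one.mpr hu1) ((hconjcls _).mp q.2.1)
        ((hconjcls _).mp q.2.2.1) q.2.2.2
      have h3 : orderOf u⁻¹ ∣ h := by
        rw [← K.hHcard, ← Subgroup.orderOf_mk u⁻¹ (inv_mem hu)]
        exact orderOf_dvd_natCard _
      rw [h2] at h3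
      exact hheven (even_iff_two_dvd.mpr h3)
    rw [Nat.card_of_isEmpty, Nat.cast_zero, eq_comm, mul_eq_zero] at h1
    have hne : (Nat.card {x : G // IsConj w x} : ℂ) ≠ 0 := by
      rw [hclass]
      exact Nat.cast_ne_zero.mpr (Nat.mul_pos (by omega) (by omega)).ne'
    have h2 := h1.resolve_left (div_ne_zero (mul_ne_zero hne hne) natCard_ne_zero_complex)
    simp only [F₂, Finset.sum_apply]
    rw [← h2]
    refine Finset.sum_congr rfl fun ψ _ => ?_
    rw [Pi.smul_apply, smul_eq_mul, hz ψ, IsCharacter.apply_inv (irr_isCharacter ψ),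
      Complex.conj_conj]
    ring
  have hF₂one : F₂ 1 = ((h + 1 : ℕ) : ℂ) := by
    simp only [F₂, Finset.sum_apply]
    rw [← hcent]
    have h1 := sum_irr_mul_conj w w
    rw [if_pos (IsConj.refl w)] at h1
    rw [← h1]
    refine Finset.sum_congr rfl fun ψ _ => ?_
    rw [Pi.smul_apply, smul_eq_mul, div_mul_cancel₀ _ (IsIrrCharacter.apply_one_ne_zero ψ.2), hz ψ,
      map_intCast]
  have hid2 : ∑ ψ : Cfsg.IrrCharacter G,
      (mult i₀ ψ : ℝ) * ((z ψ : ℝ) * (z ψ : ℝ) / (degNat ψ : ℝ)) = ((h + 1 : ℕ) : ℝ) / h := by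
    have h1 := K.classInner_ind_const i₀.1.2 i₀.2
      (isClassFunction_irr_sum fun ψ => (z ψ : ℂ) * (z ψ : ℂ) / (ψ : G → ℂ) 1) hF₂ker
    rw [classInner_sum_right, hχ1 i₀, hi₀, mul_one] at h1
    have h2 : ((∑ ψ : Cfsg.IrrCharacter G,
        (mult i₀ ψ : ℝ) * ((z ψ : ℝ) * (z ψ : ℝ) / (degNat ψ : ℝ)) : ℝ) : ℂ) =
        ((((h + 1 : ℕ) : ℝ) / h : ℝ) : ℂ) := by
      rw [show (∑ ψ : Cfsg.IrrCharacter G,
        ((z ψ : ℂ) * (z ψ : ℂ) / (ψ : G → ℂ) 1) • (ψ : G → ℂ)) 1 = ((h + 1 : ℕ) : ℂ) from hF₂one]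
        at h1
      push_cast at h1 ⊢
      rw [Finset.sum_congr rfl fun ψ _ => ?_, h1]
      · simp only [map_sub, map_add, map_natCast, map_one, map_zero, sub_zero]
        have hh : (h : ℂ) ≠ 0 := Nat.cast_ne_zero.mpr (by omega)
        have he : (e : ℂ) ≠ 0 := Nat.cast_ne_zero.mpr (by omega)
        field_simp
      · rw [classInner_smul_right, hmult i₀ ψ, apply_one_eq_degNat, map_div₀, map_mul, map_intCast,
          map_natCast]
        ring
    exact_mod_cast h2
  -- the Steinberg character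
  obtain ⟨St, hSt⟩ : ∃ St : Cfsg.IrrCharacter G,
      (Cfsg.indFun (stabilizer G a) fun _ => (1 : ℂ)) = (fun _ => (1 : ℂ)) + (St : G → ℂ) := by
    have hπc : Cfsg.IsCharacter G (Cfsg.indFun (stabilizer G a) fun _ => (1 : ℂ)) :=
      IsCharacter.indFun _ isCharacter_one
    have h1 : Cfsg.classInner (Cfsg.indFun (stabilizer G a) fun _ => (1 : ℂ))
        (fun _ : G => (1 : ℂ)) = 1 := by
      rw [classInner_indFun _ _ (IsCharacter.isClassFunction isCharacter_one)]
      exact IsIrrCharacter.classInner_self isIrrCharacter_one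
    have hnorm : Cfsg.classInner ((Cfsg.indFun (stabilizer G a) fun _ => (1 : ℂ)) - fun _ => 1)
        ((Cfsg.indFun (stabilizer G a) fun _ => (1 : ℂ)) - fun _ => 1) = 1 := by
      rw [classInner_sub_left, classInner_sub_right, classInner_sub_right, K.classInner_ind_trivial,
        h1, ← classInner_conj_symm (Cfsg.indFun (stabilizer G a) fun _ => (1 : ℂ)) (fun _ => 1), h1,
        map_one, IsIrrCharacter.classInner_self isIrrCharacter_one]
      norm_num
    obtain ⟨St, h' | h'⟩ := IsGeneralizedCharacter.eq_pm_irr (IsGeneralizedCharacter.sub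
      (IsCharacter.isGeneralizedCharacter hπc)
      (IsCharacter.isGeneralizedCharacter isCharacter_one)) hnorm
    · exact ⟨St, by rw [← h']; abel⟩
    · exfalso
      have h2 := congrFun h' 1
      rw [Pi.sub_apply, Pi.neg_apply, indFun_one, MulAction.index_stabilizer_of_transitive,
        Nat.card_eq_fintype_card, K.hh, mul_one, apply_one_eq_degNat] at h2
      have h3 : ((h + degNat St : ℕ) : ℂ) = 0 := by push_cast at h2 ⊢; linear_combination h2
      have := degNat_pos St
      have : h + degNat St = 0 := by exact_mod_cast h3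
      omega
  have hStval : ∀ g, (St : G → ℂ) g =
      Cfsg.indFun (stabilizer G a) (fun _ => (1 : ℂ)) g - 1 := fun g => by
    rw [hSt, Pi.add_apply, add_sub_cancel_left]
  have hStreal : IsReal St := fun g => by
    refine Complex.conj_eq_iff_im.mp ?_
    rw [hStval, map_sub, map_one, indFun_conj]
    simp
  have hStker : ∀ u ∈ H, u ≠ 1 → (St : G → ℂ) u = 0 := fun u hu hu1 => by
    rw [hStval, sub_eq_zero]
    have := K.indFun_kernel (1 : stabilizer G a →* ℂˣ) (fun u _ => rfl) hu hu1
    simpa using this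
  have hStone : (St : G → ℂ) 1 = (h : ℂ) := by
    rw [hStval, indFun_one, MulAction.index_stabilizer_of_transitive, Nat.card_eq_fintype_card,
      K.hh]
    push_cast
    ring
  have hStm : mult i₀ St = 1 := by
    have h1 : ((mult i₀ St : ℕ) : ℂ) = ((1 : ℕ) : ℂ) := by
      rw [← hmult i₀ St, K.classInner_ind_const i₀.1.2 i₀.2 (irr_isClassFunction St) hStker,
        hχ1 i₀, hi₀, mul_one, hStone, sub_zero, map_natCast, Nat.cast_mul, Nat.cast_one]
      have hh : (h : ℂ) ≠ 0 := Nat.cast_ne_zero.mpr (by omega)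
      have he : (e : ℂ) ≠ 0 := Nat.cast_ne_zero.mpr (by omega)
      field_simp
    exact_mod_cast h1
  have hStz : z St = -1 := by
    have h1 := hz St
    rw [hStval, indFun_eq_zero_of_fpf _ (hfix0 w hw), zero_sub] at h1
    exact_mod_cast h1.symm
  have hStdeg : degNat St = h := degNat_eq hStone
  -- nonnegativity of the terms
  have hnonneg : ∀ ψ : Cfsg.IrrCharacter G,
      0 ≤ (mult i₀ ψ : ℝ) * ((z ψ : ℝ) * (z ψ : ℝ) / (degNat ψ : ℝ)) := fun ψ =>
    mul_nonneg (Nat.cast_nonneg _) (div_nonneg (mul_self_nonneg _) (Nat.cast_nonneg _))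
  have hzle : ∀ ψ, ψ ≠ St → mult i₀ ψ ≠ 0 → ((z ψ : ℤ) * z ψ : ℤ) ≤ degNat ψ := by
    intro ψ hne hm0
    have h1 := Finset.sum_le_sum_of_subset_of_nonneg
      (Finset.subset_univ ({St, ψ} : Finset (Cfsg.IrrCharacter G))) (fun φ _ _ => hnonneg φ)
    rw [hid2, Finset.sum_pair (Ne.symm hne), hStm, hStz, hStdeg] at h1
    have hm1 : (1 : ℝ) ≤ (mult i₀ ψ : ℝ) := by exact_mod_cast Nat.pos_of_ne_zero hm0
    have hdp : (0 : ℝ) < (degNat ψ : ℝ) := by exact_mod_cast degNat_pos ψ
    have hh : (0 : ℝ) < h := by exact_mod_cast (show 0 < h by omega)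
    have h2 : (z ψ : ℝ) * (z ψ : ℝ) / (degNat ψ : ℝ) ≤ 1 := by
      push_cast at h1
      have hq : 0 ≤ (z ψ : ℝ) * (z ψ : ℝ) / (degNat ψ : ℝ) :=
        div_nonneg (mul_self_nonneg _) hdp.le
      rw [show ((h : ℝ) + 1) / h = 1 + 1 / h by field_simp] at h1
      nlinarith [mul_le_mul_of_nonneg_right hm1 hq]
    rw [div_le_one hdp] at h2
    exact_mod_cast h2
  -- the other real characters of the column vanish at involutions
  have hR0 : ∀ ψ ∈ Rs i₀, ψ ≠ St → z ψ = 0 := by
    intro ψ hψ hne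
    obtain ⟨hreal, hm0⟩ := (Finset.mem_filter.mp hψ).2
    have hψ1 : ψ ≠ trivIrr G := by
      intro h'
      apply hm0
      have h1 : ((mult i₀ ψ : ℕ) : ℂ) = ((0 : ℕ) : ℂ) := by
        rw [← hmult i₀ ψ, K.classInner_ind_const i₀.1.2 i₀.2 (irr_isClassFunction ψ) (κ := 1)
          (fun u _ _ => by rw [h']; rfl), h']
        simp
      exact_mod_cast h1
    by_cases hη : ∃ η : Cfsg.IrrCharacter (stabilizer G a),
        ¬ IsRelevant (H.subgroupOf (stabilizer G a)) (η : stabilizer G a → ℂ) ∧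
        Cfsg.classInner (Cfsg.indFun (stabilizer G a) (η : stabilizer G a → ℂ)) (ψ : G → ℂ) ≠ 0
    · obtain ⟨η, hηr, hηψ⟩ := hη
      by_cases hη1 : η = trivIrr (stabilizer G a)
      · exfalso
        apply hηψ
        rw [hη1, show ((trivIrr (stabilizer G a) : stabilizer G a → ℂ)) = fun _ => (1 : ℂ) from rfl,
          hSt, classInner_add_left, IsIrrCharacter.classInner_ne isIrrCharacter_one ψ.2
            (fun h' => hψ1 (Subtype.ext h'.symm)),
          IsIrrCharacter.classInner_ne St.2 ψ.2 (fun h' => hne (Subtype.ext h'.symm)), add_zero]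
      · obtain ⟨lam, hlam, hlamH⟩ := K.nonrel.2 η hηr
        have hirr := (K.irr_indFun (μ := (η : stabilizer G a → ℂ))
          ⟨irr_isCharacter η, by rw [hlam]; simp⟩
          (fun u hu => by rw [hlam]; simp [hlamH u hu]) (fun h' => hη1 (Subtype.ext h'))).1
        have heq : Cfsg.indFun (stabilizer G a) (η : stabilizer G a → ℂ) = (ψ : G → ℂ) := by
          by_contra h'
          exact hηψ (IsIrrCharacter.classInner_ne hirr ψ.2 h')
        have h1 := hz ψ
        rw [← heq, indFun_eq_zero_of_fpf _ (hfix0 w hw)] at h1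
        exact_mod_cast h1.symm
    push Not at hη
    have hres : Cfsg.IsClassFunction (stabilizer G a) fun x : stabilizer G a => (ψ : G → ℂ) x :=
      IsCharacter.isClassFunction (IsCharacter.restrict (irr_isCharacter ψ) _)
    have hexp : ∀ x : stabilizer G a, (ψ : G → ℂ) x =
        ∑ i : ι, (mult i ψ : ℂ) * (i.1 : stabilizer G a → ℂ) x := by
      intro x
      have h1 := congrFun (eq_sum_classInner hres) x
      simp only [Finset.sum_apply, Pi.smul_apply, smul_eq_mul] at h1
      rw [h1, ← Finset.sum_filter_add_sum_filter_not Finset.univ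
        (fun η : Cfsg.IrrCharacter (stabilizer G a) =>
          IsRelevant (H.subgroupOf (stabilizer G a)) (η : stabilizer G a → ℂ)),
        Finset.sum_eq_zero (s := Finset.univ.filter fun η : Cfsg.IrrCharacter (stabilizer G a) =>
          ¬ IsRelevant (H.subgroupOf (stabilizer G a)) (η : stabilizer G a → ℂ)) (fun η hη' => by
          rw [← classInner_conj_symm, ← classInner_indFun _ _ (irr_isClassFunction ψ),
            hη η (Finset.mem_filter.mp hη').2, map_zero, zero_mul]), add_zero,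
        Finset.sum_subtype (p := fun η : Cfsg.IrrCharacter (stabilizer G a) =>
          IsRelevant (H.subgroupOf (stabilizer G a)) (η : stabilizer G a → ℂ)) _ (fun x => by simp)]
      refine Finset.sum_congr rfl fun i _ => ?_
      rw [← classInner_conj_symm, ← classInner_indFun _ _ (irr_isClassFunction ψ),
        show Cfsg.classInner (Cfsg.indFun (stabilizer G a) (i.1 : stabilizer G a → ℂ))
          (ψ : G → ℂ) = (mult i ψ : ℂ) from hmult i ψ, map_natCast]
    set W := ∑ i : ι, mult i ψ * d i with hW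
    have hdegψ : degNat ψ = e * W := degNat_eq (by
      rw [← OneMemClass.coe_one (stabilizer G a), hexp 1, hW, Nat.cast_mul, Nat.cast_sum,
        Finset.mul_sum]
      refine Finset.sum_congr rfl fun i _ => ?_
      rw [hχ1 i]
      push_cast
      ring)
    have hlin1 : ∀ i, d i = 1 → mult i ψ = 1 := by
      intro i hi
      have hmem : ψ ∈ Rs i := by rw [hsame i i₀ hi hi₀]; exact hψ
      exact le_antisymm ((hcol i hi).2.1 ψ) (Nat.pos_of_ne_zero (Finset.mem_filter.mp hmem).2.2)
    have hpW : ¬ p ∣ W := by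
      intro hdvd
      have h1 : p ∣ ∑ i ∈ Finset.univ.filter (fun i : ι => ¬ d i = 1), mult i ψ * d i := by
        refine Finset.dvd_sum fun i hi => Dvd.dvd.mul_left ?_ _
        obtain ⟨-, hdpos, θ, -, -, hθd⟩ := redDeg_spec (H.subgroupOf (stabilizer G a)) K.hC i
        obtain ⟨t, -, ht, htd⟩ := IsIrrCharacter.exists_degree_dvd θ.2
        rw [← degNat_eq ht, hθd, K.card_kernel, hm] at htd
        obtain ⟨l, -, hl⟩ := (Nat.dvd_prime_pow hp).mp htd
        have hl0 : l ≠ 0 := fun h0 => (Finset.mem_filter.mp hi).2 (by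
          show redDeg (H.subgroupOf (stabilizer G a)) i = 1
          rw [hl, h0, pow_zero])
        show p ∣ redDeg (H.subgroupOf (stabilizer G a)) i
        rw [hl]
        exact dvd_pow_self p hl0
      have h2 : p ∣ ∑ i ∈ Finset.univ.filter (fun i : ι => d i = 1), mult i ψ * d i := by
        have h3 := Finset.sum_filter_add_sum_filter_not Finset.univ (fun i : ι => d i = 1)
          (fun i => mult i ψ * d i)
        rw [hW, ← h3] at hdvd
        exact (Nat.dvd_add_left h1).mp hdvd
      rw [Finset.sum_congr rfl (g := fun _ => 1) fun i hi => by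
        rw [hlin1 i (Finset.mem_filter.mp hi).2, (Finset.mem_filter.mp hi).2],
        ← Finset.card_eq_sum_ones] at h2
      have h4 : p ∣ e * s + 1 := by rw [hlin, hj]; exact dvd_pow_self p hj0.ne'
      exact hp.one_lt.ne' (Nat.dvd_one.mp ((Nat.dvd_add_right (h2.mul_left e)).mp h4))
    -- the norm
    have hM : 2 ≤ ∑ i : ι, mult i ψ * mult i ψ := by
      have h1 := Finset.sum_le_sum_of_subset (f := fun i => mult i ψ * mult i ψ)
        (Finset.subset_univ ({i₀, conjB i₀} : Finset ι))
      rw [Finset.sum_pair (hne_conj i₀).symm, hlin1 i₀ hi₀,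
        hlin1 _ ((hdconj i₀).trans hi₀)] at h1
      exact h1
    have hineq : (h + 1) * (∑ i : ι, mult i ψ * mult i ψ - 1) ≤ e * (W * W) := by
      set Y := Cfsg.indFun (stabilizer G a) fun x : stabilizer G a => (ψ : G → ℂ) x with hY
      set M := ∑ i : ι, mult i ψ * mult i ψ with hMdef
      have hvan : ∀ x : stabilizer G a, (x : G) ∉ H → (ψ : G → ℂ) x = 0 := by
        intro x hx
        rw [hexp x]
        exact Finset.sum_eq_zero fun i _ => by
          rw [frob_vanish _ K.hC i.1.2 i.2 (fun h' => hx (Subgroup.mem_subgroupOf.mp h')), mul_zero]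
      have h1 : Cfsg.classInner Y (ψ : G → ℂ) = (M : ℂ) := by
        rw [hY, classInner_indFun _ _ (irr_isClassFunction ψ), hMdef, Nat.cast_sum]
        simp only [Cfsg.classInner]
        rw [Finset.sum_congr rfl fun x _ => by rw [hexp x, map_sum, Finset.sum_mul_sum],
          Finset.sum_comm, Finset.mul_sum]
        refine Finset.sum_congr rfl fun i _ => ?_
        rw [Finset.sum_comm, Finset.mul_sum, Finset.sum_eq_single i]
        · have h2 := IsIrrCharacter.classInner_self i.1.2
          rw [Cfsg.classInner] at h2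
          calc (Nat.card (stabilizer G a) : ℂ)⁻¹ * ∑ x : stabilizer G a,
                (mult i ψ : ℂ) * (i.1 : stabilizer G a → ℂ) x *
                  conj ((mult i ψ : ℂ) * (i.1 : stabilizer G a → ℂ) x)
              = (mult i ψ : ℂ) * (mult i ψ : ℂ) * ((Nat.card (stabilizer G a) : ℂ)⁻¹ *
                  ∑ x : stabilizer G a, (i.1 : stabilizer G a → ℂ) x *
                    conj ((i.1 : stabilizer G a → ℂ) x)) := by
                rw [Finset.mul_sum, Finset.mul_sum, Finset.mul_sum]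
                refine Finset.sum_congr rfl fun x _ => ?_
                rw [map_mul, map_natCast]
                ring
            _ = ((mult i ψ * mult i ψ : ℕ) : ℂ) := by rw [h2]; push_cast; ring
        · intro k _ hki
          have h2 := IsIrrCharacter.classInner_ne i.1.2 k.1.2 fun h' =>
            hki (Subtype.ext (Subtype.ext h'.symm))
          rw [Cfsg.classInner] at h2
          calc (Nat.card (stabilizer G a) : ℂ)⁻¹ * ∑ x : stabilizer G a,
                (mult i ψ : ℂ) * (i.1 : stabilizer G a → ℂ) x *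
                  conj ((mult k ψ : ℂ) * (k.1 : stabilizer G a → ℂ) x)
              = (mult i ψ : ℂ) * (mult k ψ : ℂ) * ((Nat.card (stabilizer G a) : ℂ)⁻¹ *
                  ∑ x : stabilizer G a, (i.1 : stabilizer G a → ℂ) x *
                    conj ((k.1 : stabilizer G a → ℂ) x)) := by
                rw [Finset.mul_sum, Finset.mul_sum, Finset.mul_sum]
                refine Finset.sum_congr rfl fun x _ => ?_
                rw [map_mul, map_natCast]
                ring
            _ = 0 := by rw [h2, mul_zero]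
        · exact fun h' => absurd (Finset.mem_univ i) h'
      have hclY : Cfsg.IsClassFunction G Y := isClassFunction_indFun _ _
      have hpt : ∀ g : G, (Y g * conj ((ψ : G → ℂ) g)).re ≤
          Complex.normSq ((ψ : G → ℂ) g) +
            if g = 1 then (h : ℝ) * ((e * W : ℕ) : ℝ) ^ 2 else 0 := by
        intro g
        by_cases hg : g = 1
        · subst hg
          rw [if_pos rfl, hY, indFun_one, MulAction.index_stabilizer_of_transitive,
            Nat.card_eq_fintype_card, K.hh, OneMemClass.coe_one, apply_one_eq_degNat, hdegψ]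
          simp only [map_natCast, Complex.normSq_natCast]
          rw [← Nat.cast_mul, ← Nat.cast_mul, Complex.natCast_re]
          push_cast
          ring_nf
          exact le_rfl
        rw [if_neg hg, add_zero]
        by_cases hx : ∃ x : G, x⁻¹ * g * x ∈ H
        · obtain ⟨x, hx⟩ := hx
          have hu1 : (⟨x⁻¹ * g * x, K.hHa hx⟩ : stabilizer G a) ≠ 1 := fun h' => hg <| by
            have := congrArg (fun y => x * y * x⁻¹) (congrArg Subtype.val h')
            simpa [mul_assoc] using this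
          have e1 : Y g = (ψ : G → ℂ) g := by
            rw [← hclY g x⁻¹, inv_inv, hY,
              K.indFun_on_kernel hres (u := ⟨x⁻¹ * g * x, K.hHa hx⟩) hx hu1]
            show (ψ : G → ℂ) (x⁻¹ * g * x) = _
            have := irr_isClassFunction ψ g x⁻¹
            rwa [inv_inv] at this
          rw [e1, Complex.mul_conj, Complex.ofReal_re]
        · have e1 : Y g = 0 := by
            rw [hY, indFun_apply, Finset.sum_eq_zero fun x _ => ?_, mul_zero]
            by_cases hm' : x⁻¹ * g * x ∈ stabilizer G a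
            · rw [extendByZero_of_mem _ _ hm']
              exact hvan ⟨_, hm'⟩ fun h' => hx ⟨x, h'⟩
            · exact extendByZero_of_not_mem _ _ hm'
          rw [e1, zero_mul, Complex.zero_re]
          exact Complex.normSq_nonneg _
      have hsum := Finset.sum_le_sum (s := (Finset.univ : Finset G)) fun g _ => hpt g
      rw [Finset.sum_add_distrib, Finset.sum_ite_eq', if_pos (Finset.mem_univ _),
        ← Complex.re_sum] at hsum
      have hG : (Nat.card G : ℂ) ≠ 0 := natCard_ne_zero_complex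
      have h3 : ∑ g : G, Y g * conj ((ψ : G → ℂ) g) = ((Nat.card G * M : ℕ) : ℂ) := by
        rw [Cfsg.classInner, inv_mul_eq_iff_eq_mul₀ hG] at h1
        rw [h1, Nat.cast_mul]
      have h4 : ((∑ g : G, Complex.normSq ((ψ : G → ℂ) g) : ℝ) : ℂ) = ((Nat.card G : ℝ) : ℂ) := by
        have h5 := IsIrrCharacter.classInner_self ψ.2
        rw [Cfsg.classInner, inv_mul_eq_iff_eq_mul₀ hG, mul_one] at h5
        push_cast
        rw [← h5]
        exact Finset.sum_congr rfl fun g _ => (Complex.mul_conj _).symm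
      rw [h3, Complex.natCast_re, Complex.ofReal_inj.mp h4, K.card_group] at hsum
      have h6 : (h + 1) * (h * e) * M ≤ (h + 1) * (h * e) + h * (e * W) ^ 2 := by exact_mod_cast hsum
      have h7 : h * e * ((h + 1) * (M - 1)) ≤ h * e * (e * (W * W)) := by
        rw [← mul_assoc, mul_comm (h * e) (h + 1), Nat.mul_sub_one]
        rw [show h * e * (e * (W * W)) = h * (e * W) ^ 2 by ring]
        omega
      exact Nat.le_of_mul_le_mul_left h7 (Nat.mul_pos (by omega) (by omega))
    have hWe : e < W := by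
      by_contra hle
      rw [not_lt] at hle
      have h1 : h + 1 ≤ e * (W * W) := le_trans (Nat.le_mul_of_pos_right _ (by omega)) hineq
      have h2 : e * (W * W) ≤ e * (e * e) := Nat.mul_le_mul_left e (Nat.mul_le_mul hle hle)
      rw [← mul_assoc e e e] at h2
      omega
    -- integrality
    have hint := IsIrrCharacter.isIntegral_centralChar ψ.2 w
    rw [hclass, hz ψ, apply_one_eq_degNat, hdegψ] at hint
    have hW0 : W ≠ 0 := by omega
    obtain ⟨v, hv⟩ := exists_int_of_isIntegral_rat (q := ((h : ℚ) * (z ψ : ℚ)) / (W : ℚ)) (by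
      convert hint using 1
      push_cast
      have he : (e : ℂ) ≠ 0 := Nat.cast_ne_zero.mpr (by omega)
      have hW' : (W : ℂ) ≠ 0 := Nat.cast_ne_zero.mpr hW0
      field_simp)
    have hdvd : (W : ℤ) ∣ z ψ := by
      have hW' : (W : ℚ) ≠ 0 := Nat.cast_ne_zero.mpr hW0
      rw [div_eq_iff hW'] at hv
      have h1 : (h : ℤ) * z ψ = v * W := by exact_mod_cast hv
      have hcop : Nat.Coprime W h := by
        rw [hm]
        exact ((Nat.Prime.coprime_iff_not_dvd hp).mpr hpW).symm.pow_right m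
      refine Int.dvd_of_dvd_mul_right_of_gcd_one (b := (h : ℤ)) ⟨v, by rw [h1]; ring⟩ ?_
      rw [Int.gcd_natCast_natCast]
      exact hcop
    obtain ⟨l, hl⟩ := hdvd
    have h1 := hzle ψ hne hm0
    rw [hdegψ, hl] at h1
    push_cast at h1
    by_contra h0
    have hl0 : l ≠ 0 := fun h' => h0 (by rw [hl, h', mul_zero])
    have hl1 : 1 ≤ l * l := by nlinarith [Int.one_le_abs hl0, sq_abs l]
    have hWe' : (e : ℤ) < W := by exact_mod_cast hWe
    nlinarith
  -- the unique non-real character of the column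
  obtain ⟨-, hle₀, χ₀, hχ₀⟩ := hcol i₀ hi₀
  have hχ₀mem : χ₀ ∈ Ns i₀ := hχ₀ ▸ Finset.mem_singleton_self χ₀
  obtain ⟨hχ₀real, hχ₀m⟩ := (Finset.mem_filter.mp hχ₀mem).2
  have hχ₀1 : mult i₀ χ₀ = 1 := le_antisymm (hle₀ χ₀) (Nat.pos_of_ne_zero hχ₀m)
  have hStχ : St ≠ χ₀ := fun h' => hχ₀real (h' ▸ hStreal)
  have hzero : ∀ ψ, ψ ≠ St → ψ ≠ χ₀ → mult i₀ ψ = 0 ∨ z ψ = 0 := by
    intro ψ h1 h2
    by_cases hm0 : mult i₀ ψ = 0
    · exact Or.inl hm0
    by_cases hr : IsReal ψ
    · exact Or.inr (hR0 ψ (Finset.mem_filter.mpr ⟨Finset.mem_univ _, hr, hm0⟩) h1)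
    · exfalso
      have : ψ ∈ Ns i₀ := Finset.mem_filter.mpr ⟨Finset.mem_univ _, hr, hm0⟩
      rw [hχ₀, Finset.mem_singleton] at this
      exact h2 this
  rw [← Finset.sum_subset (Finset.subset_univ ({St, χ₀} : Finset (Cfsg.IrrCharacter G)))
    (fun ψ _ hψ => by
      simp only [Finset.mem_insert, Finset.mem_singleton, not_or] at hψ
      rcases hzero ψ hψ.1 hψ.2 with h' | h' <;> simp [h']), Finset.sum_pair hStχ, hStm, hStz,
    hχ₀1] at hid1
  rw [← Finset.sum_subset (Finset.subset_univ ({St, χ₀} : Finset (Cfsg.IrrCharacter G)))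
    (fun ψ _ hψ => by
      simp only [Finset.mem_insert, Finset.mem_singleton, not_or] at hψ
      rcases hzero ψ hψ.1 hψ.2 with h' | h' <;> simp [h']), Finset.sum_pair hStχ, hStm, hStz,
    hχ₀1, hStdeg] at hid2
  have hz0 : z χ₀ = 1 := by
    have h1 : ((z χ₀ : ℤ) : ℂ) = ((1 : ℤ) : ℂ) := by push_cast at hid1 ⊢; linear_combination hid1
    exact_mod_cast h1
  rw [hz0] at hid2
  have hdeg1 : degNat χ₀ = 1 := by
    have hh : (h : ℝ) ≠ 0 := Nat.cast_ne_zero.mpr (by omega)
    have hd : (degNat χ₀ : ℝ) ≠ 0 := Nat.cast_ne_zero.mpr (degNat_pos χ₀).ne'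
    push_cast at hid2
    field_simp at hid2
    have h1 : (degNat χ₀ : ℝ) = 1 := by
      refine mul_left_cancel₀ hh ?_
      linear_combination -hid2
    exact_mod_cast h1
  obtain ⟨lam, hlam⟩ := IsCharacter.exists_hom_of_apply_one (irr_isCharacter χ₀)
    (by rw [apply_one_eq_degNat, hdeg1, Nat.cast_one])
  apply hχ₀real
  intro g
  have h1 := Abelianization.commutator_subset_ker lam
  rw [K.commutator_eq_top] at h1
  rw [congrFun hlam g, (MonoidHom.mem_ker).mp (h1 (Subgroup.mem_top g))]
  simp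

end Cfsg.Agent.Lib.Characters.ZOdd
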