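import Cfsg.Agent.S4435
import Cfsg.Agent.S4436
import Cfsg.Agent.S4492
import Cfsg.Agent.S4176
import Cfsg.Agent.Lib.Glauberman.CoprimeDegree
import Cfsg.Agent.Lib.Characters.Gallagher

/-!
# Heights in blocks of `p`-solvable groups

The height of a character is at most the exponent of `p` in the index of the centre of a defect
group: Fong reduction leaves an invariant character of the `p'`-core, and then the degree divides
the index of a normal subgroup with abelian Sylow subgroup containing that centre.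
-/

set_option autoImplicit false
set_option linter.unusedSectionVars false
set_option linter.style.haveILetI false

namespace Cfsg.Agent.Lib.Characters

open Cfsg Cfsg.Agent.Lib.Blocks Cfsg.Agent.Lib.BrauerPairs

universe u

/-- Over an invariant character of a normal Hall subgroup with abelian quotient the degree does
not grow. -/
theorem apply_one_eq_of_abelian_hall_quotient {A : Type u} [Group A] [Fintype A] (N : Subgroup A)
    [N.Normal] [Fintype N] (hcop : (Nat.card N).Coprime N.index)
    (hab : ∀ a b : A, a * b * a⁻¹ * b⁻¹ ∈ N) {θ : IrrCharacter N}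
    (hinv : ∀ g : A, conjFun N g (θ : N → ℂ) = (θ : N → ℂ)) {φ : IrrCharacter A}
    (hover : classInner (fun n : N => (φ : A → ℂ) n) (θ : N → ℂ) ≠ 0) :
    (φ : A → ℂ) 1 = (θ : N → ℂ) 1 := by
  obtain ⟨χ, hχ⟩ := Glauberman.exists_extension_of_coprime N hcop θ hinv
  have heq : (fun n : N => (χ : A → ℂ) n) = (θ : N → ℂ) := funext hχ
  obtain ⟨hη, hprod⟩ := (gallagher_avg N χ.2 (heq ▸ θ.2) φ.2).1 (by rw [heq]; exact hover)
  set η := Characters.avgN N ((φ : A → ℂ) * fun g => starRingEnd ℂ ((χ : A → ℂ) g))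
  have hηN : ∀ n ∈ N, η n = η 1 := fun n hn => avgN_apply_coe N _ ⟨n, hn⟩
  obtain ⟨β, hβ, hβη⟩ := IsIrrCharacter.exists_quotient hη N hηN
  have hβ1 : β 1 = 1 := by
    refine IsIrrCharacter.apply_one_of_comm (fun a b => ?_) hβ
    obtain ⟨a, rfl⟩ := QuotientGroup.mk_surjective a
    obtain ⟨b, rfl⟩ := QuotientGroup.mk_surjective b
    rw [← QuotientGroup.mk_mul, ← QuotientGroup.mk_mul, QuotientGroup.eq]
    have := hab b⁻¹ a⁻¹
    simpa [mul_assoc] using this
  have hη1 : η 1 = 1 := by rw [hβη]; simpa using hβ1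
  calc (φ : A → ℂ) 1 = η 1 * (χ : A → ℂ) 1 := congrFun hprod 1
    _ = (θ : N → ℂ) 1 := by rw [hη1, one_mul]; exact hχ 1

variable {p : ℕ} [hp : Fact p.Prime] {M : Ideal AlgInt} [M.IsPrime]

/-- The case of an invariant character of the `p'`-core. -/
theorem factorization_degree_le_center_index {G : Type u} [Group G] [Fintype G]
    (hsolv : IsPSolvable p G) {N : Subgroup G} [N.Normal] [Fintype N] (hN : N = pPrimeCore p G)
    (S : Sylow p G) {θ : IrrCharacter N}
    (hinv : ∀ g : G, conjFun N g (θ : N → ℂ) = (θ : N → ℂ))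
    {χ : IrrCharacter G}
    (hover : classInner (fun n : N => (χ : G → ℂ) n) (θ : N → ℂ) ≠ 0) :
    (charDegree (χ : G → ℂ)).factorization p ≤
      (Subgroup.center (S : Subgroup G)).index.factorization p := by
  classical
  set L := pPrimePCore p G with hL
  obtain ⟨S0⟩ : Nonempty (Sylow p L) := inferInstance
  have hQL : (S0 : Subgroup L).map L.subtype ≤ L := Subgroup.map_subtype_le _
  have hQS : ¬ p ∣ ((S0 : Subgroup L).map L.subtype).relIndex L := by
    rw [Subgroup.relIndex, Subgroup.subgroupOf, Subgroup.comap_map_eq_self_of_injective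
      (Subgroup.subtype_injective _)]
    exact S0.not_dvd_index
  have hc0 := BlockHeights.constrained_pPrimePCore hQL (S0.isPGroup'.map _) hQS
    (BlockHeights.centralizer_le_pPrimePCore hsolv hQL (S0.isPGroup'.map _) hQS)
  rw [← hN] at hc0
  have hc := (hc0.inf_sylow S).1
  haveI := hc.lNormal
  let π := QuotientGroup.mk' N
  haveI : (L.map π).Normal := Subgroup.Normal.map inferInstance π (QuotientGroup.mk'_surjective N)
  set A := L ⊓ (Subgroup.centralizer (L.map π : Set (G ⧸ N))).comap π with hA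
  haveI hAn : A.Normal := by rw [hA]; infer_instance
  haveI := Fintype.ofFinite A
  have hNA : N ≤ A := by
    intro n hn
    refine ⟨hc.le hn, ?_⟩
    show π n ∈ Subgroup.centralizer (L.map π : Set (G ⧸ N))
    rw [show π n = 1 from (QuotientGroup.eq_one_iff n).2 hn]
    exact one_mem _
  set Z := (Subgroup.center (S : Subgroup G)).map (S : Subgroup G).subtype with hZ
  have hZA : Z ≤ A := by
    rintro _ ⟨z, hz, rfl⟩
    have hzc : ∀ q ∈ (S : Subgroup G), q * (z : G) = (z : G) * q := fun q hq =>
      congrArg Subtype.val (Subgroup.mem_center_iff.1 hz ⟨q, hq⟩)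
    refine Subgroup.mem_inf.2 ⟨hc.centralizer (Subgroup.mem_centralizer_iff.2 fun q hq => hzc q hq.1), ?_⟩
    show π (z : G) ∈ Subgroup.centralizer (L.map π : Set (G ⧸ N))
    refine Subgroup.mem_centralizer_iff.2 ?_
    rintro _ ⟨l, hl, rfl⟩
    obtain ⟨n, hn, q, hq, rfl⟩ := Subgroup.mem_sup_of_normal_left.1
      ((le_of_eq (BlockHeights.Constrained.sup_eq hc).symm) hl)
    rw [map_mul, show π n = 1 from (QuotientGroup.eq_one_iff n).2 hn, one_mul]
    show π q * π (z : G) = π (z : G) * π q
    rw [← map_mul, hzc q hq.1, map_mul]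
  have hab : ∀ a b : A, a * b * a⁻¹ * b⁻¹ ∈ N.subgroupOf A := by
    intro a b
    rw [Subgroup.mem_subgroupOf]
    refine (QuotientGroup.eq_one_iff _).1 ?_
    show π ((a : G) * b * (a : G)⁻¹ * (b : G)⁻¹) = 1
    have h := Subgroup.mem_centralizer_iff.1 a.2.2 (π b) ⟨b, b.2.1, rfl⟩
    rw [map_mul, map_mul, map_mul, map_inv, map_inv, ← h]
    group
  have hdN : ¬ p ∣ Nat.card N := hN ▸ Cores.not_dvd_card_pPrimeCore
  have hcop : (Nat.card (N.subgroupOf A)).Coprime (N.subgroupOf A).index := by
    obtain ⟨k, hk⟩ := hc.index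
    have h1 : N.relIndex A ∣ p ^ k := by
      rw [← hk]
      exact Dvd.intro _ (Subgroup.relIndex_mul_relIndex N A L hNA inf_le_left)
    rw [Nat.card_congr (Subgroup.subgroupOfEquivOfLe hNA).toEquiv]
    exact (((hp.out.coprime_iff_not_dvd.2 hdN).pow_left k).symm).coprime_dvd_right h1
  haveI := Fintype.ofFinite (IrrCharacter A)
  have hover' := hover
  rw [BlockHeights.classInner_restrict_restrict hNA χ θ] at hover'
  obtain ⟨φ, -, hφ⟩ := Finset.exists_ne_zero_of_sum_ne_zero hover'
  haveI := Fintype.ofFinite (N.subgroupOf A)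
  set θ' : IrrCharacter (N.subgroupOf A) :=
    transIrr (Subgroup.subgroupOfEquivOfLe hNA).symm θ
  have hθ' : ∀ a : A, conjIrrN (N.subgroupOf A) a θ' = θ' :=
    BlockHeights.conjIrrN_transIrr N hNA fun g _ => Subtype.ext (hinv g)
  have hφθ : (φ : A → ℂ) 1 = (θ : N → ℂ) 1 := by
    have h := apply_one_eq_of_abelian_hall_quotient (N.subgroupOf A) hcop hab (θ := θ')
      (fun a => congrArg Subtype.val (hθ' a)) (φ := φ)
      (by rw [BlockHeights.classInner_subgroupOf_trans hNA]; exact right_ne_zero_of_mul hφ)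
    exact h.trans (congrArg (θ : N → ℂ) (map_one _))
  obtain ⟨e, he, hei⟩ := degree_ratio_dvd_index A χ.2 φ.2 (left_ne_zero_of_mul hφ)
  rw [hφθ, ← charDegree_eq χ, ← charDegree_eq θ] at he
  have he' : charDegree (χ : G → ℂ) = e * charDegree (θ : N → ℂ) := by exact_mod_cast he
  have hθp : (charDegree (θ : N → ℂ)).factorization p = 0 :=
    Nat.factorization_eq_zero_of_not_dvd fun h => hdN (h.trans (Blocks.charDegree_dvd_card θ))
  have he0 : e ≠ 0 := fun h => (Blocks.charDegree_pos χ).ne' (by rw [he', h, zero_mul])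
  rw [he', Nat.factorization_mul he0 (Blocks.charDegree_pos θ).ne', Finsupp.add_apply, hθp, add_zero]
  have h2 : e ∣ Z.index := hei.trans (Subgroup.index_dvd_of_le hZA)
  have h3 : Z.index = (Subgroup.center (S : Subgroup G)).index * (S : Subgroup G).index :=
    Subgroup.index_map_subtype _
  have h4 : (S : Subgroup G).index.factorization p = 0 :=
    Nat.factorization_eq_zero_of_not_dvd S.not_dvd_index
  have h5 := (Nat.factorization_le_iff_dvd he0 Subgroup.index_ne_zero_of_finite).2 h2 p
  rw [h3, Nat.factorization_mul Subgroup.index_ne_zero_of_finite Subgroup.index_ne_zero_of_finite,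
    Finsupp.add_apply, h4, add_zero] at h5
  exact h5

theorem center_index_map {H K : Type*} [Group H] [Group K]
    [Finite H] (e : H ≃* K) : (Subgroup.center H).index = (Subgroup.center K).index := by
  have h1 := (Subgroup.center H).index_mul_card
  have h2 := (Subgroup.center K).index_mul_card
  rw [← Nat.card_congr e.toEquiv, ← Nat.card_congr (Subgroup.centerCongr e).toEquiv, ← h1] at h2
  exact (Nat.eq_of_mul_eq_mul_right Nat.card_pos h2).symm

/-- **Heights in blocks of `p`-solvable groups.** -/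
theorem blockHeight_le_center_index (hM : IsPModular p M) {G : Type u} [Group G] [Fintype G]
    (hsolv : IsPSolvable p G) {B : Set (IrrCharacter G)} (hB : IsPBlock M B) {P : Subgroup G}
    (hP : IsDefectGroup p M B P) {χ : IrrCharacter G} (hχ : χ ∈ B) :
    blockHeight p B (χ : G → ℂ) ≤ (Subgroup.center P).index.factorization p := by
  classical
  induction hn : Nat.card G using Nat.strong_induction_on generalizing G with
  | _ n ih =>
  subst hn
  set N := pPrimeCore p G with hN
  haveI : N.Normal := (Cores.pPrimeCore_mem p G).1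
  haveI := Fintype.ofFinite N
  have hdN : ¬ p ∣ Nat.card N := Cores.not_dvd_card_pPrimeCore
  obtain ⟨θ, hθ⟩ := IsCharacter.exists_constituent (IsCharacter.restrict (irr_isCharacter χ) N)
    fun h => IsIrrCharacter.apply_one_ne_zero χ.2 (by simpa using congrFun h 1)
  let T := inertia N (θ : N → ℂ)
  by_cases hT : T = ⊤
  · have hinv : ∀ g : G, conjFun N g (θ : N → ℂ) = (θ : N → ℂ) := fun g =>
      (mem_inertia_iff N).1 (show g ∈ T by rw [hT]; trivial)
    obtain ⟨B₀, hB₀, hmem, -, hdef⟩ := Cfsg.Agent.S4492.result p M hM hsolv N rfl θ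
      (fun g n => congrFun (hinv g) n)
    have hBB : B = B₀ := IsPBlock.eq_of_mem hB hB₀ hχ ((hmem χ).2 hθ)
    subst hBB
    obtain ⟨S, rfl⟩ := hdef P hP
    exact (Nat.sub_le _ _).trans (factorization_degree_le_center_index hsolv hN S hinv hθ)
  · haveI := Fintype.ofFinite T
    have hNT : N ≤ T := le_inertia N (IsCharacter.isClassFunction (irr_isCharacter θ))
    have hb : IsPBlock M ({θ} : Set (IrrCharacter N)) :=
      ⟨θ, (blockOf_eq_singleton_of_not_dvd hM hdN θ).symm⟩
    have hTd : ∀ g : G, g ∈ T ↔ ∀ θ₁ ∈ ({θ} : Set (IrrCharacter N)), ∀ θ' : IrrCharacter N,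
        (∀ n : N, (θ' : N → ℂ) n = (θ₁ : N → ℂ) ⟨g * n * g⁻¹,
          (inferInstance : N.Normal).conj_mem n n.2 g⟩) → θ' ∈ ({θ} : Set (IrrCharacter N)) := by
      intro g
      refine (mem_inertia_iff N).trans ⟨fun h θ₁ hθ₁ θ' hθ' => ?_, fun h => ?_⟩
      · obtain rfl := Set.mem_singleton_iff.1 hθ₁
        exact Set.mem_singleton_iff.2 (Subtype.ext ((funext hθ').trans h))
      · exact congrArg Subtype.val
          (Set.mem_singleton_iff.1 (h θ rfl (conjIrrN N g θ) fun _ => rfl))
    obtain ⟨h1, -, h3⟩ := Cfsg.Agent.S4435.result p M hM N _ hb T hTd hNT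
    obtain ⟨B', hB', hcov, hind⟩ := h3 B hB ⟨χ, hχ, θ, rfl, hθ⟩
    obtain ⟨B₁, hind₁, -, -, hmem⟩ := h1 B' hB' hcov
    have hBB : B = B₁ := IsInducedBlock.unique hind hind₁
    subst hBB
    obtain ⟨ψ, hψ, hψe⟩ := (hmem χ).1 hχ
    obtain ⟨hdg, hht⟩ := Cfsg.Agent.S4436.result p M hM N _ hb T hTd hNT B' hB' hcov B hind
    obtain ⟨χ', -, hχ'e, hh⟩ := hht ψ hψ
    rw [show (χ : G → ℂ) = (χ' : G → ℂ) from hψe.trans hχ'e.symm, hh]
    obtain ⟨D, hD⟩ := exists_isDefectGroup hM hB'
    obtain ⟨a, ha⟩ := IsDefectGroup.exists_map_conj_eq hM hB (hdg D hD) hP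
    have hlt : Nat.card T < Nat.card G := by
      have h := T.index_mul_card
      have h2 : 1 < T.index := by
        have := Subgroup.index_ne_zero_of_finite (H := T)
        have : T.index ≠ 1 := fun h => hT (Subgroup.index_eq_one.1 h)
        omega
      rw [← h]
      exact lt_mul_of_one_lt_left Nat.card_pos h2
    refine (ih _ hlt (Cfsg.Agent.S4176.isPSolvable_subgroup hsolv T) hB' hD hψ rfl).trans
      (le_of_eq ?_)
    rw [center_index_map ((D.equivMapOfInjective _ T.subtype_injective).trans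
      (((D.map T.subtype).equivMapOfInjective _ (MulAut.conj a).injective).trans
        (MulEquiv.subgroupCongr ha)))]

end Cfsg.Agent.Lib.Characters
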