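import Cfsg.Agent.Lib.Characters.FrobeniusKernelChar
import Cfsg.Agent.Lib.Characters.Gram
import Cfsg.Agent.Lib.Characters.TI
import Cfsg.Prelude.Def_OddOrderChar
import Cfsg.Prelude.Def_Transfer

/-!
# Exceptional characters for a TI subgroup with Frobenius normalizer
-/

namespace Cfsg.Agent.Lib.Characters

open scoped ComplexConjugate

set_option linter.unusedSectionVars false
set_option linter.style.haveILetI false

universe u

variable {G : Type u} [Group G] [Fintype G] (K : Subgroup G)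

theorem frobTI_centralizer (hC : ∀ k ∈ K, k ≠ 1 → Subgroup.centralizer ({k} : Set G) ≤ K) :
    ∀ k ∈ K.subgroupOf (Subgroup.normalizer (K : Set G)), k ≠ 1 →
      ∀ x : Subgroup.normalizer (K : Set G), x * k = k * x →
        x ∈ K.subgroupOf (Subgroup.normalizer (K : Set G)) :=
  fun k hk h1 x hx => Subgroup.mem_subgroupOf.mpr (hC _ (Subgroup.mem_subgroupOf.mp hk)
    (fun h => h1 (Subtype.ext h))
    (Subgroup.mem_centralizer_singleton_iff.mpr (congrArg Subtype.val hx)))

theorem frobTI_coherence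
    (hTI : ∀ g : G, g ∉ Subgroup.normalizer (K : Set G) → ∀ k ∈ K, g * k * g⁻¹ ∈ K → k = 1)
    (hlt : K < Subgroup.normalizer (K : Set G))
    (hC : ∀ k ∈ K, k ≠ 1 → Subgroup.centralizer ({k} : Set G) ≤ K)
    (hab : ∀ a ∈ K, ∀ b ∈ K, a * b = b * a) :
    (Nat.card {χ : IrrCharacter (Subgroup.normalizer (K : Set G)) //
        ∃ k : Subgroup.normalizer (K : Set G), (k : G) ∈ K ∧
          (χ : ↥(Subgroup.normalizer (K : Set G)) → ℂ) k ≠
            (χ : ↥(Subgroup.normalizer (K : Set G)) → ℂ) 1} = 1 ∧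
      ∃ p : ℕ, p.Prime ∧ IsElementaryAbelian p K ∧
        Nat.card K = (K.subgroupOf (Subgroup.normalizer (K : Set G))).index + 1) ∨
    ∃ (ε : ℂ) (f : {χ : IrrCharacter (Subgroup.normalizer (K : Set G)) //
        ∃ k : Subgroup.normalizer (K : Set G), (k : G) ∈ K ∧
          (χ : ↥(Subgroup.normalizer (K : Set G)) → ℂ) k ≠
            (χ : ↥(Subgroup.normalizer (K : Set G)) → ℂ) 1} → IrrCharacter G),
      (ε = 1 ∨ ε = -1) ∧ Function.Injective f ∧ ∀ χ ξ,
        Cfsg.indFun (Subgroup.normalizer (K : Set G))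
          ((χ.1 : ↥(Subgroup.normalizer (K : Set G)) → ℂ) -
            (ξ.1 : ↥(Subgroup.normalizer (K : Set G)) → ℂ)) =
          ε • ((f χ : G → ℂ) - (f ξ : G → ℂ)) := by
  classical
  set N := Subgroup.normalizer (K : Set G) with hN
  haveI := Fintype.ofFinite N
  set K' : Subgroup N := K.subgroupOf N with hK'
  haveI : K'.Normal := Subgroup.normal_in_normalizer
  haveI := Fintype.ofFinite K'
  haveI := Fintype.ofFinite (IrrCharacter N)
  have hC' : ∀ k ∈ K', k ≠ 1 → ∀ x : N, x * k = k * x → x ∈ K' := frobTI_centralizer K hC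
  have habK' : ∀ a b : K', a * b = b * a := fun a b =>
    Subtype.ext (Subtype.ext (hab _ (Subgroup.mem_subgroupOf.mp a.2) _ (Subgroup.mem_subgroupOf.mp b.2)))
  have hrel_iff : ∀ χ : IrrCharacter N, IsRelevant K' (χ : N → ℂ) ↔
      ∃ k : N, (k : G) ∈ K ∧ (χ : N → ℂ) k ≠ (χ : N → ℂ) 1 :=
    fun χ => ⟨fun ⟨k, hk, h⟩ => ⟨k, hk, h⟩, fun ⟨k, hk, h⟩ => ⟨k, hk, h⟩⟩
  let R := {χ : IrrCharacter N // ∃ k : N, (k : G) ∈ K ∧ (χ : N → ℂ) k ≠ (χ : N → ℂ) 1}
  haveI := Fintype.ofFinite R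
  have hdeg : ∀ χ : R, (χ.1 : N → ℂ) 1 = (K'.index : ℂ) := by
    intro χ
    obtain ⟨t, -, ht, -, htab⟩ := frob_exists_degree K' hC' χ.1.2 ((hrel_iff χ.1).mpr χ.2)
    rw [ht, htab habK', mul_one]
  have hvan : ∀ χ : R, ∀ x : N, (x : G) ∉ K → (χ.1 : N → ℂ) x = 0 := fun χ x hx =>
    frob_vanish K' hC' χ.1.2 ((hrel_iff χ.1).mpr χ.2) hx
  have hidx : 0 < K'.index := Nat.pos_of_ne_zero Subgroup.index_ne_zero_of_finite
  have hcount : Nat.card R * K'.index + 1 = Nat.card K := by
    have h := frob_sum_relevant K' (1 : N)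
    rw [Finset.sum_congr rfl (g := fun _ => (K'.index : ℂ) * K'.index) fun χ hχ => by
        rw [hdeg ⟨χ, (hrel_iff χ).mp (Finset.mem_filter.mp hχ).2⟩],
      Finset.sum_const, if_pos rfl, if_pos K'.one_mem, nsmul_eq_mul, ← K'.card_mul_index] at h
    have hcardR : (Finset.univ.filter fun χ : IrrCharacter N => IsRelevant K' (χ : N → ℂ)).card =
        Nat.card R := by
      rw [← Fintype.card_subtype, ← Nat.card_eq_fintype_card]
      exact Nat.card_congr (Equiv.subtypeEquivRight hrel_iff)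
    have hKc : Nat.card K' = Nat.card K :=
      Nat.card_congr (Subgroup.subgroupOfEquivOfLe hlt.le).toEquiv
    rw [hcardR, hKc] at h
    have h' : ((Nat.card R * K'.index + 1) * K'.index : ℕ) = (Nat.card K * K'.index : ℕ) := by
      have h1 : (((Nat.card R * K'.index + 1) * K'.index : ℕ) : ℂ) =
          ((Nat.card K * K'.index : ℕ) : ℂ) := by
        push_cast at h ⊢
        linear_combination h
      exact_mod_cast h1
    exact Nat.eq_of_mul_eq_mul_right hidx h'
  by_cases hn : Nat.card R = 1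
  · left
    rw [hn, one_mul] at hcount
    refine ⟨hn, ?_⟩
    obtain ⟨p, hp, hpd⟩ := Nat.exists_prime_and_dvd (n := Nat.card K) (by omega)
    haveI := Fact.mk hp
    obtain ⟨k₀, hk₀⟩ := exists_prime_orderOf_dvd_card' (G := K) p hpd
    refine ⟨p, hp, ⟨⟨⟨fun a b => Subtype.ext (hab a a.2 b b.2)⟩⟩, ?_⟩, hcount.symm⟩
    let kN : N := ⟨(k₀ : G), hlt.le k₀.2⟩
    have hk1 : kN ≠ 1 := fun h => by
      have : (k₀ : G) = 1 := congrArg Subtype.val h
      rw [← Subgroup.orderOf_coe, this, orderOf_one] at hk₀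
      exact hp.ne_one hk₀.symm
    have hcent : Subgroup.centralizer ({kN} : Set N) = K' := by
      refine le_antisymm (fun x hx => hC' kN (Subgroup.mem_subgroupOf.mpr k₀.2) hk1 x
        (Subgroup.mem_centralizer_singleton_iff.mp hx)) fun x hx => ?_
      exact Subgroup.mem_centralizer_singleton_iff.mpr
        (Subtype.ext (hab _ (Subgroup.mem_subgroupOf.mp hx) _ k₀.2))
    have hclass := card_conj_eq_index (G := N) kN
    rw [hcent] at hclass
    intro a ha
    by_cases ha1 : a = 1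
    · rw [ha1, one_pow]
    have hsub : (Finset.univ.filter fun y : N => IsConj kN y) =
        Finset.univ.filter fun y : N => y ∈ K' ∧ y ≠ 1 := by
      refine Finset.eq_of_subset_of_card_le (fun y hy => ?_) ?_
      · obtain ⟨c, rfl⟩ := isConj_iff.mp (Finset.mem_filter.mp hy).2
        refine Finset.mem_filter.mpr ⟨Finset.mem_univ _,
          (inferInstance : K'.Normal).conj_mem kN (Subgroup.mem_subgroupOf.mpr k₀.2) c, ?_⟩
        exact fun h => hk1 (conj_eq_one_iff.mp h)
      · have h2 : (Finset.univ.filter fun y : N => y ∈ K' ∧ y ≠ 1).card + 1 ≤ Nat.card K := by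
          rw [← Nat.card_congr (Subgroup.subgroupOfEquivOfLe hlt.le).toEquiv,
            Nat.card_eq_fintype_card, Fintype.card_subtype,
            ← Finset.card_insert_of_notMem (a := (1 : N)) (by simp)]
          refine Finset.card_le_card fun y hy => ?_
          rcases Finset.mem_insert.mp hy with rfl | hy
          · simp
          · exact Finset.mem_filter.mpr ⟨Finset.mem_univ _, (Finset.mem_filter.mp hy).2.1⟩
        rw [← Fintype.card_subtype (fun y : N => IsConj kN y), ← Nat.card_eq_fintype_card, hclass]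
        omega
    have hmem : (⟨a, hlt.le ha⟩ : N) ∈ Finset.univ.filter fun y : N => y ∈ K' ∧ y ≠ 1 :=
      Finset.mem_filter.mpr ⟨Finset.mem_univ _, ha, fun h => ha1 (congrArg Subtype.val h)⟩
    rw [← hsub] at hmem
    obtain ⟨c, hc⟩ := isConj_iff.mp (Finset.mem_filter.mp hmem).2
    have hc' : (c : G) * (k₀ : G) * (c : G)⁻¹ = a := congrArg Subtype.val hc
    rw [← hc', conj_pow, ← hk₀, ← Subgroup.orderOf_coe, pow_orderOf_eq_one, mul_one, mul_inv_cancel]
  · right
    rcases Nat.eq_zero_or_pos (Nat.card R) with h0 | h0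
    · haveI : IsEmpty R := (Nat.card_eq_zero.mp h0).resolve_right (not_infinite_iff_finite.mpr inferInstance)
      exact ⟨1, fun χ => isEmptyElim (show R from χ), Or.inl rfl,
        fun χ => isEmptyElim (show R from χ), fun χ => isEmptyElim (show R from χ)⟩
    obtain ⟨r⟩ : Nonempty R := (Nat.card_pos_iff.mp h0).1
    let E := Finite.equivFin R
    let χs : Fin (Nat.card R) → (N → ℂ) := fun i => ((E.symm i).1 : N → ℂ)
    have hinj : Function.Injective χs := fun i j h =>
      E.symm.injective (Subtype.ext (Subtype.ext h))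
    have hcl : ∀ i, IsClassFunction N (χs i) := fun i => irr_isClassFunction _
    let i₀ := E r
    have hiso : ∀ i j, classInner (indFun N (χs i - χs i₀)) (indFun N (χs j - χs i₀)) =
        classInner (χs i - χs i₀) (χs j - χs i₀) := by
      intro i j
      refine classInner_indFun_indFun_eq _ (K : Set G)
        (IsClassFunction.sub (hcl j) (hcl i₀))
        (fun x hx => by simp [χs, hvan _ x hx]) fun t ht x hx hxS => ?_
      have htS : (t : G) ∈ K := by
        by_contra h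
        exact ht (by simp [χs, hvan _ t h])
      have h1 := hTI x hx _ hxS (by simpa [mul_assoc] using htS)
      rw [show x⁻¹ * (t : G) * x = x⁻¹ * (t : G) * (x⁻¹)⁻¹ by rw [inv_inv], conj_eq_one_iff] at h1
      exact ht (by rw [show t = 1 from Subtype.ext h1]; simp [χs, hdeg])
    have hirr : ∀ i, IsIrrCharacter N (χs i) := fun i => (E.symm i).1.2
    obtain ⟨ε, hε, θ, hθ, hθi, hτ⟩ := exists_sign_of_gram (Nat.card R) i₀
      (fun i => indFun N (χs i - χs i₀)) (by simp)
      (fun i => IsGeneralizedCharacter.indFun N ⟨_, _, IsIrrCharacter.isCharacter (hirr i),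
        IsIrrCharacter.isCharacter (hirr i₀), rfl⟩)
      (fun i => by simp [indFun_one, χs, hdeg]) (fun i j hi hj => by
        rw [hiso, classInner_sub_left, classInner_sub_right, classInner_sub_right,
          IsIrrCharacter.classInner_self (hirr i₀),
          IsIrrCharacter.classInner_ne (hirr i) (hirr i₀) (hinj.ne hi),
          IsIrrCharacter.classInner_ne (hirr i₀) (hirr j) (hinj.ne (Ne.symm hj))]
        split_ifs with hij
        · rw [hij, IsIrrCharacter.classInner_self (hirr j)]; norm_num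
        · rw [IsIrrCharacter.classInner_ne (hirr i) (hirr j) (hinj.ne hij)]; norm_num)
    refine ⟨ε, fun χ => ⟨θ (E χ), hθ _⟩, hε, fun a b h => ?_, fun χ ξ => ?_⟩
    · exact E.injective (hθi (congrArg Subtype.val h))
    · have e1 := hτ (E χ)
      have e2 := hτ (E ξ)
      have hχ' : χs (E χ) = (χ.1 : N → ℂ) := congrArg (fun z : R => (z.1 : N → ℂ)) (E.symm_apply_apply χ)
      have hξ' : χs (E ξ) = (ξ.1 : N → ℂ) := congrArg (fun z : R => (z.1 : N → ℂ)) (E.symm_apply_apply ξ)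
      simp only [hχ', indFun_sub] at e1
      simp only [hξ', indFun_sub] at e2
      rw [indFun_sub, ← sub_sub_sub_cancel_right _ _ (indFun N (χs i₀)), e1, e2, ← smul_sub,
        sub_sub_sub_cancel_right]

/-! ### The values of a coherent extension -/

section Coherent

variable {L : Type u} [Group L] [Fintype L] (M : Subgroup L) [M.Normal] [Fintype M]

/-- An integral function on relevant characters proportional to the degree has an integral
factor of proportionality. -/
theorem frob_exists_int_factor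
    (hC : ∀ k ∈ M, k ≠ 1 → ∀ x : L, x * k = k * x → x ∈ M) (f : IrrCharacter L → ℤ)
    (hf : ∀ χ η : IrrCharacter L, IsRelevant M (χ : L → ℂ) → IsRelevant M (η : L → ℂ) →
      (f χ : ℂ) * (η : L → ℂ) 1 = (f η : ℂ) * (χ : L → ℂ) 1) :
    ∃ r : ℤ, ∀ χ : IrrCharacter L, IsRelevant M (χ : L → ℂ) →
      (f χ : ℂ) * (M.index : ℂ) = (r : ℂ) * (χ : L → ℂ) 1 := by
  classical
  haveI := Fintype.ofFinite (IrrCharacter L)
  by_cases hne : ∀ χ : IrrCharacter L, ¬ IsRelevant M (χ : L → ℂ)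
  · exact ⟨0, fun χ h => absurd h (hne χ)⟩
  push Not at hne
  obtain ⟨χ₀, hχ₀⟩ := hne
  obtain ⟨t₀, ht₀, ht₀', ⟨c, hc⟩, -⟩ := frob_exists_degree M hC χ₀.2 hχ₀
  have hI : (M.index : ℂ) ≠ 0 := Nat.cast_ne_zero.mpr Subgroup.index_ne_zero_of_finite
  have ht0 : (t₀ : ℂ) ≠ 0 := Nat.cast_ne_zero.mpr ht₀.ne'
  choose t ht htd using fun χ : {χ : IrrCharacter L // IsRelevant M (χ : L → ℂ)} =>
    (let ⟨t, _, h2, h3, _⟩ := frob_exists_degree M hC χ.1.2 χ.2
     ⟨t, h2, h3⟩ : ∃ t : ℕ, (χ.1 : L → ℂ) 1 = ((M.index * t : ℕ) : ℂ) ∧ t ∣ Nat.card M)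
  let Q : ℤ := ∑ χ : {χ : IrrCharacter L // IsRelevant M (χ : L → ℂ)},
    f χ.1 * (t χ : ℤ) * (M.index : ℤ)
  refine ⟨f χ₀ * (c : ℤ) - Q, fun χ hχ => ?_⟩
  have hsum := frob_sum_relevant M (1 : L)
  rw [if_pos rfl, if_pos M.one_mem, ← M.card_mul_index, hc] at hsum
  have hQ : (Q : ℂ) * (t₀ : ℂ) * (M.index : ℂ) =
      (f χ₀ : ℂ) * ((t₀ * c * M.index : ℕ) - (M.index : ℂ)) := by
    have hS : (f χ₀ : ℂ) * (((t₀ * c * M.index : ℕ) : ℂ) - (M.index : ℂ)) =
        ∑ χ : {χ : IrrCharacter L // IsRelevant M (χ : L → ℂ)},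
          (f χ₀ : ℂ) * ((χ.1 : L → ℂ) 1 * (χ.1 : L → ℂ) 1) := by
      rw [← hsum, Finset.mul_sum]
      exact Finset.sum_subtype _ (fun x => by simp) _
    rw [hS]
    simp only [Q, Int.cast_sum, Finset.sum_mul]
    refine Finset.sum_congr rfl fun η _ => ?_
    have h1 := hf η.1 χ₀ η.2 hχ₀
    rw [ht₀', ht η] at h1
    rw [ht η]
    push_cast at h1 ⊢
    linear_combination (t η : ℂ) * (M.index : ℂ) * h1
  apply mul_right_cancel₀ (mul_ne_zero hI ht0)
  have h1 := hf χ χ₀ hχ hχ₀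
  rw [ht₀'] at h1
  push_cast at h1 hQ ⊢
  linear_combination (M.index : ℂ) * h1 + (χ : L → ℂ) 1 * hQ

/-- A generalized character orthogonal to all degree-zero combinations of relevant characters
takes one integer value on the non-identity elements of the kernel. -/
theorem frob_const_of_orth
    (hC : ∀ k ∈ M, k ≠ 1 → ∀ x : L, x * k = k * x → x ∈ M) {ρ : L → ℂ}
    (hρ : IsGeneralizedCharacter L ρ)
    (horth : ∀ (χ η : IrrCharacter L), IsRelevant M (χ : L → ℂ) → IsRelevant M (η : L → ℂ) →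
      classInner ρ (χ : L → ℂ) * (η : L → ℂ) 1 = classInner ρ (η : L → ℂ) * (χ : L → ℂ) 1) :
    ∃ z : ℤ, ∀ k ∈ M, k ≠ 1 → ρ k = (z : ℂ) := by
  classical
  haveI := Fintype.ofFinite (IrrCharacter L)
  choose b hb using fun χ : IrrCharacter L =>
    IsGeneralizedCharacter.exists_classInner_int hρ
      (IsCharacter.isGeneralizedCharacter (irr_isCharacter χ))
  obtain ⟨r, hr⟩ := frob_exists_int_factor M hC b fun χ η h1 h2 => by
    rw [← hb, ← hb]; exact horth χ η h1 h2
  choose d hd0 hd using fun χ : IrrCharacter L => IsIrrCharacter.exists_apply_one χ.2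
  refine ⟨(∑ χ ∈ Finset.univ.filter (fun χ : IrrCharacter L => ¬ IsRelevant M (χ : L → ℂ)),
    b χ * (d χ : ℤ)) - r, fun k hk hk1 => ?_⟩
  have hI : (M.index : ℂ) ≠ 0 := Nat.cast_ne_zero.mpr Subgroup.index_ne_zero_of_finite
  rw [congrFun (eq_sum_classInner (IsGeneralizedCharacter.isClassFunction hρ)) k]
  simp only [Finset.sum_apply, Pi.smul_apply, smul_eq_mul, hb]
  rw [← Finset.sum_filter_add_sum_filter_not Finset.univ
    (fun χ : IrrCharacter L => IsRelevant M (χ : L → ℂ))]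
  have h1 : ∑ χ ∈ Finset.univ.filter (fun χ : IrrCharacter L => IsRelevant M (χ : L → ℂ)),
      (b χ : ℂ) * (χ : L → ℂ) k = -(r : ℂ) := by
    apply mul_left_cancel₀ hI
    have hs := frob_sum_relevant M k
    rw [if_neg hk1, if_pos hk] at hs
    rw [Finset.mul_sum, Finset.sum_congr rfl (g := fun χ : IrrCharacter L =>
      (r : ℂ) * ((χ : L → ℂ) 1 * (χ : L → ℂ) k)) fun χ hχ => ?_, ← Finset.mul_sum, hs]
    · ring
    · rw [← mul_assoc, mul_comm (M.index : ℂ), hr χ (Finset.mem_filter.mp hχ).2, mul_assoc]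
  have h2 : ∀ χ ∈ Finset.univ.filter (fun χ : IrrCharacter L => ¬ IsRelevant M (χ : L → ℂ)),
      (b χ : ℂ) * (χ : L → ℂ) k = ((b χ * (d χ : ℤ) : ℤ) : ℂ) := by
    intro χ hχ
    have hnr := (Finset.mem_filter.mp hχ).2
    have : (χ : L → ℂ) k = (χ : L → ℂ) 1 := by
      by_contra h
      exact hnr ⟨k, hk, h⟩
    rw [this, hd χ]
    push_cast
    ring
  rw [h1, Finset.sum_congr rfl h2, Int.cast_sub, Int.cast_sum]
  ring

end Coherent

section Star

variable [Fintype ↥(Subgroup.normalizer (K : Set G))]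
  (S : Set (↥(Subgroup.normalizer (K : Set G)) → ℂ))
  (star : (↥(Subgroup.normalizer (K : Set G)) → ℂ) → (G → ℂ))

theorem zspan_mem {X : Type*} {S : Set (X → ℂ)} {f : X → ℂ} (h : f ∈ S) : f ∈ Cfsg.zspan S :=
  Submodule.subset_span h

/-- The data attached to a coherent extension: values on the kernel and orthogonality. -/
theorem coherent_values
    (hTI : ∀ g : G, g ∉ Subgroup.normalizer (K : Set G) → ∀ k ∈ K, g * k * g⁻¹ ∈ K → k = 1)
    (hC : ∀ k ∈ K, k ≠ 1 → Subgroup.centralizer ({k} : Set G) ≤ K)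
    (hS : S = {χ : ↥(Subgroup.normalizer (K : Set G)) → ℂ |
      IsIrrCharacter ↥(Subgroup.normalizer (K : Set G)) χ ∧
        ∃ k : ↥(Subgroup.normalizer (K : Set G)), (k : G) ∈ K ∧ χ k ≠ χ 1})
    (hstar : Cfsg.IsLinearIsometryOn (Cfsg.zspan S) star)
    (hext : ∀ α ∈ Cfsg.zspanOn S ({1}ᶜ : Set ↥(Subgroup.normalizer (K : Set G))),
      star α = Cfsg.indFun (Subgroup.normalizer (K : Set G)) α) :
    (∀ χ ∈ S, ∀ η ∈ S, ∀ k : ↥(Subgroup.normalizer (K : Set G)), (k : G) ∈ K → k ≠ 1 →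
      (star χ k - χ k) * η 1 = (star η k - η k) * χ 1) ∧
    (∀ (ψ : G → ℂ), IsClassFunction G ψ → ∀ χ ∈ S, ∀ η ∈ S,
      classInner (fun n : ↥(Subgroup.normalizer (K : Set G)) => ψ n) χ * η 1 -
        classInner (fun n : ↥(Subgroup.normalizer (K : Set G)) => ψ n) η * χ 1 =
      classInner ψ (star χ) * η 1 - classInner ψ (star η) * χ 1) := by
  classical
  haveI : (K.subgroupOf (Subgroup.normalizer (K : Set G))).Normal := Subgroup.normal_in_normalizer
  haveI := Fintype.ofFinite (K.subgroupOf (Subgroup.normalizer (K : Set G)))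
  obtain ⟨hadd, hsmul, -, hgen⟩ := hstar
  have key : ∀ χ ∈ S, ∀ η ∈ S, ∃ (a c : ℕ), χ 1 = (a : ℂ) ∧ η 1 = (c : ℂ) ∧
      indFun (Subgroup.normalizer (K : Set G)) ((c : ℂ) • χ - (a : ℂ) • η) = (c : ℂ) • star χ - (a : ℂ) • star η ∧
      IsClassFunction (Subgroup.normalizer (K : Set G)) ((c : ℂ) • χ - (a : ℂ) • η) ∧
      (∀ x : (Subgroup.normalizer (K : Set G)), (x : G) ∉ K → ((c : ℂ) • χ - (a : ℂ) • η) x = 0) ∧
      ((c : ℂ) • χ - (a : ℂ) • η) 1 = 0 := by
    intro χ hχ η hη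
    have hχ' := hχ
    have hη' := hη
    rw [hS] at hχ' hη'
    obtain ⟨a, -, ha⟩ := IsIrrCharacter.exists_apply_one hχ'.1
    obtain ⟨c, -, hc⟩ := IsIrrCharacter.exists_apply_one hη'.1
    have hA : ((c : ℤ) • χ) ∈ Cfsg.zspan S := Submodule.smul_mem _ _ (zspan_mem hχ)
    have hB : ((-(a : ℤ)) • η) ∈ Cfsg.zspan S := Submodule.smul_mem _ _ (zspan_mem hη)
    have he : (c : ℂ) • χ - (a : ℂ) • η = (c : ℤ) • χ + (-(a : ℤ)) • η := by
      funext x; simp [sub_eq_add_neg]
    have hmem : (c : ℂ) • χ - (a : ℂ) • η ∈ Cfsg.zspanOn S ({1}ᶜ : Set (Subgroup.normalizer (K : Set G))) := by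
      refine ⟨he ▸ Submodule.add_mem _ hA hB, fun x hx => ?_⟩
      rw [Set.mem_compl_iff, not_not, Set.mem_singleton_iff] at hx
      subst hx
      simp only [Pi.sub_apply, Pi.smul_apply, smul_eq_mul, ha, hc]
      ring
    refine ⟨a, c, ha, hc, ?_, ?_, ?_, ?_⟩
    · rw [← hext _ hmem, he, hadd _ hA _ hB, hsmul _ (zspan_mem hχ), hsmul _ (zspan_mem hη)]
      funext x; simp [sub_eq_add_neg]
    · exact IsClassFunction.sub
        (IsClassFunction.smul (IsCharacter.isClassFunction (IsIrrCharacter.isCharacter hχ'.1)) _)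
        (IsClassFunction.smul (IsCharacter.isClassFunction (IsIrrCharacter.isCharacter hη'.1)) _)
    · intro x hx
      obtain ⟨k, hk, hk'⟩ := hχ'.2
      obtain ⟨l, hl, hl'⟩ := hη'.2
      have e1 := frob_vanish (K.subgroupOf (Subgroup.normalizer (K : Set G))) (frobTI_centralizer K hC) hχ'.1 ⟨k, hk, hk'⟩ hx
      have e2 := frob_vanish (K.subgroupOf (Subgroup.normalizer (K : Set G))) (frobTI_centralizer K hC) hη'.1 ⟨l, hl, hl'⟩ hx
      simp [e1, e2]
    · simp only [Pi.sub_apply, Pi.smul_apply, smul_eq_mul, ha, hc]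
      ring
  refine ⟨fun χ hχ η hη k hk hk1 => ?_, fun ψ hψ χ hχ η hη => ?_⟩
  · obtain ⟨a, c, ha, hc, hind, hcl, hoff, -⟩ := key χ hχ η hη
    have h1 : indFun (Subgroup.normalizer (K : Set G)) ((c : ℂ) • χ - (a : ℂ) • η) (k : G) = ((c : ℂ) • χ - (a : ℂ) • η) k := by
      refine indFun_eq_self (Subgroup.normalizer (K : Set G)) (K : Set G) hcl hoff k fun x hx hxK => ?_
      apply hk1
      have h := hTI x hx (x⁻¹ * (k : G) * x) hxK (by simpa [mul_assoc] using hk)
      rw [show x⁻¹ * (k : G) * x = x⁻¹ * (k : G) * (x⁻¹)⁻¹ by rw [inv_inv], conj_eq_one_iff] at h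
      exact Subtype.ext h
    rw [hind] at h1
    simp only [Pi.sub_apply, Pi.smul_apply, smul_eq_mul] at h1
    rw [ha, hc]
    linear_combination h1
  · obtain ⟨a, c, ha, hc, hind, -, -, -⟩ := key χ hχ η hη
    have h1 := classInner_indFun_right (Subgroup.normalizer (K : Set G)) ((c : ℂ) • χ - (a : ℂ) • η) hψ
    rw [hind] at h1
    simp only [classInner_sub_right, classInner_smul_right, map_natCast] at h1
    rw [ha, hc]
    linear_combination -h1

theorem coherent_eq_pm_iff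
    (hTI : ∀ g : G, g ∉ Subgroup.normalizer (K : Set G) → ∀ k ∈ K, g * k * g⁻¹ ∈ K → k = 1)
    (hC : ∀ k ∈ K, k ≠ 1 → Subgroup.centralizer ({k} : Set G) ≤ K)
    (hlt : K < Subgroup.normalizer (K : Set G))
    (hS : S = {χ : ↥(Subgroup.normalizer (K : Set G)) → ℂ |
      IsIrrCharacter ↥(Subgroup.normalizer (K : Set G)) χ ∧
        ∃ k : ↥(Subgroup.normalizer (K : Set G)), (k : G) ∈ K ∧ χ k ≠ χ 1})
    (htwo : ∃ χ ∈ S, ∃ ξ ∈ S, χ ≠ ξ)
    (hstar : Cfsg.IsLinearIsometryOn (Cfsg.zspan S) star)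
    (hext : ∀ α ∈ Cfsg.zspanOn S ({1}ᶜ : Set ↥(Subgroup.normalizer (K : Set G))),
      star α = Cfsg.indFun (Subgroup.normalizer (K : Set G)) α) :
    (∀ χ ∈ S, ∃ z : ℤ, ∀ k : ↥(Subgroup.normalizer (K : Set G)), (k : G) ∈ K → k ≠ 1 →
        star χ k - χ k = (z : ℂ)) ∧
    (∀ (ψ : G → ℂ), IsIrrCharacter G ψ → ((∃ χ ∈ S, ψ = star χ ∨ ψ = -star χ) ↔
      ∃ a ∈ K, ∃ b ∈ K, a ≠ 1 ∧ b ≠ 1 ∧ ψ a ≠ ψ b)) := by
  classical
  obtain ⟨hval, horth⟩ := coherent_values K S star hTI hC hS hstar hext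
  obtain ⟨-, -, hiso, hgen⟩ := hstar
  haveI : (K.subgroupOf (Subgroup.normalizer (K : Set G))).Normal := Subgroup.normal_in_normalizer
  haveI := Fintype.ofFinite (K.subgroupOf (Subgroup.normalizer (K : Set G)))
  have hC' := frobTI_centralizer K hC
  have hmemS : ∀ η : IrrCharacter (Subgroup.normalizer (K : Set G)), IsRelevant (K.subgroupOf (Subgroup.normalizer (K : Set G))) (η : (Subgroup.normalizer (K : Set G)) → ℂ) → (η : (Subgroup.normalizer (K : Set G)) → ℂ) ∈ S :=
    fun η ⟨k, hk, h⟩ => by rw [hS]; exact ⟨η.2, k, hk, h⟩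
  have hirrS : ∀ χ ∈ S, IsIrrCharacter (Subgroup.normalizer (K : Set G)) χ := fun χ hχ => by rw [hS] at hχ; exact hχ.1
  have hnorm : ∀ χ ∈ S, classInner (star χ) (star χ) = 1 := fun χ hχ => by
    rw [hiso χ (zspan_mem hχ) χ (zspan_mem hχ)]
    exact IsIrrCharacter.classInner_self (hirrS χ hχ)
  -- `star χ - χ` is constant on the kernel
  have hconst : ∀ χ ∈ S, ∃ z : ℤ, ∀ k : (Subgroup.normalizer (K : Set G)), (k : G) ∈ K → k ≠ 1 → star χ k - χ k = (z : ℂ) := by
    intro χ hχ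
    have hg := hgen χ (zspan_mem hχ)
    obtain ⟨z, hz⟩ := frob_const_of_orth (K.subgroupOf (Subgroup.normalizer (K : Set G))) hC'
      (ρ := fun n : (Subgroup.normalizer (K : Set G)) => star χ n - χ n)
      (IsGeneralizedCharacter.sub (IsGeneralizedCharacter.comp hg (Subgroup.normalizer (K : Set G)).subtype)
        (IsCharacter.isGeneralizedCharacter (IsIrrCharacter.isCharacter (hirrS χ hχ))))
      (fun η η' hη hη' => by
        have h1 := horth (star χ) (IsGeneralizedCharacter.isClassFunction hg)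
          η (hmemS η hη) η' (hmemS η' hη')
        rw [hiso χ (zspan_mem hχ) _ (zspan_mem (hmemS η hη)),
          hiso χ (zspan_mem hχ) _ (zspan_mem (hmemS η' hη'))] at h1
        rw [show (fun n : (Subgroup.normalizer (K : Set G)) => star χ n - χ n) = (fun n : (Subgroup.normalizer (K : Set G)) => star χ n) - χ from rfl,
          classInner_sub_left, classInner_sub_left]
        linear_combination h1)
    exact ⟨z, fun k hk hk1 => hz k hk hk1⟩
  refine ⟨hconst, fun ψ hψ => ⟨?_, ?_⟩⟩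
  · rintro ⟨χ, hχ, hψχ⟩
    -- `χ` is not constant on the non-identity elements of the kernel
    obtain ⟨a, b, haK, hbK, ha1, hb1, hab⟩ : ∃ a b : (Subgroup.normalizer (K : Set G)), (a : G) ∈ K ∧ (b : G) ∈ K ∧ a ≠ 1 ∧
        b ≠ 1 ∧ χ a ≠ χ b := by
      by_contra hall
      push Not at hall
      obtain ⟨χ₁, hχ₁, χ₂, hχ₂, h12⟩ := htwo
      obtain ⟨η, hη, hne⟩ : ∃ η ∈ S, η ≠ χ := by
        by_cases h : χ₁ = χ
        · exact ⟨χ₂, hχ₂, fun h' => h12 (h.trans h'.symm)⟩
        · exact ⟨χ₁, hχ₁, h⟩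
      have hχ' := hχ
      have hη' := hη
      rw [hS] at hχ' hη'
      obtain ⟨k₀, hk₀, hk₀'⟩ := hχ'.2
      have hk₀1 : k₀ ≠ 1 := fun h => hk₀' (by rw [h])
      obtain ⟨l, hl, hl'⟩ := hη'.2
      have h0 := IsIrrCharacter.classInner_ne (hirrS χ hχ) (hirrS η hη) (Ne.symm hne)
      have havg := congrFun (frob_avg_of_relevant (K.subgroupOf (Subgroup.normalizer (K : Set G))) (hirrS η hη) ⟨l, hl, hl'⟩) 1
      simp only [avgN, mul_one, Pi.zero_apply, mul_eq_zero, inv_eq_zero] at havg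
      have hsumη : ∑ m : K.subgroupOf (Subgroup.normalizer (K : Set G)), η m = 0 :=
        havg.resolve_left natCard_ne_zero_complex
      rw [classInner, mul_eq_zero, inv_eq_zero] at h0
      have h0' := h0.resolve_left natCard_ne_zero_complex
      rw [← Finset.sum_subset (Finset.subset_univ (Finset.univ.filter (· ∈ K.subgroupOf (Subgroup.normalizer (K : Set G)))))
          (fun g _ hg => by
            rw [frob_vanish (K.subgroupOf (Subgroup.normalizer (K : Set G))) hC' (hirrS χ hχ) ⟨k₀, hk₀, hk₀'⟩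
              (by simpa using hg), zero_mul]),
        Finset.sum_subtype (p := (· ∈ K.subgroupOf (Subgroup.normalizer (K : Set G)))) _ (fun x => by simp),
        Finset.sum_congr rfl (g := fun m : K.subgroupOf (Subgroup.normalizer (K : Set G)) => χ k₀ * conj (η m) +
          if m = 1 then (χ 1 - χ k₀) * conj (η 1) else 0) fun m _ => ?_,
        Finset.sum_add_distrib, Finset.sum_ite_eq' Finset.univ (1 : K.subgroupOf (Subgroup.normalizer (K : Set G))),
        if_pos (Finset.mem_univ _), ← Finset.mul_sum, ← map_sum, hsumη, map_zero, mul_zero,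
        zero_add] at h0'
      · rcases mul_eq_zero.mp h0' with h | h
        · exact hk₀' (sub_eq_zero.mp h).symm
        · exact IsIrrCharacter.apply_one_ne_zero (hirrS η hη) (by simpa using h)
      · by_cases hm : m = 1
        · subst hm; simp; ring
        · rw [if_neg hm, add_zero]
          congr 1
          exact hall m k₀ m.2 hk₀ (fun h => hm (Subtype.ext h)) hk₀1
    obtain ⟨z, hz⟩ := hconst χ hχ
    refine ⟨a, haK, b, hbK, fun h => ha1 (Subtype.ext h), fun h => hb1 (Subtype.ext h), fun he => ?_⟩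
    have e1 := hz a haK ha1
    have e2 := hz b hbK hb1
    apply hab
    rcases hψχ with rfl | rfl
    · linear_combination he - e1 + e2
    · simp only [Pi.neg_apply, neg_inj] at he
      linear_combination he - e1 + e2
  · rintro ⟨a, haK, b, hbK, ha1, hb1, hne⟩
    by_contra hnone
    push Not at hnone
    have h0 : ∀ χ ∈ S, classInner ψ (star χ) = 0 := by
      intro χ hχ
      obtain ⟨φ, hφ | hφ⟩ :=
        IsGeneralizedCharacter.eq_pm_irr (hgen χ (zspan_mem hχ)) (hnorm χ hχ)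
      · rw [hφ]
        exact IsIrrCharacter.classInner_ne hψ φ.2 fun h => (hnone χ hχ).1 (h.trans hφ.symm)
      · rw [hφ, classInner_neg_right, IsIrrCharacter.classInner_ne hψ φ.2
          fun h => (hnone χ hχ).2 (by rw [hφ, neg_neg, h]), neg_zero]
    obtain ⟨z, hz⟩ := frob_const_of_orth (K.subgroupOf (Subgroup.normalizer (K : Set G))) hC'
      (ρ := fun n : (Subgroup.normalizer (K : Set G)) => ψ n)
      (IsGeneralizedCharacter.comp
        (IsCharacter.isGeneralizedCharacter (IsIrrCharacter.isCharacter hψ)) (Subgroup.normalizer (K : Set G)).subtype)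
      (fun η η' hη hη' => by
        have h1 := horth ψ (IsCharacter.isClassFunction (IsIrrCharacter.isCharacter hψ))
          η (hmemS η hη) η' (hmemS η' hη')
        rw [h0 _ (hmemS η hη), h0 _ (hmemS η' hη'), zero_mul, zero_mul, sub_self] at h1
        exact sub_eq_zero.mp h1)
    exact hne ((hz ⟨a, hlt.le haK⟩ haK fun h => ha1 (congrArg Subtype.val h)).trans
      (hz ⟨b, hlt.le hbK⟩ hbK fun h => hb1 (congrArg Subtype.val h)).symm)

theorem coherent_exists_factor
    (hTI : ∀ g : G, g ∉ Subgroup.normalizer (K : Set G) → ∀ k ∈ K, g * k * g⁻¹ ∈ K → k = 1)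
    (hC : ∀ k ∈ K, k ≠ 1 → Subgroup.centralizer ({k} : Set G) ≤ K)
    (hlt : K < Subgroup.normalizer (K : Set G))
    (hS : S = {χ : ↥(Subgroup.normalizer (K : Set G)) → ℂ |
      IsIrrCharacter ↥(Subgroup.normalizer (K : Set G)) χ ∧
        ∃ k : ↥(Subgroup.normalizer (K : Set G)), (k : G) ∈ K ∧ χ k ≠ χ 1})
    (htwo : ∃ χ ∈ S, ∃ ξ ∈ S, χ ≠ ξ)
    (hstar : Cfsg.IsLinearIsometryOn (Cfsg.zspan S) star)
    (hext : ∀ α ∈ Cfsg.zspanOn S ({1}ᶜ : Set ↥(Subgroup.normalizer (K : Set G))),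
      star α = Cfsg.indFun (Subgroup.normalizer (K : Set G)) α) :
    ∃ m : ℤ, ∀ χ ∈ S, ∀ k : ↥(Subgroup.normalizer (K : Set G)), (k : G) ∈ K → k ≠ 1 →
      star χ k - χ k = (m : ℂ) * χ 1 /
        ((K.subgroupOf (Subgroup.normalizer (K : Set G))).index : ℂ) := by
  classical
  obtain ⟨hval, -⟩ := coherent_values K S star hTI hC hS hstar hext
  obtain ⟨hconst, -⟩ := coherent_eq_pm_iff K S star hTI hC hlt hS htwo hstar hext
  haveI : (K.subgroupOf (Subgroup.normalizer (K : Set G))).Normal := Subgroup.normal_in_normalizer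
  haveI := Fintype.ofFinite (K.subgroupOf (Subgroup.normalizer (K : Set G)))
  choose z hz using hconst
  let f : IrrCharacter (Subgroup.normalizer (K : Set G)) → ℤ := fun η => if h : (η : (Subgroup.normalizer (K : Set G)) → ℂ) ∈ S then z _ h else 0
  have hmemS : ∀ η : IrrCharacter (Subgroup.normalizer (K : Set G)), IsRelevant (K.subgroupOf (Subgroup.normalizer (K : Set G))) (η : (Subgroup.normalizer (K : Set G)) → ℂ) → (η : (Subgroup.normalizer (K : Set G)) → ℂ) ∈ S :=
    fun η ⟨k, hk, h⟩ => by rw [hS]; exact ⟨η.2, k, hk, h⟩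
  obtain ⟨r, hr⟩ := frob_exists_int_factor (K.subgroupOf (Subgroup.normalizer (K : Set G))) (frobTI_centralizer K hC) f
    (fun η η' hη hη' => by
      obtain ⟨k, hk, hkne⟩ := hη
      have hk1 : k ≠ 1 := fun h => hkne (by rw [h])
      have h1 := hmemS η ⟨k, hk, hkne⟩
      have h2 := hmemS η' hη'
      simp only [f, dif_pos h1, dif_pos h2]
      rw [← hz _ h1 k hk hk1, ← hz _ h2 k hk hk1]
      exact hval _ h1 _ h2 k hk hk1)
  refine ⟨r, fun χ hχ k hk hk1 => ?_⟩
  have hχ' := hχ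
  rw [hS] at hχ'
  obtain ⟨l, hl, hl'⟩ := hχ'.2
  have h := hr ⟨χ, hχ'.1⟩ ⟨l, hl, hl'⟩
  simp only [f, dif_pos hχ] at h
  rw [hz χ hχ k hk hk1, eq_div_iff (Nat.cast_ne_zero.mpr Subgroup.index_ne_zero_of_finite)]
  exact h

end Star

end Cfsg.Agent.Lib.Characters
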