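import Cfsg.Agent.Lib.Characters.ChiefFactor
import Cfsg.Agent.Lib.Characters.Gallagher
import Cfsg.Agent.Lib.Characters.ExtensionCoprime

/-!
# Characters nontrivial on a Frobenius kernel
-/

namespace Cfsg.Agent.Lib.Characters

open scoped ComplexConjugate

set_option linter.unusedSectionVars false
set_option linter.style.haveILetI false

universe u

/-- `χ` takes on `K` a value different from its degree. -/
def IsRelevant {L : Type u} [Group L] (K : Subgroup L) (χ : L → ℂ) : Prop :=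
  ∃ k ∈ K, χ k ≠ χ 1

variable {L : Type u} [Group L] [Fintype L] (K : Subgroup L) [hKn : K.Normal] [Fintype K]

theorem frob_coset_conj (hC : ∀ k ∈ K, k ≠ 1 → ∀ x : L, x * k = k * x → x ∈ K) {g : L}
    (hg : g ∉ K) (m : K) : ∃ k : K, (m : L) * g = (k : L) * g * (k : L)⁻¹ := by
  let T : K → K := fun k => ⟨(k : L) * (g * (k : L)⁻¹ * g⁻¹),
    K.mul_mem k.2 (hKn.conj_mem _ (K.inv_mem k.2) g)⟩
  have hT : Function.Injective T := by
    intro a b hab
    have h : (a : L) * (g * (a : L)⁻¹ * g⁻¹) = (b : L) * (g * (b : L)⁻¹ * g⁻¹) :=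
      congrArg Subtype.val hab
    by_contra hne
    apply hg
    refine hC _ (K.mul_mem (K.inv_mem b.2) a.2)
      (fun h1 => hne (Subtype.ext (inv_mul_eq_one.mp h1).symm)) g ?_
    calc g * ((b : L)⁻¹ * a) = (b : L)⁻¹ * ((b : L) * (g * (b : L)⁻¹ * g⁻¹)) * g * a := by group
      _ = (b : L)⁻¹ * ((a : L) * (g * (a : L)⁻¹ * g⁻¹)) * g * a := by rw [h]
      _ = (b : L)⁻¹ * a * g := by group
  obtain ⟨k, hk⟩ := (Finite.injective_iff_surjective.mp hT) m
  refine ⟨k, ?_⟩
  rw [← hk]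
  show (k : L) * (g * (k : L)⁻¹ * g⁻¹) * g = _
  group

theorem frob_avg_of_relevant {χ : L → ℂ} (hχ : IsIrrCharacter L χ) (hrel : IsRelevant K χ) :
    avgN K χ = 0 := by
  rcases IsIrrCharacter.avgN_eq K hχ with h | h
  · exact h
  · obtain ⟨k, hk, hne⟩ := hrel
    have h2 := avgN_apply_coe K χ ⟨k, hk⟩
    rw [h] at h2
    exact absurd h2 hne

theorem frob_avg_of_not_relevant {χ : L → ℂ} (hχ : IsIrrCharacter L χ)
    (hrel : ¬ IsRelevant K χ) : avgN K χ = χ := by
  refine avgN_of_const K fun m g => ?_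
  have hm : χ m = χ 1 := by
    by_contra h
    exact hrel ⟨m, m.2, h⟩
  have hc := IsIrrCharacter.isCharacter hχ
  have h1 := IsCharacter.apply_mul_of_mem_kernel hc hm g
  have h2 : χ ((m : L) * g) = χ (g * m) := by
    rw [← IsCharacter.conj_apply hc (g * m) (m : L)]
    congr 1
    group
  rw [h2, h1]

theorem frob_vanish (hC : ∀ k ∈ K, k ≠ 1 → ∀ x : L, x * k = k * x → x ∈ K) {χ : L → ℂ}
    (hχ : IsIrrCharacter L χ) (hrel : IsRelevant K χ) {g : L} (hg : g ∉ K) : χ g = 0 := by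
  have h := congrFun (frob_avg_of_relevant K hχ hrel) g
  simp only [avgN, Pi.zero_apply] at h
  rw [Finset.sum_congr rfl (g := fun _ => χ g) fun m _ => ?_, Finset.sum_const, Finset.card_univ,
    nsmul_eq_mul, ← Nat.card_eq_fintype_card, inv_mul_cancel_left₀ natCard_ne_zero_complex] at h
  · exact h
  · obtain ⟨k, hk⟩ := frob_coset_conj K hC hg m
    rw [hk]
    exact IsCharacter.conj_apply (IsIrrCharacter.isCharacter hχ) g k

/-- The inertia group of a non-principal irreducible character of the kernel is the kernel. -/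
theorem frob_inertia (hC : ∀ k ∈ K, k ≠ 1 → ∀ x : L, x * k = k * x → x ∈ K) (θ : IrrCharacter K)
    (hθne : (θ : K → ℂ) ≠ fun _ => 1) : inertia K (θ : K → ℂ) = K := by
  classical
  refine le_antisymm (fun g hg => ?_) (le_inertia K (irr_isClassFunction θ))
  by_contra hgK
  let T : Subgroup L := K ⊔ Subgroup.zpowers g
  haveI := Fintype.ofFinite T
  have hTI : T ≤ inertia K (θ : K → ℂ) :=
    sup_le (le_inertia K (irr_isClassFunction θ)) (Subgroup.zpowers_le.mpr hg)
  let K' : Subgroup T := K.subgroupOf T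
  haveI := Fintype.ofFinite K'
  let e : K' ≃* K := Subgroup.subgroupOfEquivOfLe le_sup_left
  haveI : IsCyclic (T ⧸ K') := by
    let gT : T := ⟨g, Subgroup.mem_sup_right (Subgroup.mem_zpowers g)⟩
    refine ⟨⟨QuotientGroup.mk gT, fun q => ?_⟩⟩
    obtain ⟨⟨x, hx⟩, rfl⟩ := QuotientGroup.mk_surjective q
    obtain ⟨k, hk, y, hy, hky⟩ := Subgroup.mem_sup_of_normal_left.mp hx
    obtain ⟨j, rfl⟩ := Subgroup.mem_zpowers_iff.mp hy
    refine ⟨j, ?_⟩
    show (QuotientGroup.mk gT : T ⧸ K') ^ j = _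
    rw [← QuotientGroup.mk_zpow, QuotientGroup.eq, Subgroup.mem_subgroupOf]
    show ((gT ^ j : T) : L)⁻¹ * x ∈ K
    rw [Subgroup.coe_zpow, ← hky]
    simpa [mul_assoc] using hKn.conj_mem k hk (g ^ j)⁻¹
  have hinvT : ∀ (t : T) (n : K'), ((θ : K → ℂ) ∘ e)
      ⟨t * n * t⁻¹, (inferInstance : K'.Normal).conj_mem (n : T) n.2 t⟩ =
      ((θ : K → ℂ) ∘ e) n := fun t n =>
    congrFun ((mem_inertia_iff K).mp (hTI t.2)) (e n)
  obtain ⟨η, hη, hηK⟩ := exists_irr_extension_of_cyclic (N := K') inferInstance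
    (IsIrrCharacter.comp_equiv θ.2 e) hinvT
  have hC' : ∀ k ∈ K', k ≠ 1 → ∀ x : T, x * k = k * x → x ∈ K' := fun k hk h1 x hx =>
    Subgroup.mem_subgroupOf.mpr (hC _ (Subgroup.mem_subgroupOf.mp hk)
      (fun h => h1 (Subtype.ext h)) _ (congrArg Subtype.val hx))
  have hrel' : IsRelevant K' η := by
    by_contra hn
    obtain ⟨k, hk⟩ := IsIrrCharacter.exists_ne_apply_one θ.2 hθne
    refine hn ⟨(e.symm k : K'), (e.symm k).2, fun h => hk ?_⟩
    have h1 := hηK (e.symm k)
    have h2 := hηK 1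
    rw [OneMemClass.coe_one] at h2
    simp only [Function.comp_apply, MulEquiv.apply_symm_apply, map_one] at h1 h2
    rw [← h1, ← h2, h]
  have hsq := sq_eq_index_of_vanish K' hη (IsIrrCharacter.comp_equiv θ.2 e) (e := 1)
    (by rw [Nat.cast_one, one_smul]; exact funext hηK)
    (fun t ht => frob_vanish K' hC' hη hrel' ht)
  have h3 : K' = ⊤ := Subgroup.index_eq_one.mp (by simpa using hsq.symm)
  exact hgK (Subgroup.mem_subgroupOf.mp (h3 ▸ Subgroup.mem_top
    (⟨g, Subgroup.mem_sup_right (Subgroup.mem_zpowers g)⟩ : T)))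

/-- The degree of a relevant character is the index times a divisor of `|K|`. -/
theorem frob_exists_degree (hC : ∀ k ∈ K, k ≠ 1 → ∀ x : L, x * k = k * x → x ∈ K) {χ : L → ℂ}
    (hχ : IsIrrCharacter L χ) (hrel : IsRelevant K χ) :
    ∃ t : ℕ, 0 < t ∧ χ 1 = ((K.index * t : ℕ) : ℂ) ∧ t ∣ Nat.card K ∧
      ((∀ a b : K, a * b = b * a) → t = 1) := by
  classical
  have hres := IsCharacter.restrict (IsIrrCharacter.isCharacter hχ) K
  obtain ⟨θ, hθ⟩ := IsCharacter.exists_constituent hres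
    (fun h => IsIrrCharacter.apply_one_ne_zero hχ (congrFun h 1))
  -- the constituent is not principal
  have hθne : (θ : K → ℂ) ≠ fun _ => 1 := by
    intro h1
    apply hθ
    rw [h1, ← avgN_one, frob_avg_of_relevant K hχ hrel, Pi.zero_apply]
  have hI : inertia K (θ : K → ℂ) = K := frob_inertia K hC θ hθne
  have hsum := restrict_eq_of_inertia_eq K hχ θ.2 hθ hI
  obtain ⟨t, ht0, ht, htd⟩ := IsIrrCharacter.exists_degree_dvd θ.2
  refine ⟨t, ht0, ?_, htd, fun hab => ?_⟩
  · have h1 := congrFun hsum 1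
    simp only [OneMemClass.coe_one, Finset.sum_apply] at h1
    rw [h1, Finset.sum_congr rfl (g := fun _ => (t : ℂ)) fun ψ hψ => ?_, Finset.sum_const,
      ← Nat.card_eq_card_finite_toFinset, card_conjugates, hI, nsmul_eq_mul, Nat.cast_mul]
    obtain ⟨g, rfl⟩ := (Set.Finite.mem_toFinset _).mp hψ
    exact (conjFun_apply_one K g _).trans ht
  · have h1 : (θ : K → ℂ) 1 = 1 := IsIrrCharacter.apply_one_of_comm hab θ.2
    exact_mod_cast ht.symm.trans h1

open scoped Classical in
/-- The part of the regular character carried by the relevant characters. -/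
theorem frob_sum_relevant [Fintype (IrrCharacter L)] (g : L) :
    ∑ χ ∈ Finset.univ.filter (fun χ : IrrCharacter L => IsRelevant K (χ : L → ℂ)),
      (χ : L → ℂ) 1 * (χ : L → ℂ) g =
      (if g = 1 then (Nat.card L : ℂ) else 0) - (if g ∈ K then (K.index : ℂ) else 0) := by
  rw [← sum_degree_mul (G := L) g]
  rw [eq_sub_iff_add_eq, ← Finset.sum_filter_add_sum_filter_not Finset.univ
    (fun χ : IrrCharacter L => IsRelevant K (χ : L → ℂ))]
  congr 1
  have h : ∀ χ ∈ (Finset.univ : Finset (IrrCharacter L)),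
      (if IsRelevant K (χ : L → ℂ) then 0 else (χ : L → ℂ) 1 * (χ : L → ℂ) g) =
        (χ : L → ℂ) 1 * avgN K (χ : L → ℂ) g := by
    intro χ _
    split_ifs with hr
    · rw [frob_avg_of_relevant K χ.2 hr, Pi.zero_apply, mul_zero]
    · rw [frob_avg_of_not_relevant K χ.2 hr]
  rw [Finset.sum_filter]
  simp only [ite_not]
  rw [Finset.sum_congr rfl h]
  simp only [avgN, Finset.mul_sum]
  rw [Finset.sum_comm]
  simp only [mul_left_comm _ ((Nat.card K : ℂ)⁻¹), ← Finset.mul_sum, sum_degree_mul]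
  have hK : (Nat.card K : ℂ) ≠ 0 := natCard_ne_zero_complex
  split_ifs with hgK
  · rw [Finset.sum_eq_single (⟨g⁻¹, K.inv_mem hgK⟩ : K)]
    · rw [if_pos (inv_mul_cancel g), ← K.card_mul_index, Nat.cast_mul, inv_mul_cancel_left₀ hK]
    · intro m _ hm
      rw [if_neg]
      exact fun h1 => hm (Subtype.ext (eq_inv_of_mul_eq_one_left h1))
    · exact fun h => absurd (Finset.mem_univ _) h
  · rw [Finset.sum_eq_zero, mul_zero]
    intro m _
    rw [if_neg]
    intro h1
    apply hgK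
    rw [(inv_eq_of_mul_eq_one_right h1).symm]
    exact K.inv_mem m.2

end Cfsg.Agent.Lib.Characters
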