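import Cfsg.Agent.Lib.Characters.ExtensionCoprime
import Cfsg.Agent.Lib.Characters.Berger
import Cfsg.Agent.Lib.Solvable.Products
import Cfsg.Agent.Lib.PGroups.Subnormal

/-!
# Fully ramified characters and Sylow complements in quotients
-/

namespace Cfsg.Agent.Lib.Characters

open scoped ComplexConjugate Pointwise

set_option linter.unusedSectionVars false
set_option linter.style.haveILetI false

universe u v

theorem restrict_constituent_eq_smul {A : Type u} {B : Type v} [Group A] [Group B] [Fintype A]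
    [Fintype B] (i : B →* A) {F ψ : A → ℂ} (hF : IsCharacter A F) (hψ : IsIrrCharacter A ψ)
    (hc : classInner F ψ ≠ 0) {θ : B → ℂ} (hθ : IsIrrCharacter B θ) {e : ℕ}
    (hres : F ∘ i = (e : ℂ) • θ) :
    ∃ f : ℕ, ψ ∘ i = (f : ℂ) • θ := by
  classical
  haveI := Fintype.ofFinite (IrrCharacter B)
  obtain ⟨R, hR, heq⟩ := IsCharacter.exists_add_of_classInner_ne_zero hF hψ hc
  have hψi : IsCharacter B (ψ ∘ i) := IsCharacter.comp (IsIrrCharacter.isCharacter hψ) i
  obtain ⟨f, hf⟩ := IsCharacter.exists_classInner_nat hψi (IsIrrCharacter.isCharacter hθ)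
  refine ⟨f, ?_⟩
  conv_lhs => rw [eq_sum_classInner (IsCharacter.isClassFunction hψi)]
  rw [Finset.sum_eq_single (⟨θ, hθ⟩ : IrrCharacter B) ?_ (by simp)]
  · exact congrArg (fun c : ℂ => c • θ) hf
  · intro μ _ hμ
    obtain ⟨a, ha⟩ := IsCharacter.exists_classInner_nat hψi (irr_isCharacter μ)
    obtain ⟨b, hb⟩ := IsCharacter.exists_classInner_nat (IsCharacter.comp hR i) (irr_isCharacter μ)
    have h0 : classInner (ψ ∘ i + R ∘ i) (μ : B → ℂ) = 0 := by
      rw [show ψ ∘ i + R ∘ i = (e : ℂ) • θ by rw [← hres, heq]; rfl, classInner_smul_left,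
        IsIrrCharacter.classInner_ne hθ μ.2 fun h => hμ (Subtype.ext h.symm), mul_zero]
    rw [classInner_add_left, ha, hb, ← Nat.cast_add, Nat.cast_eq_zero] at h0
    rw [ha, show a = 0 by omega, Nat.cast_zero, zero_smul]

section Local

variable {P : Type u} [Group P] [Fintype P] (Z : Subgroup P) [Z.Normal] [Fintype Z]

/-- A unique character lies over a fully ramified invariant character at a prime. -/
theorem exists_unique_over {θ : Z → ℂ} (hθ : IsIrrCharacter Z θ)
    (hinv : ∀ x : P, conjFun Z x θ = θ) {F : P → ℂ} (hF : IsCharacter P F) {ep e' : ℕ}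
    (hep : ep ≠ 0) (hcop : Nat.Coprime ep e') (hidx : Z.index = ep ^ 2)
    (hres : (fun z : Z => F z) = ((ep * e' : ℕ) : ℂ) • θ) (hoff : ∀ x : P, x ∉ Z → F x = 0) :
    ∃ η : P → ℂ, IsIrrCharacter P η ∧ η 1 = (ep : ℂ) * θ 1 ∧
      ∀ τ : P → ℂ, IsIrrCharacter P τ → classInner (fun z : Z => τ z) θ ≠ 0 → τ = η := by
  classical
  haveI := Fintype.ofFinite (IrrCharacter P)
  have hθcl := IsCharacter.isClassFunction (IsIrrCharacter.isCharacter hθ)
  set I := indFun Z θ with hI
  have hIc : IsCharacter P I := IsCharacter.indFun Z (IsIrrCharacter.isCharacter hθ)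
  have hIres : (fun z : Z => I z) = ((ep ^ 2 : ℕ) : ℂ) • θ := by
    rw [hI, indFun_restrict, Finset.sum_congr rfl fun x _ => hinv x, Finset.sum_const,
      Finset.card_univ, ← Nat.card_eq_fintype_card, ← Nat.cast_smul_eq_nsmul ℂ, smul_smul]
    congr 1
    rw [← Z.card_mul_index, hidx, Nat.cast_mul, ← mul_assoc,
      inv_mul_cancel₀ natCard_ne_zero_complex, one_mul]
  have hkey : (e' : ℂ) • I = (ep : ℂ) • F := by
    funext x
    by_cases hx : x ∈ Z
    · have h1 := congrFun hIres ⟨x, hx⟩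
      have h2 := congrFun hres ⟨x, hx⟩
      simp only [Pi.smul_apply, smul_eq_mul] at h1 h2 ⊢
      rw [h1, h2]
      push_cast
      ring
    · simp only [Pi.smul_apply, smul_eq_mul]
      rw [hI, indFun_vanish Z θ hx, hoff x hx, mul_zero, mul_zero]
  obtain ⟨m, hm, hm'⟩ := IsCharacter.exists_nat_decomp hIc
  have hdiv : ∀ τ : IrrCharacter P, ep ∣ m τ := fun τ => by
    obtain ⟨n, hn⟩ := IsCharacter.exists_classInner_nat hF (irr_isCharacter τ)
    have h := congrArg (fun f => classInner f (τ : P → ℂ)) hkey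
    simp only [classInner_smul_left, hn, hm' τ] at h
    have h' : e' * m τ = ep * n := by exact_mod_cast h
    exact hcop.dvd_of_dvd_mul_left ⟨n, h'⟩
  have hnorm : ∑ τ : IrrCharacter P, m τ * m τ = ep ^ 2 := by
    have h1 := classInner_indFun_self Z hθ
    rw [show inertia Z θ = ⊤ from eq_top_iff.mpr fun g _ => hinv g, Subgroup.card_top,
      ← Z.card_mul_index, Nat.cast_mul] at h1
    have h2 := mul_left_cancel₀ natCard_ne_zero_complex h1
    rw [classInner_eq_sum_irr (IsCharacter.isClassFunction hIc)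
      (IsCharacter.isClassFunction hIc)] at h2
    simp only [hm', map_natCast, hidx] at h2
    exact_mod_cast h2
  obtain ⟨η, hη⟩ := IsCharacter.exists_constituent hIc (fun h => by
    have h1 := congrFun h 1
    rw [hI, indFun_one, Pi.zero_apply, mul_eq_zero] at h1
    rcases h1 with h1 | h1
    · exact Subgroup.index_ne_zero_of_finite (by exact_mod_cast h1)
    · exact IsIrrCharacter.apply_one_ne_zero hθ h1)
  have hge : ∀ τ : IrrCharacter P, m τ ≠ 0 → ep ≤ m τ := fun τ h =>
    Nat.le_of_dvd (Nat.pos_of_ne_zero h) (hdiv τ)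
  have hmη : m η ≠ 0 := fun h => hη (by rw [hm' η, h, Nat.cast_zero])
  have honly : ∀ τ : IrrCharacter P, τ ≠ η → m τ = 0 := by
    intro τ hne
    by_contra h
    have h1 := Finset.sum_le_sum_of_subset (f := fun ψ : IrrCharacter P => m ψ * m ψ)
      (Finset.subset_univ ({τ, η} : Finset (IrrCharacter P)))
    rw [Finset.sum_pair hne, hnorm] at h1
    have h2 := Nat.mul_le_mul (hge τ h) (hge τ h)
    have h3 := Nat.mul_le_mul (hge η hmη) (hge η hmη)
    have h4 : 0 < ep * ep := Nat.mul_pos (Nat.pos_of_ne_zero hep) (Nat.pos_of_ne_zero hep)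
    simp only [pow_two] at h1
    omega
  have hmη' : m η = ep := by
    rw [Finset.sum_eq_single η (fun τ _ h => by simp [honly τ h]) (by simp), pow_two] at hnorm
    exact Nat.mul_self_inj.mp hnorm
  refine ⟨η, η.2, ?_, fun τ hτ hτθ => ?_⟩
  · have h1 := congrFun hm 1
    rw [Finset.sum_apply, Finset.sum_eq_single η (fun τ _ h => by simp [honly τ h]) (by simp),
      hmη', hI, indFun_one, hidx, Pi.smul_apply, smul_eq_mul, pow_two, Nat.cast_mul,
      mul_assoc] at h1
    exact (mul_left_cancel₀ (Nat.cast_ne_zero.mpr hep) h1).symm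
  · by_contra h
    have h1 : classInner I τ = 0 := by
      rw [hm' ⟨τ, hτ⟩, honly ⟨τ, hτ⟩ fun hh => h (congrArg Subtype.val hh), Nat.cast_zero]
    rw [hI, classInner_indFun Z θ (IsCharacter.isClassFunction (IsIrrCharacter.isCharacter hτ)),
      ← classInner_conj_symm] at h1
    exact hτθ ((map_eq_zero_iff _ (RingHom.injective _)).mp h1)

variable {θ : Z → ℂ} {η : P → ℂ}

/-- Induction from an intermediate subgroup gives a multiple of the unique character over `θ`. -/
theorem exists_indFun_eq_smul (hθ : IsIrrCharacter Z θ) (hη : IsIrrCharacter P η)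
    (huniq : ∀ τ : P → ℂ, IsIrrCharacter P τ → classInner (fun z : Z => τ z) θ ≠ 0 → τ = η)
    {ep : ℕ} (hη1 : η 1 = (ep : ℂ) * θ 1) (T : Subgroup P) [Fintype T] (hZT : Z ≤ T) {ψ : T → ℂ}
    (hψ : IsIrrCharacter T ψ) {f : ℕ}
    (hf : ψ ∘ Subgroup.inclusion hZT = (f : ℂ) • θ) :
    ∃ m : ℕ, indFun T ψ = (m : ℂ) • η ∧ T.index * f = m * ep ∧ m ≠ 0 := by
  classical
  haveI := Fintype.ofFinite (IrrCharacter P)
  have hψc := IsIrrCharacter.isCharacter hψ
  have hind := IsCharacter.indFun T hψc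
  have hf0 : f ≠ 0 := fun h => IsIrrCharacter.apply_one_ne_zero hψ (by
    have := congrFun hf 1
    simpa [h] using this)
  obtain ⟨m, hm, hm'⟩ := IsCharacter.exists_nat_decomp hind
  have honly : ∀ τ : IrrCharacter P, (τ : P → ℂ) ≠ η → m τ = 0 := by
    intro τ hne
    by_contra h
    apply hne
    apply huniq _ τ.2
    have h1 : classInner (fun t : T => (τ : P → ℂ) t) ψ ≠ 0 := by
      intro h0
      have := hm' τ
      rw [classInner_indFun T ψ (irr_isClassFunction τ), ← classInner_conj_symm, h0,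
        map_zero] at this
      exact h (by exact_mod_cast this.symm)
    obtain ⟨R, hR, heq⟩ := IsCharacter.exists_add_of_classInner_ne_zero
      (IsCharacter.restrict (irr_isCharacter τ) T) hψ h1
    rw [show (fun z : Z => (τ : P → ℂ) z) =
        ψ ∘ Subgroup.inclusion hZT + R ∘ Subgroup.inclusion hZT from
      funext fun z => congrFun heq (Subgroup.inclusion hZT z)]
    refine IsCharacter.classInner_ne_zero_of_add (IsCharacter.comp hψc _) (IsCharacter.comp hR _)
      (IsIrrCharacter.isCharacter hθ) ?_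
    rw [hf, classInner_smul_left, IsIrrCharacter.classInner_self hθ, mul_one]
    exact_mod_cast hf0
  rw [Finset.sum_eq_single (⟨η, hη⟩ : IrrCharacter P)
    (fun τ _ h => by simp [honly τ fun hh => h (Subtype.ext hh)]) (by simp)] at hm
  refine ⟨m ⟨η, hη⟩, hm, ?_, ?_⟩
  · have h1 := congrFun hm 1
    have h2 := congrFun hf 1
    simp only [Function.comp_apply, map_one, Pi.smul_apply, smul_eq_mul] at h1 h2
    rw [indFun_one, h2, hη1, ← mul_assoc, ← mul_assoc] at h1
    have h3 := mul_right_cancel₀ (IsIrrCharacter.apply_one_ne_zero hθ) h1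
    exact_mod_cast h3
  · intro h
    have h1 := congrFun hm 1
    rw [indFun_one, h, Nat.cast_zero, zero_smul, Pi.zero_apply, mul_eq_zero] at h1
    rcases h1 with h1 | h1
    · exact Subgroup.index_ne_zero_of_finite (by exact_mod_cast h1)
    · exact IsIrrCharacter.apply_one_ne_zero hψ h1

end Local

/-- A transitive, semiregular `p`-action on conjugates gives a complement in a quotient. -/
theorem exists_index_eq_of_regular {H : Type u} [Group H] [Finite H] {p : ℕ} [Fact p.Prime]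
    (K P Q : Subgroup H) [K.Normal] (P₀ : Sylow p H) (hP₀ : (P₀ : Subgroup H) ≤ P)
    (hPK : P ⊔ K = (P₀ : Subgroup H) ⊔ K) (hQP : Q ≤ P) (hQK : Q ≤ K)
    (hPN : P ≤ Subgroup.normalizer (Q : Set H))
    (hN : Subgroup.normalizer (Q : Set H) ⊔ K = ⊤) (f : H → ℂ)
    (hfQ : ∀ q ∈ Q, ∀ x ∈ Q, f (x * q * x⁻¹) = f q)
    (hconj : ∀ n ∈ Subgroup.normalizer (Q : Set H), ∃ x ∈ P,
      ∀ q ∈ Q, f (n * q * n⁻¹) = f (x * q * x⁻¹))
    (hstab : ∀ x ∈ P, (∀ q ∈ Q, f (x * q * x⁻¹) = f q) → x ∈ Q) :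
    ∃ M : Subgroup (H ⧸ K), M.index = p ^ (Nat.card (H ⧸ K)).factorization p := by
  classical
  set N := Subgroup.normalizer (Q : Set H) with hNdef
  have hconjQ : ∀ n ∈ N, ∀ q ∈ Q, n * q * n⁻¹ ∈ Q := fun n hn q hq =>
    (Subgroup.mem_normalizer_iff.mp hn q).mp hq
  let S : Subgroup H :=
    { carrier := {g | g ∈ N ∧ ∀ q ∈ Q, f (g * q * g⁻¹) = f q}
      one_mem' := ⟨N.one_mem, by simp⟩
      mul_mem' := fun {a b} ha hb => ⟨N.mul_mem ha.1 hb.1, fun q hq => by
        rw [show a * b * q * (a * b)⁻¹ = a * (b * q * b⁻¹) * a⁻¹ by group,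
          ha.2 _ (hconjQ b hb.1 q hq), hb.2 q hq]⟩
      inv_mem' := fun {a} ha => ⟨N.inv_mem ha.1, fun q hq => by
        have h1 := ha.2 _ (hconjQ a⁻¹ (N.inv_mem ha.1) q hq)
        rw [show a * (a⁻¹ * q * a⁻¹⁻¹) * a⁻¹ = q by group] at h1
        exact h1.symm⟩ }
  have hmemS : ∀ g, g ∈ S ↔ g ∈ N ∧ ∀ q ∈ Q, f (g * q * g⁻¹) = f q := fun _ => Iff.rfl
  have hSP : S ⊓ P = Q := le_antisymm (fun x hx => hstab x hx.2 ((hmemS x).mp hx.1).2)
    (fun x hx => ⟨(hmemS x).mpr ⟨hPN (hQP hx), fun q hq => hfQ q hq x hx⟩, hQP hx⟩)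
  have hfac : ∀ n ∈ N, ∃ s ∈ S, ∃ x ∈ P, n = s * x := by
    intro n hn
    obtain ⟨x, hx, hfx⟩ := hconj n hn
    refine ⟨n * x⁻¹, (hmemS _).mpr ⟨N.mul_mem hn (N.inv_mem (hPN hx)), fun q hq => ?_⟩, x, hx,
      by group⟩
    have h1 := hfx _ (hconjQ x⁻¹ (N.inv_mem (hPN hx)) q hq)
    rw [show n * x⁻¹ * q * (n * x⁻¹)⁻¹ = n * (x⁻¹ * q * x⁻¹⁻¹) * n⁻¹ by group, h1,
      show x * (x⁻¹ * q * x⁻¹⁻¹) * x⁻¹ = q by group]
  have hSN : S ≤ N := fun s hs => ((hmemS s).mp hs).1
  have hset : (S : Set H) * (P : Set H) = (N : Set H) := by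
    apply Set.Subset.antisymm
    · rintro _ ⟨s, hs, x, hx, rfl⟩
      exact N.mul_mem (hSN hs) (hPN hx)
    · intro n hn
      obtain ⟨s, hs, x, hx, rfl⟩ := hfac n hn
      exact Set.mul_mem_mul hs hx
  have hcard : Nat.card N * Nat.card Q = Nat.card S * Nat.card P := by
    have := Cfsg.Agent.Lib.Solvable.Products.card_mul_set_mul_card_inf S P
    rwa [hset, hSP] at this
  have hQS : Q ≤ S := hSP ▸ inf_le_left
  have hab : Q.relIndex S = P.relIndex N := by
    have h1 := Subgroup.card_mul_index (Q.subgroupOf S)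
    have h2 := Subgroup.card_mul_index (P.subgroupOf N)
    rw [Nat.card_congr (Subgroup.subgroupOfEquivOfLe hQS).toEquiv] at h1
    rw [Nat.card_congr (Subgroup.subgroupOfEquivOfLe hPN).toEquiv] at h2
    rw [← h1, ← h2] at hcard
    have hP0 : 0 < Nat.card P * Nat.card Q := Nat.mul_pos Nat.card_pos Nat.card_pos
    refine Nat.eq_of_mul_eq_mul_left hP0 ?_
    change Nat.card P * Nat.card Q * (Q.subgroupOf S).index =
      Nat.card P * Nat.card Q * (P.subgroupOf N).index
    linarith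
  have hp' : ¬ p ∣ Q.relIndex S := by
    rw [hab]
    intro h
    apply P₀.not_dvd_index
    rw [← Subgroup.relIndex_mul_index (hP₀.trans hPN), ← Subgroup.relIndex_mul_relIndex _ _ _ hP₀ hPN]
    exact (h.mul_left _).mul_right _
  set π := QuotientGroup.mk' K with hπ
  set M := S.map π with hM
  have hMp : ¬ p ∣ Nat.card M := by
    rw [hM, ← Subgroup.relIndex_ker, hπ, QuotientGroup.ker_mk']
    exact fun h => hp' (h.trans (Subgroup.relIndex_dvd_of_le_left S hQK))
  set Pb := P.map π with hPb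
  have hPbeq : Pb = (P₀ : Subgroup H).map π := by
    have h := congrArg (Subgroup.map π) hPK
    rwa [Subgroup.map_sup, Subgroup.map_sup, hπ, QuotientGroup.map_mk'_self, sup_bot_eq,
      sup_bot_eq] at h
  obtain ⟨k, hk⟩ : ∃ k, Nat.card Pb = p ^ k := by
    rw [hPbeq]
    exact (P₀.isPGroup'.map π).exists_card_eq
  have hcop : Nat.Coprime (Nat.card M) (p ^ k) :=
    Nat.Coprime.pow_right _ ((Fact.out : p.Prime).coprime_iff_not_dvd.mpr hMp).symm
  have hinf : M ⊓ Pb = ⊥ := by
    rw [← Subgroup.card_eq_one]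
    exact Nat.eq_one_of_dvd_coprimes hcop (Subgroup.card_dvd_of_le inf_le_left)
      (hk ▸ Subgroup.card_dvd_of_le inf_le_right)
  have huniv : (M : Set (H ⧸ K)) * (Pb : Set (H ⧸ K)) = Set.univ := by
    refine Set.eq_univ_of_forall fun y => ?_
    obtain ⟨h, rfl⟩ := QuotientGroup.mk_surjective y
    have hh : h ∈ ((N ⊔ K : Subgroup H) : Set H) := by rw [hN]; trivial
    rw [Subgroup.mul_normal] at hh
    obtain ⟨n, hn, c, hc, rfl⟩ := hh
    obtain ⟨s, hs, x, hx, rfl⟩ := hfac n hn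
    refine ⟨π s, Subgroup.mem_map_of_mem π hs, π x, Subgroup.mem_map_of_mem π hx, ?_⟩
    have h1 : π c = 1 := (QuotientGroup.eq_one_iff c).mpr hc
    show π s * π x = π (s * x * c)
    rw [map_mul π (s * x) c, h1, mul_one, map_mul]
  have hprod : Nat.card (H ⧸ K) = Nat.card M * p ^ k := by
    have := Cfsg.Agent.Lib.Solvable.Products.card_mul_set_mul_card_inf M Pb
    rwa [huniv, hinf, Subgroup.card_bot, mul_one, Nat.card_univ, hk] at this
  refine ⟨M, ?_⟩
  have hidx : M.index = p ^ k :=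
    Nat.eq_of_mul_eq_mul_left Nat.card_pos ((Subgroup.card_mul_index M).trans hprod)
  rw [hidx, hprod, Nat.factorization_mul Nat.card_pos.ne' (pow_ne_zero _ (Fact.out : p.Prime).ne_zero),
    Finsupp.add_apply, Nat.factorization_eq_zero_of_not_dvd hMp, zero_add,
    (Fact.out : p.Prime).factorization_pow, Finsupp.single_eq_same]

end Cfsg.Agent.Lib.Characters
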