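import Cfsg.Agent.Lib.Characters.FullyRamified

/-!
# Sylow complements in quotients of groups with fully ramified characters
-/

namespace Cfsg.Agent.Lib.Characters

open scoped ComplexConjugate Pointwise

set_option linter.unusedSectionVars false
set_option linter.style.haveILetI false

universe u

theorem normalizer_map_le_normalizer_inf {H : Type u} [Group H] (Z K R : Subgroup H) [Z.Normal]
    [K.Normal] (hZK : Z ≤ K) :
    Subgroup.normalizer ((R ⊓ K : Subgroup H) : Set H) ≤
      Subgroup.normalizer (((Z ⊔ R) ⊓ K : Subgroup H) : Set H) := by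
  have h : (Z ⊔ R) ⊓ K = Z ⊔ (R ⊓ K) := by
    refine le_antisymm ?_ (sup_le (le_inf le_sup_left hZK) (inf_le_inf_right _ le_sup_right))
    intro x hx
    have hx1 : x ∈ ((Z ⊔ R : Subgroup H) : Set H) := hx.1
    rw [Subgroup.normal_mul] at hx1
    obtain ⟨z, hz, r, hr, rfl⟩ := hx1
    have hrK : r ∈ K := by
      have := K.mul_mem (K.inv_mem (hZK hz)) hx.2
      simpa using this
    exact Subgroup.mul_mem_sup hz ⟨hr, hrK⟩
  rw [h, sup_comm]
  exact Subgroup.normalizer_le_normalizer_sup_normal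

/-- If `χ` is fully ramified over `Z`, then `H/K` has a complement of its Sylow `p`-subgroups as
soon as these are cyclic or `χ` is induced from `K`. -/
theorem exists_index_of_fullyRamified {H : Type u} [Group H] [Fintype H] (Z : Subgroup H)
    [Z.Normal] [Fintype Z] {χ : H → ℂ} (hχ : IsIrrCharacter H χ) {θ : Z → ℂ}
    (hθ : IsIrrCharacter Z θ) {e : ℕ} (he2 : e ^ 2 = Z.index)
    (hres : ∀ z : Z, χ z = (e : ℂ) * θ z) (K : Subgroup H) [K.Normal] [Fintype K] (hZK : Z ≤ K)
    (p : ℕ) [Fact p.Prime]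
    (hcase : (∀ R : Sylow p (H ⧸ K), IsCyclic R) ∨
      ∃ φ : K → ℂ, IsCharacter K φ ∧ indFun K φ = χ) :
    ∃ M : Subgroup (H ⧸ K), M.index = p ^ (Nat.card (H ⧸ K)).factorization p := by
  classical
  have hp : p.Prime := Fact.out
  have he : e ≠ 0 := fun h => Subgroup.index_ne_zero_of_finite (H := Z) (by rw [← he2, h]; rfl)
  have hresf : (fun z : Z => χ z) = (e : ℂ) • θ := funext fun z => hres z
  have hχc := IsIrrCharacter.isCharacter hχ
  have hχcl := IsCharacter.isClassFunction hχc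
  have hinvH : ∀ x : H, conjFun Z x θ = θ := fun x => by
    have h1 := conjFun_restrict Z hχcl x
    rw [hresf] at h1
    funext z
    exact mul_left_cancel₀ (Nat.cast_ne_zero.mpr he) (congrFun h1 z)
  have hoff : ∀ g : H, g ∉ Z → χ g = 0 := by
    have hsumZ : ∑ z : Z, Complex.normSq (χ z) = (Nat.card H : ℝ) := by
      have h2 := IsIrrCharacter.classInner_self hθ
      rw [classInner, inv_mul_eq_one₀ natCard_ne_zero_complex] at h2
      have h3 : ((∑ z : Z, Complex.normSq (χ z) : ℝ) : ℂ) = ((Nat.card H : ℝ) : ℂ) := by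
        push_cast
        rw [← Z.card_mul_index, ← he2, Nat.cast_mul, h2, Finset.sum_mul, Nat.cast_pow]
        refine Finset.sum_congr rfl fun z _ => ?_
        rw [hres z, Complex.normSq_eq_conj_mul_self, map_mul, map_natCast]
        ring
      exact_mod_cast h3
    have htot : ∑ g : H, Complex.normSq (χ g) = (Nat.card H : ℝ) := by
      have h2 := IsIrrCharacter.classInner_self hχ
      rw [classInner, inv_mul_eq_one₀ natCard_ne_zero_complex] at h2
      have h3 : ((∑ g : H, Complex.normSq (χ g) : ℝ) : ℂ) = ((Nat.card H : ℝ) : ℂ) := by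
        push_cast
        rw [h2]
        exact Finset.sum_congr rfl fun g _ => by rw [Complex.normSq_eq_conj_mul_self, mul_comm]
      exact_mod_cast h3
    have hsub : ∑ z : Z, Complex.normSq (χ z) =
        ∑ g ∈ Finset.univ.filter (· ∈ Z), Complex.normSq (χ g) :=
      (Finset.sum_subtype (p := (· ∈ Z)) (Finset.univ.filter (· ∈ Z)) (fun x => by simp)
        fun g => Complex.normSq (χ g)).symm
    have hcompl := Finset.sum_filter_add_sum_filter_not Finset.univ (· ∈ Z)
      (fun g : H => Complex.normSq (χ g))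
    rw [← hsub, hsumZ, htot, add_eq_left] at hcompl
    intro g hg
    exact Complex.normSq_eq_zero.mp ((Finset.sum_eq_zero_iff_of_nonneg
      fun g _ => Complex.normSq_nonneg _).mp hcompl g (by simpa using hg))
  obtain ⟨P₀⟩ : Nonempty (Sylow p H) := inferInstance
  set P : Subgroup H := Z ⊔ (P₀ : Subgroup H) with hP
  have hP₀P : (P₀ : Subgroup H) ≤ P := le_sup_right
  have hZP : Z ≤ P := le_sup_left
  have hPK : P ⊔ K = (P₀ : Subgroup H) ⊔ K := le_antisymm
    (sup_le (sup_le (hZK.trans le_sup_right) le_sup_left) le_sup_right) (sup_le_sup_right hP₀P _)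
  have hPidx : ¬ p ∣ P.index := fun h =>
    P₀.not_dvd_index (h.trans (Subgroup.index_dvd_of_le hP₀P))
  let ep := p ^ e.factorization p
  let e' := e / ep
  have hee : ep * e' = e := Nat.mul_div_cancel' (Nat.ordProj_dvd e p)
  have hep : ep ≠ 0 := pow_ne_zero _ hp.ne_zero
  have hcop : Nat.Coprime ep e' :=
    Nat.Coprime.pow_left _ (Nat.coprime_ordCompl hp he)
  obtain ⟨c₀, hc₀⟩ := P₀.isPGroup'.exists_card_eq
  have hZidx : (Z.subgroupOf P).index = ep ^ 2 := by
    change Z.relIndex P = ep ^ 2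
    rw [hP, Subgroup.relIndex_sup_left]
    obtain ⟨j, -, hj⟩ := (Nat.dvd_prime_pow hp).mp
      (show Z.relIndex (P₀ : Subgroup H) ∣ p ^ c₀ from hc₀ ▸ Subgroup.index_dvd_card _)
    have hmul := Subgroup.relIndex_mul_index hZP
    rw [hP, Subgroup.relIndex_sup_left, hj, ← he2] at hmul
    have hf := congrArg (fun n => n.factorization p) hmul
    simp only [Nat.factorization_mul (pow_ne_zero _ hp.ne_zero) Subgroup.index_ne_zero_of_finite,
      Finsupp.add_apply, hp.factorization_pow, Finsupp.single_eq_same, Nat.factorization_pow,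
      Finsupp.smul_apply, smul_eq_mul] at hf
    rw [← hP, Nat.factorization_eq_zero_of_not_dvd hPidx, add_zero] at hf
    rw [hj, hf, ← pow_mul, mul_comm]
  let θP : Z.subgroupOf P → ℂ := θ ∘ (Subgroup.subgroupOfEquivOfLe hZP)
  have hθP : IsIrrCharacter (Z.subgroupOf P) θP := IsIrrCharacter.comp_equiv hθ _
  have hθPinv : ∀ x : P, conjFun (Z.subgroupOf P) x θP = θP := fun x => funext fun z =>
    congrFun (hinvH (x : H)) (Subgroup.subgroupOfEquivOfLe hZP z)
  obtain ⟨η, hη, hη1, huniq⟩ := exists_unique_over (Z.subgroupOf P) hθP hθPinv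
    (F := fun x : P => χ x) (IsCharacter.restrict hχc P) (e' := e') hep hcop hZidx
    (funext fun z => by rw [hee]; exact hres ⟨z.1.1, z.2⟩)
    (fun x hx => hoff x fun h => hx h)
  set QP := K.subgroupOf P with hQP
  have hZQ : Z.subgroupOf P ≤ QP := fun x hx => hZK hx
  let rQ : QP →* H := P.subtype.comp QP.subtype
  have hover : ∀ τ : QP → ℂ, IsIrrCharacter QP τ → classInner (χ ∘ rQ) τ ≠ 0 →
      ∃ f : ℕ, τ ∘ Subgroup.inclusion hZQ = (f : ℂ) • θP := fun τ hτ hc =>
    restrict_constituent_eq_smul (Subgroup.inclusion hZQ) (IsCharacter.comp hχc rQ) hτ hc hθP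
      (e := e) (funext fun z => hres ⟨z.1.1, z.2⟩)
  have hetaQ : ∀ τ : QP → ℂ, IsIrrCharacter QP τ →
      (∃ f : ℕ, τ ∘ Subgroup.inclusion hZQ = (f : ℂ) • θP) →
      classInner (fun q : QP => η q) τ ≠ 0 := by
    rintro τ hτ ⟨f, hf⟩ h0
    obtain ⟨m, hm, -, hm0⟩ :=
      exists_indFun_eq_smul (Z.subgroupOf P) hθP hη huniq hη1 QP hZQ hτ hf
    have h1 := classInner_indFun QP τ (IsCharacter.isClassFunction (IsIrrCharacter.isCharacter hη))
    rw [hm, classInner_smul_left, IsIrrCharacter.classInner_self hη, mul_one,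
      ← classInner_conj_symm, h0, map_zero, Nat.cast_eq_zero] at h1
    exact hm0 h1
  obtain ⟨ψ, hψ⟩ := IsCharacter.exists_constituent (IsCharacter.comp hχc rQ) fun h =>
    IsIrrCharacter.apply_one_ne_zero hχ (by simpa using congrFun h 1)
  obtain ⟨f, hf⟩ := hover ψ ψ.2 hψ
  have htrans : ∀ τ : QP → ℂ, IsIrrCharacter QP τ →
      (∃ f : ℕ, τ ∘ Subgroup.inclusion hZQ = (f : ℂ) • θP) →
      ∃ x : P, conjFun QP x (ψ : QP → ℂ) = τ := fun τ hτ hτf =>
    exists_conjFun_eq QP hη ψ.2 hτ (hetaQ ψ ψ.2 ⟨f, hf⟩) (hetaQ τ hτ hτf)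
  obtain ⟨m, hm, hmdeg, hm0⟩ :=
    exists_indFun_eq_smul (Z.subgroupOf P) hθP hη huniq hη1 QP hZQ ψ.2 hf
  set T := inertia QP (ψ : QP → ℂ) with hT
  have hQT : QP ≤ T := le_inertia QP (irr_isClassFunction ψ)
  have hcardT : Nat.card T = Nat.card QP * m ^ 2 := by
    have h1 := classInner_indFun_self QP ψ.2
    rw [hm, classInner_smul_left, classInner_smul_right, IsIrrCharacter.classInner_self hη,
      map_natCast, mul_one] at h1
    have h2 : Nat.card QP * (m * m) = Nat.card T := by exact_mod_cast h1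
    rw [← h2, pow_two]
  have hm1 : m = 1 := by
    rcases hcase with hcyc | ⟨φ, hφc, hind⟩
    · -- cyclic case: extend to the inertia group
      let emb : T →* H ⧸ K := (QuotientGroup.mk' K).comp (P.subtype.comp T.subtype)
      have hker : emb.ker = QP.subgroupOf T := by
        ext x
        exact QuotientGroup.eq_one_iff _
      obtain ⟨R, hR⟩ : ∃ R : Sylow p (H ⧸ K), P.map (QuotientGroup.mk' K) ≤ R := by
        apply IsPGroup.exists_le_sylow
        refine (P₀.isPGroup'.map (QuotientGroup.mk' K)).to_le ?_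
        rw [Subgroup.map_le_map_iff', QuotientGroup.ker_mk', hPK]
      haveI := hcyc R
      have hcT : IsCyclic (T ⧸ QP.subgroupOf T) := by
        let g : T →* (R : Subgroup (H ⧸ K)) :=
          emb.codRestrict _ fun x => hR (Subgroup.mem_map_of_mem _ x.1.2)
        have hg : g.ker = QP.subgroupOf T := by
          rw [← hker]; exact MonoidHom.ker_codRestrict _ _ _
        haveI := isCyclic_of_injective (QuotientGroup.kerLift g) (QuotientGroup.kerLift_injective g)
        exact isCyclic_of_surjective _ (QuotientGroup.quotientMulEquivOfEq hg).surjective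
      let eQ := Subgroup.subgroupOfEquivOfLe hQT
      obtain ⟨ψ', hψ', hψ'res⟩ := exists_irr_extension_of_cyclic (N := QP.subgroupOf T) hcT
        (IsIrrCharacter.comp_equiv ψ.2 eQ) (fun g n => congrFun g.2 (eQ n))
      have hZT : Z.subgroupOf P ≤ T := hZQ.trans hQT
      obtain ⟨m', -, hm'deg, hm'0⟩ := exists_indFun_eq_smul (Z.subgroupOf P) hθP hη huniq hη1 T hZT
        hψ' (f := f) (funext fun z => (hψ'res ⟨⟨z.1, hZT z.2⟩, hZQ z.2⟩).trans (congrFun hf z))
      have hidxT : QP.index = T.index * m ^ 2 := by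
        refine Nat.eq_of_mul_eq_mul_left (Nat.card_pos : 0 < Nat.card QP) ?_
        rw [Subgroup.card_mul_index, mul_left_comm, ← hcardT, mul_comm, Subgroup.card_mul_index]
      rw [hidxT] at hmdeg
      have h1 : m * (m * m') = m * 1 := by
        refine Nat.eq_of_mul_eq_mul_left (Nat.pos_of_ne_zero hep) ?_
        calc ep * (m * (m * m')) = m ^ 2 * (m' * ep) := by ring
          _ = T.index * m ^ 2 * f := by rw [← hm'deg]; ring
          _ = ep * (m * 1) := by rw [hmdeg]; ring
      exact Nat.eq_one_of_mul_eq_one_right (Nat.eq_of_mul_eq_mul_left (Nat.pos_of_ne_zero hm0) h1)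
    · -- induced case: compare degrees
      have hφ : IsIrrCharacter K φ := exists_irr_of_indFun_eq hφc hχ hind
      let rK : QP →* K := rQ.codRestrict K fun q => q.2
      have hcφ : classInner (fun k : K => χ k) φ ≠ 0 := by
        have h1 := classInner_indFun K φ hχcl
        rw [hind, IsIrrCharacter.classInner_self hχ, ← classInner_conj_symm] at h1
        intro h
        rw [h, map_zero] at h1
        exact one_ne_zero h1
      obtain ⟨R, hRc, hReq⟩ := IsCharacter.exists_add_of_classInner_ne_zero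
        (IsCharacter.restrict hχc K) hφ hcφ
      haveI := Fintype.ofFinite (IrrCharacter QP)
      obtain ⟨a, ha, ha'⟩ := IsCharacter.exists_nat_decomp (IsCharacter.comp hφc rK)
      have hdeg : ∀ τ : IrrCharacter QP, a τ ≠ 0 → (τ : QP → ℂ) 1 = (ψ : QP → ℂ) 1 := by
        intro τ hτ
        obtain ⟨x, hx⟩ := htrans τ τ.2 (hover τ τ.2 (by
          rw [show χ ∘ rQ = φ ∘ rK + R ∘ rK from funext fun q => congrFun hReq (rK q)]
          refine IsCharacter.classInner_ne_zero_of_add (IsCharacter.comp hφc rK)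
            (IsCharacter.comp hRc rK) (irr_isCharacter τ) ?_
          rw [ha' τ]
          exact_mod_cast hτ))
        rw [← hx, conjFun_apply_one]
      have hφ1 : φ 1 = ((∑ τ : IrrCharacter QP, a τ : ℕ) : ℂ) * (ψ : QP → ℂ) 1 := by
        have h1 := congrFun ha 1
        simp only [Function.comp_apply, map_one, Finset.sum_apply, Pi.smul_apply, smul_eq_mul] at h1
        rw [h1, Nat.cast_sum, Finset.sum_mul]
        refine Finset.sum_congr rfl fun τ _ => ?_
        by_cases hτ : a τ = 0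
        · simp [hτ]
        · rw [hdeg τ hτ]
      have hψ1 : (ψ : QP → ℂ) 1 = (f : ℂ) * θ 1 := by
        simpa [θP] using congrFun hf 1
      have hχ1 := congrFun hind 1
      rw [indFun_one, hφ1, hψ1, show χ 1 = (e : ℂ) * θ 1 by simpa using hres 1, ← mul_assoc,
        ← mul_assoc] at hχ1
      have h2 := mul_right_cancel₀ (IsIrrCharacter.apply_one_ne_zero hθ) hχ1
      have h3 : K.index * (∑ τ : IrrCharacter QP, a τ) * f = e := by exact_mod_cast h2
      have hQdvd : QP.index ∣ K.index := Subgroup.relIndex_dvd_index_of_normal K P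
      have hQp : ∃ j, QP.index = p ^ j := by
        have h4 : QP.index ∣ p ^ c₀ := by
          have h5 : K.relIndex P = K.relIndex (P₀ : Subgroup H) := by
            rw [← Subgroup.relIndex_sup_right P K, hPK, Subgroup.relIndex_sup_right]
          change K.relIndex P ∣ _
          rw [h5, ← hc₀]
          exact Subgroup.index_dvd_card _
        obtain ⟨j, -, hj⟩ := (Nat.dvd_prime_pow hp).mp h4
        exact ⟨j, hj⟩
      obtain ⟨j, hj⟩ := hQp
      have hme : m ∣ e' := by
        have h4 : QP.index * f ∣ e := by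
          rw [← h3, mul_assoc]
          exact Nat.mul_dvd_mul hQdvd (Dvd.intro_left _ rfl)
        rw [hmdeg, ← hee, mul_comm m ep] at h4
        exact (Nat.mul_dvd_mul_iff_left (Nat.pos_of_ne_zero hep)).mp h4
      have hm2 : m ∣ p ^ j := by
        have h4 : m ^ 2 ∣ QP.index := by
          refine ⟨T.index, Nat.eq_of_mul_eq_mul_left (Nat.card_pos : 0 < Nat.card QP) ?_⟩
          rw [Subgroup.card_mul_index, ← mul_assoc, ← hcardT, Subgroup.card_mul_index]
        exact (dvd_pow_self m two_ne_zero).trans (hj ▸ h4)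
      exact Nat.eq_one_of_dvd_coprimes
        ((Nat.coprime_ordCompl hp he).pow_left j) hm2 hme
  have hTQ : T ≤ QP := by
    rw [hm1, one_pow, mul_one] at hcardT
    exact (Subgroup.eq_of_le_of_card_ge hQT hcardT.le).ge
  -- transfer to the normalizer of `Q`
  set Q : Subgroup H := P ⊓ K with hQ
  let F : H → ℂ := fun h => if hh : h ∈ Q then (ψ : QP → ℂ) ⟨⟨h, hh.1⟩, hh.2⟩ else 0
  have hF : ∀ q : QP, F (q : P) = (ψ : QP → ℂ) q := fun q => dif_pos (⟨q.1.2, q.2⟩ : _ ∈ Q)
  have hPN : P ≤ Subgroup.normalizer (Q : Set H) := fun x hx => Subgroup.mem_normalizer_iff.mpr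
    fun q => ⟨fun hq => ⟨P.mul_mem (P.mul_mem hx hq.1) (P.inv_mem hx), ‹K.Normal›.conj_mem q hq.2 x⟩,
      fun hq => by
        have h1 : x⁻¹ * (x * q * x⁻¹) * x⁻¹⁻¹ ∈ Q :=
          ⟨P.mul_mem (P.mul_mem (P.inv_mem hx) hq.1) (by simpa using hx),
            ‹K.Normal›.conj_mem _ hq.2 x⁻¹⟩
        simpa [mul_assoc] using h1⟩
  have hN : Subgroup.normalizer (Q : Set H) ⊔ K = ⊤ := by
    have hsyl : ¬ p ∣ ((P₀ : Subgroup H).subgroupOf K).index := fun h => P₀.not_dvd_index
      (h.trans (PGroups.relIndex_dvd_index_of_normal_right K (P₀ : Subgroup H)))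
    have hpg : IsPGroup p ((P₀ : Subgroup H).subgroupOf K) :=
      P₀.isPGroup'.comap_of_injective K.subtype K.subtype_injective
    have h1 := Sylow.normalizer_sup_eq_top (hpg.toSylow hsyl)
    change Subgroup.normalizer ((((P₀ : Subgroup H).subgroupOf K).map K.subtype : Subgroup H) : Set H) ⊔ K = ⊤ at h1
    rw [Subgroup.subgroupOf_map_subtype] at h1
    refine eq_top_iff.mpr (h1.ge.trans (sup_le_sup_right ?_ _))
    exact normalizer_map_le_normalizer_inf Z K (P₀ : Subgroup H) hZK
  refine exists_index_eq_of_regular K P Q P₀ hP₀P hPK inf_le_left inf_le_right hPN hN F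
    (fun q hq x hx => ?_) (fun n hn => ?_) (fun x hx hfix => ?_)
  · have h1 := irr_isClassFunction ψ ⟨⟨q, hq.1⟩, hq.2⟩ ⟨⟨x, hx.1⟩, hx.2⟩
    rw [← hF, ← hF] at h1
    exact h1
  · have hmemQ : ∀ q : QP, (q : H) ∈ Q := fun q => ⟨q.1.2, q.2⟩
    have hcn : ∀ g ∈ Subgroup.normalizer (Q : Set H), ∀ q : QP,
        g * (q : H) * g⁻¹ ∈ Q := fun g hg q =>
      (Subgroup.mem_normalizer_iff.mp hg _).mp (hmemQ q)
    have hn' := Subgroup.inv_mem _ hn
    let σ : QP ≃* QP :=
      { toFun := fun q => ⟨⟨n * q * n⁻¹, (hcn n hn q).1⟩, (hcn n hn q).2⟩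
        invFun := fun q => ⟨⟨n⁻¹ * q * n⁻¹⁻¹, (hcn _ hn' q).1⟩, (hcn _ hn' q).2⟩
        left_inv := fun q => Subtype.ext (Subtype.ext (by simp [mul_assoc]))
        right_inv := fun q => Subtype.ext (Subtype.ext (by simp [mul_assoc]))
        map_mul' := fun a b => Subtype.ext (Subtype.ext (by simp [mul_assoc])) }
    obtain ⟨x, hx⟩ := htrans _ (IsIrrCharacter.comp_equiv ψ.2 σ) ⟨f, funext fun z => by
      show (ψ : QP → ℂ) (σ (Subgroup.inclusion hZQ z)) = _
      have hz : n * ((z : P) : H) * n⁻¹ ∈ Z := ‹Z.Normal›.conj_mem _ z.2 n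
      have h1 := congrFun hf ⟨⟨n * ((z : P) : H) * n⁻¹, hZP hz⟩, hz⟩
      exact h1.trans (congrArg ((f : ℂ) * ·)
        (congrFun (hinvH n) (Subgroup.subgroupOfEquivOfLe hZP z)))⟩
    refine ⟨x, x.2, fun q hq => ?_⟩
    have h1 := congrFun hx ⟨⟨q, hq.1⟩, hq.2⟩
    simp only [Function.comp_apply] at h1
    rw [← hF (σ _)] at h1
    rw [show conjFun QP x (ψ : QP → ℂ) ⟨⟨q, hq.1⟩, hq.2⟩ = F (x * q * (x : H)⁻¹) from
      (hF _).symm] at h1
    exact h1.symm
  · have h1 : (⟨x, hx⟩ : P) ∈ T := by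
      funext q
      have h2 := hfix (q : P) ⟨q.1.2, q.2⟩
      rw [hF q] at h2
      exact ((hF _).symm).trans h2
    exact ⟨hx, hTQ h1⟩

end Cfsg.Agent.Lib.Characters
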