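import Mathlib

/-!
# The arithmetic for involution centralizers isomorphic to `GL(2,3)`

The multiplicities of the exceptional functions determine the constituents, and two class
multiplication constants determine the order.
-/

namespace Cfsg.Agent.Lib.Characters.GLTwoThree

theorem arith_final (n : ℕ) (Γ D : ℤ) (hΓ : Γ ≠ 0) (hE : Γ + 1 ≠ 0) (hD : D ≠ 0) (hs : Γ + D ≠ 0)
    (hs' : Γ + D + 1 ≠ 0)
    (h4 : (n : ℚ) * (1 + 8 / (Γ : ℚ) + 9 / (-1 - Γ : ℚ) + 9 / (D : ℚ) + 1 / (-Γ - D : ℚ)) = 9216)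
    (h8 : 1 + 9 / (-1 - Γ : ℚ) - 9 / (D : ℚ) - 1 / (-Γ - D : ℚ) = 0)
    (h48 : 48 ∣ n) (h32 : ¬ 32 ∣ n) : n = 5616 ∨ n = 7920 := by
  have qΓ : (Γ : ℚ) ≠ 0 := Int.cast_ne_zero.mpr hΓ
  have qD : (D : ℚ) ≠ 0 := Int.cast_ne_zero.mpr hD
  have qE : (-1 - Γ : ℚ) ≠ 0 := by
    have : ((-1 - Γ : ℤ) : ℚ) ≠ 0 := Int.cast_ne_zero.mpr (by omega)
    push_cast at this
    exact this
  have qs : (-Γ - D : ℚ) ≠ 0 := by
    have : ((-Γ - D : ℤ) : ℚ) ≠ 0 := Int.cast_ne_zero.mpr (by omega)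
    push_cast at this
    exact this
  field_simp at h8 h4
  have z8 : (-1 - Γ) * D * (-Γ - D) + 9 * (D * (-Γ - D)) - 9 * ((-1 - Γ) * (-Γ - D))
      - (-1 - Γ) * D = 0 := by
    have : (((-1 - Γ) * D * (-Γ - D) + 9 * (D * (-Γ - D)) - 9 * ((-1 - Γ) * (-Γ - D))
      - (-1 - Γ) * D : ℤ) : ℚ) = ((0 : ℤ) : ℚ) := by
      push_cast
      linear_combination h8
    exact_mod_cast this
  have z4 : (n : ℤ) * (Γ * (-1 - Γ) * D * (-Γ - D) + 8 * ((-1 - Γ) * D * (-Γ - D))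
      + 9 * (Γ * D * (-Γ - D)) + 9 * (Γ * (-1 - Γ) * (-Γ - D)) + Γ * (-1 - Γ) * D)
      = 9216 * (Γ * (-1 - Γ) * D * (-Γ - D)) := by
    have : (((n : ℤ) * (Γ * (-1 - Γ) * D * (-Γ - D) + 8 * ((-1 - Γ) * D * (-Γ - D))
      + 9 * (Γ * D * (-Γ - D)) + 9 * (Γ * (-1 - Γ) * (-Γ - D)) + Γ * (-1 - Γ) * D) : ℤ) : ℚ)
      = ((9216 * (Γ * (-1 - Γ) * D * (-Γ - D)) : ℤ) : ℚ) := by
      push_cast
      linear_combination h4
    exact_mod_cast this
  have hquad : (D - 9) * (Γ + 1 - 9) = 72 := by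
    have : (Γ + D + 1) * ((D - 9) * (Γ + 1 - 9) - 72) = 0 := by linear_combination z8
    have := (mul_eq_zero.mp this).resolve_left hs'
    linarith
  have hdvd : (D - 9).natAbs ∈ Nat.divisors 72 := by
    refine Nat.mem_divisors.mpr ⟨?_, by norm_num⟩
    rw [← Int.natCast_dvd_natCast, Int.natAbs_dvd]
    exact ⟨Γ + 1 - 9, by rw [hquad]; norm_num⟩
  rw [show Nat.divisors 72 = {1, 2, 3, 4, 6, 8, 9, 12, 18, 24, 36, 72} from by decide] at hdvd
  simp only [Finset.mem_insert, Finset.mem_singleton, Int.natAbs_eq_iff, or_assoc, Nat.cast_ofNat] at hdvd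
  have hD9 : D - 9 ≠ 0 := fun h => by rw [h, zero_mul] at hquad; norm_num at hquad
  have hG : Γ = 72 / (D - 9) + 8 := by
    rw [← hquad, Int.mul_ediv_cancel_left _ hD9]
    ring
  obtain ⟨k, hk, rfl⟩ : ∃ k, D - 9 = k ∧ D = k + 9 := ⟨D - 9, rfl, by ring⟩
  rw [add_sub_cancel_right] at hdvd hG
  subst hG
  casesm* _ ∨ _
  all_goals subst hdvd
  all_goals first
    | (norm_num at z4; done)
    | (norm_num at hΓ; done)
    | (norm_num at hE; done)
    | (norm_num at hs; done)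
    | (norm_num at hs'; done)
    | (norm_num at hD; done)
    | (norm_num at z4; omega)

open scoped Classical in
/-- Two entries `±1` from a sum of squares equal to two. -/
theorem two_support {ι : Type*} (E : Finset ι) (w : ι → ℤ) (h : ∑ i ∈ E, w i * w i = 2) :
    ∃ p q, p ≠ q ∧ p ∈ E ∧ q ∈ E ∧ (w p = 1 ∨ w p = -1) ∧ (w q = 1 ∨ w q = -1) ∧
      ∀ i ∈ E, i ≠ p → i ≠ q → w i = 0 := by
  have hsmall : ∀ i ∈ E, w i = 0 ∨ w i = 1 ∨ w i = -1 := by
    intro i hi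
    have h1 : w i * w i ≤ 2 :=
      h ▸ Finset.single_le_sum (f := fun i => w i * w i) (fun j _ => mul_self_nonneg _) hi
    have h2 : -1 ≤ w i := by nlinarith
    have h3 : w i ≤ 1 := by nlinarith
    omega
  have hcard : ((E.filter fun i => w i ≠ 0).card : ℤ) = 2 := by
    rw [← h, Finset.card_filter, Nat.cast_sum]
    refine Finset.sum_congr rfl fun i hi => ?_
    rcases hsmall i hi with h | h | h <;> simp [h]
  obtain ⟨p, q, hpq, hpqs⟩ := Finset.card_eq_two.mp (by exact_mod_cast hcard : (E.filter fun i => w i ≠ 0).card = 2)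
  obtain ⟨hp, hwp⟩ := Finset.mem_filter.mp (show p ∈ E.filter (fun i => w i ≠ 0) by rw [hpqs]; simp)
  obtain ⟨hq, hwq⟩ := Finset.mem_filter.mp (show q ∈ E.filter (fun i => w i ≠ 0) by rw [hpqs]; simp)
  refine ⟨p, q, hpq, hp, hq, (hsmall p hp).resolve_left hwp, (hsmall q hq).resolve_left hwq,
    fun i hi h1 h2 => by_contra fun hne => ?_⟩
  have : i ∈ E.filter fun i => w i ≠ 0 := Finset.mem_filter.mpr ⟨hi, hne⟩
  rw [hpqs] at this
  simp [h1, h2] at this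

theorem sum_two {ι R : Type*} [DecidableEq ι] [AddCommMonoid R] (E : Finset ι) {p q : ι}
    (hpq : p ≠ q) (hp : p ∈ E) (hq : q ∈ E) (f : ι → R)
    (hf : ∀ i ∈ E, i ≠ p → i ≠ q → f i = 0) : ∑ i ∈ E, f i = f p + f q := by
  rw [← Finset.sum_subset (s₁ := {p, q}) (by simp [Finset.insert_subset_iff, hp, hq])
    (fun i hi hni => hf i hi (fun h => hni (by simp [h])) fun h => hni (by simp [h])),
    Finset.sum_pair hpq]

open scoped Classical in
/-- One entry `±1` from a sum of squares equal to one. -/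
theorem one_support {ι : Type*} (E : Finset ι) (w : ι → ℤ) (h : ∑ i ∈ E, w i * w i = 1) :
    ∃ p, p ∈ E ∧ (w p = 1 ∨ w p = -1) ∧ ∀ i ∈ E, i ≠ p → w i = 0 := by
  obtain ⟨p, hp, hwp⟩ : ∃ p ∈ E, w p ≠ 0 := by
    by_contra hno
    push Not at hno
    rw [Finset.sum_eq_zero fun i hi => by rw [hno i hi, zero_mul]] at h
    exact zero_ne_one h
  have hs := Finset.add_sum_erase E (fun i => w i * w i) hp
  rw [h] at hs
  have h0 : 0 ≤ ∑ i ∈ E.erase p, w i * w i := Finset.sum_nonneg fun i _ => mul_self_nonneg _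
  have h1 : 1 ≤ w p * w p := by
    have := mul_self_pos.mpr hwp
    omega
  refine ⟨p, hp, ?_, fun i hi hip => ?_⟩
  · have h2 : -1 ≤ w p := by nlinarith
    have h3 : w p ≤ 1 := by nlinarith
    omega
  · have h4 := (Finset.sum_eq_zero_iff_of_nonneg (fun i _ => mul_self_nonneg (w i))).mp
      (show ∑ i ∈ E.erase p, w i * w i = 0 by omega) i (Finset.mem_erase.mpr ⟨hip, hi⟩)
    exact mul_self_eq_zero.mp h4

theorem small_of_sum_sq {ι : Type*} (E : Finset ι) (w : ι → ℤ) (h : ∑ i ∈ E, w i * w i ≤ 3) :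
    ∀ i ∈ E, w i = 0 ∨ w i = 1 ∨ w i = -1 := by
  intro i hi
  have h1 : w i * w i ≤ 3 :=
    le_trans (Finset.single_le_sum (f := fun i => w i * w i) (fun j _ => mul_self_nonneg _) hi) h
  have h2 : -1 ≤ w i := by nlinarith
  have h3 : w i ≤ 1 := by nlinarith
  omega

open scoped Classical in
/-- Extraction of the order from the multiplicities. -/
theorem order_of_mults {ι : Type*} [Fintype ι] (o : ι) (x : ι → ℕ) (hx : ∀ i, 0 < x i)
    (hxo : x o = 1) (hx1 : ∀ i, i ≠ o → x i ≠ 1) (a b c d f : ι → ℤ)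
    (ho : a o = 0 ∧ b o = 0 ∧ c o = 1 ∧ d o = 0 ∧ f o = 1)
    (haa : ∑ i, a i * a i = 2) (hbb : ∑ i, b i * b i = 2) (hab : ∑ i, a i * b i = 1)
    (hcc : ∑ i, c i * c i = 3) (hdd : ∑ i, d i * d i = 3) (hff : ∑ i, f i * f i = 3)
    (hac : ∑ i, a i * c i = -1) (hbc : ∑ i, b i * c i = -1) (had : ∑ i, a i * d i = -1)
    (hbd : ∑ i, b i * d i = -1) (haf : ∑ i, a i * f i = 0) (hbf : ∑ i, b i * f i = 0)
    (hcd : ∑ i, c i * d i = 1) (hcf : ∑ i, c i * f i = 1) (hdf : ∑ i, d i * f i = -1)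
    (ha1 : ∑ i, a i * (x i : ℤ) = 0) (hb1 : ∑ i, b i * (x i : ℤ) = 0)
    (hc1 : ∑ i, c i * (x i : ℤ) = 0) (hd1 : ∑ i, d i * (x i : ℤ) = 0) (n : ℕ)
    (hS4 : (n : ℚ) * ∑ i, (((4 * f i - 3 * c i + d i - 2 * a i - 2 * b i) *
      (4 * f i - 3 * c i + d i - 2 * a i - 2 * b i) * (c i + d i) : ℤ) : ℚ) / (x i : ℚ) = 9216)
    (hS8 : ∑ i, (((4 * f i - 3 * c i + d i - 2 * a i - 2 * b i) *
      (4 * f i - 3 * c i + d i - 2 * a i - 2 * b i) * (c i - d i) : ℤ) : ℚ) / (x i : ℚ) = 0)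
    (h48 : 48 ∣ n) (h32 : ¬ 32 ∣ n) : n = 5616 ∨ n = 7920 := by
  obtain ⟨ao, bo, co, do', fo⟩ := ho
  set E := Finset.univ.erase o with hE
  have hsplit : ∀ g : ι → ℤ, ∑ i, g i = g o + ∑ i ∈ E, g i := fun g =>
    (Finset.add_sum_erase _ g (Finset.mem_univ o)).symm
  have hmemE : ∀ i, i ≠ o → i ∈ E := fun i h => Finset.mem_erase.mpr ⟨h, Finset.mem_univ _⟩
  have hneo : ∀ i ∈ E, i ≠ o := fun i h => (Finset.mem_erase.mp h).1
  rw [hsplit] at haa hbb hab hcc hdd hff hac hbc had hbd haf hbf hcd hcf hdf ha1 hb1 hc1 hd1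
  simp only [ao, bo, co, do', fo, hxo, zero_mul, mul_zero, one_mul, mul_one, zero_add,
    Nat.cast_one] at haa hbb hab hcc hdd hff hac hbc had hbd haf hbf hcd hcf hdf ha1 hb1 hc1 hd1
  have hpos : ∀ i, (0 : ℤ) < x i := fun i => by exact_mod_cast hx i
  have opp : ∀ u v : ℤ, ∀ p q : ι, (u = 1 ∨ u = -1) → (v = 1 ∨ v = -1) →
      u * (x p : ℤ) + v * (x q : ℤ) = 0 → v = -u ∧ x p = x q := by
    intro u v p q hu hv h
    have := hpos p
    have := hpos q
    rcases hu with rfl | rfl <;> rcases hv with rfl | rfl <;> omega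
  -- the first pair
  obtain ⟨p, q, hpq, hp, hq, hap, haq, ha0⟩ := two_support E a haa
  have hA0 : ∀ g : ι → ℤ, ∑ i ∈ E, a i * g i = a p * g p + a q * g q := fun g =>
    sum_two E hpq hp hq _ (fun i hi h1 h2 => by rw [ha0 i hi h1 h2, zero_mul])
  obtain ⟨haq', hxpq⟩ := opp _ _ p q hap haq (by rw [← hA0 (fun i => (x i : ℤ))]; exact ha1)
  have hbsmall := small_of_sum_sq E b (by omega)
  obtain ⟨α, γ, σ, hσ, hαγ, hα, hγ, hA, hbα, hbγ, hxαγ⟩ :
      ∃ α γ σ, (σ = 1 ∨ σ = -1) ∧ α ≠ γ ∧ α ∈ E ∧ γ ∈ E ∧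
        (∀ g : ι → ℤ, ∑ i ∈ E, a i * g i = σ * g α - σ * g γ) ∧ b α = 0 ∧
        b γ = -σ ∧ x α = x γ := by
    rw [hA0, haq'] at hab
    have hq0 : ∀ g : ι → ℤ, ∑ i ∈ E, a i * g i = a q * g q - a q * g p := fun g => by
      rw [hA0, haq']; ring
    rcases hap with h | h <;> rcases hbsmall p hp with k | k | k <;>
      rcases hbsmall q hq with k' | k' | k' <;> rw [h, k, k'] at hab <;>
      first
        | omega
        | exact ⟨p, q, a p, Or.inl h, hpq, hp, hq, fun g => by rw [hA0, haq']; ring, k,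
            by omega, hxpq⟩
        | exact ⟨p, q, a p, Or.inr h, hpq, hp, hq, fun g => by rw [hA0, haq']; ring, k,
            by omega, hxpq⟩
        | exact ⟨q, p, a q, haq, hpq.symm, hq, hp, hq0, k', by omega, hxpq.symm⟩
  have hσσ : σ * σ = 1 := by rcases hσ with rfl | rfl <;> rfl
  obtain ⟨β, hβ, hβγ, hbβ', hb0⟩ : ∃ β, β ∈ E ∧ β ≠ γ ∧ (b β = 1 ∨ b β = -1) ∧
      ∀ i ∈ E, i ≠ β → i ≠ γ → b i = 0 := by
    obtain ⟨β, hβ, hb, hb'⟩ := one_support (E.erase γ) b (by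
      have := Finset.add_sum_erase E (fun i => b i * b i) hγ
      rw [hbγ, neg_mul_neg, hσσ] at this
      omega)
    exact ⟨β, (Finset.mem_erase.mp hβ).2, (Finset.mem_erase.mp hβ).1, hb,
      fun i hi h1 h2 => hb' i (Finset.mem_erase.mpr ⟨h2, hi⟩) h1⟩
  have hB0 : ∀ g : ι → ℤ, ∑ i ∈ E, b i * g i = b β * g β + b γ * g γ := fun g =>
    sum_two E hβγ hβ hγ _ (fun i hi h1 h2 => by rw [hb0 i hi h1 h2, zero_mul])
  obtain ⟨hbβ, hxβγ⟩ : b β = σ ∧ x β = x γ := by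
    obtain ⟨e1, e2⟩ := opp (b β) (b γ) β γ hbβ' (by omega) (by rw [← hB0 (fun i => (x i : ℤ))]; exact hb1)
    exact ⟨by omega, e2⟩
  have hB : ∀ g : ι → ℤ, ∑ i ∈ E, b i * g i = σ * g β - σ * g γ := fun g => by
    rw [hB0, hbβ, hbγ]; ring
  have hβα : β ≠ α := fun h => by rw [h, hbα] at hbβ; omega
  rw [hA] at hac had haf
  rw [hB] at hbc hbd hbf
  -- the function `c`
  have hcs := small_of_sum_sq E c (by omega)
  obtain ⟨hcγ, hcα, hcβ⟩ : c γ = σ ∧ c α = 0 ∧ c β = 0 := by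
    have := hcs α hα
    have := hcs β hβ
    have := hcs γ hγ
    by_cases h0 : c γ = 0
    · exfalso
      have e1 : c α = -σ := by rcases hσ with rfl | rfl <;> omega
      have e2 : c β = -σ := by rcases hσ with rfl | rfl <;> omega
      have hsum := sum_two E hβα hβ hα (fun i => c i * (x i : ℤ)) (fun i hi h1 h2 => by
        have hT : c i * c i + (c β * c β + c α * c α) ≤ ∑ j ∈ E, c j * c j := by
          rw [← Finset.sum_pair (f := fun j => c j * c j) hβα, ← Finset.sum_insert (f := fun j => c j * c j) (by simp [h1, h2])]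
          exact Finset.sum_le_sum_of_subset_of_nonneg
            (by simp [Finset.insert_subset_iff, hi, hβ, hα]) fun j _ _ => mul_self_nonneg _
        rw [e1, e2, neg_mul_neg, hσσ] at hT
        have : c i * c i = 0 := le_antisymm (by omega) (mul_self_nonneg _)
        rw [mul_self_eq_zero.mp this, zero_mul])
      rw [hsum, e1, e2, hxαγ, hxβγ] at hc1
      rcases hσ with rfl | rfl <;> omega
    · rcases hσ with rfl | rfl <;> omega
  obtain ⟨χ, hχ', hcχ, hc0⟩ := one_support (E.erase γ) c (by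
    have := Finset.add_sum_erase E (fun i => c i * c i) hγ
    rw [hcγ, hσσ] at this
    omega)
  obtain ⟨hχγ, hχ⟩ := Finset.mem_erase.mp hχ'
  have hC : ∀ g : ι → ℤ, ∑ i ∈ E, c i * g i = σ * g γ + c χ * g χ := fun g => by
    rw [sum_two E (Ne.symm hχγ) hγ hχ _ (fun i hi h1 h2 => by
      rw [hc0 i (Finset.mem_erase.mpr ⟨h1, hi⟩) h2, zero_mul]), hcγ]
  rw [hC] at hcd hcf hc1
  have hχα : χ ≠ α := fun h => by rw [h, hcα] at hcχ; omega
  have hχβ : χ ≠ β := fun h => by rw [h, hcβ] at hcχ; omega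
  -- the function `d`
  have hds := small_of_sum_sq E d (by omega)
  obtain ⟨hdγ, hdα, hdβ⟩ : d γ = σ ∧ d α = 0 ∧ d β = 0 := by
    have := hds α hα
    have := hds β hβ
    have := hds γ hγ
    by_cases h0 : d γ = 0
    · exfalso
      have e1 : d α = -σ := by rcases hσ with rfl | rfl <;> omega
      have e2 : d β = -σ := by rcases hσ with rfl | rfl <;> omega
      have e3 : d χ * c χ = 1 := by
        rw [h0, mul_zero, zero_add, mul_comm] at hcd
        exact hcd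
      have e4 : d χ = c χ := by
        rcases hcχ with h | h <;> rw [h] at e3 ⊢ <;> omega
      have e5 : c χ * c χ = 1 := by rcases hcχ with h | h <;> rw [h] <;> rfl
      have hsum : ∑ i ∈ E, d i * (x i : ℤ) =
          ∑ i ∈ ({α, β, χ} : Finset ι), d i * (x i : ℤ) := by
        refine (Finset.sum_subset (by simp [Finset.insert_subset_iff, hα, hβ, hχ]) fun i hi hni => ?_).symm
        have hT : d i * d i + ∑ j ∈ ({α, β, χ} : Finset ι), d j * d j ≤ ∑ j ∈ E, d j * d j := by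
          rw [← Finset.sum_insert (f := fun j => d j * d j) hni]
          exact Finset.sum_le_sum_of_subset_of_nonneg
            (by simp [Finset.insert_subset_iff, hi, hα, hβ, hχ]) fun j _ _ => mul_self_nonneg _
        rw [Finset.sum_insert (by simp [hβα.symm, hχα.symm]), Finset.sum_pair hχβ.symm, e1, e2, e4,
          neg_mul_neg, hσσ, e5] at hT
        have : d i * d i = 0 := le_antisymm (by omega) (mul_self_nonneg _)
        rw [mul_self_eq_zero.mp this, zero_mul]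
      rw [hsum, Finset.sum_insert (by simp [hβα.symm, hχα.symm]), Finset.sum_pair hχβ.symm, e1, e2,
        e4, hxαγ, hxβγ] at hd1
      have := hpos γ
      rcases hσ with rfl | rfl <;> omega
    · rcases hσ with rfl | rfl <;> omega
  have hdχ : d χ = 0 := by
    rw [hdγ, hσσ] at hcd
    rcases hcχ with h | h <;> rw [h] at hcd <;> omega
  obtain ⟨u, v, huv, hu', hv', hdu, hdv, hd0⟩ := two_support (E.erase γ) d (by
    have := Finset.add_sum_erase E (fun i => d i * d i) hγ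
    rw [hdγ, hσσ] at this
    omega)
  obtain ⟨huγ, hu⟩ := Finset.mem_erase.mp hu'
  obtain ⟨hvγ, hv⟩ := Finset.mem_erase.mp hv'
  have hne0 : ∀ i, (d i = 1 ∨ d i = -1) → i ≠ α ∧ i ≠ β ∧ i ≠ χ := fun i hi =>
    ⟨fun h => by rw [h, hdα] at hi; omega, fun h => by rw [h, hdβ] at hi; omega,
      fun h => by rw [h, hdχ] at hi; omega⟩
  have hD0 : ∀ g : ι → ℤ, ∑ i ∈ E, d i * g i = σ * g γ + (d u * g u + d v * g v) := fun g => by
    rw [← Finset.add_sum_erase E _ hγ, hdγ,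
      sum_two (E.erase γ) huv hu' hv' _ (fun i hi h1 h2 => by rw [hd0 i hi h1 h2, zero_mul])]
  rw [hD0] at hdf hd1
  -- the function `f`
  have hfs := small_of_sum_sq E f (by omega)
  obtain ⟨hfγ, hfα, hfβ⟩ : f γ = 0 ∧ f α = 0 ∧ f β = 0 := by
    have e1 : f α = f γ := by rcases hσ with rfl | rfl <;> omega
    have e2 : f β = f γ := by rcases hσ with rfl | rfl <;> omega
    by_cases h0 : f γ = 0
    · exact ⟨h0, e1.trans h0, e2.trans h0⟩
    · exfalso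
      have hT : ∑ j ∈ ({α, β, γ} : Finset ι), f j * f j ≤ ∑ j ∈ E, f j * f j :=
        Finset.sum_le_sum_of_subset_of_nonneg (by simp [Finset.insert_subset_iff, hα, hβ, hγ])
          fun j _ _ => mul_self_nonneg _
      rw [Finset.sum_insert (by simp [hβα.symm, hαγ]), Finset.sum_pair hβγ, e1, e2] at hT
      have := mul_self_pos.mpr h0
      omega
  have hfχ : f χ = 0 := by
    rw [hfγ, mul_zero, zero_add] at hcf
    rcases hcχ with h | h <;> rw [h] at hcf <;> omega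
  rw [hfγ, mul_zero, zero_add] at hdf
  -- name the shared constituent of `d` and `f`
  obtain ⟨δ, δ', hne, hδ, hδ', hδγ, hδ'γ, hdδ, hdδ', hfδ, hfδ', hdeg, hd0'⟩ :
      ∃ δ δ', δ ≠ δ' ∧ δ ∈ E ∧ δ' ∈ E ∧ δ ≠ γ ∧ δ' ≠ γ ∧ (d δ = 1 ∨ d δ = -1) ∧
        (d δ' = 1 ∨ d δ' = -1) ∧ f δ = -d δ ∧ f δ' = 0 ∧
        σ * (x γ : ℤ) + (d δ * x δ + d δ' * x δ') = 0 ∧
        ∀ i ∈ E, i ≠ γ → i ≠ δ → i ≠ δ' → d i = 0 := by
    have := hfs u hu
    have := hfs v hv
    rcases hdu with h | h <;> rcases hdv with h' | h' <;> rw [h, h'] at hdf <;>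
      (by_cases hfu : f u = 0
       · exact ⟨v, u, huv.symm, hv, hu, hvγ, huγ, by omega, by omega, by omega, hfu,
           by linarith, fun i hi e0 e1 e2 => hd0 i (Finset.mem_erase.mpr ⟨e0, hi⟩) e2 e1⟩
       · exact ⟨u, v, huv, hu, hv, huγ, hvγ, by omega, by omega, by omega, by omega,
           by linarith, fun i hi e0 e1 e2 => hd0 i (Finset.mem_erase.mpr ⟨e0, hi⟩) e1 e2⟩)
  obtain ⟨hδα, hδβ, hδχ⟩ := hne0 δ hdδ
  obtain ⟨hδ'α, hδ'β, hδ'χ⟩ := hne0 δ' hdδ'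
  have haE : ∀ i ∈ E, i ≠ α → i ≠ γ → a i = 0 := by
    intro i hi h1 h2
    have h := hA (fun j => if j = i then 1 else 0)
    rw [if_neg (Ne.symm h1), if_neg (Ne.symm h2), Finset.sum_eq_single i
      (fun j _ hj => by rw [if_neg hj, mul_zero]) (fun h => absurd hi h), if_pos rfl] at h
    omega
  have haγ : a γ = -σ := by
    have h := hA (fun j => if j = γ then 1 else 0)
    rw [if_neg hαγ, if_pos rfl, Finset.sum_eq_single γ
      (fun j _ hj => by rw [if_neg hj, mul_zero]) (fun h => absurd hγ h), if_pos rfl] at h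
    omega
  have hcE : ∀ i ∈ E, i ≠ γ → i ≠ χ → c i = 0 := fun i hi h1 h2 =>
    hc0 i (Finset.mem_erase.mpr ⟨h1, hi⟩) h2
  -- the sums
  have hfive : ∀ g : ι → ℚ, (∀ i, c i = 0 → d i = 0 → g i = 0) →
      ∑ i, g i = g o + g γ + g χ + g δ + g δ' := by
    intro g hg
    have hoE : ∀ i ∈ E, o ≠ i := fun i hi => (hneo i hi).symm
    rw [← Finset.sum_subset (Finset.subset_univ ({o, γ, χ, δ, δ'} : Finset ι)) (fun i _ hi => by
      simp only [Finset.mem_insert, Finset.mem_singleton, not_or] at hi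
      exact hg i (hcE i (hmemE i hi.1) hi.2.1 hi.2.2.1)
        (hd0' i (hmemE i hi.1) hi.2.1 hi.2.2.2.1 hi.2.2.2.2)),
      Finset.sum_insert (by simp [hoE γ hγ, hoE χ hχ, hoE δ hδ, hoE δ' hδ']),
      Finset.sum_insert (by simp [Ne.symm hχγ, hδγ.symm, hδ'γ.symm]),
      Finset.sum_insert (by simp [hδχ.symm, hδ'χ.symm]), Finset.sum_pair hne]
    ring
  rw [hfive _ (fun i h h' => by simp [h, h']), ao, bo, co, do', fo, hxo, haγ, hbγ, hcγ, hdγ, hfγ,
    haE χ hχ hχα hχγ, hb0 χ hχ hχβ hχγ, hdχ, hfχ,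
    haE δ hδ hδα hδγ, hb0 δ hδ hδβ hδγ, hcE δ hδ hδγ hδχ, hfδ,
    haE δ' hδ' hδ'α hδ'γ, hb0 δ' hδ' hδ'β hδ'γ, hcE δ' hδ' hδ'γ hδ'χ, hfδ'] at hS4 hS8
  rw [hcγ, hσσ] at *
  set Γ := σ * (x γ : ℤ) with hΓ
  set D := d δ * (x δ : ℤ) with hD
  have conv : ∀ w : ℤ, ∀ y : ℕ, (w = 1 ∨ w = -1) → (w : ℚ) / (y : ℚ) = 1 / ((w * (y : ℤ) : ℤ) : ℚ) := by
    intro w y hw
    rcases hw with rfl | rfl
    · simp
    · push_cast
      rw [neg_one_mul, div_neg, neg_div]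
  have kΓ := conv σ (x γ) hσ
  have kC := conv (c χ) (x χ) hcχ
  have kD := conv (d δ) (x δ) hdδ
  have kD' := conv (d δ') (x δ') hdδ'
  rw [← hΓ] at kΓ
  rw [show c χ * (x χ : ℤ) = -1 - Γ by linarith] at kC
  rw [← hD] at kD
  rw [show d δ' * (x δ' : ℤ) = -Γ - D by linarith] at kD'
  push_cast at kΓ kC kD kD'
  have r1 : ∀ w : ℤ, (w = 1 ∨ w = -1) → (w : ℚ) * w = 1 := by
    intro w hw; rcases hw with rfl | rfl <;> norm_num
  have qσ := r1 σ hσ
  have qc := r1 _ hcχ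
  have qd := r1 _ hdδ
  have qd' := r1 _ hdδ'
  have hnz : ∀ w : ℤ, ∀ i, (w = 1 ∨ w = -1) → w * (x i : ℤ) ≠ 0 := fun w i hw => by
    have := hpos i
    rcases hw with rfl | rfl <;> omega
  refine arith_final n Γ D (hnz σ γ hσ) ?_ (hnz _ δ hdδ) ?_ ?_ ?_ ?_ h48 h32
  · have := hnz _ χ hcχ; omega
  · have := hnz _ δ' hdδ'; omega
  · have := hx1 δ' (hneo δ' hδ')
    have := hpos δ'
    rcases hdδ' with h | h <;> rw [h] at hdeg <;> omega
  · rw [← hS4, show (8 : ℚ) / (Γ : ℚ) = 8 * (1 / (Γ : ℚ)) by ring,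
      show (9 : ℚ) / (-1 - Γ : ℚ) = 9 * (1 / (-1 - Γ : ℚ)) by ring,
      show (9 : ℚ) / (D : ℚ) = 9 * (1 / (D : ℚ)) by ring, ← kΓ, ← kC, ← kD, ← kD']
    push_cast
    linear_combination
      (-(8 : ℚ) * n * σ / x γ) * qσ + (-(9 : ℚ) * n * c χ / x χ) * qc +
      (-(9 : ℚ) * n * d δ / x δ) * qd + (-(n : ℚ) * d δ' / x δ') * qd'
  · rw [show (9 : ℚ) / (-1 - Γ : ℚ) = 9 * (1 / (-1 - Γ : ℚ)) by ring,
      show (9 : ℚ) / (D : ℚ) = 9 * (1 / (D : ℚ)) by ring, ← kC, ← kD, ← kD', ← hS8]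
    push_cast
    linear_combination
      (-(9 : ℚ) * c χ / x χ) * qc + ((9 : ℚ) * d δ / x δ) * qd + ((1 : ℚ) * d δ' / x δ') * qd'

end Cfsg.Agent.Lib.Characters.GLTwoThree
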