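import Cfsg.Agent.Lib.Characters.GLTwoThreeTable
import Cfsg.Agent.Lib.Characters.GLTwoThreeArith
import Cfsg.Agent.Lib.Characters.Convolution
import Cfsg.Agent.Lib.Characters.Coherence
import Cfsg.Agent.Lib.Characters.Perm
import Cfsg.Agent.Lib.Characters.TI
import Cfsg.Agent.S0111
import Mathlib

/-!
# Simple groups with an involution centralizer isomorphic to `GL(2,3)`
-/

namespace Cfsg.Agent.Lib.Characters.GLTwoThree

open scoped ComplexConjugate
open Cfsg.Agent.Lib.Characters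

set_option linter.unusedSectionVars false
set_option linter.style.haveILetI false

universe u

/-- `i√2`. -/
noncomputable def rho : ℂ := (Real.sqrt 2 : ℂ) * Complex.I

theorem rho_sq : rho * rho = -2 := by
  rw [rho, mul_mul_mul_comm, Complex.I_mul_I, ← Complex.ofReal_mul,
    Real.mul_self_sqrt (by norm_num)]
  norm_num

theorem conj_rho : conj rho = -rho := by simp [rho]

/-- A primitive eighth root of unity. -/
noncomputable def zeta : ℂ := ((Real.sqrt 2 / 2 : ℝ) : ℂ) * (1 + Complex.I)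

theorem zeta_sq : zeta ^ 2 = Complex.I := by
  have h : ((Real.sqrt 2 : ℂ)) * (Real.sqrt 2 : ℂ) = 2 := by
    rw [← Complex.ofReal_mul, Real.mul_self_sqrt (by norm_num)]; norm_num
  rw [zeta]
  push_cast
  linear_combination (1 / 4 * (1 + Complex.I) ^ 2) * h + (1 / 2 : ℂ) * Complex.I_sq

theorem zeta_pow_three : zeta + zeta ^ 3 = rho := by
  rw [pow_succ, zeta_sq, zeta, rho]
  push_cast
  linear_combination ((Real.sqrt 2 : ℂ) / 2) * Complex.I_sq

theorem zeta_pow_four : zeta ^ 4 = -1 := by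
  rw [show 4 = 2 * 2 from rfl, pow_mul, zeta_sq, Complex.I_sq]

noncomputable def tA : Fin 8 → ℂ := ![0, -4, 0, -2, rho, -rho, 0, 2]
noncomputable def tB : Fin 8 → ℂ := ![0, -4, 0, -2, -rho, rho, 0, 2]
noncomputable def tC : Fin 8 → ℂ := ![0, 0, 0, 4, 2, 2, 0, 0]
noncomputable def tD : Fin 8 → ℂ := ![0, 0, 0, 4, -2, -2, 0, 0]
noncomputable def tF : Fin 8 → ℂ := ![0, 8, 0, 0, 2, 2, 0, 2]

/-! ### Generalized characters of the model -/

theorem cast_table (t : Fin 8 → ℕ) (v : Fin 8 → ℂ) (h : ∀ i, (t i : ℂ) = v i) (g : G23) :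
    ((t (cls g) : ℕ) : ℂ) = v (cls g) := h _

theorem eval_rep {F : G23 → ℂ} (hF : Cfsg.IsClassFunction G23 F) (g : G23) :
    F g = F (rep (cls g)) := by
  obtain ⟨x, hx⟩ := exists_conj_rep g
  conv_lhs => rw [← hx]
  exact hF _ x

noncomputable def pVec : G23 → ℂ := fun g => (![8, 0, 2, 0, 0, 0, 2, 0] : Fin 8 → ℂ) (cls g)
noncomputable def pLine : G23 → ℂ := fun g => (![4, 4, 2, 0, 0, 0, 1, 1] : Fin 8 → ℂ) (cls g)
noncomputable def pAxis : G23 → ℂ := fun g => (![3, 3, 1, 3, 1, 1, 0, 0] : Fin 8 → ℂ) (cls g)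
noncomputable def pDet : G23 → ℂ := fun g => (![1, 1, -1, 1, -1, -1, 1, 1] : Fin 8 → ℂ) (cls g)

theorem isCharacter_pVec : Cfsg.IsCharacter G23 pVec := by
  convert isCharacter_permChar (G := G23) Vec using 1
  funext g
  have h : Nat.card (MulAction.fixedBy Vec g) = ![8, 0, 2, 0, 0, 0, 2, 0] (cls g) := by
    rw [← (fix_counts g).1, ← Fintype.card_subtype, ← Nat.card_eq_fintype_card]
    exact Nat.card_congr (Equiv.subtypeEquivRight fun v =>
      ⟨fun h => congrArg Subtype.val h, fun h => Subtype.ext h⟩)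
  rw [h]
  exact (cast_table _ _ (fun i => by fin_cases i <;> simp) g).symm

theorem isCharacter_pLine : Cfsg.IsCharacter G23 pLine := by
  convert isCharacter_permChar (G := G23) Line using 1
  funext g
  have h : Nat.card (MulAction.fixedBy Line g) = ![4, 4, 2, 0, 0, 0, 1, 1] (cls g) := by
    rw [← (fix_counts g).2.1, ← Fintype.card_subtype, ← Nat.card_eq_fintype_card]
    exact Nat.card_congr (Equiv.subtypeEquivRight fun v =>
      ⟨fun h => congrArg Subtype.val h, fun h => Subtype.ext h⟩)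
  rw [h]
  exact (cast_table _ _ (fun i => by fin_cases i <;> simp) g).symm

theorem isCharacter_pAxis : Cfsg.IsCharacter G23 pAxis := by
  convert isCharacter_permChar (G := G23) (Fin 3) using 1
  funext g
  have h : Nat.card (MulAction.fixedBy (Fin 3) g) = ![3, 3, 1, 3, 1, 1, 0, 0] (cls g) := by
    rw [← (fix_counts g).2.2, ← Fintype.card_subtype, ← Nat.card_eq_fintype_card]
    exact Nat.card_congr (Equiv.subtypeEquivRight fun v => ⟨fun h => h, fun h => h⟩)
  rw [h]
  exact (cast_table _ _ (fun i => by fin_cases i <;> simp) g).symm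

theorem isCharacter_pDet : Cfsg.IsCharacter G23 pDet := by
  let s : G23 → ℂˣ := fun g => if qdet g.1 = 1 then 1 else -1
  have hmul : ∀ g k : G23, s (g * k) = s g * s k := by
    intro g k
    show (if qdet (qmul g.1 k.1) = 1 then (1 : ℂˣ) else -1) = _
    rw [qdet_qmul]
    have h2 : ∀ x : ZMod 3, x ≠ 0 → x = 1 ∨ x = 2 := by decide
    rcases h2 _ g.2 with h | h <;> rcases h2 _ k.2 with h' | h' <;>
      simp [s, h, h', show (2 : ZMod 3) ≠ 1 by decide, show (2 : ZMod 3) * 2 = 1 by decide]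
  convert IsIrrCharacter.isCharacter (isIrrCharacter_unitsHom (MonoidHom.mk' s hmul)) using 1
  funext g
  show pDet g = ((s g : ℂˣ) : ℂ)
  simp only [pDet, s, qdet_cls g]
  generalize cls g = i
  fin_cases i <;> norm_num [show (2 : ZMod 3) ≠ 1 by decide]

theorem exists_J : ∃ J : G23 → ℂ, Cfsg.IsCharacter G23 J ∧
    J = fun g => (![6, -6, 0, 0, rho, -rho, 0, 0] : Fin 8 → ℂ) (cls g) := by
  classical
  obtain ⟨h4, h8, hne⟩ := w8_pow
  have hord : orderOf w8 = 8 := by
    refine (orderOf_eq_iff (by norm_num)).mpr ⟨h8, fun m hm hm0 => ?_⟩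
    exact hne ⟨m, hm⟩ (fun h => by simp [Fin.ext_iff] at h; omega)
  let R := Subgroup.zpowers w8
  haveI := Fintype.ofFinite R
  have hRcard : Nat.card R = 8 := by rw [Nat.card_zpowers, hord]
  let eR : Fin 8 ≃ R := (finCongr hord.symm).trans
    (finEquivZPowers (isOfFinOrder_of_finite w8))
  have heR : ∀ k : Fin 8, ((eR k : R) : G23) = w8 ^ (k : ℕ) := fun k => rfl
  have hgen : ∀ x : R, x ∈ Subgroup.zpowers (⟨w8, Subgroup.mem_zpowers w8⟩ : R) := by
    rintro ⟨x, hx⟩
    obtain ⟨j, rfl⟩ := Subgroup.mem_zpowers_iff.mp hx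
    exact Subgroup.mem_zpowers_iff.mpr ⟨j, Subtype.ext (by simp)⟩
  let z : ℂˣ := Units.mk0 zeta (fun h => by
    have := zeta_pow_four
    rw [h] at this
    norm_num at this)
  have hz8 : z ^ 8 = 1 := Units.ext (by
    show zeta ^ 8 = 1
    rw [show 8 = 4 * 2 from rfl, pow_mul, zeta_pow_four]; norm_num)
  have hdvd : orderOf z ∣ orderOf (⟨w8, Subgroup.mem_zpowers w8⟩ : R) := by
    rw [Subgroup.orderOf_mk, hord]
    exact orderOf_dvd_of_pow_eq_one hz8
  let ω : R →* ℂˣ := monoidHomOfForallMemZpowers hgen hdvd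
  have hω : ∀ k : Fin 8, ((ω (eR k) : ℂˣ) : ℂ) = zeta ^ (k : ℕ) := by
    intro k
    rw [show eR k = (⟨w8, Subgroup.mem_zpowers w8⟩ : R) ^ (k : ℕ) from
      Subtype.ext (by rw [heR, SubgroupClass.coe_pow]), map_pow,
      monoidHomOfForallMemZpowers_apply_gen hgen hdvd, Units.val_pow_eq_pow_val]
    rfl
  refine ⟨Cfsg.indFun R (fun x => (ω x : ℂ)),
    IsCharacter.indFun _ (IsIrrCharacter.isCharacter (isIrrCharacter_unitsHom ω)), funext fun g => ?_⟩
  rw [eval_rep (isClassFunction_indFun _ _) g]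
  generalize cls g = i
  have hval : ∀ x : G23, extendByZero R (fun x => (ω x : ℂ)) (x⁻¹ * rep i * x) =
      ∑ k : Fin 8, if x⁻¹ * rep i * x = w8 ^ (k : ℕ) then zeta ^ (k : ℕ) else 0 := by
    intro x
    by_cases hx : x⁻¹ * rep i * x ∈ R
    · obtain ⟨k, hk⟩ := eR.surjective ⟨_, hx⟩
      have hk' : x⁻¹ * rep i * x = w8 ^ (k : ℕ) := by rw [← heR k, hk]
      rw [extendByZero_of_mem _ _ hx, ← hk, hω, Finset.sum_eq_single k, if_pos hk']
      · intro b _ hb
        rw [if_neg]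
        intro h
        refine hb (eR.injective (Subtype.ext ?_))
        rw [heR, heR, ← h, hk']
      · exact fun h => absurd (Finset.mem_univ k) h
    · rw [extendByZero_of_not_mem _ _ hx]
      refine (Finset.sum_eq_zero fun k _ => if_neg fun h => hx ?_).symm
      rw [h, ← heR k]
      exact (eR k).2
  rw [indFun_apply, hRcard, Finset.sum_congr rfl fun x _ => hval x, Finset.sum_comm]
  simp only [← Finset.sum_filter, Finset.sum_const, nsmul_eq_mul, count_w8 i]
  rw [Fin.sum_univ_eight]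
  have e5 : zeta ^ 5 = -zeta := by rw [pow_succ, zeta_pow_four, neg_one_mul]
  have e6 : zeta ^ 6 = -zeta ^ 2 := by
    rw [show 6 = 4 + 2 from rfl, pow_add, zeta_pow_four, neg_one_mul]
  have e7 : zeta ^ 7 = -zeta ^ 3 := by
    rw [show 7 = 4 + 3 from rfl, pow_add, zeta_pow_four, neg_one_mul]
  fin_cases i <;> simp [e5, e6, e7, zeta_pow_four, Matrix.cons_val] <;>
    first | (norm_num; done) | (linear_combination zeta_pow_three) |
      (linear_combination -1 * zeta_pow_three) | skip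

theorem isGen_tables : Cfsg.IsGeneralizedCharacter G23 (fun g => tA (cls g)) ∧
    Cfsg.IsGeneralizedCharacter G23 (fun g => tB (cls g)) ∧
    Cfsg.IsGeneralizedCharacter G23 (fun g => tC (cls g)) ∧
    Cfsg.IsGeneralizedCharacter G23 (fun g => tD (cls g)) ∧
    Cfsg.IsGeneralizedCharacter G23 (fun g => tF (cls g)) := by
  obtain ⟨J, hJ, hJv⟩ := exists_J
  have g1 : Cfsg.IsGeneralizedCharacter G23 (fun _ => (1 : ℂ)) :=
    IsCharacter.isGeneralizedCharacter isCharacter_one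
  have gV := IsCharacter.isGeneralizedCharacter isCharacter_pVec
  have gL := IsCharacter.isGeneralizedCharacter isCharacter_pLine
  have gQ := IsCharacter.isGeneralizedCharacter isCharacter_pAxis
  have gd := IsCharacter.isGeneralizedCharacter isCharacter_pDet
  have gJ := IsCharacter.isGeneralizedCharacter hJ
  have gJ' := IsCharacter.isGeneralizedCharacter (IsCharacter.conjugate hJ)
  refine ⟨?_, ?_, ?_, ?_, ?_⟩
  · convert IsGeneralizedCharacter.add (IsGeneralizedCharacter.sub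
      (IsGeneralizedCharacter.add (IsGeneralizedCharacter.sub gJ gV) gL) gQ) g1 using 1
    funext g
    simp only [Pi.add_apply, Pi.sub_apply, hJv, pVec, pLine, pAxis, tA]
    generalize cls g = i
    fin_cases i <;> norm_num
  · convert IsGeneralizedCharacter.add (IsGeneralizedCharacter.sub
      (IsGeneralizedCharacter.add (IsGeneralizedCharacter.sub gJ' gV) gL) gQ) g1 using 1
    funext g
    simp only [Pi.add_apply, Pi.sub_apply, hJv, pVec, pLine, pAxis, tB]
    generalize cls g = i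
    fin_cases i <;> norm_num [conj_rho, map_ofNat]
  · convert IsGeneralizedCharacter.add (IsGeneralizedCharacter.sub gQ gL) g1 using 1
    funext g
    simp only [Pi.add_apply, Pi.sub_apply, pLine, pAxis, tC]
    generalize cls g = i
    fin_cases i <;> norm_num
  · convert IsGeneralizedCharacter.sub (IsGeneralizedCharacter.add gd
      (IsGeneralizedCharacter.sub gQ g1))
      (IsGeneralizedCharacter.mul gd (IsGeneralizedCharacter.sub gL g1)) using 1
    funext g
    simp only [Pi.add_apply, Pi.sub_apply, Pi.mul_apply, pLine, pAxis, pDet, tD]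
    generalize cls g = i
    fin_cases i <;> norm_num
  · convert IsGeneralizedCharacter.add (IsGeneralizedCharacter.sub (IsGeneralizedCharacter.add g1
      (IsGeneralizedCharacter.mul gd (IsGeneralizedCharacter.sub gL g1))) gV) gL using 1
    funext g
    simp only [Pi.add_apply, Pi.sub_apply, Pi.mul_apply, pLine, pVec, pDet, tF]
    generalize cls g = i
    fin_cases i <;> norm_num

theorem sum_cls (V : Fin 8 → ℂ) {F : G23 → ℂ} (hF : Cfsg.IsClassFunction G23 F) :
    ∑ g : G23, V (cls g) * F g = ∑ i : Fin 8, (csize i : ℂ) * (V i * F (rep i)) := by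
  rw [← Finset.sum_fiberwise_of_maps_to (g := cls) (s := Finset.univ) (t := Finset.univ)
    (fun x _ => Finset.mem_univ _)]
  refine Finset.sum_congr rfl fun i _ => ?_
  rw [Finset.sum_congr rfl fun g hg => by rw [eval_rep hF g, (Finset.mem_filter.mp hg).2],
    Finset.sum_const, card_cls, nsmul_eq_mul]

theorem isClassFunction_cls (V : Fin 8 → ℂ) : Cfsg.IsClassFunction G23 (fun g => V (cls g)) :=
  fun g x => congrArg V (cls_conj x g)

/-! ### The group -/

theorem orderOf_conj' {G : Type u} [Group G] (c x : G) : orderOf (c * x * c⁻¹) = orderOf x :=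
  (MulAut.conj c).orderOf_eq x

theorem orderOf_two_iff {G : Type u} [Group G] {g : G} : orderOf g = 2 ↔ g * g = 1 ∧ g ≠ 1 := by
  constructor
  · intro h
    refine ⟨by rw [← pow_two, ← h, pow_orderOf_eq_one], fun h1 => ?_⟩
    rw [h1, orderOf_one] at h
    norm_num at h
  · exact fun ⟨h1, h2⟩ => orderOf_eq_prime (by rw [pow_two, h1]) h2

theorem eq_neg1_iff {G : Type u} [Group G] {t : G} (ht : orderOf t = 2)
    (e : Subgroup.centralizer ({t} : Set G) ≃* G23) :
    e ⟨t, Subgroup.mem_centralizer_singleton_iff.mpr rfl⟩ = neg1 := by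
  obtain ⟨ht2, ht1⟩ := orderOf_two_iff.mp ht
  refine center_two _ ?_ ?_ fun q => ?_
  · rw [← map_mul, show (⟨t, Subgroup.mem_centralizer_singleton_iff.mpr rfl⟩ :
      Subgroup.centralizer ({t} : Set G)) * ⟨t, Subgroup.mem_centralizer_singleton_iff.mpr rfl⟩ = 1
      from Subtype.ext ht2, map_one]
  · exact fun h => ht1 (congrArg Subtype.val ((map_eq_one_iff e e.injective).mp h))
  · obtain ⟨p, rfl⟩ := e.surjective q
    rw [← map_mul, ← map_mul]
    exact congrArg e (Subtype.ext (Subgroup.mem_centralizer_singleton_iff.mp p.2))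

set_option maxHeartbeats 4000000 in
/-- The main theorem. -/
theorem card_eq (G : Type u) [Group G] [Finite G] [IsSimpleGroup G] (t : G) (ht : orderOf t = 2)
    (e₀ : Subgroup.centralizer ({t} : Set G) ≃* Matrix.GeneralLinearGroup (Fin 2) (ZMod 3)) :
    Nat.card G = 5616 ∨ Nat.card G = 7920 := by
  classical
  haveI := Fintype.ofFinite G
  haveI := Fintype.ofFinite (IrrCharacter G)
  haveI : Fact (Nat.Prime 2) := ⟨Nat.prime_two⟩
  set C := Subgroup.centralizer ({t} : Set G) with hC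
  haveI := Fintype.ofFinite C
  obtain ⟨e⟩ : Nonempty (C ≃* G23) := ⟨e₀.trans toG23⟩
  obtain ⟨ht2, ht1⟩ := orderOf_two_iff.mp ht
  have htC : t ∈ C := Subgroup.mem_centralizer_singleton_iff.mpr rfl
  have het : e ⟨t, htC⟩ = neg1 := eq_neg1_iff ht e
  let ι' : G23 → G := fun q => ((e.symm q : C) : G)
  have hι_mul : ∀ p q, ι' (p * q) = ι' p * ι' q := fun p q => by
    show ((e.symm (p * q) : C) : G) = _
    rw [map_mul]; rfl
  have hι_inj : Function.Injective ι' := fun p q h => e.symm.injective (Subtype.ext h)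
  have hι_neg : ι' neg1 = t := by
    show ((e.symm neg1 : C) : G) = t
    rw [← het, e.symm_apply_apply]
  have hι_pow : ∀ q (k : ℕ), ι' (q ^ k) = ι' q ^ k := fun q k => by
    show ((e.symm (q ^ k) : C) : G) = _
    rw [map_pow]; rfl
  have hι_one : ι' 1 = 1 := by
    show ((e.symm 1 : C) : G) = 1
    rw [map_one]; rfl
  have hCcard : Nat.card C = 48 := by
    rw [Nat.card_congr e.toEquiv, Nat.card_eq_fintype_card, card_g23]
  -- simple non-abelian
  have hperf : commutator G = ⊤ := by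
    refine ((inferInstance : (commutator G).Normal).eq_bot_or_eq_top).resolve_left fun hbot => ?_
    refine noncomm (hι_inj ?_)
    rw [hι_mul, hι_mul, ← commutatorElement_eq_one_iff_mul_comm, ← Subgroup.mem_bot, ← hbot]
    exact Subgroup.commutator_mem_commutator (Subgroup.mem_top _) (Subgroup.mem_top _)
  -- a Sylow subgroup inside the centralizer
  set P : Subgroup G := Subgroup.closure {ι' w8, ι' s2} with hPdef
  obtain ⟨P', hP'⟩ : ∃ P' : Sylow 2 C, True := ⟨default, trivial⟩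
  obtain ⟨hs2s2, hsw, hs2ne⟩ := semidihedral
  let T : Subgroup G23 :=
    { carrier := {q | ∃ k : Fin 8, q = w8 ^ (k : ℕ) ∨ q = s2 * w8 ^ (k : ℕ)}
      one_mem' := ⟨0, Or.inl (pow_zero _).symm⟩
      mul_mem' := fun {p q} hp hq => by
        have key : ∀ p q : G23, (∃ k : Fin 8, p = w8 ^ (k : ℕ) ∨ p = s2 * w8 ^ (k : ℕ)) →
            (∃ k : Fin 8, q = w8 ^ (k : ℕ) ∨ q = s2 * w8 ^ (k : ℕ)) →
            ∃ k : Fin 8, p * q = w8 ^ (k : ℕ) ∨ p * q = s2 * w8 ^ (k : ℕ) := by
          rintro p q ⟨k, hk⟩ ⟨l, hl⟩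
          have hall : ∀ a b : Bool, ∀ k l : Fin 8, ∃ m : Fin 8,
              (if a then s2 else 1) * w8 ^ (k : ℕ) * ((if b then s2 else 1) * w8 ^ (l : ℕ)) = w8 ^ (m : ℕ) ∨
              (if a then s2 else 1) * w8 ^ (k : ℕ) * ((if b then s2 else 1) * w8 ^ (l : ℕ)) =
                s2 * w8 ^ (m : ℕ) := by decide +kernel
          rcases hk with rfl | rfl <;> rcases hl with rfl | rfl
          · simpa using hall false false k l
          · simpa using hall false true k l
          · simpa using hall true false k l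
          · simpa using hall true true k l
        exact key p q hp hq
      inv_mem' := fun {p} hp => by
        have hall : ∀ a : Bool, ∀ k : Fin 8, ∃ m : Fin 8,
            ((if a then s2 else 1) * w8 ^ (k : ℕ))⁻¹ = w8 ^ (m : ℕ) ∨
            ((if a then s2 else 1) * w8 ^ (k : ℕ))⁻¹ = s2 * w8 ^ (m : ℕ) := by decide +kernel
        obtain ⟨k, rfl | rfl⟩ := hp
        · exact (by simpa using hall false k)
        · exact (by simpa using hall true k) }
  let T8 : Subgroup G23 := Subgroup.zpowers w8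
  have hw8ord : orderOf w8 = 8 := by
    refine (orderOf_eq_iff (by norm_num)).mpr ⟨w8_pow.2.1, fun m hm hm0 => ?_⟩
    exact w8_pow.2.2 ⟨m, hm⟩ (fun h => by simp [Fin.ext_iff] at h; omega)
  have hT8 : ∀ q ∈ T8, ∃ k : Fin 8, q = w8 ^ (k : ℕ) := by
    intro q hq
    obtain ⟨k, rfl⟩ := (mem_powers_iff_mem_zpowers (x := w8) (y := q)).mpr hq
    refine ⟨⟨k % 8, Nat.mod_lt _ (by norm_num)⟩, ?_⟩
    show w8 ^ k = w8 ^ (k % 8)
    conv_lhs => rw [← pow_mod_orderOf, hw8ord]
  have hTcard : Nat.card T = 16 := by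
    have hf : Function.Bijective (fun p : Bool × Fin 8 =>
        (⟨(if p.1 then s2 else 1) * w8 ^ (p.2 : ℕ), p.2, by cases p.1 <;> simp⟩ : T)) := by
      refine ⟨?_, ?_⟩
      · have hall : ∀ a b : Bool, ∀ k l : Fin 8,
            (if a then s2 else 1) * w8 ^ (k : ℕ) = (if b then s2 else 1) * w8 ^ (l : ℕ) → a = b ∧ k = l := by
          decide +kernel
        rintro ⟨a, k⟩ ⟨b, l⟩ h
        obtain ⟨h1, h2⟩ := hall a b k l (congrArg Subtype.val h)
        rw [h1, h2]
      · rintro ⟨q, k, hk⟩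
        rcases hk with rfl | rfl
        · exact ⟨(false, k), Subtype.ext (by simp)⟩
        · exact ⟨(true, k), Subtype.ext (by simp)⟩
    rw [← Nat.card_congr (Equiv.ofBijective _ hf)]
    simp
  let ιh : G23 →* G := MonoidHom.mk' ι' hι_mul
  set Q : Subgroup G := T.map ιh with hQ
  have hQcard : Nat.card Q = 16 := by
    rw [hQ, Subgroup.card_map_of_injective hι_inj, hTcard]
  have hQC : Q ≤ C := by rintro _ ⟨q, -, rfl⟩; exact (e.symm q).2
  have htQ : t ∈ Q := ⟨neg1, ⟨4, Or.inl w8_pow.1.symm⟩, hι_neg⟩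
  obtain ⟨S, hS⟩ := (IsPGroup.of_card (n := 4) hQcard : IsPGroup 2 Q).exists_le_sylow
  have hSC : (S : Subgroup G) ≤ C := by
    intro x hx
    haveI : Nontrivial (S : Subgroup G) :=
      ⟨⟨1, ⟨t, hS htQ⟩, fun h => ht1 (congrArg Subtype.val h).symm⟩⟩
    have hzS : Subgroup.center (S : Subgroup G) ≠ ⊥ :=
      (Subgroup.nontrivial_iff_ne_bot _).mp S.2.center_nontrivial
    obtain ⟨⟨z, hz⟩, hz1'⟩ := (Subgroup.center (S : Subgroup G)).ne_bot_iff_exists_ne_one.mp hzS
    have hz1 : z ≠ 1 := fun h => hz1' (Subtype.ext h)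
    obtain ⟨m, hm⟩ := (IsPGroup.iff_orderOf.mp S.2) z
    have hm0 : m ≠ 0 := fun h0 => hz1 (orderOf_eq_one_iff.mp (by rw [hm, h0, pow_zero]))
    set y : (S : Subgroup G) := z ^ (2 ^ (m - 1)) with hy
    have hyo : orderOf (y : G) = 2 := by
      rw [Subgroup.orderOf_coe, hy, orderOf_pow_of_dvd (by positivity)
        (hm ▸ pow_dvd_pow 2 (Nat.sub_le m 1)), hm, Nat.pow_div (Nat.sub_le m 1) two_pos,
        show m - (m - 1) = 1 by omega, pow_one]
    have hyc : y ∈ Subgroup.center (S : Subgroup G) := pow_mem hz _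
    have hcomm : ∀ u ∈ (S : Subgroup G), u * (y : G) = (y : G) * u := fun u hu =>
      congrArg Subtype.val (Subgroup.mem_center_iff.mp hyc ⟨u, hu⟩)
    have hyC : (y : G) ∈ C := Subgroup.mem_centralizer_singleton_iff.mpr (hcomm t (hS htQ)).symm
    have hy2 : (y : G) = t := by
      obtain ⟨a1, a2⟩ := orderOf_two_iff.mp hyo
      have hq : ι' (e ⟨y, hyC⟩) = (y : G) := by
        show ((e.symm (e ⟨y, hyC⟩) : C) : G) = _
        rw [e.symm_apply_apply]
      rw [← hq, ← hι_neg]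
      refine congrArg ι' (centralizer_sylow _ (hι_inj ?_) (fun h => a2 ?_) (hι_inj ?_) (hι_inj ?_))
      · rw [hι_mul, hq, a1, hι_one]
      · rw [← hq, h, hι_one]
      · rw [hι_mul, hι_mul, hq]
        exact (hcomm _ (hS ⟨w8, ⟨1, Or.inl (pow_one _).symm⟩, rfl⟩)).symm
      · rw [hι_mul, hι_mul, hq]
        exact (hcomm _ (hS ⟨s2, ⟨0, Or.inr (by rw [show ((0 : Fin 8) : ℕ) = 0 from rfl, pow_zero, mul_one])⟩, rfl⟩)).symm
    refine Subgroup.mem_centralizer_singleton_iff.mpr ?_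
    rw [← hy2]
    exact hcomm x hx
  have hSQ : (S : Subgroup G) = Q := by
    refine le_antisymm ?_ hS
    obtain ⟨k, hk⟩ := IsPGroup.iff_card.mp S.2
    have h1 : Nat.card (S : Subgroup G) ∣ 48 := hCcard ▸ Subgroup.card_dvd_of_le hSC
    rw [hk] at h1
    have hk4 : k ≤ 4 := by
      by_contra hcon
      have := (pow_dvd_pow 2 (show 5 ≤ k by omega)).trans h1
      norm_num at this
    exact (Subgroup.eq_of_le_of_card_ge hS
      (by rw [hk, hQcard]; exact (Nat.pow_le_pow_right (by norm_num) hk4).trans (by norm_num))).ge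
  have h48 : 48 ∣ Nat.card G := hCcard ▸ Subgroup.card_subgroup_dvd_card C
  have h32 : ¬ 32 ∣ Nat.card G := by
    intro h
    obtain ⟨q, hq⟩ := h
    refine S.not_dvd_index ?_
    have h1 := (S : Subgroup G).card_mul_index
    rw [hq, hSQ, hQcard] at h1
    rw [hSQ]
    exact ⟨q, by omega⟩
  -- one class of involutions
  set R : Subgroup G := T8.map ιh with hR
  have hRQ : R ≤ Q := Subgroup.map_mono (Subgroup.zpowers_le.mpr ⟨1, Or.inl (pow_one _).symm⟩)
  have hRrel : R.relIndex (S : Subgroup G) = 2 := by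
    have h := Subgroup.relIndex_mul_relIndex ⊥ R Q bot_le hRQ
    rw [Subgroup.relIndex_bot_left, Subgroup.relIndex_bot_left, hQcard, hR,
      Subgroup.card_map_of_injective hι_inj, Nat.card_zpowers, hw8ord] at h
    rw [hSQ, hR]
    omega
  have hinvR : ∀ x ∈ R, orderOf x = 2 → x = t := by
    rintro _ ⟨q, hq, rfl⟩ hx
    obtain ⟨k, rfl⟩ := hT8 q hq
    obtain ⟨h1, h2⟩ := orderOf_two_iff.mp hx
    rcases w8_powers_involution k (hι_inj (by rw [hι_mul, hι_one]; exact h1)) with h | h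
    · exact absurd (by show ι' _ = 1; rw [h, hι_one]) h2
    · show ι' _ = t
      rw [h, hι_neg]
  have hcls : ∀ x : G, orderOf x = 2 → IsConj t x := by
    intro x hx
    have hxp : IsPGroup 2 (Subgroup.zpowers x) :=
      IsPGroup.of_card (n := 1) (by rw [Nat.card_zpowers, hx, pow_one])
    obtain ⟨Q', hQ'⟩ := hxp.exists_le_sylow
    obtain ⟨c, hc⟩ := MulAction.exists_smul_eq G Q' S
    have hy : c * x * c⁻¹ ∈ (S : Subgroup G) := by
      rw [← hc]
      exact ⟨x, hQ' (Subgroup.mem_zpowers x), rfl⟩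
    have hyo : orderOf (c * x * c⁻¹) = 2 := (orderOf_conj' c x).trans hx
    refine IsConj.trans ?_ (isConj_iff.mpr ⟨c, rfl⟩ : IsConj x (c * x * c⁻¹)).symm
    by_cases hyR : c * x * c⁻¹ ∈ R
    · rw [hinvR _ hyR hyo]
    rcases Cfsg.Agent.S0111.result S R (hSQ ▸ hRQ) hRrel _ hyo hy hyR with ⟨M, hMn, hMi, -⟩ | ⟨d, hd⟩
    · exfalso
      have hle : commutator G ≤ M := by
        rw [commutator_def, Subgroup.commutator_le]
        intro a _ b _
        rw [commutatorElement_def, Subgroup.mul_mem_iff_of_index_two hMi,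
          Subgroup.mul_mem_iff_of_index_two hMi, Subgroup.mul_mem_iff_of_index_two hMi, inv_mem_iff,
          inv_mem_iff]
        tauto
      rw [hperf, top_le_iff] at hle
      rw [hle, Subgroup.index_top] at hMi
      norm_num at hMi
    · exact (isConj_iff.mpr ⟨d, hinvR _ hd ((orderOf_conj' d _).trans hyo)⟩).symm
  have hclsiff : ∀ x : G, IsConj t x ↔ orderOf x = 2 := by
    refine fun x => ⟨fun h => ?_, hcls x⟩
    obtain ⟨c, rfl⟩ := isConj_iff.mp h
    exact (orderOf_conj' c t).trans ht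
  have hK : Nat.card {x : G // IsConj t x} * 48 = Nat.card G := by
    rw [← hCcard]
    exact card_conj_mul_card_centralizer t
  -- the special set is trivial-intersection
  have hTI : ∀ p : G23, Spec p → ∀ x : G, ∀ q : G23, (Spec q ∨ q = p⁻¹) →
      x⁻¹ * ι' p * x = ι' q → x ∈ C := by
    intro p hp x q hq hxq
    obtain ⟨k, hk, hpk⟩ : ∃ k : ℕ, k < 5 ∧ p ^ k = neg1 := by
      rcases spec_pow p hp with h | h | h | h
      · exact ⟨1, by norm_num, h⟩
      · exact ⟨2, by norm_num, h⟩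
      · exact ⟨4, by norm_num, h⟩
      · exact ⟨3, by norm_num, h⟩
    have h1 : ι' (q ^ k) = x⁻¹ * t * x := by
      rw [hι_pow, ← hxq, ← hι_neg, ← hpk, hι_pow]
      have := conj_pow (a := x⁻¹) (b := ι' p) (i := k)
      rwa [inv_inv] at this
    have hqk : q ^ k = neg1 := by
      rcases hq with hq | rfl
      · have h2 : q ^ k * q ^ k = 1 := hι_inj (by
          rw [hι_mul, h1, hι_one]
          calc x⁻¹ * t * x * (x⁻¹ * t * x) = x⁻¹ * (t * t) * x := by group
            _ = 1 := by rw [ht2, mul_one, inv_mul_cancel])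
        refine (spec_pow_involution q hq ⟨k, hk⟩ h2).resolve_left fun h3 => ht1 ?_
        change q ^ k = 1 at h3
        rw [h3, hι_one] at h1
        calc t = x * (x⁻¹ * t * x) * x⁻¹ := by group
          _ = 1 := by rw [← h1, mul_one, mul_inv_cancel]
      · rw [inv_pow, hpk]
        exact inv_eq_of_mul_eq_one_right neg1_sq
    rw [hqk, hι_neg] at h1
    refine Subgroup.mem_centralizer_singleton_iff.mpr ?_
    calc x * t = x * (x⁻¹ * t * x) := by rw [← h1]
      _ = t * x := by group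
  -- the induced functions
  obtain ⟨gA, gB, gC, gD, gF⟩ := isGen_tables
  let lift : (Fin 8 → ℂ) → (C → ℂ) := fun V y => V (cls (e y))
  let I : (Fin 8 → ℂ) → (G → ℂ) := fun V => Cfsg.indFun C (lift V)
  have hgen : ∀ V : Fin 8 → ℂ, Cfsg.IsGeneralizedCharacter G23 (fun g => V (cls g)) →
      Cfsg.IsGeneralizedCharacter G (I V) := fun V hV =>
    IsGeneralizedCharacter.indFun _ (IsGeneralizedCharacter.comp hV e.toMonoidHom)
  have hrecip : ∀ (V : Fin 8 → ℂ) (F : G → ℂ), Cfsg.IsClassFunction G F →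
      Cfsg.classInner (I V) F = 48⁻¹ * ∑ i, (csize i : ℂ) * (V i * conj (F (ι' (rep i)))) := by
    intro V F hF
    rw [classInner_indFun _ _ hF, Cfsg.classInner, hCcard, ← e.symm.toEquiv.sum_comp]
    push_cast
    congr 1
    rw [← sum_cls V (F := fun q => conj (F (ι' q))) (fun q x => by
      show conj (F (ι' (x * q * x⁻¹))) = conj (F (ι' q))
      congr 1
      have h1 : ι' (x * q * x⁻¹) = ι' x * ι' q * (ι' x)⁻¹ := map_mul ιh _ _ |>.trans (by
        rw [map_mul, map_inv]; rfl)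
      rw [h1, hF])]
    refine Finset.sum_congr rfl fun q _ => ?_
    show V (cls (e (e.symm q))) * conj (F ((e.symm q : C) : G)) = _
    rw [e.apply_symm_apply]
  have hvan : ∀ V : Fin 8 → ℂ, (V 0 = 0 ∧ V 2 = 0 ∧ V 6 = 0) → ∀ g : G23, ¬ Spec g → V (cls g) = 0 := by
    intro V hV g hg
    have hi : ∀ i : Fin 8, ¬ (i = 1 ∨ i = 3 ∨ i = 4 ∨ i = 5 ∨ i = 7) → i = 0 ∨ i = 2 ∨ i = 6 := by
      decide
    rcases hi (cls g) hg with h | h | h <;> rw [h]
    · exact hV.1
    · exact hV.2.1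
    · exact hV.2.2
  have hself : ∀ V : Fin 8 → ℂ, (V 0 = 0 ∧ V 2 = 0 ∧ V 6 = 0) → ∀ p : G23, Spec p →
      I V (ι' p) = V (cls p) := by
    intro V hV p hp
    have h := indFun_eq_self C {x : G | ∃ q, Spec q ∧ ι' q = x}
      (θ := lift V) (fun y z => congrArg V (by rw [map_mul, map_mul, map_inv]; exact cls_conj _ _))
      (fun y hy => hvan V hV _ fun hs => hy ⟨e y, hs, by
        show ((e.symm (e y) : C) : G) = _; rw [e.symm_apply_apply]⟩)
      (e.symm p) (fun x hx ⟨q, hq, hqx⟩ => hx (hTI p hp x q (Or.inl hq) hqx.symm))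
    show Cfsg.indFun C (lift V) ((e.symm p : C) : G) = _
    rw [h]
    show V (cls (e (e.symm p))) = _
    rw [e.apply_symm_apply]
  have hgram : ∀ V W : Fin 8 → ℂ, (V 0 = 0 ∧ V 2 = 0 ∧ V 6 = 0) → (W 0 = 0 ∧ W 2 = 0 ∧ W 6 = 0) →
      Cfsg.classInner (I V) (I W) = 48⁻¹ * ∑ i, (csize i : ℂ) * (V i * conj (W i)) := by
    intro V W hV hW
    rw [hrecip V (I W) (isClassFunction_indFun _ _)]
    congr 1
    refine Finset.sum_congr rfl fun i _ => ?_
    by_cases hi : Spec (rep i)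
    · rw [hself W hW _ hi, cls_rep]
    · rw [← cls_rep i, hvan V hV _ hi]; ring
  have vA : tA 0 = 0 ∧ tA 2 = 0 ∧ tA 6 = 0 := by simp [tA]
  have vB : tB 0 = 0 ∧ tB 2 = 0 ∧ tB 6 = 0 := by simp [tB]
  have vC : tC 0 = 0 ∧ tC 2 = 0 ∧ tC 6 = 0 := by simp [tC]
  have vD : tD 0 = 0 ∧ tD 2 = 0 ∧ tD 6 = 0 := by simp [tD]
  have vF : tF 0 = 0 ∧ tF 2 = 0 ∧ tF 6 = 0 := by simp [tF]
  obtain ⟨a, ha, hac⟩ := IsGeneralizedCharacter.exists_int_decomp (hgen tA gA)
  obtain ⟨b, hb, hbc⟩ := IsGeneralizedCharacter.exists_int_decomp (hgen tB gB)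
  obtain ⟨c, hc, hcc⟩ := IsGeneralizedCharacter.exists_int_decomp (hgen tC gC)
  obtain ⟨d, hd, hdc⟩ := IsGeneralizedCharacter.exists_int_decomp (hgen tD gD)
  obtain ⟨f, hf, hfc⟩ := IsGeneralizedCharacter.exists_int_decomp (hgen tF gF)
  have hint : ∀ (w w' : IrrCharacter G → ℤ) (V W : Fin 8 → ℂ) (k : ℤ),
      I V = ∑ χ : IrrCharacter G, (w χ : ℂ) • (χ : G → ℂ) →
      I W = ∑ χ : IrrCharacter G, (w' χ : ℂ) • (χ : G → ℂ) →
      Cfsg.classInner (I V) (I W) = (k : ℂ) → ∑ χ, w χ * w' χ = k := by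
    intro w w' V W k hV hW h
    rw [hV, hW, classInner_sum_sum] at h
    have h' : ((∑ χ, w χ * w' χ : ℤ) : ℂ) = (k : ℂ) := by
      rw [← h]
      push_cast
      exact Finset.sum_congr rfl fun χ _ => by rw [map_intCast]
    exact_mod_cast h'
  have hdeg0 : ∀ (w : IrrCharacter G → ℤ) (V : Fin 8 → ℂ), V 0 = 0 →
      I V = ∑ χ : IrrCharacter G, (w χ : ℂ) • (χ : G → ℂ) →
      ∑ χ, w χ * (degNat χ : ℤ) = 0 := by
    intro w V hV hw
    have h : Cfsg.indFun C (lift V) 1 = _ := congrFun hw 1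
    rw [indFun_one, show lift V 1 = 0 by
      show V (cls (e 1)) = 0
      rw [map_one, show cls 1 = 0 by decide +kernel, hV], mul_zero, Finset.sum_apply] at h
    have h' : ((∑ χ, w χ * (degNat χ : ℤ) : ℤ) : ℂ) = ((0 : ℤ) : ℂ) := by
      push_cast
      rw [h]
      exact Finset.sum_congr rfl fun χ _ => by rw [Pi.smul_apply, smul_eq_mul, apply_one_eq_degNat]
    exact_mod_cast h'
  -- values at the special classes
  have hval : ∀ χ : IrrCharacter G,
      (χ : G → ℂ) t = ((4 * f χ - 3 * c χ + d χ - 2 * a χ - 2 * b χ : ℤ) : ℂ) ∧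
      (χ : G → ℂ) (ι' (rep 3)) = ((c χ + d χ : ℤ) : ℂ) ∧
      (χ : G → ℂ) (ι' (rep 4)) + (χ : G → ℂ) (ι' (rep 5)) = ((2 * (c χ - d χ) : ℤ) : ℂ) := by
    intro χ
    have ea := hac χ
    have eb := hbc χ
    have ec := hcc χ
    have ed := hdc χ
    have ef := hfc χ
    rw [hrecip _ _ (irr_isClassFunction χ), Fin.sum_univ_eight] at ea eb ec ed ef
    simp [tA, tB, tC, tD, tF, csize, show ι' (rep 1) = t from hι_neg] at ea eb ec ed ef
    have cc : ∀ z : ℂ, ∀ k : ℤ, conj z = (k : ℂ) → z = (k : ℂ) := fun z k h => by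
      rw [← Complex.conj_conj z, h, map_intCast]
    refine ⟨cc _ _ ?_, cc _ _ ?_, cc _ _ ?_⟩
    · push_cast
      linear_combination (4 : ℂ) * ef - 3 * ec + ed - 2 * ea - 2 * eb
    · push_cast
      linear_combination ec + ed
    · push_cast
      rw [map_add]
      linear_combination 2 * ec - 2 * ed
  have htriv : a (trivIrr G) = 0 ∧ b (trivIrr G) = 0 ∧ c (trivIrr G) = 1 ∧ d (trivIrr G) = 0 ∧
      f (trivIrr G) = 1 := by
    have key : ∀ (V : Fin 8 → ℂ) (w : IrrCharacter G → ℤ) (k : ℤ),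
        Cfsg.classInner (I V) (trivIrr G : G → ℂ) = (w (trivIrr G) : ℂ) →
        48⁻¹ * ∑ i, (csize i : ℂ) * V i = (k : ℂ) → w (trivIrr G) = k := by
      intro V w k h1 h2
      have h3 : (w (trivIrr G) : ℂ) = (k : ℂ) := by
        rw [← h1, hrecip V _ (irr_isClassFunction _), ← h2]
        simp
      exact_mod_cast h3
    refine ⟨key tA a 0 (hac _) ?_, key tB b 0 (hbc _) ?_, key tC c 1 (hcc _) ?_,
      key tD d 0 (hdc _) ?_, key tF f 1 (hfc _) ?_⟩ <;>
      simp [Fin.sum_univ_eight, tA, tB, tC, tD, tF, csize] <;> ring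
  have ip : ∀ (V W : Fin 8 → ℂ) (k : ℤ), (V 0 = 0 ∧ V 2 = 0 ∧ V 6 = 0) →
      (W 0 = 0 ∧ W 2 = 0 ∧ W 6 = 0) → 48⁻¹ * ∑ i, (csize i : ℂ) * (V i * conj (W i)) = (k : ℂ) →
      Cfsg.classInner (I V) (I W) = (k : ℂ) := fun V W k hV hW h => (hgram V W hV hW).trans h
  -- the class multiplication constants
  have hpairs : ∀ i : Fin 8, Spec (rep i) →
      Nat.card {p : G × G // IsConj t p.1 ∧ IsConj t p.2 ∧ p.1 * p.2 = ι' (rep i)} =
      (Finset.univ.filter fun p : G23 => (p * p = 1 ∧ p ≠ 1) ∧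
        ((p⁻¹ * rep i) * (p⁻¹ * rep i) = 1 ∧ p⁻¹ * rep i ≠ 1)).card := by
    intro i hi
    rw [← Fintype.card_subtype, ← Nat.card_eq_fintype_card]
    have hxC : ∀ x y : G, IsConj t x → IsConj t y → x * y = ι' (rep i) → x ∈ C := by
      intro x y hx hy hxy
      obtain ⟨hx2, -⟩ := orderOf_two_iff.mp ((hclsiff _).mp hx)
      obtain ⟨hy2, -⟩ := orderOf_two_iff.mp ((hclsiff _).mp hy)
      refine hTI (rep i) hi x (rep i)⁻¹ (Or.inr rfl) ?_
      rw [show ι' (rep i)⁻¹ = (ι' (rep i))⁻¹ from map_inv ιh _, ← hxy, inv_mul_cancel_left,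
        mul_inv_rev, inv_eq_of_mul_eq_one_right hx2, inv_eq_of_mul_eq_one_right hy2]
    have hsecond : ∀ q : G23, ι' (q⁻¹ * rep i) = (ι' q)⁻¹ * ι' (rep i) := fun q => by
      rw [hι_mul, show ι' q⁻¹ = (ι' q)⁻¹ from map_inv ιh _]
    have hιe : ∀ y : C, ι' (e y) = (y : G) := fun y => by
      show ((e.symm (e y) : C) : G) = _
      rw [e.symm_apply_apply]
    refine Nat.card_congr
      { toFun := fun p => ⟨e ⟨p.1.1, hxC _ _ p.2.1 p.2.2.1 p.2.2.2⟩, ?_⟩
        invFun := fun q => ⟨(ι' q.1, ι' (q.1⁻¹ * rep i)), ?_, ?_, ?_⟩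
        left_inv := ?_
        right_inv := ?_ }
    · obtain ⟨⟨x, y⟩, hx, hy, hxy⟩ := p
      dsimp only
      obtain ⟨hx2, hx1⟩ := orderOf_two_iff.mp ((hclsiff _).mp hx)
      obtain ⟨hy2, hy1⟩ := orderOf_two_iff.mp ((hclsiff _).mp hy)
      have hy' : ι' ((e ⟨x, hxC x y hx hy hxy⟩)⁻¹ * rep i) = y := by
        rw [hsecond, hιe, ← hxy]
        exact inv_mul_cancel_left x y
      refine ⟨⟨hι_inj (by rw [hι_mul, hιe, hι_one]; exact hx2), fun h => hx1 ?_⟩,
        hι_inj (by rw [hι_mul, hy', hι_one]; exact hy2), fun h => hy1 ?_⟩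
      · have := congrArg ι' h
        rw [hιe, hι_one] at this
        exact this
      · rw [← hy', h, hι_one]
    · refine hcls _ (orderOf_two_iff.mpr ⟨?_, fun h => q.2.1.2 (hι_inj (h.trans hι_one.symm))⟩)
      rw [← hι_mul, q.2.1.1, hι_one]
    · refine hcls _ (orderOf_two_iff.mpr ⟨?_, fun h => q.2.2.2 (hι_inj (h.trans hι_one.symm))⟩)
      rw [← hι_mul, q.2.2.1, hι_one]
    · show ι' q.1 * ι' (q.1⁻¹ * rep i) = ι' (rep i)
      rw [← hι_mul, mul_inv_cancel_left]
    · rintro ⟨⟨x, y⟩, hx, hy, hxy⟩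
      refine Subtype.ext (Prod.ext (hιe _) ?_)
      show ι' ((e _)⁻¹ * rep i) = y
      rw [hsecond, hιe]
      have hxy' : x * y = ι' (rep i) := hxy
      show x⁻¹ * ι' (rep i) = y
      rw [← hxy', inv_mul_cancel_left]
    · rintro ⟨q, hq⟩
      refine Subtype.ext ?_
      show e ⟨ι' q, _⟩ = q
      exact (congrArg e (Subtype.ext rfl)).trans (e.apply_symm_apply q)
  set T' : IrrCharacter G → ℤ := fun χ => 4 * f χ - 3 * c χ + d χ - 2 * a χ - 2 * b χ with hT'
  have hG : (Nat.card G : ℂ) ≠ 0 := Nat.cast_ne_zero.mpr Nat.card_pos.ne'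
  have hK' : (Nat.card {x : G // IsConj t x} : ℂ) = (Nat.card G : ℂ) / 48 := by
    rw [eq_div_iff (by norm_num : (48 : ℂ) ≠ 0)]
    exact_mod_cast hK
  have hconst : ∀ i : Fin 8, Spec (rep i) → ∀ N : ℕ,
      (Finset.univ.filter fun p : G23 => (p * p = 1 ∧ p ≠ 1) ∧
        ((p⁻¹ * rep i) * (p⁻¹ * rep i) = 1 ∧ p⁻¹ * rep i ≠ 1)).card = N →
      (Nat.card G : ℂ) * ∑ χ : IrrCharacter G,
        (T' χ : ℂ) * (T' χ : ℂ) * conj ((χ : G → ℂ) (ι' (rep i))) / (degNat χ : ℂ) =
          2304 * (N : ℂ) := by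
    intro i hi N hN
    have h := card_class_mul t t (ι' (rep i))
    rw [hpairs i hi, hN, hK'] at h
    rw [Finset.sum_congr rfl fun χ _ => by
      rw [(hval χ).1, apply_one_eq_degNat]] at h
    rw [h]
    field_simp
    ring
  have h3 := hconst 3 (by decide +kernel) 4 pair_count4
  have h4 := hconst 4 (by decide +kernel) 0 (pair_count8 4 (Or.inl rfl))
  have h5 := hconst 5 (by decide +kernel) 0 (pair_count8 5 (Or.inr rfl))
  have hS4 : (Nat.card G : ℚ) * ∑ χ : IrrCharacter G,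
      ((T' χ * T' χ * (c χ + d χ) : ℤ) : ℚ) / (degNat χ : ℚ) = 9216 := by
    have h' : (((Nat.card G : ℚ) * ∑ χ : IrrCharacter G,
        ((T' χ * T' χ * (c χ + d χ) : ℤ) : ℚ) / (degNat χ : ℚ) : ℚ) : ℂ) = ((9216 : ℚ) : ℂ) := by
      push_cast
      rw [Finset.sum_congr rfl fun χ _ => by rw [(hval χ).2.1, map_intCast]] at h3
      push_cast at h3
      linear_combination h3
    exact_mod_cast h'
  have hS8 : ∑ χ : IrrCharacter G,
      ((T' χ * T' χ * (c χ - d χ) : ℤ) : ℚ) / (degNat χ : ℚ) = 0 := by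
    have h' : (((∑ χ : IrrCharacter G,
        ((T' χ * T' χ * (c χ - d χ) : ℤ) : ℚ) / (degNat χ : ℚ)) : ℚ) : ℂ) = ((0 : ℚ) : ℂ) := by
      rw [Nat.cast_zero, mul_zero, mul_eq_zero] at h4 h5
      have e4 := h4.resolve_left hG
      have e5 := h5.resolve_left hG
      have hsum : ∑ χ : IrrCharacter G, (T' χ : ℂ) * (T' χ : ℂ) *
          ((2 * (c χ - d χ) : ℤ) : ℂ) / (degNat χ : ℂ) = 0 := by
        rw [show (0 : ℂ) = 0 + 0 from (add_zero 0).symm]
        conv_rhs => arg 1; rw [← e4]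
        conv_rhs => arg 2; rw [← e5]
        rw [← Finset.sum_add_distrib]
        refine Finset.sum_congr rfl fun χ _ => ?_
        rw [← map_intCast (starRingEnd ℂ) (2 * (c χ - d χ)), ← (hval χ).2.2, map_add]
        ring
      push_cast
      push_cast at hsum
      rw [Finset.sum_congr rfl fun χ _ => show (T' χ : ℂ) * (T' χ : ℂ) * (2 * ((c χ : ℂ) - d χ)) /
        (degNat χ : ℂ) = 2 * ((T' χ : ℂ) * (T' χ : ℂ) * ((c χ : ℂ) - d χ) / (degNat χ : ℂ)) by ring,
        ← Finset.mul_sum] at hsum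
      simpa using hsum
    exact_mod_cast h'
  have hx1 : ∀ χ : IrrCharacter G, χ ≠ trivIrr G → degNat χ ≠ 1 := by
    intro χ hne hdeg
    refine hne (Subtype.ext (funext fun g => ?_))
    obtain ⟨lam, hlam⟩ := IsCharacter.exists_hom_of_apply_one (irr_isCharacter χ)
      (by rw [apply_one_eq_degNat, hdeg, Nat.cast_one])
    have h1 := Abelianization.commutator_subset_ker lam
    rw [hperf] at h1
    rw [congrFun hlam g, (MonoidHom.mem_ker).mp (h1 (Subgroup.mem_top g)), Units.val_one,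
      trivIrr_apply]
  refine order_of_mults (trivIrr G) degNat degNat_pos (degNat_eq (by simp)) hx1 a b c d f htriv
    (hint a a _ _ 2 ha ha (ip _ _ 2 vA vA ?_)) (hint b b _ _ 2 hb hb (ip _ _ 2 vB vB ?_))
    (hint a b _ _ 1 ha hb (ip _ _ 1 vA vB ?_)) (hint c c _ _ 3 hc hc (ip _ _ 3 vC vC ?_))
    (hint d d _ _ 3 hd hd (ip _ _ 3 vD vD ?_)) (hint f f _ _ 3 hf hf (ip _ _ 3 vF vF ?_))
    (hint a c _ _ (-1) ha hc (ip _ _ (-1) vA vC ?_)) (hint b c _ _ (-1) hb hc (ip _ _ (-1) vB vC ?_))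
    (hint a d _ _ (-1) ha hd (ip _ _ (-1) vA vD ?_)) (hint b d _ _ (-1) hb hd (ip _ _ (-1) vB vD ?_))
    (hint a f _ _ 0 ha hf (ip _ _ 0 vA vF ?_)) (hint b f _ _ 0 hb hf (ip _ _ 0 vB vF ?_))
    (hint c d _ _ 1 hc hd (ip _ _ 1 vC vD ?_)) (hint c f _ _ 1 hc hf (ip _ _ 1 vC vF ?_))
    (hint d f _ _ (-1) hd hf (ip _ _ (-1) vD vF ?_))
    (hdeg0 a tA vA.1 ha) (hdeg0 b tB vB.1 hb) (hdeg0 c tC vC.1 hc) (hdeg0 d tD vD.1 hd)
    (Nat.card G) hS4 hS8 h48 h32
  all_goals
    simp [Fin.sum_univ_eight, tA, tB, tC, tD, tF, csize, conj_rho, map_ofNat, rho_sq]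
    try ring

end Cfsg.Agent.Lib.Characters.GLTwoThree
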