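import Mathlib

/-!
# A computable model of `GL(2,3)`
-/

set_option maxRecDepth 100000
set_option synthInstance.maxSize 2000
set_option synthInstance.maxHeartbeats 200000

namespace Cfsg.Agent.Lib.Characters.GLTwoThree

instance fact_three : Fact (Nat.Prime 3) := ⟨Nat.prime_three⟩

abbrev Quad : Type := ZMod 3 × ZMod 3 × ZMod 3 × ZMod 3

/-- The determinant. -/
def qdet (m : Quad) : ZMod 3 := m.1 * m.2.2.2 - m.2.1 * m.2.2.1

/-- The trace. -/
def qtr (m : Quad) : ZMod 3 := m.1 + m.2.2.2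

/-- The product. -/
def qmul (m k : Quad) : Quad :=
  (m.1 * k.1 + m.2.1 * k.2.2.1, m.1 * k.2.1 + m.2.1 * k.2.2.2,
    m.2.2.1 * k.1 + m.2.2.2 * k.2.2.1, m.2.2.1 * k.2.1 + m.2.2.2 * k.2.2.2)

/-- The inverse. -/
def qinv (m : Quad) : Quad :=
  (m.2.2.2 * qdet m, -(m.2.1 * qdet m), -(m.2.2.1 * qdet m), m.1 * qdet m)

/-- `GL(2,3)` by entries. -/
abbrev G23 : Type := {m : Quad // qdet m ≠ 0}

theorem qdet_qmul (m k : Quad) : qdet (qmul m k) = qdet m * qdet k := by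
  simp only [qdet, qmul]
  ring

theorem qdet_qinv : ∀ m : Quad, qdet m ≠ 0 → qdet (qinv m) ≠ 0 ∧ qmul (qinv m) m = (1, 0, 0, 1) := by
  decide +kernel

instance g23Group : Group G23 where
  mul m k := ⟨qmul m.1 k.1, by rw [qdet_qmul]; exact mul_ne_zero m.2 k.2⟩
  one := ⟨(1, 0, 0, 1), by decide⟩
  inv m := ⟨qinv m.1, (qdet_qinv m.1 m.2).1⟩
  mul_assoc m k l := by
    refine Subtype.ext ?_
    show qmul (qmul m.1 k.1) l.1 = qmul m.1 (qmul k.1 l.1)
    simp only [qmul, Prod.mk.injEq]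
    refine ⟨?_, ?_, ?_, ?_⟩ <;> ring
  one_mul m := by
    refine Subtype.ext ?_
    show qmul (1, 0, 0, 1) m.1 = m.1
    simp [qmul]
  mul_one m := by
    refine Subtype.ext ?_
    show qmul m.1 (1, 0, 0, 1) = m.1
    simp [qmul]
  inv_mul_cancel m := Subtype.ext (qdet_qinv m.1 m.2).2

/-- The comparison with the matrix group. -/
noncomputable def toG23 : Matrix.GeneralLinearGroup (Fin 2) (ZMod 3) ≃* G23 := by
  refine MulEquiv.ofBijective
    (MonoidHom.mk' (fun A => (⟨(A.1 0 0, A.1 0 1, A.1 1 0, A.1 1 1), ?_⟩ : G23)) ?_) ⟨?_, ?_⟩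
  · show A.1 0 0 * A.1 1 1 - A.1 0 1 * A.1 1 0 ≠ 0
    rw [← Matrix.det_fin_two]
    exact ((Matrix.isUnit_iff_isUnit_det _).mp A.isUnit).ne_zero
  · intro A B
    refine Subtype.ext ?_
    show (_, _, _, _) = qmul _ _
    simp [qmul, Matrix.mul_apply, Fin.sum_univ_two]
  · intro A B h
    have h' := congrArg Subtype.val h
    simp only [MonoidHom.mk'_apply, Prod.mk.injEq] at h'
    refine Units.ext (Matrix.ext fun i j => ?_)
    fin_cases i <;> fin_cases j
    · exact h'.1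
    · exact h'.2.1
    · exact h'.2.2.1
    · exact h'.2.2.2
  · rintro ⟨⟨a, b, c, d⟩, h⟩
    refine ⟨Matrix.GeneralLinearGroup.mkOfDetNeZero !![a, b; c, d] ?_, Subtype.ext ?_⟩
    · simpa [Matrix.det_fin_two, qdet] using h
    · simp [Matrix.GeneralLinearGroup.mkOfDetNeZero]

/-- The central involution. -/
def neg1 : G23 := ⟨(2, 0, 0, 2), by decide⟩

/-- The class index: `1, -1`, reflection, order four, two classes of order eight, three, six. -/
def cls (g : G23) : Fin 8 :=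
  if g = 1 then 0
  else if g = neg1 then 1
  else if qdet g.1 = 1 then
    (if qtr g.1 = 0 then 3 else if qtr g.1 = 2 then 6 else 7)
  else (if qtr g.1 = 0 then 2 else if qtr g.1 = 1 then 4 else 5)

/-- Representatives. -/
def rep : Fin 8 → G23 :=
  ![1, neg1, ⟨(1, 0, 0, 2), by decide⟩, ⟨(0, 2, 1, 0), by decide⟩, ⟨(1, 1, 1, 0), by decide⟩,
    ⟨(2, 1, 1, 0), by decide⟩, ⟨(1, 1, 0, 1), by decide⟩, ⟨(2, 1, 0, 2), by decide⟩]

/-- The class sizes. -/
def csize : Fin 8 → ℕ := ![1, 1, 12, 6, 6, 6, 8, 8]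

theorem cls_rep : ∀ i, cls (rep i) = i := by decide +kernel

theorem cls_conj : ∀ x g : G23, cls (x * g * x⁻¹) = cls g := by decide +kernel

theorem exists_conj_rep : ∀ g : G23, ∃ x : G23, x * rep (cls g) * x⁻¹ = g := by decide +kernel

theorem card_cls : ∀ i, (Finset.univ.filter fun g : G23 => cls g = i).card = csize i := by
  decide +kernel

theorem card_g23 : Fintype.card G23 = 48 := by decide +kernel

/-- The elements having `-1` as a power. -/
def Spec (g : G23) : Prop := cls g = 1 ∨ cls g = 3 ∨ cls g = 4 ∨ cls g = 5 ∨ cls g = 7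

instance spec_decidable : DecidablePred Spec := fun g => by unfold Spec; infer_instance

theorem spec_pow : ∀ g : G23, Spec g → g ^ 1 = neg1 ∨ g ^ 2 = neg1 ∨ g ^ 4 = neg1 ∨ g ^ 3 = neg1 := by
  decide +kernel

theorem spec_pow_involution : ∀ g : G23, Spec g → ∀ k : Fin 5,
    g ^ (k : ℕ) * g ^ (k : ℕ) = 1 → g ^ (k : ℕ) = 1 ∨ g ^ (k : ℕ) = neg1 := by
  decide +kernel

theorem neg1_sq : neg1 * neg1 = 1 := by decide +kernel

theorem neg1_ne_one : neg1 ≠ 1 := by decide +kernel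

theorem center_two : ∀ q : G23, q * q = 1 → q ≠ 1 → (∀ p, p * q = q * p) → q = neg1 := by
  decide +kernel

/-- An element of order eight. -/
def w8 : G23 := ⟨(1, 1, 1, 0), by decide⟩

theorem w8_pow : w8 ^ 4 = neg1 ∧ w8 ^ 8 = 1 ∧ ∀ k : Fin 8, k ≠ 0 → w8 ^ (k : ℕ) ≠ 1 := by
  decide +kernel

/-- An involution inverting up to the cube the element of order eight. -/
def s2 : G23 := ⟨(1, 0, 2, 2), by decide⟩

theorem semidihedral : s2 * s2 = 1 ∧ s2 * w8 * s2 = w8 ^ 3 ∧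
    ∀ k : Fin 8, s2 ≠ w8 ^ (k : ℕ) := by decide +kernel

theorem centralizer_sylow : ∀ q : G23, q * q = 1 → q ≠ 1 → q * w8 = w8 * q → q * s2 = s2 * q →
    q = neg1 := by decide +kernel

theorem involution_cases : ∀ q : G23, q * q = 1 → q ≠ 1 → q = neg1 ∨ cls q = 2 := by decide +kernel

theorem w8_powers_involution : ∀ k : Fin 8, (w8 ^ (k : ℕ)) * (w8 ^ (k : ℕ)) = 1 →
    w8 ^ (k : ℕ) = 1 ∨ w8 ^ (k : ℕ) = neg1 := by decide +kernel

theorem cls_s2 : cls s2 = 2 := by decide +kernel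

theorem noncomm : w8 * s2 ≠ s2 * w8 := by decide +kernel

theorem pair_count4 : (Finset.univ.filter fun p : G23 =>
    (p * p = 1 ∧ p ≠ 1) ∧ ((p⁻¹ * rep 3) * (p⁻¹ * rep 3) = 1 ∧ p⁻¹ * rep 3 ≠ 1)).card = 4 := by
  decide +kernel

theorem pair_count8 : ∀ i : Fin 8, i = 4 ∨ i = 5 → (Finset.univ.filter fun p : G23 =>
    (p * p = 1 ∧ p ≠ 1) ∧ ((p⁻¹ * rep i) * (p⁻¹ * rep i) = 1 ∧ p⁻¹ * rep i ≠ 1)).card = 0 := by
  decide +kernel

/-- Counts for inducing from the cyclic group of order eight. -/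
theorem count_w8 : ∀ i : Fin 8, ∀ k : Fin 8,
    (Finset.univ.filter fun x : G23 => x⁻¹ * rep i * x = w8 ^ (k : ℕ)).card =
      ![![48, 0, 0, 0, 0, 0, 0, 0], ![0, 0, 0, 0, 48, 0, 0, 0], ![0, 0, 0, 0, 0, 0, 0, 0],
        ![0, 0, 8, 0, 0, 0, 8, 0], ![0, 8, 0, 8, 0, 0, 0, 0], ![0, 0, 0, 0, 0, 8, 0, 8],
        ![0, 0, 0, 0, 0, 0, 0, 0], ![0, 0, 0, 0, 0, 0, 0, 0]] i k := by
  decide +kernel

/-! ### The permutation actions -/

/-- The non-zero vectors. -/
abbrev Vec : Type := {v : ZMod 3 × ZMod 3 // v ≠ 0}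

/-- The action on vectors. -/
def vmul (g : Quad) (v : ZMod 3 × ZMod 3) : ZMod 3 × ZMod 3 :=
  (g.1 * v.1 + g.2.1 * v.2, g.2.2.1 * v.1 + g.2.2.2 * v.2)

theorem vmul_ne : ∀ g : G23, ∀ v : Vec, vmul g.1 v.1 ≠ 0 := by decide +kernel

instance vecAction : MulAction G23 Vec where
  smul g v := ⟨vmul g.1 v.1, vmul_ne g v⟩
  one_smul v := by
    refine Subtype.ext ?_
    show vmul (1, 0, 0, 1) v.1 = v.1
    simp [vmul]
  mul_smul g k v := by
    refine Subtype.ext ?_
    show vmul (qmul g.1 k.1) v.1 = vmul g.1 (vmul k.1 v.1)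
    simp only [vmul, qmul, Prod.mk.injEq]
    refine ⟨?_, ?_⟩ <;> ring

/-- The lines. -/
abbrev Line : Type := {v : ZMod 3 × ZMod 3 // v.1 = 1 ∨ (v.1 = 0 ∧ v.2 = 1)}

/-- The normalised multiple. -/
def normal (v : ZMod 3 × ZMod 3) : ZMod 3 × ZMod 3 :=
  if v.1 = 0 then (0, 1) else (1, v.2 * v.1)

theorem normal_mem (v : ZMod 3 × ZMod 3) : (normal v).1 = 1 ∨ ((normal v).1 = 0 ∧ (normal v).2 = 1) := by
  unfold normal
  split_ifs
  · exact Or.inr ⟨rfl, rfl⟩
  · exact Or.inl rfl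

theorem line_one_smul : ∀ v : Line, normal (vmul (1, 0, 0, 1) v.1) = v.1 := by decide +kernel

theorem line_mul_smul : ∀ g k : G23, ∀ v : Line,
    normal (vmul (qmul g.1 k.1) v.1) = normal (vmul g.1 (normal (vmul k.1 v.1))) := by
  decide +kernel

instance lineAction : MulAction G23 Line where
  smul g v := ⟨normal (vmul g.1 v.1), normal_mem _⟩
  one_smul v := Subtype.ext (line_one_smul v)
  mul_smul g k v := Subtype.ext (line_mul_smul g k v)

/-- The three cyclic subgroups of order four in the quaternion group, by their elements. -/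
def axis : Fin 3 → G23 :=
  ![⟨(0, 2, 1, 0), by decide⟩, ⟨(1, 1, 1, 2), by decide⟩, ⟨(2, 1, 1, 1), by decide⟩]

/-- The image of an axis. -/
def axisImage (g : G23) (k : Fin 3) : Fin 3 :=
  if g * axis k * g⁻¹ = axis 0 ∨ g * axis k * g⁻¹ = (axis 0)⁻¹ then 0
  else if g * axis k * g⁻¹ = axis 1 ∨ g * axis k * g⁻¹ = (axis 1)⁻¹ then 1 else 2

theorem axisImage_spec : ∀ g : G23, ∀ k : Fin 3,
    g * axis k * g⁻¹ = axis (axisImage g k) ∨ g * axis k * g⁻¹ = (axis (axisImage g k))⁻¹ := by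
  decide +kernel

theorem axis_inj : ∀ i j : Fin 3, axis i = axis j ∨ axis i = (axis j)⁻¹ → i = j := by
  decide +kernel

theorem axisImage_mul : ∀ g k : G23, ∀ i : Fin 3,
    axisImage (g * k) i = axisImage g (axisImage k i) := by decide +kernel

instance axisAction : MulAction G23 (Fin 3) where
  smul := axisImage
  one_smul k := by
    refine axis_inj _ _ ?_
    have h := axisImage_spec 1 k
    rw [one_mul, inv_one, mul_one] at h
    rcases h with h | h
    · exact Or.inl h.symm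
    · exact Or.inr (by rw [h]; exact (inv_inv _).symm)
  mul_smul g k i := axisImage_mul g k i

theorem fix_counts : ∀ g : G23,
    (Finset.univ.filter fun v : Vec => vmul g.1 v.1 = v.1).card = ![8, 0, 2, 0, 0, 0, 2, 0] (cls g) ∧
    (Finset.univ.filter fun v : Line => normal (vmul g.1 v.1) = v.1).card =
      ![4, 4, 2, 0, 0, 0, 1, 1] (cls g) ∧
    (Finset.univ.filter fun k : Fin 3 => axisImage g k = k).card = ![3, 3, 1, 3, 1, 1, 0, 0] (cls g) := by
  decide +kernel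

theorem qdet_cls : ∀ g : G23, qdet g.1 = ![1, 1, 2, 1, 2, 2, 1, 1] (cls g) := by decide +kernel

end Cfsg.Agent.Lib.Characters.GLTwoThree
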