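import Cfsg.Agent.Lib.Characters.Kernel
import Cfsg.Agent.Lib.Characters.Ito
import Cfsg.Agent.Lib.RankTwo.Basic
import Cfsg.Agent.Lib.AbelianConj.Basic
import Mathlib

/-!
`p`-groups in which nonlinear characters of equal degree are Galois conjugate.
-/

set_option autoImplicit false
set_option linter.style.haveILetI false

namespace Cfsg.Agent.Lib.Characters.GaloisDegree

open scoped commutatorElement ComplexConjugate

universe u

variable {G : Type u} [Group G] [Finite G] {p : ℕ} [hp : Fact p.Prime]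

/-- Nonlinear characters of equal degree differ by a power map. -/
def Conjp (G : Type u) [Group G] : Prop :=
  ∀ χ ψ : Cfsg.IrrCharacter G, (χ : G → ℂ) 1 ≠ 1 → (χ : G → ℂ) 1 = (ψ : G → ℂ) 1 →
    ∃ k : ℕ, Nat.Coprime k (Nat.card G) ∧ ∀ g : G, (ψ : G → ℂ) g = (χ : G → ℂ) (g ^ k)

theorem Conjp.quotient (h : Conjp G) (N : Subgroup G) [N.Normal] : Conjp (G ⧸ N) := by
  intro χ ψ h1 h2
  obtain ⟨k, hk, hkv⟩ := h
    ⟨(χ : G ⧸ N → ℂ) ∘ QuotientGroup.mk' N, IsIrrCharacter.comp_surjective χ.2 _ (QuotientGroup.mk'_surjective N)⟩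
    ⟨(ψ : G ⧸ N → ℂ) ∘ QuotientGroup.mk' N, IsIrrCharacter.comp_surjective ψ.2 _ (QuotientGroup.mk'_surjective N)⟩
    (by simpa using h1) (by simpa using h2)
  refine ⟨k, hk.coprime_dvd_right (Subgroup.card_quotient_dvd_card N), fun q => ?_⟩
  obtain ⟨g, rfl⟩ := QuotientGroup.mk'_surjective N q
  have := hkv g
  simp only [Function.comp_apply, map_pow] at this
  exact this

theorem kernel_iff (h : Conjp G) {χ ψ : Cfsg.IrrCharacter G} (h1 : (χ : G → ℂ) 1 ≠ 1)
    (h2 : (χ : G → ℂ) 1 = (ψ : G → ℂ) 1) (g : G) :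
    (χ : G → ℂ) g = (χ : G → ℂ) 1 ↔ (ψ : G → ℂ) g = (ψ : G → ℂ) 1 := by
  obtain ⟨k, hk, hkv⟩ := h χ ψ h1 h2
  have hmem : ∀ x, x ∈ charKernel (irr_isCharacter χ) ↔ (χ : G → ℂ) x = (χ : G → ℂ) 1 := fun x => Iff.rfl
  rw [hkv g, ← h2, ← hmem, ← hmem]
  refine ⟨fun hg => pow_mem hg k, fun hg => ?_⟩
  obtain ⟨m, hm⟩ := exists_pow_eq_self_of_coprime (x := g) (n := k)
    (hk.coprime_dvd_right (orderOf_dvd_natCard g))
  rw [← hm]
  exact pow_mem hg m

/-- An element commuting with everything modulo the kernel is a scalar. -/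
theorem scalar_of_comm {χ : G → ℂ} (hχ : Cfsg.IsIrrCharacter G χ) {z : G}
    (hz : ∀ x : G, χ ⁅z, x⁆ = χ 1) : ∃ w : ℂ, ‖w‖ = 1 ∧ ∀ g : G, χ (g * z) = w * χ g := by
  obtain ⟨n, ρ, hρ, rfl⟩ := hχ
  haveI := hρ
  have hc : ∀ x, ρ z * ρ x = ρ x * ρ z := by
    intro x
    have h1 := hz x
    rw [ρ.char_one, char_eq_finrank_iff] at h1
    have h2 : z * x = ⁅z, x⁆ * (x * z) := by rw [commutatorElement_def]; group
    rw [← map_mul, h2, map_mul, h1, map_mul]
    rfl
  obtain ⟨w, hw⟩ := exists_smul_of_commute ρ (ρ z) hc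
  refine ⟨w, ?_, fun g => ?_⟩
  · haveI : Nontrivial (Fin n → ℂ) := nontrivial_of_isIrreducible ρ
    obtain ⟨v, hv⟩ := exists_ne (0 : Fin n → ℂ)
    have h1 : ∀ j : ℕ, ρ (z ^ j) v = w ^ j • v := by
      intro j
      induction j with
      | zero => simp
      | succ j ih =>
        rw [pow_succ', map_mul, Module.End.mul_apply, ih, hw, LinearMap.smul_apply, LinearMap.id_apply, smul_smul, pow_succ']
    have h2 := h1 (orderOf z)
    rw [pow_orderOf_eq_one, map_one, Module.End.one_apply] at h2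
    have h3 : (w ^ orderOf z - 1) • v = 0 := by rw [sub_smul, one_smul, ← h2, sub_self]
    exact Complex.norm_eq_one_of_pow_eq_one (sub_eq_zero.mp ((smul_eq_zero.mp h3).resolve_right hv)) (orderOf_pos z).ne'
  · simp only [Representation.character, map_mul, hw]
    rw [← Module.End.one_eq_id, mul_smul_comm, mul_one, map_smul, smul_eq_mul]

theorem norm_sq_bound {χ : G → ℂ} (hχ : Cfsg.IsIrrCharacter G χ) (Z : Subgroup G) {d : ℕ} (hd : χ 1 = d)
    (hZ : ∀ z ∈ Z, ∀ x : G, χ ⁅z, x⁆ = χ 1) :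
    d ^ 2 * Nat.card Z ≤ Nat.card G ∧ ((∀ g, g ∉ Z → χ g = 0) → d ^ 2 * Nat.card Z = Nat.card G) := by
  classical
  haveI := Fintype.ofFinite G
  have h1 := IsIrrCharacter.classInner_self hχ
  rw [Cfsg.classInner, inv_mul_eq_iff_eq_mul₀ natCard_ne_zero_complex, mul_one] at h1
  simp only [Complex.mul_conj'] at h1
  have h2 : ∑ g : G, ‖χ g‖ ^ 2 = (Nat.card G : ℝ) := by exact_mod_cast h1
  have h3 : ∀ z ∈ Z, ‖χ z‖ = (d : ℝ) := by
    intro z hz
    obtain ⟨w, hw, hwv⟩ := scalar_of_comm hχ (hZ z hz)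
    have := hwv 1
    rw [one_mul] at this
    rw [this, norm_mul, hw, one_mul, hd, Complex.norm_natCast]
  have h4 : ∑ g ∈ Finset.univ.filter (fun g => g ∈ Z), ‖χ g‖ ^ 2 = ((d ^ 2 * Nat.card Z : ℕ) : ℝ) := by
    rw [Finset.sum_congr rfl (fun g hg => by rw [h3 g (Finset.mem_filter.mp hg).2]), Finset.sum_const,
      nsmul_eq_mul, ← Fintype.card_subtype, ← Nat.card_eq_fintype_card]
    push_cast
    ring
  refine ⟨?_, fun hv => ?_⟩
  · have h5 : ((d ^ 2 * Nat.card Z : ℕ) : ℝ) ≤ (Nat.card G : ℝ) := by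
      rw [← h4, ← h2]
      exact Finset.sum_le_sum_of_subset_of_nonneg (Finset.subset_univ _) fun g _ _ => sq_nonneg _
    exact_mod_cast h5
  · have h5 : ((d ^ 2 * Nat.card Z : ℕ) : ℝ) = (Nat.card G : ℝ) := by
      rw [← h4, ← h2]
      refine Finset.sum_subset (Finset.subset_univ _) fun g _ hg => ?_
      rw [hv g (fun hgz => hg (Finset.mem_filter.mpr ⟨Finset.mem_univ _, hgz⟩)), norm_zero]
      norm_num
    exact_mod_cast h5

/-- The product with a linear character. -/
theorem mul_linear {χ lam : G → ℂ} (hχ : Cfsg.IsIrrCharacter G χ) (hl : Cfsg.IsIrrCharacter G lam)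
    (h1 : lam 1 = 1) : Cfsg.IsIrrCharacter G (χ * lam) := by
  haveI := Fintype.ofFinite G
  rw [IsCharacter.isIrr_iff (IsCharacter.mul (IsIrrCharacter.isCharacter hχ) (IsIrrCharacter.isCharacter hl)),
    ← IsIrrCharacter.classInner_self hχ, Cfsg.classInner, Cfsg.classInner]
  congr 1
  refine Finset.sum_congr rfl fun g _ => ?_
  obtain ⟨φ, rfl⟩ := IsCharacter.exists_hom_of_apply_one (IsIrrCharacter.isCharacter hl) h1
  have h : (φ g : ℂ) * conj (φ g : ℂ) = 1 := by
    rw [Complex.mul_conj', Complex.norm_eq_one_of_pow_eq_one (n := orderOf g)]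
    · simp
    · rw [← Units.val_pow_eq_pow_val, ← map_pow, pow_orderOf_eq_one, map_one]; rfl
    · exact (orderOf_pos g).ne'
  simp only [Pi.mul_apply, map_mul]
  calc _ = χ g * conj (χ g) * ((φ g : ℂ) * conj (φ g : ℂ)) := by ring
    _ = _ := by rw [h, mul_one]

theorem not_trivial_on_commutator {χ : G → ℂ} (hχ : Cfsg.IsIrrCharacter G χ) (h1 : χ 1 ≠ 1) :
    ∃ c ∈ commutator G, χ c ≠ χ 1 := by
  by_contra hc
  push Not at hc
  obtain ⟨ψ, hψ, rfl⟩ := IsIrrCharacter.exists_quotient hχ (commutator G) hc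
  refine h1 ?_
  show ψ (QuotientGroup.mk' (commutator G) 1) = 1
  rw [map_one]
  exact IsIrrCharacter.apply_one_of_comm
    (fun a b => (inferInstance : CommGroup (Abelianization G)).mul_comm a b) hψ

/-- With derived subgroup of order `p`, nonlinear characters vanish off the centre. -/
theorem vanish (hG : IsPGroup p G) (hc : Nat.card (commutator G) = p) {χ : G → ℂ}
    (hχ : Cfsg.IsIrrCharacter G χ) (h1 : χ 1 ≠ 1) {g : G} (hg : g ∉ Subgroup.center G) : χ g = 0 := by
  obtain ⟨x, hx⟩ : ∃ x : G, ⁅g⁻¹, x⁆ ≠ 1 := by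
    by_contra hall
    push Not at hall
    refine hg ((Subgroup.inv_mem_iff _).mp (Subgroup.mem_center_iff.mpr fun x => (commutatorElement_eq_one_iff_mul_comm.mp (hall x)).symm))
  set c := ⁅g⁻¹, x⁆ with hcdef
  have hcm : c ∈ commutator G := Subgroup.commutator_mem_commutator (Subgroup.mem_top _) (Subgroup.mem_top _)
  have hcc := RankTwo.le_center_of_card_le hG hc.le hcm
  have hcne : χ c ≠ χ 1 := by
    intro he
    obtain ⟨y, hy, hy1⟩ := not_trivial_on_commutator hχ h1
    have hz : Subgroup.zpowers c = commutator G := by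
      refine Subgroup.eq_of_le_of_card_ge (Subgroup.zpowers_le.mpr hcm) (le_of_eq ?_)
      rw [hc, Nat.card_zpowers]
      have : orderOf c ∣ p := hc ▸ Subgroup.orderOf_dvd_natCard _ hcm
      exact (((Nat.dvd_prime hp.out).mp this).resolve_left (fun h => hx (orderOf_eq_one_iff.mp h))).symm
    rw [← hz] at hy
    exact hy1 (Subgroup.zpowers_le.mpr (show c ∈ charKernel (IsIrrCharacter.isCharacter hχ) from he) hy)
  obtain ⟨w, -, hwv⟩ := scalar_of_comm hχ (z := c) (fun y => by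
    rw [commutatorElement_eq_one_iff_mul_comm.mpr (Subgroup.mem_center_iff.mp hcc y).symm])
  have h2 : χ (g * c) = χ g := by
    have : g * c = x * g * x⁻¹ := by rw [hcdef, commutatorElement_def]; group
    rw [this, IsCharacter.conj_apply (IsIrrCharacter.isCharacter hχ)]
  rw [hwv] at h2
  by_contra hne
  have hw1 : w = 1 := mul_right_cancel₀ hne (h2.trans (one_mul _).symm)
  have := hwv 1
  rw [one_mul, hw1, one_mul] at this
  exact hcne this

theorem degree_sq (hG : IsPGroup p G) (hc : Nat.card (commutator G) = p) {χ : G → ℂ}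
    (hχ : Cfsg.IsIrrCharacter G χ) (h1 : χ 1 ≠ 1) {d : ℕ} (hd : χ 1 = d) :
    d ^ 2 * Nat.card (Subgroup.center G) = Nat.card G :=
  (norm_sq_bound hχ (Subgroup.center G) hd fun z hz x => by
    rw [commutatorElement_eq_one_iff_mul_comm.mpr (Subgroup.mem_center_iff.mp hz x).symm]).2
    fun g hg => vanish hG hc hχ h1 hg

/-- The structure when the derived subgroup has order `p`. -/
theorem derived_prime (hG : IsPGroup p G) (hc : Nat.card (commutator G) = p) (h : Conjp G) :
    IsCyclic (Subgroup.center G) ∧ (∀ x : G, x ^ (p * Nat.card (Subgroup.center G)) = 1) ∧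
      ∃ e : ℕ, e ^ 2 * Nat.card (Subgroup.center G) = Nat.card G ∧
        ∃ χ : Cfsg.IrrCharacter G, (χ : G → ℂ) 1 ≠ 1 ∧ (χ : G → ℂ) 1 = e := by
  obtain ⟨χ, hχ1⟩ : ∃ χ : Cfsg.IrrCharacter G, (χ : G → ℂ) 1 ≠ 1 := by
    by_contra hall
    push Not at hall
    have := comm_iff_forall_irr_one.mpr hall
    have hb : commutator G = ⊥ := by
      rw [commutator_def, Subgroup.commutator_eq_bot_iff_le_centralizer]
      exact fun a _ => Subgroup.mem_centralizer_iff.mpr fun b _ => this b a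
    rw [hb, Subgroup.card_bot] at hc
    exact hp.out.one_lt.ne hc
  obtain ⟨e, he0, he⟩ := IsIrrCharacter.exists_apply_one χ.2
  have hesq := degree_sq hG hc χ.2 hχ1 he
  -- faithful
  have hfaith : ∀ g : G, (χ : G → ℂ) g = (χ : G → ℂ) 1 → g = 1 := by
    intro g hg
    by_contra hg1
    by_cases hgc : g ∈ commutator G
    · obtain ⟨y, hy, hy1⟩ := not_trivial_on_commutator χ.2 hχ1
      have hz : Subgroup.zpowers g = commutator G := by
        refine Subgroup.eq_of_le_of_card_ge (Subgroup.zpowers_le.mpr hgc) (le_of_eq ?_)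
        rw [hc, Nat.card_zpowers]
        have : orderOf g ∣ p := hc ▸ Subgroup.orderOf_dvd_natCard _ hgc
        exact (((Nat.dvd_prime hp.out).mp this).resolve_left (fun h => hg1 (orderOf_eq_one_iff.mp h))).symm
      rw [← hz] at hy
      exact hy1 (Subgroup.zpowers_le.mpr (show g ∈ charKernel (irr_isCharacter χ) from hg) hy)
    · have hgb : QuotientGroup.mk' (commutator G) g ≠ 1 := fun e => hgc ((QuotientGroup.eq_one_iff g).mp e)
      obtain ⟨l, hl⟩ := exists_irr_ne_apply_one hgb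
      have hl1 : (l : G ⧸ commutator G → ℂ) 1 = 1 := IsIrrCharacter.apply_one_of_comm
        (fun a b => (inferInstance : CommGroup (Abelianization G)).mul_comm a b) l.2
      rw [hl1] at hl
      have hli := IsIrrCharacter.comp_surjective l.2 (QuotientGroup.mk' (commutator G)) (QuotientGroup.mk'_surjective _)
      have hlie : ((l : G ⧸ commutator G → ℂ) ∘ QuotientGroup.mk' (commutator G)) 1 = 1 := by
        rw [Function.comp_apply, map_one, hl1]
      let ψ : Cfsg.IrrCharacter G := ⟨_, mul_linear χ.2 hli hlie⟩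
      have hψ1 : (χ : G → ℂ) 1 = (ψ : G → ℂ) 1 := by
        show _ = (χ : G → ℂ) 1 * _
        rw [hlie, mul_one]
      have h2 := (kernel_iff h hχ1 hψ1 g).mp hg
      rw [← hψ1] at h2
      change (χ : G → ℂ) g * (l : G ⧸ commutator G → ℂ) (QuotientGroup.mk' (commutator G) g) = _ at h2
      rw [hg] at h2
      exact hl (mul_left_cancel₀ (IsIrrCharacter.apply_one_ne_zero χ.2) (h2.trans (mul_one _).symm))
  refine ⟨?_, ?_, e, hesq, χ, hχ1, he⟩
  · have hsc : ∀ z ∈ Subgroup.center G, ∀ x : G, (χ : G → ℂ) ⁅z, x⁆ = (χ : G → ℂ) 1 := fun z hz x => by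
      rw [commutatorElement_eq_one_iff_mul_comm.mpr (Subgroup.mem_center_iff.mp hz x).symm]
    have hne : (χ : G → ℂ) 1 ≠ 0 := IsIrrCharacter.apply_one_ne_zero χ.2
    let f : Subgroup.center G →* ℂ :=
      { toFun := fun z => (χ : G → ℂ) (z : G) / (χ : G → ℂ) 1
        map_one' := div_self hne
        map_mul' := fun a b => by
          obtain ⟨w, -, hw⟩ := scalar_of_comm χ.2 (hsc b b.2)
          have h1 : (χ : G → ℂ) (b : G) = w * (χ : G → ℂ) 1 := by rw [← hw 1, one_mul]
          rw [Subgroup.coe_mul, hw (a : G), h1]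
          field_simp }
    refine isCyclic_of_subgroup_isDomain f ?_
    rw [injective_iff_map_eq_one]
    intro z hz
    exact Subtype.ext (hfaith z (div_eq_one_iff_eq hne |>.mp hz))
  · intro x
    rw [pow_mul]
    refine (congrArg Subtype.val (pow_card_eq_one' (x := (⟨x ^ p, ?_⟩ : Subgroup.center G))) : _)
    refine Subgroup.mem_center_iff.mpr fun y => ?_
    have hk := RankTwo.le_center_of_card_le hG hc.le
      (Subgroup.commutator_mem_commutator (Subgroup.mem_top x⁻¹) (Subgroup.mem_top y))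
    have hkp : ⁅x⁻¹, y⁆ ^ p = 1 := by
      rw [← orderOf_dvd_iff_pow_eq_one, ← hc]
      exact Subgroup.orderOf_dvd_natCard _ (Subgroup.commutator_mem_commutator (Subgroup.mem_top _) (Subgroup.mem_top _))
    have hyx : y * x * y⁻¹ = x * ⁅x⁻¹, y⁆ := by rw [commutatorElement_def]; group
    have h3 : y * x ^ p * y⁻¹ = x ^ p := by
      rw [← conj_pow, hyx, (show Commute x ⁅x⁻¹, y⁆ from Subgroup.mem_center_iff.mp hk x).mul_pow, hkp, mul_one]
    exact mul_inv_eq_iff_eq_mul.mp h3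

/-- The key step: the derived subgroup is no larger. -/
theorem no_step {Y : Type u} [Group Y] [Finite Y] (hY : IsPGroup p Y) (h : Conjp Y) (N : Subgroup Y)
    [N.Normal] (hN : Nat.card N = p) (hNY : N ≤ commutator Y) (hq : Nat.card (commutator (Y ⧸ N)) = p) : False := by
  classical
  haveI := Fintype.ofFinite Y
  haveI := Fintype.ofFinite N
  haveI := Fintype.ofFinite (Cfsg.IrrCharacter Y)
  have hp2 := hp.out.two_le
  obtain ⟨hcyc, hexp, e, hesq, χb, hχb1, hχbe⟩ := derived_prime (hY.to_quotient N) hq (h.quotient N)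
  set π := QuotientGroup.mk' N with hπ
  set Zc := Subgroup.center (Y ⧸ N) with hZc
  have hNc : N ≤ Subgroup.center Y := RankTwo.le_center_of_card_le hY hN.le
  have hcardY : Nat.card Y = p * Nat.card (Y ⧸ N) := by
    rw [Subgroup.card_eq_card_quotient_mul_card_subgroup N, hN, mul_comm]
  -- the centre of `Y`
  have hZY : Nat.card Zc ≤ Nat.card (Subgroup.center Y) := by
    obtain ⟨⟨zb, hzb⟩, hgen⟩ := IsCyclic.exists_generator (α := Zc)
    obtain ⟨z, rfl⟩ := QuotientGroup.mk'_surjective N zb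
    have hz : ∀ y, ⁅z⁻¹, y⁆ ∈ N := fun y => by
      rw [← QuotientGroup.eq_one_iff]
      show π ⁅z⁻¹, y⁆ = 1
      rw [map_commutatorElement, commutatorElement_eq_one_iff_mul_comm]
      exact (Subgroup.mem_center_iff.mp (by rw [map_inv]; exact inv_mem hzb) (π y)).symm
    have hzp : z ^ p ∈ Subgroup.center Y := Subgroup.mem_center_iff.mpr fun y => by
      have hkp : ⁅z⁻¹, y⁆ ^ p = 1 := by
        rw [← orderOf_dvd_iff_pow_eq_one, ← hN]
        exact Subgroup.orderOf_dvd_natCard _ (hz y)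
      have hyx : y * z * y⁻¹ = z * ⁅z⁻¹, y⁆ := by rw [commutatorElement_def]; group
      have h3 : y * z ^ p * y⁻¹ = z ^ p := by
        rw [← conj_pow, hyx, (show Commute z ⁅z⁻¹, y⁆ from Subgroup.mem_center_iff.mp (hNc (hz y)) z).mul_pow, hkp, mul_one]
      exact mul_inv_eq_iff_eq_mul.mp h3
    have hW : (Subgroup.zpowers (π (z ^ p))).comap π ≤ Subgroup.center Y := by
      intro y hy
      obtain ⟨i, hi⟩ := Subgroup.mem_zpowers_iff.mp (show π y ∈ Subgroup.zpowers (π (z ^ p)) from hy)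
      rw [← map_zpow] at hi
      have hmem : ((z ^ p) ^ i)⁻¹ * y ∈ N := QuotientGroup.eq.mp hi
      have := mul_mem (Subgroup.zpow_mem _ hzp i) (hNc hmem)
      rwa [mul_inv_cancel_left] at this
    refine le_trans ?_ (Subgroup.card_le_of_le hW)
    rw [show Nat.card ((Subgroup.zpowers (π (z ^ p))).comap π) = p * orderOf (π (z ^ p)) by
      rw [Cores.card_comap_mk', hN, Nat.card_zpowers]]
    have hord : Nat.card Zc = orderOf (π z) := by
      rw [← orderOf_eq_card_of_forall_mem_zpowers hgen, Subgroup.orderOf_mk]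
    rw [hord, map_pow, orderOf_pow]
    have hg : Nat.gcd (orderOf (π z)) p ≤ p := Nat.le_of_dvd hp.out.pos (Nat.gcd_dvd_right _ _)
    calc orderOf (π z) = Nat.gcd (orderOf (π z)) p * (orderOf (π z) / Nat.gcd (orderOf (π z)) p) :=
          (Nat.mul_div_cancel' (Nat.gcd_dvd_left _ _)).symm
      _ ≤ _ := Nat.mul_le_mul_right _ hg
  have hexpY : ∀ y : Y, y ^ (p ^ 2 * Nat.card Zc) = 1 := by
    intro y
    have h1 : y ^ (p * Nat.card Zc) ∈ N := by
      rw [← QuotientGroup.eq_one_iff, QuotientGroup.mk_pow]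
      exact hexp (y : Y ⧸ N)
    have h2 : (y ^ (p * Nat.card Zc)) ^ p = 1 :=
      orderOf_dvd_iff_pow_eq_one.mp ((Subgroup.orderOf_dvd_natCard _ h1).trans (dvd_of_eq hN))
    rw [← pow_mul] at h2
    rw [show p ^ 2 * Nat.card Zc = p * Nat.card Zc * p by ring]
    exact h2
  obtain ⟨c, hc⟩ := ((hY.to_quotient N).to_subgroup Zc).exists_card_eq
  obtain ⟨a, ha⟩ := (hY.to_quotient N).exists_card_eq
  obtain ⟨m, rfl⟩ : ∃ m, e = p ^ m := by
    have hd : e ∣ p ^ a := ha ▸ hesq ▸ dvd_mul_of_dvd_left (dvd_pow_self e two_ne_zero) _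
    obtain ⟨m, -, hm⟩ := (Nat.dvd_prime_pow hp.out).mp hd
    exact ⟨m, hm⟩
  -- the characters not trivial on `N`
  set U := (Finset.univ : Finset (Cfsg.IrrCharacter Y)).filter fun χ : Cfsg.IrrCharacter Y => ¬ ∀ n ∈ N, (χ : Y → ℂ) n = (χ : Y → ℂ) 1 with hU
  have hUsum : ∑ χ ∈ U, (χ : Y → ℂ) 1 * (χ : Y → ℂ) 1 = ((p - 1) * Nat.card (Y ⧸ N) : ℕ) := by
    have h1 : ∀ χ : Cfsg.IrrCharacter Y, ∑ n : N, (χ : Y → ℂ) n =
        if ∀ n ∈ N, (χ : Y → ℂ) n = (χ : Y → ℂ) 1 then (p : ℂ) * (χ : Y → ℂ) 1 else 0 := by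
      intro χ
      split_ifs with hχ
      · rw [Finset.sum_congr rfl (fun (n : N) _ => hχ (n : Y) n.2), Finset.sum_const, Finset.card_univ, nsmul_eq_mul,
          ← Nat.card_eq_fintype_card, hN]
      · by_contra hne
        exact hχ fun n hn => by
          obtain ⟨k, ρ, hρ, hρχ⟩ := χ.2
          haveI := hρ
          obtain ⟨w, -, hw⟩ := scalar_of_comm χ.2 (z := n) (fun y => by
            rw [commutatorElement_eq_one_iff_mul_comm.mpr (Subgroup.mem_center_iff.mp (hNc hn) y).symm])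
          have h5 : w * ∑ x : N, (χ : Y → ℂ) x = ∑ x : N, (χ : Y → ℂ) x := by
            rw [Finset.mul_sum]
            refine Fintype.sum_equiv (Equiv.mulRight (⟨n, hn⟩ : N)) _ _ fun x => ?_
            rw [Equiv.coe_mulRight, Subgroup.coe_mul, hw]
          have hw1 : w = 1 := mul_right_cancel₀ hne (h5.trans (one_mul _).symm)
          rw [← one_mul n, hw, hw1, one_mul]
    have h2 : ∑ χ : Cfsg.IrrCharacter Y, (χ : Y → ℂ) 1 * ∑ n : N, (χ : Y → ℂ) n = (Nat.card Y : ℂ) := by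
      simp only [Finset.mul_sum]
      rw [Finset.sum_comm, Finset.sum_eq_single (1 : N)]
      · rw [Subgroup.coe_one, sum_degree_mul, if_pos rfl]
      · intro n _ hn
        exact (sum_degree_mul (n : Y)).trans (if_neg fun e => hn (Subtype.ext e))
      · exact fun h => absurd (Finset.mem_univ _) h
    simp only [h1, mul_ite, mul_zero] at h2
    rw [← Finset.sum_filter] at h2
    have h3 := sum_degree_sq (G := Y)
    simp only [sq] at h3
    rw [← Finset.sum_filter_add_sum_filter_not Finset.univ (fun χ : Cfsg.IrrCharacter Y => ∀ n ∈ N, (χ : Y → ℂ) n = (χ : Y → ℂ) 1)] at h3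
    have h4 : (p : ℂ) ≠ 0 := Nat.cast_ne_zero.mpr hp.out.ne_zero
    have h5 : ∑ χ ∈ Finset.univ.filter (fun χ : Cfsg.IrrCharacter Y => ∀ n ∈ N, (χ : Y → ℂ) n = (χ : Y → ℂ) 1),
        (χ : Y → ℂ) 1 * (χ : Y → ℂ) 1 = (Nat.card (Y ⧸ N) : ℂ) := by
      apply mul_left_cancel₀ h4
      rw [Finset.mul_sum, ← Nat.cast_mul, ← hcardY, ← h2]
      exact Finset.sum_congr rfl fun χ _ => by ring
    rw [h5] at h3
    rw [hU, Nat.cast_mul, Nat.cast_sub hp.out.one_le, Nat.cast_one, sub_mul, one_mul, ← Nat.cast_mul, ← hcardY, ← h3]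
    ring
  -- their degrees
  set deg : Cfsg.IrrCharacter Y → ℕ := fun χ => (IsIrrCharacter.exists_apply_one χ.2).choose with hdeg
  have hdeg' : ∀ χ : Cfsg.IrrCharacter Y, (χ : Y → ℂ) 1 = deg χ := fun χ =>
    (IsIrrCharacter.exists_apply_one χ.2).choose_spec.2
  have hU1 : ∀ χ ∈ U, (χ : Y → ℂ) 1 ≠ 1 := fun χ hχ h1 =>
    (Finset.mem_filter.mp hχ).2 fun n hn => by
      rw [IsCharacter.apply_of_mem_commutator (irr_isCharacter χ) h1 (hNY hn), h1]
  have hUdeg : ∀ χ ∈ U, ∃ j < m, deg χ = p ^ j := by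
    intro χ hχ
    obtain ⟨b, hb⟩ := hY.exists_card_eq
    have hdvd : deg χ ∣ (Subgroup.center Y).index :=
      IsIrrCharacter.degree_dvd_index_of_abelian χ.2 (Subgroup.center Y)
        (fun x _ y hy => Subgroup.mem_center_iff.mp hy x) (hdeg' χ)
    obtain ⟨j, -, hj⟩ := (Nat.dvd_prime_pow hp.out).mp
      (hb ▸ hdvd.trans (Subgroup.index_dvd_card _))
    refine ⟨j, ?_, hj⟩
    have hb1 := (norm_sq_bound χ.2 (Subgroup.center Y) (hdeg' χ) fun z hz x => by
      rw [commutatorElement_eq_one_iff_mul_comm.mpr (Subgroup.mem_center_iff.mp hz x).symm]).1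
    have hle : j ≤ m := by
      have h1 : (p ^ j) ^ 2 * Nat.card Zc ≤ p * ((p ^ m) ^ 2 * Nat.card Zc) := by
        rw [hesq, ← hcardY, ← hj]
        exact (Nat.mul_le_mul_left _ hZY).trans hb1
      rw [← mul_assoc] at h1
      have h2 := Nat.le_of_mul_le_mul_right h1 Nat.card_pos
      rw [← pow_mul, ← pow_mul, ← pow_succ'] at h2
      have := (Nat.pow_le_pow_iff_right hp.out.one_lt).mp h2
      omega
    refine lt_of_le_of_ne hle fun he => ?_
    let ψ : Cfsg.IrrCharacter Y := ⟨(χb : Y ⧸ N → ℂ) ∘ π, IsIrrCharacter.comp_surjective χb.2 π (QuotientGroup.mk'_surjective N)⟩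
    have h12 : (χ : Y → ℂ) 1 = (ψ : Y → ℂ) 1 := by
      show _ = (χb : Y ⧸ N → ℂ) (π 1)
      rw [map_one, hdeg' χ, hj, he, hχbe]
    refine (Finset.mem_filter.mp hχ).2 fun n hn => (kernel_iff h (hU1 χ hχ) h12 n).mpr ?_
    show (χb : Y ⧸ N → ℂ) (π n) = (χb : Y ⧸ N → ℂ) (π 1)
    rw [map_one, show π n = 1 from (QuotientGroup.eq_one_iff n).mpr hn]
  -- few characters of each degree
  set E := p ^ 2 * Nat.card Zc with hE
  have hEp : E = p ^ (c + 2) := by rw [hE, hc, pow_add]; ring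
  have hfib : ∀ j, (U.filter fun χ => deg χ = p ^ j).card ≤ Nat.totient E := by
    intro j
    rcases (U.filter fun χ => deg χ = p ^ j).eq_empty_or_nonempty with h0 | ⟨χ₀, hχ₀⟩
    · rw [h0]; exact Nat.zero_le _
    obtain ⟨hχ₀U, hχ₀j⟩ := Finset.mem_filter.mp hχ₀
    rw [Nat.totient, ← Finset.card_image_of_injective (U.filter fun χ => deg χ = p ^ j) Subtype.val_injective]
    refine (Finset.card_le_card (t := ((Finset.range E).filter fun k => E.Coprime k).image
      fun k => fun g => (χ₀ : Y → ℂ) (g ^ k)) ?_).trans Finset.card_image_le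
    intro f hf
    obtain ⟨ψ, hψ, rfl⟩ := Finset.mem_image.mp hf
    obtain ⟨hψU, hψj⟩ := Finset.mem_filter.mp hψ
    obtain ⟨k, hk, hkv⟩ := h χ₀ ψ (hU1 χ₀ hχ₀U) (by rw [hdeg', hdeg', hχ₀j, hψj])
    have hpk : Nat.Coprime E k := by
      rw [hEp]
      refine Nat.Coprime.pow_left _ ((hk.coprime_dvd_right ?_).symm)
      rw [hcardY]; exact dvd_mul_right _ _
    refine Finset.mem_image.mpr ⟨k % E, Finset.mem_filter.mpr ⟨Finset.mem_range.mpr (Nat.mod_lt _ (by rw [hEp]; exact pow_pos hp.out.pos _)), ?_⟩, ?_⟩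
    · rw [Nat.Coprime, Nat.gcd_comm, ← Nat.gcd_rec]
      exact hpk
    · funext g
      rw [hkv g]
      congr 1
      conv_rhs => rw [← Nat.mod_add_div k E, pow_add, pow_mul, hexpY g, one_pow, mul_one]
  have hsum : ((p - 1) * Nat.card (Y ⧸ N) : ℕ) ≤ Nat.totient E * ∑ j ∈ Finset.range m, (p ^ j) ^ 2 := by
    have h1 : ((∑ χ ∈ U, deg χ * deg χ : ℕ) : ℂ) = (((p - 1) * Nat.card (Y ⧸ N) : ℕ) : ℂ) := by
      rw [← hUsum, Nat.cast_sum]
      exact Finset.sum_congr rfl fun χ _ => by rw [hdeg', Nat.cast_mul]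
    rw [← Nat.cast_inj.mp h1]
    have hsub : U ⊆ (Finset.range m).biUnion (fun j => U.filter fun χ => deg χ = p ^ j) := fun χ hχ => by
      obtain ⟨j, hj, hjd⟩ := hUdeg χ hχ
      exact Finset.mem_biUnion.mpr ⟨j, Finset.mem_range.mpr hj, Finset.mem_filter.mpr ⟨hχ, hjd⟩⟩
    refine (Finset.sum_le_sum_of_subset hsub).trans (le_of_eq_of_le (Finset.sum_biUnion ?_) ?_)
    · intro i _ j _ hij
      rw [Function.onFun, Finset.disjoint_left]
      intro χ hi hj
      exact hij (Nat.pow_right_injective hp.out.two_le ((Finset.mem_filter.mp hi).2.symm.trans (Finset.mem_filter.mp hj).2))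
    rw [Finset.mul_sum]
    refine Finset.sum_le_sum fun j _ => ?_
    rw [Finset.sum_congr rfl (g := fun _ => (p ^ j) ^ 2) (fun χ hχ => by rw [(Finset.mem_filter.mp hχ).2, sq]),
      Finset.sum_const, smul_eq_mul]
    exact Nat.mul_le_mul_right _ (hfib j)
  rw [hEp, Nat.totient_prime_pow_succ hp.out, ← hesq, hc, mul_comm (p ^ (c + 1)) (p - 1), pow_succ p c,
    mul_assoc (p - 1), mul_comm ((p ^ m) ^ 2)] at hsum
  have hsum2 := Nat.le_of_mul_le_mul_left hsum (by omega)
  rw [mul_assoc (p ^ c)] at hsum2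
  have hsum3 := Nat.le_of_mul_le_mul_left hsum2 (pow_pos hp.out.pos c)
  have hgeo : (∑ j ∈ Finset.range m, (p ^ j) ^ 2) * (p ^ 2 - 1) + 1 = (p ^ m) ^ 2 := by
    have := geom_sum_mul_add (p ^ 2 - 1) m
    rw [Nat.sub_add_cancel (Nat.one_le_pow _ _ hp.out.pos)] at this
    simp only [← pow_mul, mul_comm _ 2] at this ⊢
    exact this
  have hS : p + 1 ≤ p ^ 2 - 1 ∨ p = 2 := by
    rcases eq_or_lt_of_le hp2 with h2 | h2
    · exact Or.inr h2.symm
    · left
      have : 3 * p ≤ p ^ 2 := by rw [sq]; exact Nat.mul_le_mul_right p h2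
      omega
  have hS2 : p ≤ p ^ 2 - 1 := by
    have : 2 * p ≤ p ^ 2 := by rw [sq]; exact Nat.mul_le_mul_right p hp2
    omega
  nlinarith

theorem exists_normal_index (hG : IsPGroup p G) {R : Subgroup G} [R.Normal] (hR : R ≠ ⊥) :
    ∃ M : Subgroup G, M.Normal ∧ M ≤ R ∧ p * Nat.card M = Nat.card R := by
  obtain ⟨M, ⟨hMn, hMR⟩, hmax⟩ := Set.Finite.exists_maximal (s := {M : Subgroup G | M.Normal ∧ M < R})
    (Set.toFinite _) ⟨⊥, inferInstance, bot_lt_iff_ne_bot.mpr hR⟩
  haveI := hMn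
  have hRb : R.map (QuotientGroup.mk' M) ≠ ⊥ := fun hb => hMR.not_ge (by
    rw [Subgroup.map_eq_bot_iff, QuotientGroup.ker_mk'] at hb
    exact hb)
  haveI : (R.map (QuotientGroup.mk' M)).Normal := Subgroup.Normal.map inferInstance _ (QuotientGroup.mk'_surjective M)
  obtain ⟨w, hw, hwo, hwc⟩ := PLocal.exists_central_prime_mem (hG.to_quotient M) hRb
  haveI : (Subgroup.zpowers w).Normal := ⟨fun x hx g => by
    rwa [Subgroup.mem_center_iff.mp (Subgroup.zpowers_le.mpr hwc hx) g, mul_inv_cancel_right]⟩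
  set R' := (Subgroup.zpowers w).comap (QuotientGroup.mk' M) with hR'
  have hcard : Nat.card R' = p * Nat.card M := by
    rw [hR', Cores.card_comap_mk', Nat.card_zpowers, hwo, mul_comm]
  have hR'R : R' ≤ R := by
    have h1 : (R.map (QuotientGroup.mk' M)).comap (QuotientGroup.mk' M) = R := by
      rw [Subgroup.comap_map_eq, QuotientGroup.ker_mk', sup_eq_left.mpr hMR.le]
    exact (Subgroup.comap_mono (Subgroup.zpowers_le.mpr hw)).trans h1.le
  refine ⟨M, hMn, hMR.le, ?_⟩
  rcases eq_or_lt_of_le hR'R with he | hlt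
  · rw [← hcard, he]
  · have hMR' : M ≤ R' := fun x hx => by
      show QuotientGroup.mk' M x ∈ Subgroup.zpowers w
      rw [show QuotientGroup.mk' M x = 1 from (QuotientGroup.eq_one_iff x).mpr hx]
      exact one_mem _
    have h2 := Subgroup.card_le_of_le (hmax ⟨inferInstance, hlt⟩ hMR')
    rw [hcard] at h2
    have h3 : 0 < Nat.card M := Nat.card_pos
    nlinarith [hp.out.two_le]

theorem card_commutator_quotient (N : Subgroup G) [N.Normal] (hN : N ≤ commutator G) :
    Nat.card (commutator (G ⧸ N)) * Nat.card N = Nat.card (commutator G) := by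
  have h1 : (commutator (G ⧸ N)).comap (QuotientGroup.mk' N) = commutator G := by
    rw [commutator_def, ← Subgroup.map_top_of_surjective _ (QuotientGroup.mk'_surjective N), ← Subgroup.map_commutator,
      Subgroup.comap_map_eq, QuotientGroup.ker_mk', ← commutator_def, sup_eq_left.mpr hN]
  rw [← h1, Cores.card_comap_mk', mul_comm]

/-- The derived subgroup has order `p`. -/
theorem card_commutator (hG : IsPGroup p G) (h : Conjp G) (hna : commutator G ≠ ⊥) : Nat.card (commutator G) = p := by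
  haveI : (commutator G).Normal := inferInstance
  obtain ⟨N, hN, hNle, hNc⟩ := exists_normal_index hG hna
  haveI := hN
  by_cases hN1 : N = ⊥
  · rw [← hNc, hN1, Subgroup.card_bot, mul_one]
  exfalso
  obtain ⟨M, hM, hMle, hMc⟩ := exists_normal_index hG hN1
  haveI := hM
  haveI : (N.map (QuotientGroup.mk' M)).Normal := hN.map _ (QuotientGroup.mk'_surjective M)
  have hcN : Nat.card (N.map (QuotientGroup.mk' M)) = p := by
    have h1 : (N.map (QuotientGroup.mk' M)).comap (QuotientGroup.mk' M) = N := by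
      rw [Subgroup.comap_map_eq, QuotientGroup.ker_mk', sup_eq_left.mpr hMle]
    have h2 := congrArg (fun S : Subgroup G => Nat.card S) h1
    simp only [Cores.card_comap_mk'] at h2
    rw [← hMc, mul_comm p] at h2
    exact Nat.eq_of_mul_eq_mul_left Nat.card_pos h2
  have hNY : N.map (QuotientGroup.mk' M) ≤ commutator (G ⧸ M) := by
    refine (Subgroup.map_mono hNle).trans ?_
    rw [commutator_def, commutator_def, Subgroup.map_commutator]
    exact Subgroup.commutator_mono le_top le_top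
  refine no_step (hG.to_quotient M) (h.quotient M) (N.map (QuotientGroup.mk' M)) hcN hNY ?_
  have h4 := card_commutator_quotient (N.map (QuotientGroup.mk' M)) hNY
  have h5 := card_commutator_quotient M (hMle.trans hNle)
  rw [hcN] at h4
  rw [← h4, ← hNc, ← hMc] at h5
  apply Nat.eq_of_mul_eq_mul_right (Nat.mul_pos hp.out.pos (Nat.card_pos (α := M)))
  rw [← mul_assoc]
  exact h5

/-- Conversely. -/
theorem conjp_of_derived_prime (hG : IsPGroup p G) (hc : Nat.card (commutator G) = p)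
    (hcyc : IsCyclic (Subgroup.center G)) : Conjp G := by
  classical
  intro χ ψ h1 h2
  obtain ⟨z, hz⟩ := IsCyclic.exists_generator (α := Subgroup.center G)
  set n := Nat.card (Subgroup.center G) with hn
  have hzord : orderOf z = n := orderOf_eq_card_of_forall_mem_zpowers hz
  have hroot : ∀ φ : Cfsg.IrrCharacter G, (φ : G → ℂ) 1 ≠ 1 →
      ∃ w : ℂ, IsPrimitiveRoot w n ∧ ∀ i : ℕ, (φ : G → ℂ) ((z : G) ^ i) = w ^ i * (φ : G → ℂ) 1 := by
    intro φ hφ
    have hsc : ∀ x : G, (φ : G → ℂ) ⁅(z : G), x⁆ = (φ : G → ℂ) 1 := fun x => by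
      rw [commutatorElement_eq_one_iff_mul_comm.mpr (Subgroup.mem_center_iff.mp z.2 x).symm]
    obtain ⟨w, -, hw⟩ := scalar_of_comm φ.2 hsc
    have hpow : ∀ i : ℕ, (φ : G → ℂ) ((z : G) ^ i) = w ^ i * (φ : G → ℂ) 1 := by
      intro i
      induction i with
      | zero => simp
      | succ i ih => rw [pow_succ, hw, ih, pow_succ', mul_assoc]
    have hne : (φ : G → ℂ) 1 ≠ 0 := IsIrrCharacter.apply_one_ne_zero φ.2
    refine ⟨w, IsPrimitiveRoot.mk_of_lt w Nat.card_pos ?_ ?_, hpow⟩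
    · have h3 := hpow n
      rw [← hzord, ← Subgroup.coe_pow, pow_orderOf_eq_one, Subgroup.coe_one] at h3
      rw [← hzord]
      exact mul_right_cancel₀ hne (h3.symm.trans (one_mul _).symm)
    · intro l hl0 hln hwl
      obtain ⟨y, hy, hy1⟩ := not_trivial_on_commutator φ.2 hφ
      have hker : ((z : G) ^ l) ∈ charKernel (irr_isCharacter φ) := by
        show (φ : G → ℂ) _ = _
        rw [hpow, hwl, one_mul]
      -- `z ^ l ≠ 1` generates a subgroup containing the derived subgroup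
      set K := Subgroup.zpowers ((z : G) ^ l) with hK
      have hzl : z ^ l ≠ 1 := pow_ne_one_of_lt_orderOf hl0.ne' (hzord.symm ▸ hln)
      obtain ⟨a, ha⟩ := ((hG.to_subgroup K)).exists_card_eq
      have hKy : y ∈ K := by
        have hyc : y ∈ Subgroup.center G := RankTwo.le_center_of_card_le hG hc.le hy
        have hKc : K ≤ Subgroup.center G := Subgroup.zpowers_le.mpr (pow_mem z.2 l)
        have hdy : Subgroup.zpowers y ≤ K := by
          refine Cfsg.Agent.AbelianConj.le_of_card_dvd_of_isCyclic hcyc (Subgroup.zpowers_le.mpr hyc) hKc ?_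
          have hyo : Nat.card (Subgroup.zpowers y) ∣ p := by
            rw [Nat.card_zpowers, ← hc]; exact Subgroup.orderOf_dvd_natCard _ hy
          refine hyo.trans ?_
          rw [ha]
          rcases a with _ | a
          · exfalso
            apply hzl
            rw [hK, Nat.card_zpowers, pow_zero, orderOf_eq_one_iff] at ha
            exact Subtype.ext (by rw [Subgroup.coe_pow]; exact ha)
          · exact dvd_pow_self p a.succ_ne_zero
        exact hdy (Subgroup.mem_zpowers y)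
      exact hy1 (Subgroup.zpowers_le.mpr hker hKy)
  have h1' : (ψ : G → ℂ) 1 ≠ 1 := h2 ▸ h1
  obtain ⟨w₁, hw₁, hv₁⟩ := hroot χ h1
  obtain ⟨w₂, hw₂, hv₂⟩ := hroot ψ h1'
  have hnpos : 0 < n := Nat.card_pos
  haveI : NeZero n := ⟨hnpos.ne'⟩
  obtain ⟨k, -, hkn, hk⟩ := (hw₁.isPrimitiveRoot_iff).mp hw₂
  have hncard : p ∣ n := by
    rw [hn, ← hc]
    exact Subgroup.card_dvd_of_le (RankTwo.le_center_of_card_le hG hc.le)
  obtain ⟨b, hb⟩ := hG.exists_card_eq
  have hkG : Nat.Coprime k (Nat.card G) := by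
    rw [hb]
    exact Nat.Coprime.pow_right _ (hkn.coprime_dvd_right hncard)
  refine ⟨k, hkG, fun g => ?_⟩
  by_cases hg : g ∈ Subgroup.center G
  · obtain ⟨i, hi⟩ := (mem_powers_iff_mem_zpowers (x := z)).mpr (hz ⟨g, hg⟩)
    have hg' : g = (z : G) ^ i := (congrArg Subtype.val hi).symm
    rw [hg', hv₂, ← pow_mul, hv₁, ← hk, ← pow_mul, mul_comm i k, h2]
  · rw [vanish hG hc ψ.2 h1' hg, vanish hG hc χ.2 h1]
    intro hgk
    obtain ⟨j, hj⟩ := exists_pow_eq_self_of_coprime (x := g) (n := k) (hkG.coprime_dvd_right (orderOf_dvd_natCard g))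
    exact hg (hj ▸ pow_mem hgk j)

end Cfsg.Agent.Lib.Characters.GaloisDegree
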