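import Cfsg.Agent.Lib.Characters.Equiv
import Mathlib.LinearAlgebra.Projection
import Mathlib.RingTheory.TensorProduct.Maps

/-!
# Homogeneous representations and systems of idempotents
-/

namespace Cfsg.Agent.Lib.Characters

open Module
open scoped TensorProduct

set_option linter.unusedSectionVars false
set_option linter.style.haveILetI false

universe u v w

variable {G : Type u} [Group G] {V : Type v} [AddCommGroup V] [Module ℂ V] [FiniteDimensional ℂ V]

/-- The operators of an irreducible representation span all operators. -/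
theorem mem_span_range_of_irreducible [Finite G] (σ : Representation ℂ G V) [σ.IsIrreducible]
    (T : End ℂ V) : T ∈ Submodule.span ℂ (Set.range σ) := by
  classical
  haveI := Fintype.ofFinite G
  have key : ∀ (φ : V →ₗ[ℂ] ℂ) (x : V), φ.smulRight x ∈ Submodule.span ℂ (Set.range σ) := by
    intro φ x
    have hpos := finrank_pos_of_isIrreducible σ
    have h1 : ∑ k : G, φ (σ k⁻¹ x) • σ k =
        ((Nat.card G : ℂ) / (finrank ℂ V : ℂ)) • φ.smulRight x := by
      refine LinearMap.ext fun v => ?_
      let X : End ℂ V := φ.smulRight v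
      let A : End ℂ V := ∑ k : G, σ k * X * σ k⁻¹
      obtain ⟨c, hc⟩ := exists_smul_of_commute σ A fun g => by
        simp only [A, Finset.sum_mul, Finset.mul_sum]
        refine Fintype.sum_equiv (Equiv.mulLeft g⁻¹) _ _ fun k => ?_
        rw [Equiv.coe_mulLeft, mul_assoc (σ k * X), ← map_mul, ← mul_assoc, ← mul_assoc, ← map_mul,
          mul_inv_cancel_left, mul_inv_rev, inv_inv]
      have htr := congrArg (LinearMap.trace ℂ V) hc
      simp only [A, map_sum, map_smul, LinearMap.trace_id, smul_eq_mul] at htr
      have hk : ∀ k : G, LinearMap.trace ℂ V (σ k * X * σ k⁻¹) = φ v := fun k => by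
        rw [LinearMap.trace_mul_cycle, ← map_mul, inv_mul_cancel, map_one, one_mul,
          LinearMap.trace_smulRight]
      rw [Finset.sum_congr rfl fun k _ => hk k, Finset.sum_const, Finset.card_univ,
        ← Nat.card_eq_fintype_card, nsmul_eq_mul] at htr
      have hn : (finrank ℂ V : ℂ) ≠ 0 := by exact_mod_cast hpos.ne'
      have hc' : (Nat.card G : ℂ) / (finrank ℂ V : ℂ) * φ v = c := by
        rw [div_mul_eq_mul_div, htr, mul_div_assoc, div_self hn, mul_one]
      have h := LinearMap.congr_fun hc x
      simp only [A, LinearMap.sum_apply, Module.End.mul_apply, LinearMap.smul_apply,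
        LinearMap.id_apply, X, LinearMap.smulRight_apply, map_smul] at h
      simp only [LinearMap.sum_apply, LinearMap.smul_apply, LinearMap.smulRight_apply, smul_smul]
      rw [h, hc']
    have hne : (Nat.card G : ℂ) / (finrank ℂ V : ℂ) ≠ 0 :=
      div_ne_zero (by exact_mod_cast Nat.card_pos.ne') (by exact_mod_cast hpos.ne')
    rw [← Submodule.smul_mem_iff _ hne, ← h1]
    exact Submodule.sum_mem _ fun k _ => Submodule.smul_mem _ _ (Submodule.subset_span ⟨k, rfl⟩)
  let b := Module.finBasis ℂ V
  have hT : T = ∑ i, (b.coord i).smulRight (T (b i)) := by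
    refine LinearMap.ext fun v => ?_
    have h := congrArg T (b.sum_repr v)
    simp only [map_sum, map_smul] at h
    simpa using h.symm
  rw [hT]
  exact Submodule.sum_mem _ fun i _ => key _ _

/-- A representation whose character is `e` times an irreducible one carries the algebra of
operators of the irreducible one. -/
theorem exists_homogeneous_algHom [Finite G] {U : Type w} [AddCommGroup U] [Module ℂ U]
    [FiniteDimensional ℂ U] (ρ : Representation ℂ G U) (σ : Representation ℂ G V) {e : ℕ}
    (he : e ≠ 0) (hres : ρ.character = (e : ℂ) • σ.character) :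
    ∃ j : End ℂ V →ₐ[ℂ] End ℂ U, Function.Injective j ∧ ∀ g, j (σ g) = ρ g := by
  let τ : Representation ℂ G (Fin e → ℂ) := Representation.trivial ℂ G (Fin e → ℂ)
  have hchar : (σ.tprod τ).character = ρ.character := by
    rw [Representation.char_tensor, hres]
    funext g
    simp [τ, Representation.character, mul_comm]
  obtain ⟨E⟩ := nonempty_equiv_of_character_eq (σ.tprod τ) ρ hchar
  refine ⟨(LinearEquiv.conjAlgEquiv ℂ E.toLinearEquiv).toAlgHom.comp
    (Module.End.rTensorAlgHom ℂ V (Fin e → ℂ)), ?_, fun g => ?_⟩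
  · refine (LinearEquiv.conjAlgEquiv ℂ E.toLinearEquiv).injective.comp fun S T h => ?_
    refine LinearMap.ext fun v => ?_
    let i₀ : Fin e := ⟨0, Nat.pos_of_ne_zero he⟩
    have h1 := congrArg
      (fun z => TensorProduct.rid ℂ V ((LinearMap.proj i₀ : (Fin e → ℂ) →ₗ[ℂ] ℂ).lTensor V z))
      (LinearMap.congr_fun (show S.rTensor (Fin e → ℂ) = T.rTensor (Fin e → ℂ) from h)
        (v ⊗ₜ[ℂ] Pi.single i₀ (1 : ℂ)))
    simpa using h1
  · refine LinearMap.ext fun u => ?_
    have hE := LinearMap.congr_fun (E.isIntertwining' g) (E.toLinearEquiv.symm u)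
    show E.toLinearEquiv ((σ g).rTensor (Fin e → ℂ) (E.toLinearEquiv.symm u)) = ρ g u
    have h1 : (σ.tprod τ) g = (σ g).rTensor (Fin e → ℂ) := by
      simp [τ, Representation.tprod_apply, LinearMap.rTensor_def]
    rw [← h1]
    simp only [LinearMap.coe_comp, Function.comp_apply] at hE
    refine hE.trans (congrArg (ρ g) ?_)
    exact E.toLinearEquiv.apply_symm_apply u

/-- Idempotents summing to `1` are orthogonal. -/
theorem mul_eq_zero_of_sum_idempotent {ι : Type*} [Fintype ι] (e : ι → End ℂ V)
    (hid : ∀ i, IsIdempotentElem (e i)) (hsum : ∑ i, e i = 1) {i l : ι} (hil : i ≠ l) :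
    e i * e l = 0 := by
  classical
  let F : (∀ i, LinearMap.range (e i)) →ₗ[ℂ] V :=
    ∑ i, (LinearMap.range (e i)).subtype.comp (LinearMap.proj i)
  have hF : ∀ y, F y = ∑ i, (y i : V) := fun y => by simp [F]
  let Y : V → ∀ i, LinearMap.range (e i) := fun x i => ⟨e i x, x, rfl⟩
  have hY : ∀ x, F (Y x) = x := fun x => by
    rw [hF]
    show ∑ i, e i x = x
    rw [← LinearMap.sum_apply, hsum]
    rfl
  have hrank : ∑ i, finrank ℂ (LinearMap.range (e i)) = finrank ℂ V := by
    have h := congrArg (LinearMap.trace ℂ V) hsum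
    rw [map_sum, LinearMap.trace_one] at h
    have hi : ∀ i, LinearMap.trace ℂ V (e i) = (finrank ℂ (LinearMap.range (e i)) : ℂ) :=
      fun i => LinearMap.IsProj.trace ((LinearMap.isProj_range_iff_isIdempotentElem (e i)).mpr (hid i))
    simp only [hi] at h
    exact_mod_cast h
  have hinj : Function.Injective F :=
    (LinearMap.injective_iff_surjective_of_finrank_eq_finrank
      (by rw [Module.finrank_pi_fintype, hrank])).mpr fun x => ⟨Y x, hY x⟩
  refine LinearMap.ext fun x => ?_
  have h1 : F (Y (e l x)) = F (Pi.single l (⟨e l x, x, rfl⟩ : LinearMap.range (e l))) := by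
    rw [hY, hF, Finset.sum_eq_single l (fun j _ hj => by simp [Pi.single_eq_of_ne hj]) (by simp)]
    simp
  have h2 := congrArg (fun y => (y i : V)) (hinj h1)
  simpa [Y, Pi.single_eq_of_ne hil] using h2

end Cfsg.Agent.Lib.Characters
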