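import Cfsg.Agent.Lib.Characters.FrobeniusSchur
import Cfsg.Agent.Lib.Characters.Equiv
import Cfsg.Agent.Lib.Characters.Gallagher
import Cfsg.Agent.S4475

/-!
# Induction from inertia groups of extendible characters
-/

set_option autoImplicit false
set_option linter.style.haveILetI false

namespace Cfsg.Agent.Lib.Characters

open scoped ComplexConjugate
open Cfsg

universe u

variable {G : Type u} [Group G] [Fintype G]

/-- An irreducible induced character of a real type character is of real type. -/
theorem indicator_indFun (H : Subgroup G) [Fintype H] {ψ : H → ℂ} (hψ : IsIrrCharacter H ψ)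
    (hν : (Nat.card H : ℂ)⁻¹ * ∑ h : H, ψ (h * h) = 1) (hirr : IsIrrCharacter G (indFun H ψ)) :
    (Nat.card G : ℂ)⁻¹ * ∑ g : G, indFun H ψ (g * g) = 1 := by
  classical
  have hreal : ∀ h : H, (ψ h).im = 0 := by
    by_contra hc
    push Not at hc
    rw [(frobeniusSchur hψ).1 hc] at hν
    exact zero_ne_one hν
  obtain ⟨n, ρ, hρ, rfl⟩ := hψ
  obtain ⟨⟨B, hB0, hBinv⟩, hBsym⟩ := Cfsg.Agent.S4475.result n ρ hρ hreal
  have hBt : B.transpose = B := by rw [hBsym B hBinv, hν, one_smul]
  let A : H →* Matrix (Fin n) (Fin n) ℂ :=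
    { toFun := fun g => LinearMap.toMatrix' (ρ g)
      map_one' := by rw [map_one]; exact LinearMap.toMatrix'_id
      map_mul' := fun g h => by rw [map_mul]; exact LinearMap.toMatrix'_comp _ _ }
  have hA : ∀ g, ρ.character g = (A g).trace := fun g =>
    LinearMap.trace_eq_matrix_trace ℂ (Pi.basisFun ℂ (Fin n)) (ρ g)
  let E : G → Matrix (Fin n) (Fin n) ℂ := fun x => if h : x ∈ H then A ⟨x, h⟩ else 0
  have hEin : ∀ {x} (hx : x ∈ H), E x = A ⟨x, hx⟩ := fun hx => dif_pos hx
  have hEout : ∀ {x}, x ∉ H → E x = 0 := fun hx => dif_neg hx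
  let r := Finite.equivFin (G ⧸ H)
  set m := Nat.card (G ⧸ H)
  let s : Fin m → G := fun i => Quotient.out (r.symm i)
  have hs : ∀ i, (QuotientGroup.mk (s i) : G ⧸ H) = r.symm i := fun i => QuotientGroup.out_eq' _
  let M : G → Matrix (Fin m × Fin n) (Fin m × Fin n) ℂ :=
    fun g p q => E ((s p.1)⁻¹ * g * s q.1) p.2 q.2
  have hrow : ∀ g j l, (s l)⁻¹ * g * s j ∈ H ↔ l = r (QuotientGroup.mk (g * s j)) := by
    intro g j l
    rw [mul_assoc, ← QuotientGroup.eq, hs, Equiv.symm_apply_eq]
  have hmul : ∀ g h, M (g * h) = M g * M h := by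
    intro g h
    ext ⟨i, a⟩ ⟨j, b⟩
    rw [Matrix.mul_apply, Fintype.sum_prod_type]
    show E ((s i)⁻¹ * (g * h) * s j) a b =
      ∑ l, ∑ c, E ((s i)⁻¹ * g * s l) a c * E ((s l)⁻¹ * h * s j) c b
    rw [Finset.sum_eq_single (r (QuotientGroup.mk (h * s j)))]
    · set l := r (QuotientGroup.mk (h * s j))
      have hl : (s l)⁻¹ * h * s j ∈ H := (hrow h j l).2 rfl
      have he : (s i)⁻¹ * (g * h) * s j = (s i)⁻¹ * g * s l * ((s l)⁻¹ * h * s j) := by group
      rw [he, ← Matrix.mul_apply]
      by_cases hg : (s i)⁻¹ * g * s l ∈ H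
      · rw [hEin hg, hEin hl, hEin (H.mul_mem hg hl), ← map_mul]
        rfl
      · rw [hEout hg, hEout (fun hh => hg ((H.mul_mem_cancel_right hl).1 hh)), Matrix.zero_mul]
    · intro l _ hl
      exact Finset.sum_eq_zero fun c _ => by rw [hEout (mt (hrow h j l).1 hl)]; simp
    · exact fun hne => absurd (Finset.mem_univ _) hne
  have hone : M 1 = 1 := by
    ext ⟨i, a⟩ ⟨j, b⟩
    show E ((s i)⁻¹ * 1 * s j) a b = _
    rw [mul_one]
    by_cases hij : i = j
    · subst hij
      rw [inv_mul_cancel, hEin H.one_mem, show A ⟨1, H.one_mem⟩ = 1 from map_one A]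
      simp [Matrix.one_apply]
    · rw [hEout]
      · simp [Matrix.one_apply, hij]
      · rw [← QuotientGroup.eq, hs, hs]
        exact fun e => hij (r.symm.injective e)
  -- the form
  let D : Matrix (Fin m × Fin n) (Fin m × Fin n) ℂ :=
    fun p q => if p.1 = q.1 then B p.2 q.2 else 0
  have hDinv : ∀ g, (M g).transpose * D * M g = D := by
    intro g
    ext ⟨i, a⟩ ⟨j, b⟩
    rw [Matrix.mul_apply]
    simp only [Matrix.mul_apply, Matrix.transpose_apply, Fintype.sum_prod_type]
    show ∑ l, ∑ c, (∑ k, ∑ d, E ((s k)⁻¹ * g * s i) d a * (if k = l then B d c else 0)) *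
      E ((s l)⁻¹ * g * s j) c b = if i = j then B a b else 0
    set k₀ := r (QuotientGroup.mk (g * s i))
    set l₀ := r (QuotientGroup.mk (g * s j))
    rw [Finset.sum_eq_single l₀ (fun l _ hl => Finset.sum_eq_zero fun c _ => by
      rw [hEout (mt (hrow g j l).1 hl)]; simp) (fun h => absurd (Finset.mem_univ _) h)]
    have hin : ∀ c, ∑ k, ∑ d, E ((s k)⁻¹ * g * s i) d a * (if k = l₀ then B d c else 0) =
        ∑ d, E ((s l₀)⁻¹ * g * s i) d a * B d c := fun c => by
      rw [Finset.sum_eq_single l₀ (fun k _ hk => Finset.sum_eq_zero fun d _ => by rw [if_neg hk, mul_zero])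
        (fun h => absurd (Finset.mem_univ _) h)]
      simp
    simp only [hin]
    by_cases hij : i = j
    · subst hij
      rw [if_pos rfl]
      have hl : (s l₀)⁻¹ * g * s i ∈ H := (hrow g i l₀).2 rfl
      have := congrFun (congrFun (hBinv ⟨_, hl⟩) a) b
      rw [← this]
      simp only [hEin hl, Matrix.mul_apply, Matrix.transpose_apply]
      rfl
    · rw [if_neg hij, hEout]
      · simp
      · intro hh
        have e := (hrow g i l₀).1 hh
        refine hij (r.symm.injective ?_)
        have e' : (QuotientGroup.mk (g * s i) : G ⧸ H) = QuotientGroup.mk (g * s j) := r.injective e.symm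
        rw [QuotientGroup.eq] at e'
        rw [← hs i, ← hs j, QuotientGroup.eq]
        convert e' using 1
        group
  -- transport to coordinates
  let e := Fintype.equivFin (Fin m × Fin n)
  let M' : G → Matrix (Fin (Fintype.card (Fin m × Fin n))) (Fin (Fintype.card (Fin m × Fin n))) ℂ :=
    fun g => Matrix.reindex e e (M g)
  let σ : Representation ℂ G (Fin (Fintype.card (Fin m × Fin n)) → ℂ) :=
    { toFun := fun g => Matrix.toLin' (M' g)
      map_one' := by
        show Matrix.toLin' (Matrix.reindex e e (M 1)) = _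
        rw [hone, Matrix.reindex_apply, Matrix.submatrix_one_equiv, Matrix.toLin'_one]
        rfl
      map_mul' := fun g h => by
        show Matrix.toLin' (Matrix.reindex e e (M (g * h))) = _
        rw [hmul, Matrix.reindex_apply, ← Matrix.submatrix_mul_equiv (M g) (M h) e.symm e.symm e.symm,
          Matrix.toLin'_mul]
        rfl }
  have hσ : σ.character = indFun H ρ.character := by
    funext g
    show LinearMap.trace ℂ _ (Matrix.toLin' (M' g)) = _
    rw [Matrix.trace_toLin'_eq, show (M' g).trace = (M g).trace from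
      Fintype.sum_equiv e.symm _ _ fun _ => rfl]
    show ∑ p, M g p p = _
    rw [Fintype.sum_prod_type, indFun_apply]
    show ∑ i, ∑ a, E ((s i)⁻¹ * g * s i) a a = _
    rw [← Finset.sum_fiberwise Finset.univ (fun x : G => r (QuotientGroup.mk x)), Finset.mul_sum]
    refine Finset.sum_congr rfl fun i _ => ?_
    have hval : ∑ a, E ((s i)⁻¹ * g * s i) a a = extendByZero H ρ.character ((s i)⁻¹ * g * s i) := by
      by_cases hm : (s i)⁻¹ * g * s i ∈ H
      · rw [extendByZero_of_mem H _ hm, hA, hEin hm]; rfl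
      · rw [extendByZero_of_not_mem H _ hm, hEout hm]; simp
    have hmemfib : ∀ x : G, r (QuotientGroup.mk x) = i ↔ (s i)⁻¹ * x ∈ H := by
      intro x
      rw [← QuotientGroup.eq, hs]
      constructor
      · intro h; rw [← h, Equiv.symm_apply_apply]
      · intro h; rw [← h, Equiv.apply_symm_apply]
    have hconst : ∀ x ∈ Finset.univ.filter (fun x : G => r (QuotientGroup.mk x) = i),
        extendByZero H ρ.character (x⁻¹ * g * x) = extendByZero H ρ.character ((s i)⁻¹ * g * s i) := by
      intro x hx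
      set h : H := ⟨(s i)⁻¹ * x, (hmemfib x).mp (Finset.mem_filter.mp hx).2⟩ with hh
      have he : x⁻¹ * g * x = (h : G)⁻¹ * ((s i)⁻¹ * g * s i) * (h : G) := by
        simp only [hh]; group
      rw [he]
      by_cases hm : (s i)⁻¹ * g * s i ∈ H
      · rw [extendByZero_of_mem H _ hm, extendByZero_of_mem H _ (H.mul_mem (H.mul_mem (H.inv_mem h.2) hm) h.2)]
        have := IsCharacter.isClassFunction (isCharacter_of_rep ρ) ⟨_, hm⟩ h⁻¹
        rw [inv_inv] at this
        exact this
      · rw [extendByZero_of_not_mem H _ hm, extendByZero_of_not_mem H]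
        rw [Subgroup.mul_mem_cancel_right _ h.2, Subgroup.mul_mem_cancel_left _ (H.inv_mem h.2)]
        exact hm
    have hcard : (Finset.univ.filter fun x : G => r (QuotientGroup.mk x) = i).card = Nat.card H := by
      rw [← Fintype.card_subtype, ← Nat.card_eq_fintype_card]
      exact Nat.card_congr
        { toFun := fun x => ⟨(s i)⁻¹ * x.1, (hmemfib x.1).mp x.2⟩
          invFun := fun h => ⟨s i * h, (hmemfib _).mpr (by simp)⟩
          left_inv := fun x => Subtype.ext (by simp)
          right_inv := fun h => Subtype.ext (by simp) }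
    rw [Finset.sum_congr rfl hconst, Finset.sum_const, hcard, nsmul_eq_mul,
      inv_mul_cancel_left₀ natCard_ne_zero_complex, hval]
  -- compare with an irreducible representation
  obtain ⟨k, ρ₀, hρ₀, hχ⟩ := hirr
  obtain ⟨eqv⟩ := nonempty_equiv_of_character_eq ρ₀ σ (by rw [hσ]; first | exact hχ.symm | exact hχ)
  set T := LinearMap.toMatrix' eqv.toLinearEquiv.toLinearMap with hT
  set C := Matrix.reindex e e D with hC
  have hCinv : ∀ g, (M' g).transpose * C * M' g = C := fun g => by
    simp only [M', hC, Matrix.reindex_apply, Matrix.transpose_submatrix, Matrix.submatrix_mul_equiv]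
    rw [hDinv]
  have hcomm : ∀ g, M' g * T = T * LinearMap.toMatrix' (ρ₀ g) := by
    intro g
    refine Matrix.toLin'.injective ?_
    rw [Matrix.toLin'_mul, Matrix.toLin'_mul, hT, Matrix.toLin'_toMatrix', Matrix.toLin'_toMatrix']
    exact LinearMap.ext fun x => (LinearMap.congr_fun (eqv.isIntertwining' g) x).symm
  have hnew : ∀ g, (LinearMap.toMatrix' (ρ₀ g)).transpose * (T.transpose * C * T) * LinearMap.toMatrix' (ρ₀ g) =
      T.transpose * C * T := by
    intro g
    conv_rhs => rw [← hCinv g]
    calc (LinearMap.toMatrix' (ρ₀ g)).transpose * (T.transpose * C * T) * LinearMap.toMatrix' (ρ₀ g)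
        = (T * LinearMap.toMatrix' (ρ₀ g)).transpose * C * (T * LinearMap.toMatrix' (ρ₀ g)) := by
          simp only [Matrix.transpose_mul, Matrix.mul_assoc]
      _ = (M' g * T).transpose * C * (M' g * T) := by rw [hcomm]
      _ = T.transpose * ((M' g).transpose * C * M' g) * T := by
          simp only [Matrix.transpose_mul, Matrix.mul_assoc]
  have hreal' : ∀ g, (ρ₀.character g).im = 0 := by
    intro g
    rw [hχ, ← Complex.conj_eq_iff_im, indFun_apply, map_mul, map_inv₀, map_natCast, map_sum]
    congr 1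
    refine Finset.sum_congr rfl fun x _ => ?_
    by_cases hx : x⁻¹ * g * x ∈ H
    · rw [extendByZero_of_mem H _ hx, Complex.conj_eq_iff_im]; exact hreal _
    · rw [extendByZero_of_not_mem H _ hx, map_zero]
  have hsym : (T.transpose * C * T).transpose = T.transpose * C * T := by
    have hCs : C.transpose = C := by
      ext p q
      show (if (e.symm q).1 = (e.symm p).1 then B (e.symm q).2 (e.symm p).2 else 0) =
        if (e.symm p).1 = (e.symm q).1 then B (e.symm p).2 (e.symm q).2 else 0
      rw [show B (e.symm q).2 (e.symm p).2 = B (e.symm p).2 (e.symm q).2 from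
        congrFun (congrFun hBt (e.symm p).2) (e.symm q).2]
      simp [eq_comm]
    simp only [Matrix.transpose_mul, Matrix.transpose_transpose, hCs, Matrix.mul_assoc]
  have hne : T.transpose * C * T ≠ 0 := by
    intro h0
    have hC0 : C = 0 := by
      set T' := LinearMap.toMatrix' eqv.toLinearEquiv.symm.toLinearMap with hT'
      have hTT : T * T' = 1 := by
        rw [hT, hT', ← LinearMap.toMatrix'_comp, ← LinearMap.toMatrix'_id]
        congr 1
        exact LinearMap.ext fun x => eqv.toLinearEquiv.apply_symm_apply x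
      calc C = (T * T').transpose * C * (T * T') := by rw [hTT, Matrix.transpose_one, Matrix.one_mul, Matrix.mul_one]
        _ = T'.transpose * (T.transpose * C * T) * T' := by simp only [Matrix.transpose_mul, Matrix.mul_assoc]
        _ = 0 := by rw [h0]; simp
    haveI : Nonempty (G ⧸ H) := ⟨QuotientGroup.mk 1⟩
    have i0 : Fin m := r (QuotientGroup.mk 1)
    apply hB0
    ext a b
    have := congrFun (congrFun hC0 (e (i0, a))) (e (i0, b))
    rw [hC, Matrix.reindex_apply, Matrix.submatrix_apply, Equiv.symm_apply_apply, Equiv.symm_apply_apply] at this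
    simpa [D] using this
  have h1 := (Cfsg.Agent.S4475.result k ρ₀ hρ₀ hreal').2 _ hnew
  rw [hsym] at h1
  have hv : ((Nat.card G : ℂ)⁻¹ * ∑ s : G, ρ₀.character (s * s) - 1) • (T.transpose * C * T) = 0 := by
    rw [sub_smul, one_smul, ← h1, sub_self]
  rw [← hχ]
  exact sub_eq_zero.1 ((smul_eq_zero.1 hv).resolve_right hne)

section Products

variable (N I : Subgroup G) [N.Normal] [Fintype N] [Fintype I] (hNI : N ≤ I)

/-- The Clifford correspondent is isolated over an extendible character. -/
theorem clifford_extend {φ : N → ℂ} (hφ : IsIrrCharacter N φ) (hI : ∀ g : G, conjFun N g φ = φ → g ∈ I)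
    {ψ : I → ℂ} (hψ : IsIrrCharacter I ψ) (hext : ∀ n : N, ψ (Subgroup.inclusion hNI n) = φ n) :
    IsIrrCharacter G (indFun I ψ) ∧
      ∀ η : I → ℂ, IsIrrCharacter I η → (∀ n : N, η (Subgroup.inclusion hNI n) = φ n) →
        indFun I η = indFun I ψ → η = ψ := by
  classical
  have hIφ : ∀ g ∈ I, conjFun N g φ = φ := fun g hg => funext fun n => by
    have h := IsCharacter.isClassFunction (IsIrrCharacter.isCharacter hψ) (Subgroup.inclusion hNI n) ⟨g, hg⟩
    show φ _ = φ n
    rw [← hext, ← hext]
    exact h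
  have hchar := IsCharacter.indFun I (IsIrrCharacter.isCharacter hψ)
  -- restriction to `N`
  have hres : ∀ n : N, indFun I ψ n = (Nat.card I : ℂ)⁻¹ * ∑ x : G, conjFun N x⁻¹ φ n := by
    intro n
    rw [indFun_apply]
    congr 1
    refine Finset.sum_congr rfl fun x _ => ?_
    have hm : x⁻¹ * (n : G) * x ∈ N := by simpa using ‹N.Normal›.conj_mem n n.2 x⁻¹
    rw [extendByZero_of_mem I ψ (hNI hm)]
    show _ = φ _
    rw [← hext]
    exact congrArg ψ (Subtype.ext (by simp))
  have hone : classInner (fun n : N => indFun I ψ n) φ = 1 := by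
    rw [show (fun n : N => indFun I ψ n) = (Nat.card I : ℂ)⁻¹ • ∑ x : G, conjFun N x⁻¹ φ from
      funext fun n => by rw [hres]; simp, classInner_smul_left, classInner_sum_left]
    have : ∀ x : G, classInner (conjFun N x⁻¹ φ) φ = if x ∈ I then 1 else 0 := fun x => by
      split_ifs with h
      · rw [hIφ _ (inv_mem h)]; exact IsIrrCharacter.classInner_self hφ
      · exact IsIrrCharacter.classInner_ne (IsIrrCharacter.conjFun N hφ _) hφ fun e =>
          h (inv_mem_iff.1 (hI _ e))
    rw [Finset.sum_congr rfl fun x _ => this x, Finset.sum_boole, ← Fintype.card_subtype,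
      ← Nat.card_eq_fintype_card]
    exact inv_mul_cancel₀ natCard_ne_zero_complex
  -- constituents of the restriction to `I` above `φ`
  have hI' := IsCharacter.restrict hchar I
  choose c hc using fun η : IrrCharacter I => IsCharacter.exists_classInner_nat hI' (irr_isCharacter η)
  have hle : ∀ η : IrrCharacter I, (∀ n : N, (η : I → ℂ) (Subgroup.inclusion hNI n) = φ n) →
      ∀ η' : IrrCharacter I, (∀ n : N, (η' : I → ℂ) (Subgroup.inclusion hNI n) = φ n) →
      c η ≠ 0 → c η' ≠ 0 → η = η' ∧ c η = 1 := by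
    intro η hη η' hη' h h'
    haveI := Fintype.ofFinite (IrrCharacter I)
    choose a ha using fun θ : IrrCharacter I => IsCharacter.exists_classInner_nat
      (IsCharacter.comp (irr_isCharacter θ) (Subgroup.inclusion hNI)) (IsIrrCharacter.isCharacter hφ)
    have e1 : classInner (fun n : N => indFun I ψ n) φ = ((∑ θ : IrrCharacter I, c θ * a θ : ℕ) : ℂ) := by
      rw [show (fun n : N => indFun I ψ n) =
          ∑ θ : IrrCharacter I, (c θ : ℂ) • ((θ : I → ℂ) ∘ Subgroup.inclusion hNI) from by
        funext n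
        have := congrFun (eq_sum_classInner (IsCharacter.isClassFunction hI')) (Subgroup.inclusion hNI n)
        simpa [hc] using this, classInner_sum_left]
      push_cast
      exact Finset.sum_congr rfl fun θ _ => by rw [classInner_smul_left, ha]
    rw [hone] at e1
    have e2 : ∑ θ : IrrCharacter I, c θ * a θ = 1 := by exact_mod_cast e1.symm
    have haone : ∀ θ : IrrCharacter I, (∀ n : N, (θ : I → ℂ) (Subgroup.inclusion hNI n) = φ n) → a θ = 1 := by
      intro θ hθ
      have := ha θ
      rw [show ((θ : I → ℂ) ∘ Subgroup.inclusion hNI) = φ from funext hθ,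
        IsIrrCharacter.classInner_self hφ] at this
      exact_mod_cast this.symm
    constructor
    · by_contra hne
      have h2 := Finset.sum_le_sum_of_subset (f := fun θ : IrrCharacter I => c θ * a θ)
        (Finset.subset_univ ({η, η'} : Finset (IrrCharacter I)))
      rw [Finset.sum_pair hne, haone η hη, haone η' hη', e2] at h2
      omega
    · have h2 := Finset.single_le_sum (f := fun θ : IrrCharacter I => c θ * a θ)
        (fun _ _ => Nat.zero_le _) (Finset.mem_univ η)
      rw [haone η hη, e2] at h2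
      simp only [mul_one] at h2
      omega
  have hrec : classInner (indFun I ψ) (indFun I ψ) = classInner ψ (fun h : I => indFun I ψ h) :=
    classInner_indFun I ψ (isClassFunction_indFun I ψ)
  rw [IsCharacter.classInner_comm (IsIrrCharacter.isCharacter hψ) hI', hc ⟨ψ, hψ⟩] at hrec
  have hcψ : c ⟨ψ, hψ⟩ ≠ 0 := by
    intro h0
    rw [h0, Nat.cast_zero] at hrec
    have := congrFun (classInner_self_eq_zero hrec) 1
    rw [indFun_one] at this
    exact mul_ne_zero (Nat.cast_ne_zero.2 Subgroup.index_ne_zero_of_finite)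
      (IsIrrCharacter.apply_one_ne_zero hψ) this
  refine ⟨?_, fun η hη hηN he => ?_⟩
  · rw [IsCharacter.isIrr_iff hchar, hrec, (hle ⟨ψ, hψ⟩ hext ⟨ψ, hψ⟩ hext hcψ hcψ).2, Nat.cast_one]
  · have hcη : c ⟨η, hη⟩ ≠ 0 := by
      intro h0
      have h1 := classInner_indFun I η (isClassFunction_indFun I η)
      rw [IsCharacter.classInner_comm (IsIrrCharacter.isCharacter hη)
        (IsCharacter.restrict (IsCharacter.indFun I (IsIrrCharacter.isCharacter hη)) I)] at h1
      rw [show (fun h : I => indFun I η h) = fun h : I => indFun I ψ h by rw [he], hc ⟨η, hη⟩, h0, Nat.cast_zero] at h1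
      have := congrFun (classInner_self_eq_zero h1) 1
      rw [indFun_one] at this
      exact mul_ne_zero (Nat.cast_ne_zero.2 Subgroup.index_ne_zero_of_finite)
        (IsIrrCharacter.apply_one_ne_zero hη) this
    exact congrArg Subtype.val (hle ⟨η, hη⟩ hηN ⟨ψ, hψ⟩ hext hcη hcψ).1

end Products

/-- Multiplication by a linear character. -/
theorem isIrr_mul_linear {χ : G → ℂ} (hχ : IsIrrCharacter G χ) (lam : G →* ℂˣ) :
    IsIrrCharacter G (χ * fun g => (lam g : ℂ)) := by
  rw [IsCharacter.isIrr_iff (IsCharacter.mul (IsIrrCharacter.isCharacter hχ)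
    (IsIrrCharacter.isCharacter (isIrrCharacter_unitsHom lam))), ← IsIrrCharacter.classInner_self hχ]
  simp only [classInner, Pi.mul_apply, map_mul]
  congr 1
  refine Finset.sum_congr rfl fun g _ => ?_
  have h := IsCharacter.apply_inv (IsIrrCharacter.isCharacter (isIrrCharacter_unitsHom lam)) g
  rw [← h]
  show _ * (lam g : ℂ) * (_ * (lam g⁻¹ : ℂ)) = _
  rw [mul_mul_mul_comm, ← Units.val_mul, ← map_mul, mul_inv_cancel, map_one, Units.val_one, mul_one]

/-- Counting the linear characters against the products with one induced character. -/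
theorem card_linear_le (N I : Subgroup G) [N.Normal] [Fintype N] [Fintype I] (hNI : N ≤ I)
    (hperf : ∀ lam : G →* ℂˣ, ∀ n ∈ N, lam n = 1)
    {φ : N → ℂ} (hφ : IsIrrCharacter N φ) (hI : ∀ g : G, conjFun N g φ = φ → g ∈ I)
    {ψ : I → ℂ} (hψ : IsIrrCharacter I ψ) (hext : ∀ n : N, ψ (Subgroup.inclusion hNI n) = φ n)
    (P Q : IrrCharacter G → Prop)
    (hP : ∀ χ, P χ → (χ : G → ℂ) 1 = 1)
    (hQ : ∀ (χ : IrrCharacter G) (lam : G →* ℂˣ), P χ → (χ : G → ℂ) = (fun g => (lam g : ℂ)) →
      ∀ η : IrrCharacter G, (η : G → ℂ) = indFun I ψ * (fun g => (lam g : ℂ)) → Q η) :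
    Nat.card {χ : IrrCharacter G // P χ} ≤ I.index * Nat.card {χ : IrrCharacter G // Q χ} := by
  classical
  obtain ⟨hirr, hinj⟩ := clifford_extend N I hNI hφ hI hψ hext
  choose lam hlam using fun χ : {χ : IrrCharacter G // P χ} =>
    IsCharacter.exists_hom_of_apply_one (irr_isCharacter χ.1) (hP χ.1 χ.2)
  let f : {χ : IrrCharacter G // P χ} → {χ : IrrCharacter G // Q χ} := fun χ =>
    ⟨⟨_, isIrr_mul_linear hirr (lam χ)⟩, hQ χ.1 (lam χ) χ.2 (hlam χ) _ rfl⟩
  haveI : Fintype {χ : IrrCharacter G // P χ} := Fintype.ofFinite _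
  haveI : Fintype {χ : IrrCharacter G // Q χ} := Fintype.ofFinite _
  rw [Nat.card_eq_fintype_card, Nat.card_eq_fintype_card, ← Finset.card_univ (α := {χ : IrrCharacter G // P χ})]
  refine le_trans (Finset.card_le_mul_card_image (f := f) Finset.univ I.index fun η _ => ?_)
    (Nat.mul_le_mul_left _ (Finset.card_le_univ _))
  -- a fibre shares its restriction to `I`
  set S := Finset.univ.filter fun χ => f χ = η
  rcases S.eq_empty_or_nonempty with hS | ⟨χ₀, hχ₀⟩
  · rw [hS, Finset.card_empty]; exact Nat.zero_le _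
  have hres : ∀ χ ∈ S, ∀ h ∈ I, lam χ h = lam χ₀ h := by
    intro χ hχ h hh
    have he : indFun I ψ * (fun g => (lam χ g : ℂ)) = indFun I ψ * (fun g => (lam χ₀ g : ℂ)) :=
      congrArg (fun x : {χ : IrrCharacter G // Q χ} => (x.1 : G → ℂ))
        ((Finset.mem_filter.1 hχ).2.trans (Finset.mem_filter.1 hχ₀).2.symm)
    let ν : G →* ℂˣ := lam χ * (lam χ₀)⁻¹
    have hν : indFun I ψ * (fun g => (ν g : ℂ)) = indFun I ψ := by
      funext g
      have := congrFun he g
      simp only [Pi.mul_apply] at this ⊢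
      show _ * (((lam χ g * (lam χ₀ g)⁻¹ : ℂˣ)) : ℂ) = _
      rw [Units.val_mul, ← mul_assoc, this, mul_assoc, ← Units.val_mul, mul_inv_cancel, Units.val_one, mul_one]
    set η' : I → ℂ := ψ * fun h : I => (ν h : ℂ) with hη'
    have h1 : IsIrrCharacter I η' := isIrr_mul_linear hψ (ν.comp I.subtype)
    have h2 : ∀ n : N, η' (Subgroup.inclusion hNI n) = φ n := fun n => by
      show ψ _ * (ν (n : G) : ℂ) = _
      rw [hext, hperf ν n n.2, Units.val_one, mul_one]
    have h3 : indFun I η' = indFun I ψ := by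
      refine Eq.trans ?_ hν
      funext g
      show indFun I η' g = indFun I ψ g * (ν g : ℂ)
      rw [indFun_apply, indFun_apply, mul_assoc, Finset.sum_mul]
      congr 1
      refine Finset.sum_congr rfl fun x _ => ?_
      by_cases hx : x⁻¹ * g * x ∈ I
      · rw [extendByZero_of_mem I _ hx, extendByZero_of_mem I _ hx]
        show ψ _ * (ν (x⁻¹ * g * x) : ℂ) = _
        rw [map_mul, map_mul, map_inv, mul_comm, mul_comm (ν x)⁻¹, inv_mul_cancel_right]
        ring
      · rw [extendByZero_of_not_mem I _ hx, extendByZero_of_not_mem I _ hx, zero_mul]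
    have h4 := hinj η' h1 h2 h3
    -- Gallagher
    haveI : (N.subgroupOf I).Normal := inferInstance
    haveI := Fintype.ofFinite (N.subgroupOf I)
    have hirrN : IsIrrCharacter (N.subgroupOf I) (fun n : N.subgroupOf I => ψ n) := by
      have := IsIrrCharacter.comp_surjective hφ (Subgroup.subgroupOfEquivOfLe hNI).toMonoidHom
        (Subgroup.subgroupOfEquivOfLe hNI).surjective
      convert this using 1
      funext n
      exact (congrArg ψ (Subtype.ext rfl : (n : I) = Subgroup.inclusion hNI (Subgroup.subgroupOfEquivOfLe hNI n))).trans (hext _)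
    have hg := congrFun (avgN_mul_conj_self (N.subgroupOf I) hψ hirrN) ⟨h, hh⟩
    have hg' : Characters.avgN (N.subgroupOf I) (ψ * fun g => conj (ψ g)) ⟨h, hh⟩ * (ν h : ℂ) =
        Characters.avgN (N.subgroupOf I) (η' * fun g => conj (ψ g)) ⟨h, hh⟩ := by
      simp only [Characters.avgN, hη', Pi.mul_apply, mul_assoc, Finset.sum_mul]
      refine congrArg _ (Finset.sum_congr rfl fun n _ => ?_)
      show _ = ψ _ * ((ν (((n : I) : G) * h) : ℂ) * _)
      rw [map_mul, hperf ν _ (Subgroup.mem_subgroupOf.1 n.2), one_mul]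
      ring
    rw [h4, hg, one_mul] at hg'
    have hg'' : lam χ h * (lam χ₀ h)⁻¹ = 1 := Units.ext hg'
    exact mul_inv_eq_one.1 hg''
  -- independent functions on the cosets
  let π : (G ⧸ I → ℂ) →ₗ[ℂ] (G → ℂ) :=
    { toFun := fun w g => w (QuotientGroup.mk g) * (lam χ₀ g : ℂ)
      map_add' := fun v w => funext fun g => add_mul _ _ _
      map_smul' := fun c v => funext fun g => by simp [mul_assoc] }
  have hli : LinearIndependent ℂ (fun χ : S => (χ.1.1 : G → ℂ)) :=
    irr_linearIndependent.comp (fun χ : S => χ.1.1) fun a b e => Subtype.ext (Subtype.ext e)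
  have hsub : Set.range (fun χ : S => (χ.1.1 : G → ℂ)) ⊆ LinearMap.range π := by
    rintro _ ⟨χ, rfl⟩
    refine ⟨Quotient.lift (fun g => (lam χ.1 g : ℂ) / (lam χ₀ g : ℂ)) fun a b hab => ?_, funext fun g => ?_⟩
    · have hm := QuotientGroup.leftRel_apply.1 hab
      have e := hres χ.1 χ.2 _ hm
      have hb : lam χ.1 b = lam χ.1 a * lam χ.1 (a⁻¹ * b) := by rw [← map_mul, mul_inv_cancel_left]
      have hb0 : lam χ₀ b = lam χ₀ a * lam χ₀ (a⁻¹ * b) := by rw [← map_mul, mul_inv_cancel_left]
      rw [hb, hb0, e, Units.val_mul, Units.val_mul, mul_div_mul_right _ _ (Units.ne_zero _)]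
    · show (lam χ.1 g : ℂ) / (lam χ₀ g : ℂ) * (lam χ₀ g : ℂ) = _
      rw [div_mul_cancel₀ _ (Units.ne_zero _)]
      exact (congrFun (hlam χ.1) g).symm
  have h5 := (finrank_span_eq_card hli).symm.le.trans
    (Submodule.finrank_mono (Submodule.span_le.2 hsub))
  rw [Fintype.card_coe] at h5
  refine h5.trans ((LinearMap.finrank_range_le π).trans ?_)
  rw [Module.finrank_fintype_fun_eq_card, ← Nat.card_eq_fintype_card, ← Subgroup.index_eq_card]

end Cfsg.Agent.Lib.Characters
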