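import Cfsg.Agent.Lib.Characters.KnorrForm
import Cfsg.Agent.Lib.Characters.Ito

/-!
# The `k(GV)` bound for a vector with abelian stabilizer
-/

namespace Cfsg.Agent.Lib.Characters

open scoped ComplexConjugate

set_option linter.unusedSectionVars false
set_option linter.style.haveILetI false

universe u

section Cyclotomic

variable (p : ℕ) [Fact p.Prime]

/-- Combinations of the powers of a primitive root of unity, at the non-trivial conjugates. -/
noncomputable def cycVec : (ZMod p → ℤ) →+ ({t : ZMod p // t ≠ 0} → ℂ) where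
  toFun m t := ∑ j, (m j : ℂ) * ZMod.stdAddChar ((t : ZMod p) * j)
  map_zero' := funext fun t => by simp
  map_add' m m' := funext fun t => by simp [add_mul, Finset.sum_add_distrib]

theorem le_sqLen_cycVec (m : ZMod p → ℤ) (h : cycVec p m ≠ 0) :
    ((p : ℝ) - 1) ≤ sqLen (cycVec p m) := by
  classical
  set e := ZMod.stdAddChar (N := p) with he
  have hprim : e.IsPrimitive := ZMod.isPrimitive_stdAddChar p
  have hall : ((∑ t : ZMod p, Complex.normSq (∑ j, (m j : ℂ) * e (t * j)) : ℝ) : ℂ) =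
      (((p : ℝ) * ∑ j, ((m j : ℝ)) ^ 2 : ℝ) : ℂ) := by
    push_cast
    simp only [Complex.normSq_eq_conj_mul_self, map_sum, map_mul, map_intCast,
      ← AddChar.map_neg_eq_conj, Finset.sum_mul_sum]
    rw [Finset.sum_comm, Finset.mul_sum]
    refine Finset.sum_congr rfl fun i _ => ?_
    rw [Finset.sum_comm]
    have h1 : ∀ j : ZMod p, ∑ t : ZMod p, (m i : ℂ) * e (-(t * i)) * ((m j : ℂ) * e (t * j)) =
        (m i : ℂ) * m j * if j - i = 0 then (p : ℂ) else 0 := fun j => by
      have h3 := AddChar.sum_mulShift (ψ := e) (j - i) hprim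
      rw [ZMod.card, Nat.cast_ite, Nat.cast_zero] at h3
      rw [← h3, Finset.mul_sum]
      refine Finset.sum_congr rfl fun t _ => ?_
      rw [show t * (j - i) = -(t * i) + t * j by ring, AddChar.map_add_eq_mul]
      ring
    rw [Finset.sum_congr rfl fun j _ => h1 j,
      Finset.sum_eq_single i (fun j _ hj => by simp [sub_eq_zero, hj]) (by simp), sub_self,
      if_pos rfl]
    ring
  have hall' : ∑ t : ZMod p, Complex.normSq (∑ j, (m j : ℂ) * e (t * j)) =
      (p : ℝ) * ∑ j, ((m j : ℝ)) ^ 2 := by exact_mod_cast hall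
  have hsplit : sqLen (cycVec p m) + Complex.normSq (∑ j, (m j : ℂ)) =
      (p : ℝ) * ∑ j, ((m j : ℝ)) ^ 2 := by
    rw [← hall', ← Fintype.sum_subtype_add_sum_subtype (fun t : ZMod p => t ≠ 0)
      fun t => Complex.normSq (∑ j, (m j : ℂ) * e (t * j))]
    refine congrArg₂ (· + ·) rfl ?_
    rw [Fintype.sum_eq_single (⟨0, by simp⟩ : {t : ZMod p // ¬ t ≠ 0})
      fun x hx => absurd (Subtype.ext (not_not.mp x.2)) hx]
    simp
  have hN : Complex.normSq (∑ j, (m j : ℂ)) = (∑ j, (m j : ℝ)) ^ 2 := by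
    rw [show (∑ j, (m j : ℂ)) = ((∑ j, (m j : ℝ) : ℝ) : ℂ) by push_cast; rfl,
      Complex.normSq_ofReal, sq]
  have hpair : ∑ i, ∑ j, ((m i : ℝ) - m j) ^ 2 = 2 * sqLen (cycVec p m) := by
    have h1 : ∑ i, ∑ j, ((m i : ℝ) - m j) ^ 2 =
        2 * ((p : ℝ) * ∑ j, ((m j : ℝ)) ^ 2) - 2 * (∑ j, (m j : ℝ)) ^ 2 := by
      simp only [sub_sq, Finset.sum_add_distrib, Finset.sum_sub_distrib, Finset.sum_const,
        Finset.card_univ, ZMod.card, nsmul_eq_mul, ← Finset.mul_sum, ← Finset.sum_mul]
      ring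
    rw [h1, ← hN, ← hsplit]
    ring
  -- the coefficients are not constant
  have hnc : ∃ i₀ j₀, m i₀ ≠ m j₀ := by
    by_contra hc
    push Not at hc
    apply h
    funext t
    show ∑ j, (m j : ℂ) * e ((t : ZMod p) * j) = 0
    rw [Finset.sum_congr rfl fun j _ => by rw [hc j 0], ← Finset.mul_sum,
      show (∑ j, e ((t : ZMod p) * j)) = ∑ j, e (j * t) from
        Finset.sum_congr rfl fun j _ => by rw [mul_comm],
      AddChar.sum_mulShift _ hprim, if_neg t.2, Nat.cast_zero, mul_zero]
  obtain ⟨i₀, j₀, hij⟩ := hnc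
  set S := Finset.univ.filter fun i => m i = m i₀ with hS
  set W := Finset.univ.filter fun i => ¬ m i = m i₀ with hW
  have hone : ∀ i j, m i ≠ m j → (1 : ℝ) ≤ ((m i : ℝ) - m j) ^ 2 := fun i j hne => by
    have : (1 : ℤ) ≤ (m i - m j) ^ 2 := by
      have := sq_pos_of_ne_zero (sub_ne_zero.mpr hne)
      omega
    exact_mod_cast this
  have hcard : (S.card : ℝ) + W.card = p := by
    rw [← Nat.cast_add, hS, hW, Finset.card_filter_add_card_filter_not, Finset.card_univ, ZMod.card]
  have hlow : 2 * ((S.card : ℝ) * W.card) ≤ ∑ i, ∑ j, ((m i : ℝ) - m j) ^ 2 := by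
    rw [← Finset.sum_filter_add_sum_filter_not Finset.univ (fun i => m i = m i₀)
      (fun i => ∑ j, ((m i : ℝ) - m j) ^ 2), ← hS, ← hW, two_mul]
    refine add_le_add ?_ ?_
    · rw [← nsmul_eq_mul]
      refine Finset.card_nsmul_le_sum _ _ _ fun i hi => ?_
      refine le_trans ?_ (Finset.sum_le_univ_sum_of_nonneg (s := W) fun j => sq_nonneg _)
      rw [← mul_one ((W.card : ℝ)), ← nsmul_eq_mul]
      refine Finset.card_nsmul_le_sum _ _ _ fun j hj => hone i j ?_
      simp [hS, hW] at hi hj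
      exact fun hh => hj (hh.symm.trans hi)
    · rw [mul_comm, ← nsmul_eq_mul]
      refine Finset.card_nsmul_le_sum _ _ _ fun i hi => ?_
      refine le_trans ?_ (Finset.sum_le_univ_sum_of_nonneg (s := S) fun j => sq_nonneg _)
      rw [← mul_one ((S.card : ℝ)), ← nsmul_eq_mul]
      refine Finset.card_nsmul_le_sum _ _ _ fun j hj => hone i j ?_
      simp [hS, hW] at hi hj
      exact fun hh => hi (hh.trans hj)
  have h1 : (1 : ℝ) ≤ S.card := by
    exact_mod_cast Finset.card_pos.mpr ⟨i₀, by simp [hS]⟩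
  have h2 : (1 : ℝ) ≤ W.card := by
    exact_mod_cast Finset.card_pos.mpr ⟨j₀, by simp [hW, Ne.symm hij]⟩
  nlinarith [mul_nonneg (sub_nonneg.mpr h1) (sub_nonneg.mpr h2)]

end Cyclotomic

/-- Knörr's bound: `k(GV) ≤ |V|` if some vector has an abelian stabilizer. -/
theorem card_conjClasses_le_of_abelian_stabilizer {X : Type u} [Group X] [Finite X] (p : ℕ)
    [Fact p.Prime] (V : Subgroup X) [V.Normal] (hVexp : ∀ v ∈ V, v ^ p = 1)
    (hidx : ¬ p ∣ V.index) (hself : Subgroup.centralizer (V : Set X) = V) (G : Subgroup X)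
    (hGV : Subgroup.IsComplement' V G) (v₀ : X) (hv₀ : v₀ ∈ V)
    (hab₀ : ∀ a ∈ G ⊓ Subgroup.centralizer ({v₀} : Set X),
      ∀ b ∈ G ⊓ Subgroup.centralizer ({v₀} : Set X), a * b = b * a) :
    Nat.card (ConjClasses X) ≤ Nat.card V := by
  classical
  have hp : p.Prime := Fact.out
  haveI := Fintype.ofFinite X
  haveI := Fintype.ofFinite (IrrCharacter X)
  have hVcomm : ∀ a ∈ V, ∀ b ∈ V, a * b = b * a := fun a ha b hb =>
    (Subgroup.mem_centralizer_iff.mp (hself.ge hb) a ha)
  by_cases hVbot : V = ⊥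
  · have hXV : (⊤ : Subgroup X) ≤ V := fun x _ => hself.le (Subgroup.mem_centralizer_iff.mpr
      fun y hy => by rw [hVbot] at hy; simp [Subgroup.mem_bot.mp hy])
    haveI : Subsingleton X := ⟨fun a b => by
      have ha := hXV (Subgroup.mem_top a); have hb := hXV (Subgroup.mem_top b)
      rw [hVbot, Subgroup.mem_bot] at ha hb; rw [ha, hb]⟩
    exact ((Nat.card_le_card_of_surjective _ ConjClasses.mk_surjective).trans
      (Nat.card_of_subsingleton (1 : X)).le).trans Nat.card_pos
  -- a non-trivial vector with abelian stabilizer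
  obtain ⟨v, hv, hv1, hab⟩ : ∃ v ∈ V, v ≠ 1 ∧ ∀ a ∈ G ⊓ Subgroup.centralizer ({v} : Set X),
      ∀ b ∈ G ⊓ Subgroup.centralizer ({v} : Set X), a * b = b * a := by
    by_cases h1 : v₀ = 1
    · obtain ⟨⟨w, hw⟩, hw1⟩ := Subgroup.ne_bot_iff_exists_ne_one.mp hVbot
      refine ⟨w, hw, fun h => hw1 (Subtype.ext h), fun a ha b hb => hab₀ a ⟨ha.1, ?_⟩ b ⟨hb.1, ?_⟩⟩
      · rw [h1]; exact Subgroup.mem_centralizer_singleton_iff.mpr (by simp)
      · rw [h1]; exact Subgroup.mem_centralizer_singleton_iff.mpr (by simp)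
    · exact ⟨v₀, hv₀, h1, hab₀⟩
  set A : Subgroup X := G ⊓ Subgroup.centralizer ({v} : Set X) with hA
  letI : CommGroup A :=
    { (inferInstance : Group A) with mul_comm := fun a b => Subtype.ext (hab a a.2 b b.2) }
  letI : CommGroup V :=
    { (inferInstance : Group V) with mul_comm := fun a b => Subtype.ext (hVcomm a a.2 b b.2) }
  have hVpg : IsPGroup p V := fun x => ⟨1, Subtype.ext (by simpa using hVexp x x.2)⟩
  obtain ⟨d, hd⟩ := hVpg.exists_card_eq
  have hGidx : Nat.card G = V.index := by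
    have h1 := hGV.card_mul
    rw [← V.card_mul_index] at h1
    exact Nat.eq_of_mul_eq_mul_left Nat.card_pos h1
  have hAp : ¬ p ∣ Nat.card A := fun h =>
    hidx (hGidx ▸ h.trans (Subgroup.card_dvd_of_le inf_le_left))
  let α : A →* MulAut V := (MulAut.conjNormal (H := V)).comp A.subtype
  have hα : ∀ (a : A) (x : V), ((α a x : V) : X) = a * x * (a : X)⁻¹ := fun a x =>
    MulAut.conjNormal_apply _ _
  have hinj : Function.Injective α := by
    refine (injective_iff_map_eq_one α).mpr fun a ha => ?_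
    have h1 : (a : X) ∈ V := hself.le (Subgroup.mem_centralizer_iff.mpr fun y hy => by
      have h2 := congrArg Subtype.val (DFunLike.congr_fun ha ⟨y, hy⟩)
      rw [hα, MulAut.one_apply] at h2
      exact (mul_inv_eq_iff_eq_mul.mp h2).symm)
    exact Subtype.ext (Subgroup.mem_bot.mp (hGV.disjoint.le_bot ⟨h1, a.2.1⟩))
  have hgood := goodWeight_index_fixed (L := (cycVec p).range) (c := (p : ℝ) - 1)
    (sub_nonneg.mpr (by exact_mod_cast hp.one_le))
    (fun x hx hne => by obtain ⟨m, rfl⟩ := hx; exact le_sqLen_cycVec p m hne)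
    (Nat.card V) V A α rfl hinj
    (by rw [hd]; exact (Nat.Coprime.pow_right _ (hp.coprime_iff_not_dvd.mpr hAp).symm))
  -- the section characters
  have hvp : v ^ p = 1 := hVexp v hv
  let ι₀ : Multiplicative (ZMod p) × A →* X := MonoidHom.mk'
    (fun x => v ^ (Multiplicative.toAdd x.1).val * (x.2 : X)) fun x y => by
    show v ^ (Multiplicative.toAdd x.1 + Multiplicative.toAdd y.1).val * ((x.2 : X) * y.2) = _
    rw [ZMod.val_add, ← pow_eq_pow_mod _ hvp, pow_add]
    have hc : Commute (v ^ (Multiplicative.toAdd y.1).val) (x.2 : X) :=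
      Commute.pow_left (show Commute v (x.2 : X) from
        (Subgroup.mem_centralizer_singleton_iff.mp x.2.2.2).symm) _
    rw [mul_assoc, ← mul_assoc _ (x.2 : X), hc.eq]
    group
  let f : IrrCharacter X → A → {t : ZMod p // t ≠ 0} → ℂ := fun χ a t =>
    (χ : X → ℂ) (v ^ (t : ZMod p).val * a)
  have hcomb : ∀ (χ : IrrCharacter X) (ψ : A →* ℂˣ), ∃ m : ZMod p → ℤ,
      ∀ s : ZMod p, (Nat.card A : ℂ)⁻¹ * ∑ a : A, (χ : X → ℂ) (v ^ s.val * a) *
        conj ((ψ a : ℂˣ) : ℂ) = ∑ j, (m j : ℂ) * ZMod.stdAddChar (s * j) := by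
    intro χ ψ
    let Ψ : ZMod p → (Multiplicative (ZMod p) × A →* ℂˣ) := fun j =>
      (((ZMod.stdAddChar (N := p)).mulShift j).toMonoidHom.toHomUnits.comp
        (MonoidHom.fst _ _)) * (ψ.comp (MonoidHom.snd _ _))
    choose k hk using fun j => IsCharacter.exists_classInner_nat
      (IsCharacter.comp (irr_isCharacter χ) ι₀)
      (IsIrrCharacter.isCharacter (isIrrCharacter_unitsHom (Ψ j)))
    refine ⟨fun j => k j, fun s => ?_⟩
    simp only [Int.cast_natCast, ← hk, classInner, Finset.mul_sum, Finset.sum_mul,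
      Nat.card_prod, Nat.cast_mul, mul_inv, Fintype.sum_prod_type]
    conv_rhs => rw [Finset.sum_comm]

    conv_rhs => arg 2; ext r; rw [Finset.sum_comm]
    conv_rhs => rw [Finset.sum_comm]
    refine Finset.sum_congr rfl fun a _ => ?_
    have hterm : ∀ (j : ZMod p) (r : Multiplicative (ZMod p)),
        (Nat.card (Multiplicative (ZMod p)) : ℂ)⁻¹ * (Nat.card A : ℂ)⁻¹ *
          (((χ : X → ℂ) ∘ ι₀) (r, a) * conj (((Ψ j) (r, a) : ℂˣ) : ℂ)) *
            ZMod.stdAddChar (s * j) =
        (p : ℂ)⁻¹ * ((Nat.card A : ℂ)⁻¹ * ((χ : X → ℂ) (v ^ (Multiplicative.toAdd r).val * a) *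
          conj ((ψ a : ℂˣ) : ℂ))) * ZMod.stdAddChar (j * (s - Multiplicative.toAdd r)) := by
      intro j r
      have h1 : (((Ψ j) (r, a) : ℂˣ) : ℂ) =
          ZMod.stdAddChar (j * Multiplicative.toAdd r) * ((ψ a : ℂˣ) : ℂ) := rfl
      rw [h1, map_mul, ← AddChar.map_neg_eq_conj, Nat.card_eq_fintype_card,
        Fintype.card_multiplicative, ZMod.card, mul_sub, sub_eq_add_neg, AddChar.map_add_eq_mul,
        mul_comm s j]
      simp only [Function.comp_apply, ι₀, MonoidHom.mk'_apply]
      ring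
    rw [Finset.sum_congr rfl fun r _ => Finset.sum_congr rfl fun j _ => hterm j r]
    simp only [← Finset.mul_sum]
    rw [Finset.sum_eq_single (Multiplicative.ofAdd s)]
    · rw [toAdd_ofAdd, sub_self]
      simp only [mul_zero, AddChar.map_zero_eq_one, Finset.sum_const, Finset.card_univ, ZMod.card,
        nsmul_eq_mul, mul_one]
      field_simp [(Nat.cast_ne_zero.mpr hp.ne_zero : (p : ℂ) ≠ 0)]
    · intro r _ hr
      rw [AddChar.sum_mulShift _ (ZMod.isPrimitive_stdAddChar p), if_neg, Nat.cast_zero, mul_zero]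
      exact fun h => hr (by rw [sub_eq_zero.mp h]; rfl)
    · simp
  have hfne : ∀ χ, f χ ≠ 0 := by
    intro χ h0
    obtain ⟨m, hm⟩ := hcomb χ 1
    obtain ⟨d₀, hd₀, hχ1⟩ := IsIrrCharacter.exists_apply_one χ.2
    have hdvd : d₀ ∣ V.index := IsIrrCharacter.degree_dvd_index_of_abelian χ.2 V hVcomm hχ1
    -- average over the powers of `v`
    let ι₁ : Multiplicative (ZMod p) →* X := ι₀.comp (MonoidHom.inl _ _)
    obtain ⟨k, hk⟩ := IsCharacter.exists_classInner_nat (IsCharacter.comp (irr_isCharacter χ) ι₁)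
      (IsIrrCharacter.isCharacter (isIrrCharacter_unitsHom (1 : Multiplicative (ZMod p) →* ℂˣ)))
    rw [classInner, Nat.card_eq_fintype_card, Fintype.card_multiplicative, ZMod.card,
      Finset.sum_eq_single (1 : Multiplicative (ZMod p)), inv_mul_eq_iff_eq_mul₀
      (Nat.cast_ne_zero.mpr hp.ne_zero)] at hk
    · simp only [Function.comp_apply, map_one, Units.val_one, mul_one, hχ1] at hk
      have hk' : d₀ = p * k := by exact_mod_cast hk
      exact hidx ((Dvd.intro k hk'.symm).trans hdvd)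
    · intro r _ hr
      have hr' : Multiplicative.toAdd r ≠ 0 := fun h => hr (by simpa using congrArg Multiplicative.ofAdd h)
      have h1 := congrFun (congrFun h0 (1 : A)) ⟨Multiplicative.toAdd r, hr'⟩
      simp only [Function.comp_apply]
      rw [show ι₁ r = v ^ (Multiplicative.toAdd r).val * ((1 : A) : X) from rfl]
      simp only [f, Pi.zero_apply] at h1
      rw [h1, zero_mul]
    · simp
  have hlow : ∀ χ, ((p : ℝ) - 1) * (Nat.card A : ℝ) ^ 2 ≤
      ∑ a : A, ((fixedSubgroup (α a)).index : ℝ) * sqLen (f χ a) := fun χ =>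
    hgood (f χ) (fun ψ => by
      obtain ⟨m, hm⟩ := hcomb χ ψ
      exact ⟨m, funext fun t => (hm t).symm⟩) (hfne χ)
  -- centralizers of the section elements
  have hcent : ∀ (t : {t : ZMod p // t ≠ 0}) (a : A),
      Nat.card (Subgroup.centralizer ({v ^ (t : ZMod p).val * (a : X)} : Set X)) ≤
        Nat.card (fixedSubgroup (α a)) * Nat.card A := by
    intro t a
    set u := v ^ (t : ZMod p).val with hu
    have huv : Commute v (a : X) := (Subgroup.mem_centralizer_singleton_iff.mp a.2.2).symm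
    have hua : Commute u (a : X) := huv.pow_left _
    let g : fixedSubgroup (α a) × A → X := fun x => ((x.1 : V) : X) * x.2
    have hsub : ∀ c ∈ Subgroup.centralizer ({u * (a : X)} : Set X), c ∈ Set.range g := by
      intro c hc
      have hcomm : Commute c (u * (a : X)) := Subgroup.mem_centralizer_singleton_iff.mp hc
      have hca : Commute c (a : X) := by
        have h1 : Commute c ((a : X) ^ p) := by
          have := hcomm.pow_right p
          rwa [hua.mul_pow, show u ^ p = 1 by rw [hu, ← pow_mul, mul_comm, pow_mul, hvp, one_pow],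
            one_mul] at this
        obtain ⟨r, hr⟩ := exists_pow_eq_self_of_coprime (x := a)
          (n := p) ((hp.coprime_iff_not_dvd.mpr fun h => hAp (h.trans (orderOf_dvd_natCard a))))
        have h2 := h1.pow_right r
        rwa [show ((a : X) ^ p) ^ r = a by exact_mod_cast congrArg Subtype.val hr] at h2
      have hcu : Commute c u := by
        have h3 := hcomm.mul_right hca.inv_right
        rwa [mul_inv_cancel_right] at h3
      have hcv : Commute c v := by
        have hcop : p.Coprime (t : ZMod p).val := hp.coprime_iff_not_dvd.mpr fun h => t.2 (by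
          rw [← ZMod.natCast_zmod_val (t : ZMod p)]
          exact ((ZMod.natCast_eq_zero_iff _ p).mpr h) : (t : ZMod p) = 0)
        obtain ⟨r, hr⟩ := exists_pow_eq_self_of_coprime (x := v) (n := (t : ZMod p).val)
          ((Nat.Coprime.coprime_dvd_right (orderOf_dvd_of_pow_eq_one hvp) hcop.symm))
        have h4 := hcu.pow_right r
        rwa [hu, hr] at h4
      obtain ⟨⟨x, b⟩, hxb⟩ := hGV.2 c
      simp only at hxb
      have hxv : Commute (x : X) v := hVcomm x x.2 v hv
      have hbv : Commute (b : X) v := by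
        have h5 : (b : X) = (x : X)⁻¹ * c := by rw [← hxb, inv_mul_cancel_left]
        rw [h5]
        exact hxv.inv_left.mul_left hcv
      have hbA : (b : X) ∈ A := ⟨b.2, Subgroup.mem_centralizer_singleton_iff.mpr hbv.eq⟩
      have hxa : Commute (x : X) (a : X) := by
        have h6 : (x : X) = c * (b : X)⁻¹ := by rw [← hxb, mul_inv_cancel_right]
        rw [h6]
        exact hca.mul_left (Commute.inv_left (hab _ hbA _ a.2))
      refine ⟨(⟨⟨x, x.2⟩, ?_⟩, ⟨b, hbA⟩), hxb⟩
      refine mem_fixedSubgroup.mpr (Subtype.ext ?_)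
      rw [hα, ← hxa.eq, mul_inv_cancel_right]
    calc Nat.card (Subgroup.centralizer ({u * (a : X)} : Set X))
        ≤ Nat.card (Set.range g) := Nat.card_le_card_of_injective
          (fun c => ⟨(c : X), hsub c c.2⟩) fun c c' h => Subtype.ext (congrArg (fun z : Set.range g => (z : X)) h)
      _ ≤ _ := (Finite.card_range_le g).trans (Nat.card_prod _ _).le
  have hsumχ : ∀ x : X, ∑ χ : IrrCharacter X, Complex.normSq ((χ : X → ℂ) x) =
      (Nat.card (Subgroup.centralizer ({x} : Set X)) : ℝ) := fun x => by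
    have h1 := sum_irr_mul_conj x x
    rw [if_pos (IsConj.refl x)] at h1
    have h2 : ((∑ χ : IrrCharacter X, Complex.normSq ((χ : X → ℂ) x) : ℝ) : ℂ) =
        ((Nat.card (Subgroup.centralizer ({x} : Set X)) : ℝ) : ℂ) := by
      push_cast
      rw [← h1]
      exact Finset.sum_congr rfl fun χ _ => (Complex.mul_conj _).symm
    exact_mod_cast h2
  have htot : ∑ χ : IrrCharacter X, ∑ a : A,
      ((fixedSubgroup (α a)).index : ℝ) * sqLen (f χ a) ≤
      ((p : ℝ) - 1) * (Nat.card A : ℝ) ^ 2 * Nat.card V := by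
    rw [Finset.sum_comm]
    have hT : (Fintype.card {t : ZMod p // t ≠ 0} : ℝ) = (p : ℝ) - 1 := by
      rw [Fintype.card_subtype_compl, ZMod.card, Fintype.card_subtype_eq,
        Nat.cast_sub hp.one_le, Nat.cast_one]
    calc ∑ a : A, ∑ χ : IrrCharacter X, ((fixedSubgroup (α a)).index : ℝ) * sqLen (f χ a)
        ≤ ∑ a : A, ((p : ℝ) - 1) * ((Nat.card V : ℝ) * Nat.card A) := by
          refine Finset.sum_le_sum fun a _ => ?_
          simp only [sqLen, f, ← Finset.mul_sum]
          rw [Finset.sum_comm, ← hT, Finset.mul_sum, ← nsmul_eq_mul, ← Finset.card_univ,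
            ← Finset.sum_const]
          refine Finset.sum_le_sum fun t _ => ?_
          rw [hsumχ]
          have h3 := Nat.mul_le_mul_left (fixedSubgroup (α a)).index (hcent t a)
          rw [← mul_assoc, mul_comm _ (Nat.card (fixedSubgroup (α a))),
            Subgroup.card_mul_index] at h3
          exact_mod_cast h3
      _ = _ := by
          rw [Finset.sum_const, Finset.card_univ, nsmul_eq_mul, Nat.card_eq_fintype_card (α := A)]
          ring
  have hfinal : (Fintype.card (IrrCharacter X) : ℝ) * (((p : ℝ) - 1) * (Nat.card A : ℝ) ^ 2) ≤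
      ((p : ℝ) - 1) * (Nat.card A : ℝ) ^ 2 * Nat.card V := by
    refine le_trans ?_ htot
    rw [← nsmul_eq_mul, ← Finset.card_univ, ← Finset.sum_const]
    exact Finset.sum_le_sum fun χ _ => hlow χ
  have hpos : (0 : ℝ) < ((p : ℝ) - 1) * (Nat.card A : ℝ) ^ 2 :=
    mul_pos (sub_pos.mpr (by exact_mod_cast hp.one_lt)) (pow_pos (by exact_mod_cast Nat.card_pos) 2)
  rw [← card_irrCharacter, Nat.card_eq_fintype_card]
  rw [mul_comm] at hfinal
  exact_mod_cast le_of_mul_le_mul_left hfinal hpos

end Cfsg.Agent.Lib.Characters
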