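import Cfsg.Agent.Lib.Characters.Kernel
import Cfsg.Agent.Lib.Characters.Burnside
import Cfsg.Agent.Lib.BlockHeights.WeakOrth
import Cfsg.Agent.Lib.Blocks.Exists

/-!
# Kazarin's theorem on classes of prime-power size

If the conjugacy class of `x` has prime-power size then the normal closure of `x` is solvable.

The character-theoretic step: let `y` of prime order `p` generate `G` as a normal subgroup, with
class of size `t ^ a`, and let `u` be a prime different from `t` and `p` dividing `|G|`.  The
central character of a member of the principal `u`-block at `y` is congruent to `t ^ a`, so it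
does not vanish; hence every nontrivial member has degree divisible by `t`, which contradicts weak
block orthogonality at a `u`-singular element.
-/

set_option autoImplicit false

namespace Cfsg.Agent.Lib.Characters

open Cfsg Cfsg.Agent.Lib.Blocks Cfsg.Agent.Lib.BlockHeights Module
open scoped ComplexConjugate

universe u

theorem pow_eq_one_congr_eq_one {v p : ℕ} {M : Ideal AlgInt} (hM : IsPModular v M)
    (hp : p.Prime) (hvp : v ≠ p) {ω : ℂ} (hω : ω ^ p = 1) (h : MemLocalIdeal M (ω - 1)) :
    ω = 1 := by
  haveI := isPrime_of_isPModular hM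
  by_contra hne
  have hint : IsIntegral ℤ ω := IsIntegral.of_pow hp.pos (hω.symm ▸ isIntegral_one)
  have hmem : ∀ i : ℕ, MemLocalIdeal M (ω ^ i - 1) := by
    intro i
    rw [← geom_sum_mul]
    exact memLocalIdeal_mul_left (memLocalRing_of_isIntegral'
      (IsIntegral.sum _ fun j _ => hint.pow j)) h
  have hsum : ∑ i ∈ Finset.range p, ω ^ i = 0 := by
    have h1 := geom_sum_mul ω p
    rw [hω, sub_self] at h1
    exact (mul_eq_zero.mp h1).resolve_right (sub_ne_zero.mpr hne)
  have h2 : MemLocalIdeal M ((p : ℕ) : ℂ) := by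
    have h3 := memLocalIdeal_neg (memLocalIdeal_sum (M := M) (Finset.range p)
      (f := fun i => ω ^ i - 1) fun i _ => hmem i)
    rw [Finset.sum_sub_distrib, hsum] at h3
    simpa using h3
  exact hvp ((Nat.prime_dvd_prime_iff_eq hM.1 hp).mp ((memLocalIdeal_natCast_iff hM p).mp h2))

theorem false_of_generating_class_primePow {G : Type u} [Group G] [Finite G] {t a p v : ℕ}
    (ht : t.Prime) (hp : p.Prime) (hv : v.Prime) (hvt : v ≠ t) (hvp : v ≠ p) {y : G}
    (hy : orderOf y = p) (hclass : (Subgroup.centralizer ({y} : Set G)).index = t ^ a)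
    (hgen : Subgroup.normalClosure ({y} : Set G) = ⊤) (hdvd : v ∣ Nat.card G) : False := by
  classical
  haveI := Fintype.ofFinite G
  haveI := Fintype.ofFinite (IrrCharacter G)
  haveI := Fact.mk hv
  obtain ⟨s, hs⟩ := exists_prime_orderOf_dvd_card' v hdvd
  obtain ⟨M, hM⟩ := exists_isPModular hv
  haveI := isPrime_of_isPModular hM
  set B : Set (IrrCharacter G) := blockOf M ((trivIrr G : IrrCharacter G) : G → ℂ) with hBdef
  have hB : IsPBlock M B := ⟨trivIrr G, rfl⟩
  have hsing : ¬ IsPRegular v s := fun h => h (by rw [hs])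
  have hsum := sum_block_mul_eq_zero hM hB hsing (isPRegular_one (G := G) hv)
  have htriv : trivIrr G ∈ B := by
    intro g
    rw [sub_self]
    exact memLocalIdeal_zero
  have hindex : ¬ MemLocalIdeal M ((t ^ a : ℕ) : ℂ) := fun h =>
    hvt ((Nat.prime_dvd_prime_iff_eq hv ht).mp
      (hv.dvd_of_dvd_pow ((memLocalIdeal_natCast_iff hM _).mp h)))
  have hdeg : ∀ χ : IrrCharacter G, χ ∈ B → χ ≠ trivIrr G →
      IsIntegral ℤ ((χ : G → ℂ) s * (χ : G → ℂ) 1 / (t : ℂ)) := by
    rintro ⟨χ, n, ρ, hρ, rfl⟩ hmem hne
    have hne' : ρ.character ≠ fun _ => 1 := fun h => hne (Subtype.ext h)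
    show IsIntegral ℤ (ρ.character s * ρ.character 1 / (t : ℂ))
    rw [ρ.char_one]
    by_cases hpd : t ∣ finrank ℂ (Fin n → ℂ)
    · obtain ⟨d, hd⟩ := hpd
      have ht0 : (t : ℂ) ≠ 0 := by exact_mod_cast ht.ne_zero
      have e : ρ.character s * ((t * d : ℕ) : ℂ) / (t : ℂ) = (d : ℂ) * ρ.character s := by
        push_cast
        field_simp
      rw [hd, e]
      exact (isIntegral_algebraMap (R := ℤ) (A := ℂ) (x := (d : ℤ))).mul (char_isIntegral ρ s)
    exfalso
    have hdiff := hmem y
    simp only [centralChar, trivIrr_apply, div_one, mul_one, hclass] at hdiff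
    rw [ρ.char_one] at hdiff
    have hcop : Nat.Coprime (finrank ℂ (Fin n → ℂ)) (Nat.card {x : G // IsConj y x}) := by
      rw [card_conj_eq_index, hclass]
      exact ((ht.coprime_iff_not_dvd.mpr hpd).pow_left a).symm
    rcases char_eq_zero_or_norm_eq_of_coprime ρ y hcop with h0 | h0
    · rw [h0, mul_zero, zero_div, sub_zero] at hdiff
      exact hindex hdiff
    obtain ⟨ω, hω⟩ := (norm_char_eq_iff ρ y).mp h0
    have hn0 : (finrank ℂ (Fin n → ℂ) : ℂ) ≠ 0 := by
      exact_mod_cast (finrank_pos_of_isIrreducible ρ).ne'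
    have hpos : 0 < finrank ℂ (Fin n → ℂ) := finrank_pos_of_isIrreducible ρ
    haveI : Nontrivial (Fin n → ℂ) := Module.nontrivial_of_finrank_pos hpos
    have hchar : ρ.character y = ω * (finrank ℂ (Fin n → ℂ) : ℂ) := by
      show LinearMap.trace ℂ _ (ρ y) = _
      rw [hω, map_smul, LinearMap.trace_id, smul_eq_mul]
    have hωp : ω ^ p = 1 := by
      have h1 : ρ (y ^ p) = 1 := by rw [← hy, pow_orderOf_eq_one, map_one]
      rw [map_pow, hω, ← Module.End.one_eq_id, smul_pow, one_pow] at h1
      obtain ⟨w, hw⟩ := exists_ne (0 : Fin n → ℂ)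
      have h2 := LinearMap.congr_fun h1 w
      rw [LinearMap.smul_apply, Module.End.one_apply] at h2
      have h3 : (ω ^ p - 1) • w = 0 := by rw [sub_smul, one_smul, h2, sub_self]
      exact sub_eq_zero.mp ((smul_eq_zero.mp h3).resolve_right hw)
    have h1ω : MemLocalIdeal M (1 - ω) := by
      rw [hchar, mul_div_assoc, mul_div_cancel_right₀ _ hn0,
        show ((t ^ a : ℕ) : ℂ) - ((t ^ a : ℕ) : ℂ) * ω
          = ((t ^ a : ℕ) : ℂ) * (1 - ω) by ring] at hdiff
      refine ((memLocalIdeal_mul_iff (memLocalRing_natCast _) ?_).mp hdiff).resolve_left hindex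
      exact memLocalRing_of_isIntegral'
        (isIntegral_one.sub (IsIntegral.of_pow hp.pos (hωp.symm ▸ isIntegral_one)))
    have hω1 : ω = 1 := pow_eq_one_congr_eq_one hM hp hvp hωp
      (by simpa using memLocalIdeal_neg h1ω)
    have hker : Subgroup.normalClosure ({y} : Set G) ≤ ρ.ker := by
      refine Subgroup.normalClosure_le_normal ?_
      intro z hz
      rw [Set.mem_singleton_iff] at hz
      rw [hz, SetLike.mem_coe, MonoidHom.mem_ker, hω, hω1, one_smul, Module.End.one_eq_id]
    rw [hgen] at hker
    obtain ⟨g, hg⟩ := IsIrrCharacter.exists_ne_apply_one (isIrrCharacter_of_rep ρ) hne'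
    apply hg
    show LinearMap.trace ℂ _ (ρ g) = LinearMap.trace ℂ _ (ρ 1)
    exact congrArg _ ((MonoidHom.mem_ker.mp (hker (Subgroup.mem_top g))).trans (map_one ρ).symm)
  rw [← Finset.add_sum_erase _ _ (Finset.mem_univ (trivIrr G)), if_pos htriv] at hsum
  simp only [trivIrr_apply, mul_one] at hsum
  have hint : IsIntegral ℤ ((-1 : ℂ) / t) := by
    rw [← eq_neg_of_add_eq_zero_right hsum, Finset.sum_div]
    refine IsIntegral.sum _ fun χ hχ => ?_
    split_ifs with h
    · exact hdeg χ h (Finset.mem_erase.mp hχ).1
    · rw [zero_div]; exact isIntegral_zero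
  have h2 : IsIntegral ℤ ((1 : ℕ) / (t : ℂ)) := by simpa [neg_div] using hint.neg
  exact ht.ne_one (Nat.dvd_one.mp (dvd_of_isIntegral_div ht.ne_zero h2))

open Subgroup

/-- Centraliser indices do not grow in a subgroup containing a normal piece. -/
theorem index_centralizer_dvd_of_normal {G : Type u} [Group G] [Finite G] {N : Subgroup G}
    [N.Normal] (x : N) :
    (centralizer ({x} : Set N)).index ∣ (centralizer ({(x : G)} : Set G)).index := by
  have h : centralizer ({x} : Set N) = (centralizer ({(x : G)} : Set G)).subgroupOf N := by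
    ext n
    rw [mem_subgroupOf, mem_centralizer_singleton_iff, mem_centralizer_singleton_iff]
    exact ⟨fun h => congrArg Subtype.val h, fun h => Subtype.ext h⟩
  set C := centralizer ({(x : G)} : Set G)
  rw [h, ← relIndex, ← inf_relIndex_right, inf_comm]
  have e2 : (N ⊓ C).relIndex N * N.relIndex (N ⊔ C) =
      (N ⊓ C).relIndex C * C.relIndex (N ⊔ C) := by
    rw [relIndex_mul_relIndex _ _ _ inf_le_left le_sup_left,
      relIndex_mul_relIndex _ _ _ inf_le_right le_sup_right]
  have e3 : (N ⊓ C).relIndex C = N.relIndex (N ⊔ C) := by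
    rw [inf_relIndex_right, sup_comm, relIndex_sup_right]
  rw [e3, mul_comm ((N ⊓ C).relIndex N)] at e2
  rw [Nat.eq_of_mul_eq_mul_left (Nat.pos_of_ne_zero (by
    rw [relIndex]; exact index_ne_zero_of_finite)) e2]
  exact Dvd.intro _ (relIndex_mul_index le_sup_right) 

theorem isSolvable_sup_normal {H : Type u} [Group H] (A B : Subgroup H) [A.Normal]
    (hA : Group.IsSolvable ↥A) (hB : Group.IsSolvable ↥B) :
    Group.IsSolvable ↥(A ⊔ B : Subgroup H) := by
  have hmap : (A ⊔ B).map (QuotientGroup.mk' A) = B.map (QuotientGroup.mk' A) := by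
    rw [Subgroup.map_sup, QuotientGroup.map_mk'_self, bot_sup_eq]
  haveI : Group.IsSolvable ((A ⊔ B).map (QuotientGroup.mk' A)) := by
    rw [hmap]
    exact Group.isSolvable_of_surjective (MonoidHom.subgroupMap_surjective (QuotientGroup.mk' A) B)
  refine Group.isSolvable_of_ker_le_range (Subgroup.inclusion (le_sup_left : A ≤ A ⊔ B))
    ((QuotientGroup.mk' A).subgroupMap (A ⊔ B)) ?_
  intro x hx
  exact ⟨⟨x, (QuotientGroup.eq_one_iff _).1 (congrArg Subtype.val hx)⟩, rfl⟩

/-- If `x` generates a solvable normal subgroup of some normal subgroup `N`, it generates one of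
the whole group. -/
theorem isSolvable_normalClosure_of_normal {G : Type u} [Group G] [Finite G] {N : Subgroup G}
    [N.Normal] (x : N) (h : Group.IsSolvable ↥(normalClosure ({x} : Set N))) :
    Group.IsSolvable ↥(normalClosure ({(x : G)} : Set G)) := by
  let 𝒮 : Set (Subgroup N) := {A | A.Normal ∧ Group.IsSolvable ↥A}
  obtain ⟨A, hxA, hA⟩ := Set.Finite.exists_le_maximal (Set.toFinite 𝒮)
    (show normalClosure ({x} : Set N) ∈ 𝒮 from ⟨inferInstance, h⟩)
  obtain ⟨hAn, hAs⟩ := hA.prop
  have hmax : ∀ B : Subgroup N, B.Normal → Group.IsSolvable ↥B → B ≤ A := by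
    intro B hBn hBs
    have := hA.le_of_ge (show A ⊔ B ∈ 𝒮 from ⟨sup_normal A B, isSolvable_sup_normal A B hAs hBs⟩)
      le_sup_left
    exact le_sup_right.trans this
  have hchar : A.Characteristic := characteristic_iff_map_le.mpr fun φ => hmax _
    (hAn.map φ.toMonoidHom φ.surjective)
    (Group.isSolvable_of_surjective (φ.toMonoidHom.subgroupMap_surjective A))
  have hle : normalClosure ({(x : G)} : Set G) ≤ A.map N.subtype := by
    refine normalClosure_le_normal ?_
    rintro z rfl
    exact ⟨x, hxA (subset_normalClosure rfl), rfl⟩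
  haveI : Group.IsSolvable ↥(A.map N.subtype) :=
    Group.isSolvable_of_surjective (N.subtype.subgroupMap_surjective A)
  exact Group.isSolvable_of_isSolvable_injective (inclusion_injective hle)

/-- Kazarin's theorem, by induction on the order. -/
theorem isSolvable_normalClosure_of_index_primePow_aux (n : ℕ) :
    ∀ {G : Type u} [Group G] [Finite G], Nat.card G = n → ∀ (x : G) {t a : ℕ}, t.Prime →
      (centralizer ({x} : Set G)).index = t ^ a →
      Group.IsSolvable ↥(normalClosure ({x} : Set G)) := by
  induction n using Nat.strong_induction_on with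
  | _ n ih =>
    intro G _ _ hn x t a ht hx
    subst hn
    have proper : ∀ (z : G) (e : ℕ), (centralizer ({z} : Set G)).index = t ^ e →
        normalClosure ({z} : Set G) ≠ ⊤ → Group.IsSolvable ↥(normalClosure ({z} : Set G)) := by
      intro z e hz hne
      set N := normalClosure ({z} : Set G) with hN
      obtain ⟨j, -, hj⟩ := (Nat.dvd_prime_pow ht).mp
        (hz ▸ index_centralizer_dvd_of_normal (N := N) ⟨z, subset_normalClosure rfl⟩)
      have hlt : Nat.card ↥N < Nat.card G :=
        lt_of_le_of_ne (Nat.le_of_dvd Nat.card_pos (card_subgroup_dvd_card N))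
          fun h => hne (eq_top_of_card_eq N h)
      exact isSolvable_normalClosure_of_normal (N := N) ⟨z, subset_normalClosure rfl⟩
        (ih _ hlt rfl ⟨z, subset_normalClosure rfl⟩ ht hj)
    by_cases hx1 : x = 1
    · subst hx1
      have hbot : normalClosure ({1} : Set G) = ⊥ :=
        le_bot_iff.mp (normalClosure_le_normal (by simp))
      rw [hbot]
      infer_instance
    by_cases htop : normalClosure ({x} : Set G) = ⊤
    swap
    · exact proper x a hx htop
    set p := (orderOf x).minFac with hpdef
    have ho : orderOf x ≠ 1 := fun h => hx1 (orderOf_eq_one_iff.mp h)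
    have hp : p.Prime := Nat.minFac_prime ho
    have hpd : p ∣ orderOf x := Nat.minFac_dvd _
    set y := x ^ (orderOf x / p) with hydef
    have hy : orderOf y = p := by
      rw [hydef, orderOf_pow_of_dvd (Nat.div_pos (Nat.le_of_dvd (orderOf_pos x) hpd) hp.pos).ne'
        (Nat.div_dvd_of_dvd hpd), Nat.div_div_self hpd (orderOf_pos x).ne']
    have hle : centralizer ({x} : Set G) ≤ centralizer ({y} : Set G) := by
      intro g hg
      rw [mem_centralizer_singleton_iff] at hg ⊢
      exact ((show Commute g x from hg).pow_right _).eq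
    obtain ⟨e, -, he⟩ := (Nat.dvd_prime_pow ht).mp (hx ▸ index_dvd_of_le hle)
    suffices hG : Group.IsSolvable G from inferInstance
    by_cases hM : normalClosure ({y} : Set G) = ⊤
    · have hdiv : ∀ q : ℕ, q.Prime → q ∣ Nat.card G → q = t ∨ q = p := by
        intro q hq hqd
        by_contra hcon
        push Not at hcon
        exact false_of_generating_class_primePow ht hp hq hcon.1 hcon.2 hy he hM hqd
      by_cases htp : t = p
      · refine isSolvable_of_card_eq_pow_mul_pow (q := t) (b := 0)
          (a := (Nat.card G).factorization t) ht ht ?_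
        rw [pow_zero, mul_one]
        obtain ⟨k, hk⟩ : ∃ k, Nat.card G = t ^ k :=
          ⟨_, Nat.eq_prime_pow_of_unique_prime_dvd Nat.card_pos.ne'
            fun hd hd' => (hdiv _ hd hd').elim id (fun h => h.trans htp.symm)⟩
        rw [hk, Nat.Prime.factorization_pow ht, Finsupp.single_eq_same]
      · refine isSolvable_of_card_eq_pow_mul_pow (a := (Nat.card G).factorization t)
          (b := (Nat.card G).factorization p) ht hp ?_
        refine Nat.eq_of_factorization_eq Nat.card_pos.ne'
          (mul_ne_zero (pow_ne_zero _ ht.ne_zero) (pow_ne_zero _ hp.ne_zero)) fun q => ?_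
        rw [Nat.factorization_mul (pow_ne_zero _ ht.ne_zero) (pow_ne_zero _ hp.ne_zero),
          Nat.Prime.factorization_pow ht, Nat.Prime.factorization_pow hp, Finsupp.add_apply]
        by_cases h1 : q = t
        · subst h1; simp [Finsupp.single_apply, htp, Ne.symm htp]
        by_cases h2 : q = p
        · subst h2; simp [Finsupp.single_apply, htp, Ne.symm htp]
        have h0 : (Nat.card G).factorization q = 0 := by
          by_contra h
          have hq := Nat.prime_of_mem_primeFactors
            (Nat.support_factorization (Nat.card G) ▸ Finsupp.mem_support_iff.mpr h)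
          exact (hdiv q hq (Nat.dvd_of_factorization_pos h)).elim h1 h2
        simp [Finsupp.single_apply, h0, Ne.symm h1, Ne.symm h2]
    · have hMs := proper y e he hM
      set M := normalClosure ({y} : Set G) with hMdef
      have hy1 : y ≠ 1 := fun h => hp.ne_one (by rw [← hy, h, orderOf_one])
      have hlt : Nat.card (G ⧸ M) < Nat.card G := by
        rw [card_eq_card_quotient_mul_card_subgroup M]
        refine (Nat.lt_mul_iff_one_lt_right Nat.card_pos).mpr ?_
        exact (one_lt_card_iff_ne_bot M).mpr fun h =>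
          hy1 ((eq_bot_iff_forall _).mp h y (subset_normalClosure rfl))
      have hsurj := QuotientGroup.mk'_surjective M
      have hidx : (centralizer ({QuotientGroup.mk' M x} : Set (G ⧸ M))).index ∣ t ^ a := by
        rw [← hx]
        refine dvd_trans (index_dvd_of_le ?_) (index_map_dvd _ hsurj)
        rintro _ ⟨g, hg, rfl⟩
        rw [mem_centralizer_singleton_iff, ← map_mul, ← map_mul,
          mem_centralizer_singleton_iff.mp hg]
      obtain ⟨j, -, hj⟩ := (Nat.dvd_prime_pow ht).mp hidx
      have hq := ih _ hlt rfl (QuotientGroup.mk' M x) ht hj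
      have himg : normalClosure ({QuotientGroup.mk' M x} : Set (G ⧸ M)) = ⊤ := by
        have h1 := map_normalClosure ({x} : Set G) (QuotientGroup.mk' M) hsurj
        simp only [Set.image_singleton] at h1
        rw [← h1, htop, Subgroup.map_top_of_surjective _ hsurj]
      haveI : Group.IsSolvable (G ⧸ M) :=
        Group.isSolvable_of_surjective (f := Subgroup.topEquiv.toMonoidHom.comp
          (Subgroup.inclusion (himg.le : _ ≤ (⊤ : Subgroup (G ⧸ M))))) fun q =>
          ⟨⟨q, himg ▸ Subgroup.mem_top q⟩, rfl⟩
      exact Group.isSolvable_of_ker_le_range M.subtype (QuotientGroup.mk' M)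
        (by rw [QuotientGroup.ker_mk', range_subtype])

/-- **Kazarin's theorem**: an element with class of prime-power size generates a solvable normal
subgroup. -/
theorem isSolvable_normalClosure_of_index_primePow {G : Type u} [Group G] [Finite G] (x : G)
    {t a : ℕ} (ht : t.Prime) (hx : (centralizer ({x} : Set G)).index = t ^ a) :
    Group.IsSolvable ↥(normalClosure ({x} : Set G)) :=
  isSolvable_normalClosure_of_index_primePow_aux _ rfl x ht hx

end Cfsg.Agent.Lib.Characters
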