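import Cfsg.Agent.Lib.Characters
import Mathlib.GroupTheory.FiniteAbelian.Duality
import Mathlib.Analysis.SpecialFunctions.Complex.CircleAddChar

/-!
# The quadratic form of Knörr for a coprime abelian action
-/

namespace Cfsg.Agent.Lib.Characters

open scoped ComplexConjugate

set_option linter.unusedSectionVars false
set_option linter.style.haveILetI false

universe u v

section Orth

variable {A : Type u} [CommGroup A] [Fintype A] [Fintype (A →* ℂˣ)]

theorem sum_units_hom_apply [DecidableEq A] (a : A) :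
    ∑ ψ : A →* ℂˣ, ((ψ a : ℂˣ) : ℂ) = if a = 1 then (Nat.card A : ℂ) else 0 := by
  haveI : NeZero (Monoid.exponent A) := ⟨Monoid.exponent_ne_zero_of_finite⟩
  split_ifs with h
  · subst h
    simp [← Nat.card_eq_fintype_card, CommGroup.card_monoidHom_of_hasEnoughRootsOfUnity A ℂ]
  · obtain ⟨φ, hφ⟩ := CommGroup.exists_apply_ne_one_of_hasEnoughRootsOfUnity A ℂ h
    have hne : ((φ a : ℂˣ) : ℂ) ≠ 1 := fun h' => hφ (Units.ext h')
    refine eq_zero_of_mul_eq_self_left hne ?_
    rw [Finset.mul_sum]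
    exact Fintype.sum_equiv (Equiv.mulLeft φ) _ _ fun ψ => by simp

end Orth

/-- The vector of Fourier coefficients of a family of functions on an abelian group. -/
noncomputable def fourierCoeff {A : Type u} [CommGroup A] [Fintype A] {T : Type v}
    (f : A → T → ℂ) (ψ : A →* ℂˣ) : T → ℂ :=
  fun t => (Nat.card A : ℂ)⁻¹ * ∑ a : A, f a t * conj ((ψ a : ℂˣ) : ℂ)

/-- The squared length of a vector. -/
noncomputable def sqLen {T : Type v} [Fintype T] (x : T → ℂ) : ℝ := ∑ t, Complex.normSq (x t)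

theorem sqLen_nonneg {T : Type v} [Fintype T] (x : T → ℂ) : 0 ≤ sqLen x :=
  Finset.sum_nonneg fun _ _ => Complex.normSq_nonneg _

/-- A weight on an abelian group is good if the weighted form is at least `c |A|²` on non-zero
families with coefficients in `L`. -/
def GoodWeight {T : Type v} [Fintype T] (L : AddSubgroup (T → ℂ)) (c : ℝ) (A : Type u)
    [CommGroup A] [Fintype A] (w : A → ℝ) : Prop :=
  ∀ f : A → T → ℂ, (∀ ψ, fourierCoeff f ψ ∈ L) → f ≠ 0 →
    c * (Nat.card A : ℝ) ^ 2 ≤ ∑ a, w a * sqLen (f a)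

/-- Separated sums dominate the count of a proper non-empty part. -/
theorem le_sum_add_sum_sum {ι : Type*} [Fintype ι] (E : ι → ℝ) (D : ι → ι → ℝ) (S : Finset ι)
    (hS : S.Nonempty) {B : ℝ} (hB : 0 ≤ B) (hE0 : ∀ i, 0 ≤ E i) (hE : ∀ i ∈ S, B ≤ E i)
    (hD0 : ∀ i j, 0 ≤ D i j) (hD : ∀ i ∈ S, ∀ j ∉ S, B ≤ D i j ∧ B ≤ D j i) :
    (Fintype.card ι : ℝ) * B ≤ ∑ i, E i + (1 / 2) * ∑ i, ∑ j, D i j := by
  classical
  have h1 : (S.card : ℝ) * B ≤ ∑ i, E i := by
    refine le_trans ?_ (Finset.sum_le_univ_sum_of_nonneg (s := S) hE0)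
    rw [← nsmul_eq_mul]
    exact Finset.card_nsmul_le_sum _ _ _ hE
  have hpair : ∀ (U W : Finset ι), (∀ i ∈ U, ∀ j ∈ W, B ≤ D i j) →
      (U.card : ℝ) * ((W.card : ℝ) * B) ≤ ∑ i ∈ U, ∑ j, D i j := fun U W h => by
    rw [← nsmul_eq_mul]
    refine Finset.card_nsmul_le_sum _ _ _ fun i hi => ?_
    refine le_trans ?_ (Finset.sum_le_univ_sum_of_nonneg (s := W) (hD0 i))
    rw [← nsmul_eq_mul]
    exact Finset.card_nsmul_le_sum _ _ _ (h i hi)
  have h2 := hpair S Sᶜ fun i hi j hj => (hD i hi j (Finset.mem_compl.mp hj)).1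
  have h3 := hpair Sᶜ S fun i hi j hj => (hD j hj i (Finset.mem_compl.mp hi)).2
  have h4 : ∑ i ∈ S, ∑ j, D i j + ∑ i ∈ Sᶜ, ∑ j, D i j = ∑ i, ∑ j, D i j :=
    Finset.sum_add_sum_compl S _
  have h5 : ((Sᶜ : Finset ι).card : ℝ) = (Fintype.card ι : ℝ) - S.card := by
    rw [Finset.card_compl, Nat.cast_sub (Finset.card_le_univ _)]
  have h6 : (1 : ℝ) ≤ S.card := by exact_mod_cast hS.card_pos
  have h7 : (0 : ℝ) ≤ ((Sᶜ : Finset ι).card : ℝ) * B := mul_nonneg (Nat.cast_nonneg _) hB
  rw [h5] at h2 h3 h7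
  nlinarith [mul_nonneg (sub_nonneg.mpr h6) h7]

section Good

variable {T : Type v} [Fintype T] {L : AddSubgroup (T → ℂ)} {c : ℝ}

theorem GoodWeight.of_subsingleton (hL : ∀ x ∈ L, x ≠ 0 → c ≤ sqLen x) {A : Type u} [CommGroup A]
    [Fintype A] [Subsingleton A] {w : A → ℝ} (hw : ∀ a, 1 ≤ w a) : GoodWeight L c A w := by
  intro f hf hne
  have huniv : (Finset.univ : Finset A) = {1} := by ext a; simp [Subsingleton.elim a 1]
  have hcard : Nat.card A = 1 := Nat.card_of_subsingleton 1
  have h1 : fourierCoeff f 1 = f 1 := funext fun t => by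
    simp [fourierCoeff, huniv, show Fintype.card A = 1 by rw [← Nat.card_eq_fintype_card, hcard]]
  have hx : f 1 ≠ 0 := fun h => hne (funext fun a => by rw [Subsingleton.elim a 1, h]; rfl)
  rw [huniv, Finset.sum_singleton, hcard, Nat.cast_one, one_pow, mul_one]
  exact (hL _ (h1 ▸ hf 1) hx).trans (le_mul_of_one_le_left (sqLen_nonneg _) (hw 1))

theorem GoodWeight.mono {A : Type u} [CommGroup A] [Fintype A] {w w' : A → ℝ}
    (h : GoodWeight L c A w) (hle : ∀ a, w a ≤ w' a) : GoodWeight L c A w' := fun f hf hne =>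
  (h f hf hne).trans (Finset.sum_le_sum fun a _ =>
    mul_le_mul_of_nonneg_right (hle a) (sqLen_nonneg _))

theorem GoodWeight.comap {A B : Type u} [CommGroup A] [Fintype A] [CommGroup B] [Fintype B]
    {w : B → ℝ} (h : GoodWeight L c B w) (φ : A →* B) (hφ : Function.Injective φ) :
    GoodWeight L c A (fun a => w (φ a)) := by
  classical
  intro f hf hne
  set m : ℂ := (Nat.card B : ℂ) / (Nat.card A : ℂ) with hm
  have hA0 : (Nat.card A : ℂ) ≠ 0 := Nat.cast_ne_zero.mpr Nat.card_pos.ne'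
  have hB0 : (Nat.card B : ℂ) ≠ 0 := Nat.cast_ne_zero.mpr Nat.card_pos.ne'
  have hm0 : m ≠ 0 := div_ne_zero hB0 hA0
  let f' : B → T → ℂ := fun b => ∑ a : A, if φ a = b then m • f a else 0
  have happ : ∀ a, f' (φ a) = m • f a := fun a => by
    show (∑ x : A, if φ x = φ a then m • f x else 0) = _
    rw [Finset.sum_eq_single a (fun x _ hx => if_neg fun hh => hx (hφ hh)) (by simp), if_pos rfl]
  have hout : ∀ b, b ∉ Finset.univ.image φ → f' b = 0 := fun b hb =>
    Finset.sum_eq_zero fun a _ => if_neg fun hh => hb (Finset.mem_image.mpr ⟨a, by simp, hh⟩)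
  have hcoef : ∀ ψ, fourierCoeff f' ψ = fourierCoeff f (ψ.comp φ) := fun ψ => funext fun t => by
    simp only [fourierCoeff]
    rw [← Finset.sum_subset (Finset.subset_univ (Finset.univ.image φ))
      (fun b _ hb => by rw [hout b hb]; simp), Finset.sum_image fun x _ y _ hxy => hφ hxy,
      Finset.mul_sum, Finset.mul_sum]
    refine Finset.sum_congr rfl fun a _ => ?_
    rw [happ a, Pi.smul_apply, smul_eq_mul, MonoidHom.comp_apply, hm]
    field_simp
  have hne' : f' ≠ 0 := by
    intro hz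
    apply hne
    funext a
    have := congrFun hz (φ a)
    rw [happ a, Pi.zero_apply, smul_eq_zero] at this
    exact this.resolve_left hm0
  have h1 := h f' (fun ψ => (hcoef ψ) ▸ hf _) hne'
  have hsum : ∑ b, w b * sqLen (f' b) = Complex.normSq m * ∑ a, w (φ a) * sqLen (f a) := by
    rw [← Finset.sum_subset (Finset.subset_univ (Finset.univ.image φ))
      (fun b _ hb => by rw [hout b hb]; simp [sqLen]), Finset.sum_image fun x _ y _ hxy => hφ hxy,
      Finset.mul_sum]
    refine Finset.sum_congr rfl fun a _ => ?_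
    rw [happ a]
    simp only [sqLen, Pi.smul_apply, smul_eq_mul, map_mul, Finset.mul_sum]
    exact Finset.sum_congr rfl fun t _ => by ring
  have hnm : Complex.normSq m = ((Nat.card B : ℝ) / Nat.card A) ^ 2 := by
    rw [hm, map_div₀, Complex.normSq_natCast, Complex.normSq_natCast]
    ring
  rw [hsum, hnm] at h1
  have hA0' : (0 : ℝ) < Nat.card A := by exact_mod_cast Nat.card_pos
  have hB0' : (0 : ℝ) < Nat.card B := by exact_mod_cast Nat.card_pos
  rw [div_pow, div_mul_eq_mul_div, le_div_iff₀ (pow_pos hA0' 2)] at h1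
  nlinarith [pow_pos hB0' 2]

theorem GoodWeight.prod (hc : 0 ≤ c) {A₁ A₂ : Type u} [CommGroup A₁] [Fintype A₁] [DecidableEq A₁]
    [CommGroup A₂] [Fintype A₂] {w₂ : A₂ → ℝ} (hw : ∀ a, 0 ≤ w₂ a) (h : GoodWeight L c A₂ w₂) :
    GoodWeight L c (A₁ × A₂)
      (fun x => (if x.1 = 1 then 1 else (Nat.card A₁ : ℝ) + 1) * w₂ x.2) := by
  classical
  intro f hf hne
  haveI : NeZero (Monoid.exponent A₁) := ⟨Monoid.exponent_ne_zero_of_finite⟩
  haveI := Fintype.ofFinite (A₁ →* ℂˣ)
  set n : ℝ := (Nat.card A₁ : ℝ) with hn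
  have hn0 : (Nat.card A₁ : ℂ) ≠ 0 := Nat.cast_ne_zero.mpr Nat.card_pos.ne'
  let g : (A₁ →* ℂˣ) → A₂ → T → ℂ := fun ν a₂ => fourierCoeff (fun a₁ => f (a₁, a₂)) ν
  have hrec : ∀ a₂ a₁ t, ∑ ν, g ν a₂ t * ((ν a₁ : ℂˣ) : ℂ) = f (a₁, a₂) t := by
    intro a₂ a₁ t
    simp only [g, fourierCoeff, mul_assoc, Finset.sum_mul, ← Finset.mul_sum]
    rw [Finset.sum_comm]
    have h1 : ∀ x : A₁, ∑ ν : A₁ →* ℂˣ, f (x, a₂) t * (conj ((ν x : ℂˣ) : ℂ) * ((ν a₁ : ℂˣ) : ℂ)) =
        f (x, a₂) t * if x⁻¹ * a₁ = 1 then (Nat.card A₁ : ℂ) else 0 := fun x => by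
      rw [← Finset.mul_sum, ← sum_units_hom_apply]
      refine congrArg _ (Finset.sum_congr rfl fun ν _ => ?_)
      have h2 : ((ν x : ℂˣ) : ℂ) ^ Nat.card A₁ = 1 := by
        rw [← Units.val_pow_eq_pow_val, ← map_pow, pow_card_eq_one', map_one, Units.val_one]
      rw [map_mul, map_inv, Units.val_mul, Units.val_inv_eq_inv_val,
        Complex.inv_eq_conj (Complex.norm_eq_one_of_pow_eq_one h2 Nat.card_pos.ne')]
    rw [Finset.sum_congr rfl fun x _ => h1 x,
      Finset.sum_eq_single a₁ (fun x _ hx => by simp [inv_mul_eq_one, hx]) (by simp),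
      inv_mul_cancel, if_pos rfl, mul_comm (f (a₁, a₂) t), inv_mul_cancel_left₀ hn0]
  have hparse : ∀ a₂ t, ∑ a₁, Complex.normSq (f (a₁, a₂) t) =
      n * ∑ ν, Complex.normSq (g ν a₂ t) := by
    intro a₂ t
    have h1 : ((∑ a₁, Complex.normSq (f (a₁, a₂) t) : ℝ) : ℂ) =
        ((n * ∑ ν, Complex.normSq (g ν a₂ t) : ℝ) : ℂ) := by
      push_cast
      rw [hn, Complex.ofReal_natCast, Finset.mul_sum]
      have h2 : ∀ ν, (Nat.card A₁ : ℂ) * (Complex.normSq (g ν a₂ t) : ℂ) =
          ∑ a₁, conj (g ν a₂ t) * (f (a₁, a₂) t * conj ((ν a₁ : ℂˣ) : ℂ)) := fun ν => by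
        rw [Complex.normSq_eq_conj_mul_self, ← Finset.mul_sum, mul_left_comm]
        congr 1
        simp only [g, fourierCoeff]
        rw [mul_inv_cancel_left₀ hn0]
      rw [Finset.sum_congr rfl fun ν _ => h2 ν, Finset.sum_comm]
      refine Finset.sum_congr rfl fun a₁ _ => ?_
      rw [Complex.normSq_eq_conj_mul_self]
      conv_lhs => rw [← hrec a₂ a₁ t]
      rw [map_sum, Finset.sum_mul]
      refine Finset.sum_congr rfl fun ν _ => ?_
      rw [map_mul, hrec a₂ a₁ t]
      ring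
    exact_mod_cast h1
  have hone : ∀ a₂ t, ∑ ν, g ν a₂ t = f (1, a₂) t := fun a₂ t => by
    rw [← hrec a₂ 1 t]; simp
  set E : (A₂ → T → ℂ) → ℝ := fun x => ∑ a₂, w₂ a₂ * sqLen (x a₂) with hE
  have hnu : (Fintype.card (A₁ →* ℂˣ) : ℝ) = n := by
    rw [← Nat.card_eq_fintype_card, CommGroup.card_monoidHom_of_hasEnoughRootsOfUnity]
  have hcw : ∀ a₂ t, ∑ a₁, (if a₁ = 1 then (1 : ℝ) else n + 1) * Complex.normSq (f (a₁, a₂) t) =
      n * (∑ ν, Complex.normSq (g ν a₂ t) +
        (1 / 2) * ∑ ν, ∑ μ, Complex.normSq (g ν a₂ t - g μ a₂ t)) := by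
    intro a₂ t
    have h1 : ∑ a₁, (if a₁ = 1 then (1 : ℝ) else n + 1) * Complex.normSq (f (a₁, a₂) t) =
        (n + 1) * ∑ a₁, Complex.normSq (f (a₁, a₂) t) - n * Complex.normSq (f (1, a₂) t) := by
      rw [Finset.mul_sum, eq_sub_iff_add_eq, ← Finset.sum_erase_add _ _ (Finset.mem_univ (1 : A₁)),
        ← Finset.sum_erase_add (f := fun a₁ => (n + 1) * Complex.normSq (f (a₁, a₂) t)) _
          (Finset.mem_univ (1 : A₁))]
      simp only [if_true]
      rw [Finset.sum_congr rfl fun a₁ ha => by rw [if_neg (Finset.ne_of_mem_erase ha)]]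
      ring
    have h2 : ∑ ν, ∑ μ, Complex.normSq (g ν a₂ t - g μ a₂ t) =
        2 * n * ∑ ν, Complex.normSq (g ν a₂ t) - 2 * Complex.normSq (∑ ν, g ν a₂ t) := by
      have h3 : ∀ z w : ℂ, Complex.normSq (z - w) =
          Complex.normSq z + Complex.normSq w - 2 * (z * conj w).re := Complex.normSq_sub
      simp only [h3, Finset.sum_add_distrib, Finset.sum_sub_distrib, Finset.sum_const,
        Finset.card_univ, nsmul_eq_mul, ← Finset.mul_sum, hnu]
      have h4 : ∑ ν, ∑ μ, (g ν a₂ t * conj (g μ a₂ t)).re =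
          Complex.normSq (∑ ν, g ν a₂ t) := by
        simp only [← Complex.re_sum]
        rw [← Finset.sum_mul_sum, ← map_sum, Complex.mul_conj, Complex.ofReal_re]
      rw [h4]
      ring
    rw [h1, h2, hparse a₂ t, hone a₂ t]
    ring
  have htotal : ∑ x : A₁ × A₂,
      (if x.1 = 1 then 1 else n + 1) * w₂ x.2 * sqLen (f x) =
      n * (∑ ν, E (g ν) + (1 / 2) * ∑ ν, ∑ μ, E (g ν - g μ)) := by
    simp only [hE, sqLen, Pi.sub_apply, Finset.mul_sum, Fintype.sum_prod_type, mul_add]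
    rw [Finset.sum_comm]
    conv_rhs => rw [Finset.sum_comm]
    rw [show (∑ ν : A₁ →* ℂˣ, ∑ μ : A₁ →* ℂˣ, ∑ a₂ : A₂, ∑ t : T,
        n * (1 / 2 * (w₂ a₂ * Complex.normSq (g ν a₂ t - g μ a₂ t)))) =
        ∑ a₂ : A₂, ∑ ν : A₁ →* ℂˣ, ∑ μ : A₁ →* ℂˣ, ∑ t : T,
          n * (1 / 2 * (w₂ a₂ * Complex.normSq (g ν a₂ t - g μ a₂ t))) from
      (Finset.sum_congr rfl fun ν _ => Finset.sum_comm).trans Finset.sum_comm,
      ← Finset.sum_add_distrib]
    refine Finset.sum_congr rfl fun a₂ _ => ?_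
    rw [Finset.sum_comm]
    conv_rhs => arg 1; rw [Finset.sum_comm]
    rw [show (∑ ν : A₁ →* ℂˣ, ∑ μ : A₁ →* ℂˣ, ∑ t : T,
        n * (1 / 2 * (w₂ a₂ * Complex.normSq (g ν a₂ t - g μ a₂ t)))) =
        ∑ t : T, ∑ ν : A₁ →* ℂˣ, ∑ μ : A₁ →* ℂˣ,
          n * (1 / 2 * (w₂ a₂ * Complex.normSq (g ν a₂ t - g μ a₂ t))) from
      (Finset.sum_congr rfl fun ν _ => Finset.sum_comm).trans Finset.sum_comm,
      ← Finset.sum_add_distrib]
    refine Finset.sum_congr rfl fun t _ => ?_
    have h1 := congrArg (w₂ a₂ * ·) (hcw a₂ t)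
    simp only [Finset.mul_sum, mul_add] at h1
    refine Eq.trans ?_ (h1.trans ?_)
    · exact Finset.sum_congr rfl fun a₁ _ => by ring
    · refine congrArg₂ (· + ·) (Finset.sum_congr rfl fun ν _ => by ring)
        (Finset.sum_congr rfl fun ν _ => Finset.sum_congr rfl fun μ _ => by ring)
  rw [htotal]
  set B : ℝ := c * (Nat.card A₂ : ℝ) ^ 2 with hB
  have hgL : ∀ ν μ, fourierCoeff (g ν) μ ∈ L := by
    intro ν μ
    let ψ : A₁ × A₂ →* ℂˣ := (ν.comp (MonoidHom.fst A₁ A₂)) * (μ.comp (MonoidHom.snd A₁ A₂))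
    convert hf ψ using 1
    funext t
    simp only [g, ψ, fourierCoeff, MonoidHom.mul_apply, MonoidHom.comp_apply, MonoidHom.coe_fst,
      MonoidHom.coe_snd, Units.val_mul, map_mul, Nat.card_prod, Nat.cast_mul, mul_inv,
      Fintype.sum_prod_type, Finset.mul_sum, Finset.sum_mul]
    rw [Finset.sum_comm]
    exact Finset.sum_congr rfl fun a₁ _ => Finset.sum_congr rfl fun a₂ _ => by ring
  have hge : ∀ x : A₂ → T → ℂ, (∀ μ, fourierCoeff x μ ∈ L) → x ≠ 0 → B ≤ E x := h
  have hE0 : ∀ x, 0 ≤ E x := fun x =>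
    Finset.sum_nonneg fun a _ => mul_nonneg (hw a) (sqLen_nonneg _)
  set S := Finset.univ.filter fun ν => g ν ≠ 0 with hS
  have hSne : S.Nonempty := by
    by_contra hS0
    apply hne
    funext x t
    rw [← hrec x.2 x.1 t]
    refine Finset.sum_eq_zero fun ν _ => ?_
    have h1 : g ν = 0 := by
      by_contra h2
      exact hS0 ⟨ν, by simpa [hS] using h2⟩
    simp [h1]
  have hmemS : ∀ ν, ν ∈ S ↔ g ν ≠ 0 := fun ν => by simp [hS]
  have hmain := le_sum_add_sum_sum (fun ν => E (g ν)) (fun ν μ => E (g ν - g μ)) S hSne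
    (mul_nonneg hc (sq_nonneg _)) (fun ν => hE0 _) (fun ν hν => hge _ (hgL ν) ((hmemS ν).mp hν))
    (fun ν μ => hE0 _) (fun ν hν μ hμ => by
      have h0 : g μ = 0 := by simpa [hmemS] using hμ
      have hsub : ∀ x y : A₁ →* ℂˣ, ∀ μ', fourierCoeff (g x - g y) μ' ∈ L := fun x y μ' => by
        have h2 : fourierCoeff (g x - g y) μ' = fourierCoeff (g x) μ' - fourierCoeff (g y) μ' :=
          funext fun t => by
            simp [fourierCoeff, sub_mul, Finset.sum_sub_distrib, mul_sub]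
        exact h2 ▸ L.sub_mem (hgL x μ') (hgL y μ')
      exact ⟨hge _ (hsub ν μ) (by simpa [h0] using (hmemS ν).mp hν),
        hge _ (hsub μ ν) (by simpa [h0] using (hmemS ν).mp hν)⟩)
  rw [hnu] at hmain
  rw [Nat.card_prod, Nat.cast_mul]
  calc c * (n * (Nat.card A₂ : ℝ)) ^ 2 = n * (n * B) := by rw [hB]; ring
    _ ≤ _ := mul_le_mul_of_nonneg_left hmain (Nat.cast_nonneg _)

end Good

/-- The fixed points of an automorphism. -/
def fixedSubgroup {V : Type u} [Group V] (σ : MulAut V) : Subgroup V :=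
  σ.toMonoidHom.eqLocus (MonoidHom.id V)

theorem mem_fixedSubgroup {V : Type u} [Group V] {σ : MulAut V} {v : V} :
    v ∈ fixedSubgroup σ ↔ σ v = v := Iff.rfl

/-- The index of the fixed points is a good weight for a faithful coprime abelian action. -/
theorem goodWeight_index_fixed {T : Type v} [Fintype T] {L : AddSubgroup (T → ℂ)} {c : ℝ}
    (hc : 0 ≤ c) (hL : ∀ x ∈ L, x ≠ 0 → c ≤ sqLen x) :
    ∀ (m : ℕ) (V : Type u) [CommGroup V] [Finite V] (A : Type u) [CommGroup A] [Fintype A]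
      (α : A →* MulAut V), Nat.card V = m → Function.Injective α →
      (Nat.card A).Coprime (Nat.card V) →
      GoodWeight L c A (fun a => ((fixedSubgroup (α a)).index : ℝ)) := by
  intro m
  induction m using Nat.strong_induction_on with
  | _ m ih =>
  intro V _ _ A _ _ α hm hinj hcop
  classical
  rcases subsingleton_or_nontrivial V with hV | hV
  · haveI : Subsingleton A := ⟨fun a b => hinj (MulEquiv.ext fun x => Subsingleton.elim _ _)⟩
    exact GoodWeight.of_subsingleton hL fun a => by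
      exact_mod_cast Nat.one_le_iff_ne_zero.mpr Subgroup.index_ne_zero_of_finite
  haveI := Fintype.ofFinite (Subgroup V)
  -- a minimal invariant subgroup
  obtain ⟨W, hW, hWmin⟩ := Finset.exists_min_image
    (Finset.univ.filter fun W : Subgroup V => W ≠ ⊥ ∧ ∀ a, ∀ x ∈ W, α a x ∈ W)
    (fun W => Nat.card W) ⟨⊤, Finset.mem_filter.mpr ⟨Finset.mem_univ _, top_ne_bot, by simp⟩⟩
  simp only [Finset.mem_filter, Finset.mem_univ, true_and] at hW hWmin
  obtain ⟨hW0, hWinv⟩ := hW
  have hmap : ∀ a, W.map (α a).toMonoidHom = W := fun a => le_antisymm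
    (Subgroup.map_le_iff_le_comap.mpr fun x hx => hWinv a x hx) fun x hx =>
      ⟨α a⁻¹ x, hWinv _ x hx, by
        show α a (α a⁻¹ x) = x
        rw [← MulAut.mul_apply, ← map_mul, mul_inv_cancel, map_one, MulAut.one_apply]⟩
  let αW : A →* MulAut W := MonoidHom.mk'
    (fun a => MulEquiv.ofBijective ((α a).toMonoidHom.comp W.subtype |>.codRestrict W
      fun x => hWinv a x x.2) ⟨fun x y hxy => Subtype.ext ((α a).injective (congrArg Subtype.val hxy)),
      fun y => ⟨⟨α a⁻¹ y, hWinv _ y y.2⟩, Subtype.ext (by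
        show α a (α a⁻¹ y) = y
        rw [← MulAut.mul_apply, ← map_mul, mul_inv_cancel, map_one, MulAut.one_apply])⟩⟩)
    fun a b => MulEquiv.ext fun x => Subtype.ext (by
      show α (a * b) x = α a (α b x)
      rw [map_mul]; rfl)
  have hαW : ∀ a x, ((αW a x : W) : V) = α a x := fun a x => rfl
  let αQ : A →* MulAut (V ⧸ W) := MonoidHom.mk'
    (fun a => QuotientGroup.congr W W (α a) (hmap a))
    fun a b => MulEquiv.ext fun q => QuotientGroup.induction_on q fun x => by
      show QuotientGroup.mk (α (a * b) x) = QuotientGroup.mk (α a (α b x))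
      rw [map_mul]; rfl
  have hαQ : ∀ a (x : V), αQ a (QuotientGroup.mk x) = QuotientGroup.mk (α a x) := fun a x => rfl
  set K := αW.ker
  set R := αQ.ker
  let φ : A →* (A ⧸ K) × (A ⧸ R) := (QuotientGroup.mk' K).prod (QuotientGroup.mk' R)
  have hφ : Function.Injective φ := by
    refine (injective_iff_map_eq_one φ).mpr fun a ha => hinj ?_
    have hK : αW a = 1 := (QuotientGroup.eq_one_iff a).mp (congrArg Prod.fst ha)
    have hR : αQ a = 1 := (QuotientGroup.eq_one_iff a).mp (congrArg Prod.snd ha)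
    rw [map_one]
    refine MulEquiv.ext fun x => ?_
    have hfixW : ∀ w ∈ W, α a w = w := fun w hw => by
      rw [← hαW a ⟨w, hw⟩, hK]; rfl
    have hx : x⁻¹ * α a x ∈ W := by
      rw [← QuotientGroup.eq, ← hαQ, hR]; rfl
    have hpow : ∀ k : ℕ, (α (a ^ k)) x = x * (x⁻¹ * α a x) ^ k := by
      intro k
      induction k with
      | zero => simp
      | succ k ihk =>
        rw [pow_succ', map_mul, MulAut.mul_apply, ihk, map_mul (α a), map_pow, hfixW _ hx, pow_succ',
          ← mul_assoc x, mul_inv_cancel_left]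
    have h1 := hpow (Nat.card A)
    rw [pow_card_eq_one', map_one, MulAut.one_apply, left_eq_mul] at h1
    have h2 : (x⁻¹ * α a x) = 1 := by
      rw [← orderOf_eq_one_iff]
      exact Nat.eq_one_of_dvd_coprimes hcop (orderOf_dvd_of_pow_eq_one h1) (orderOf_dvd_natCard _)
    rw [MulAut.one_apply]
    exact (inv_mul_eq_one.mp h2).symm
  haveI := Fintype.ofFinite (A ⧸ K)
  haveI := Fintype.ofFinite (A ⧸ R)
  have hcardQ : Nat.card (V ⧸ W) < m := by
    have h1 : Nat.card V = Nat.card (V ⧸ W) * Nat.card W := Subgroup.card_eq_card_quotient_mul_card_subgroup W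
    have h2 : 2 ≤ Nat.card W := by
      have := (Subgroup.one_lt_card_iff_ne_bot W).mpr hW0
      omega
    have h3 : 0 < Nat.card (V ⧸ W) := Nat.card_pos
    nlinarith
  have hgQ := ih _ hcardQ (V ⧸ W) (A ⧸ R) (QuotientGroup.kerLift αQ) rfl
    (QuotientGroup.kerLift_injective αQ)
    ((hcop.of_dvd (Subgroup.card_quotient_dvd_card R) (Subgroup.card_quotient_dvd_card W)))
  have hw₁ : ∀ a : A, (if (QuotientGroup.mk' K a) = 1 then (1 : ℝ) else (Nat.card (A ⧸ K) : ℝ) + 1) ≤
      ((fixedSubgroup (αW a)).index : ℝ) := by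
    intro a
    split_ifs with ha
    · exact_mod_cast Nat.one_le_iff_ne_zero.mpr Subgroup.index_ne_zero_of_finite
    · -- fixed-point-free on `W`
      have hfix : ∀ b : A, αW b ≠ 1 → ∀ w : W, αW b w = w → w = 1 := by
        intro b hb w hw
        by_contra hw1
        apply hb
        let F : Subgroup V := (fixedSubgroup (αW b)).map W.subtype
        have hFW : F ≤ W := Subgroup.map_subtype_le _
        have hle := hWmin F ⟨(Subgroup.map_eq_bot_iff_of_injective _ W.subtype_injective).not.mpr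
          (fun hb' => hw1 ((Subgroup.eq_bot_iff_forall _).mp hb' w hw)), fun a x hx => by
          obtain ⟨y, hy, rfl⟩ := hx
          refine ⟨αW a y, ?_, hαW a y⟩
          show αW b (αW a y) = αW a y
          rw [← MulAut.mul_apply, ← map_mul, mul_comm, map_mul, MulAut.mul_apply,
            show αW b y = y from hy]⟩
        have hFeq : F = W := Subgroup.eq_of_le_of_card_ge hFW hle
        refine MulEquiv.ext fun y => ?_
        have : (y : V) ∈ F := hFeq.symm ▸ y.2
        obtain ⟨z, hz, hzy⟩ := this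
        rw [show z = y from Subtype.ext hzy] at hz
        exact hz
      have ha' : αW a ≠ 1 := fun h => ha ((QuotientGroup.eq_one_iff a).mpr h)
      have hbot : fixedSubgroup (αW a) = ⊥ :=
        (Subgroup.eq_bot_iff_forall _).mpr fun w hw => hfix a ha' w hw
      rw [hbot, Subgroup.index_bot]
      obtain ⟨w, hw⟩ := Subgroup.ne_bot_iff_exists_ne_one.mp hW0
      let orb : Option (A ⧸ K) → W := fun o =>
        o.elim 1 fun q => QuotientGroup.kerLift αW q w
      have horb : Function.Injective orb := by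
        have hk : ∀ q, QuotientGroup.kerLift αW q w = w → q = 1 := fun q hq => by
          obtain ⟨b, rfl⟩ := QuotientGroup.mk_surjective q
          by_contra hb
          exact hw (hfix b (fun h => hb ((QuotientGroup.eq_one_iff b).mpr h)) w hq)
        rintro (_ | q) (_ | q') hqq
        · rfl
        · exact absurd (((QuotientGroup.kerLift αW q').map_eq_one_iff).mp hqq.symm) hw
        · exact absurd (((QuotientGroup.kerLift αW q).map_eq_one_iff).mp hqq) hw
        · refine congrArg some (inv_mul_eq_one.mp (hk _ ?_)).symm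
          rw [map_mul, MulAut.mul_apply]
          have : QuotientGroup.kerLift αW q' w = QuotientGroup.kerLift αW q w := hqq.symm
          rw [← this, map_inv]
          exact (QuotientGroup.kerLift αW q').symm_apply_apply w
      have hle := Nat.card_le_card_of_injective orb horb
      rw [Finite.card_option] at hle
      exact_mod_cast hle
  have hidx : ∀ a : A, ((fixedSubgroup (αW a)).index : ℝ) *
      ((fixedSubgroup (αQ a)).index : ℝ) ≤ ((fixedSubgroup (α a)).index : ℝ) := by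
    intro a
    have h1 : Nat.card (fixedSubgroup (α a)) ≤
        Nat.card (fixedSubgroup (αW a)) * Nat.card (fixedSubgroup (αQ a)) := by
      let g : fixedSubgroup (α a) →* V ⧸ W :=
        (QuotientGroup.mk' W).comp (fixedSubgroup (α a)).subtype
      rw [Subgroup.card_eq_card_quotient_mul_card_subgroup g.ker, mul_comm]
      refine Nat.mul_le_mul ?_ ?_
      · refine Nat.card_le_card_of_injective (fun x => (⟨⟨x.1.1, (QuotientGroup.eq_one_iff _).mp x.2⟩,
          Subtype.ext x.1.2⟩ : fixedSubgroup (αW a))) fun x y h => ?_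
        exact Subtype.ext (Subtype.ext (congrArg (fun z : fixedSubgroup (αW a) => ((z : W) : V)) h))
      · rw [Nat.card_congr (QuotientGroup.quotientKerEquivRange g).toEquiv]
        refine Subgroup.card_le_of_le ?_
        rintro _ ⟨x, rfl⟩
        exact (hαQ a x).trans (congrArg QuotientGroup.mk x.2)
    have hV := Subgroup.card_mul_index (fixedSubgroup (α a))
    have hWc := Subgroup.card_mul_index (fixedSubgroup (αW a))
    have hQc := Subgroup.card_mul_index (fixedSubgroup (αQ a))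
    have hVW : Nat.card V = Nat.card (V ⧸ W) * Nat.card W :=
      Subgroup.card_eq_card_quotient_mul_card_subgroup W
    have h2 : (fixedSubgroup (αW a)).index * (fixedSubgroup (αQ a)).index ≤
        (fixedSubgroup (α a)).index := by
      refine Nat.le_of_mul_le_mul_left ?_ (Nat.card_pos : 0 < Nat.card (fixedSubgroup (α a)))
      rw [hV, hVW, ← hWc, ← hQc]
      have := Nat.mul_le_mul_right
        ((fixedSubgroup (αW a)).index * (fixedSubgroup (αQ a)).index) h1
      linarith
    exact_mod_cast h2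
  refine ((GoodWeight.prod hc (A₁ := A ⧸ K) (fun q => Nat.cast_nonneg _) hgQ).comap φ hφ).mono
    fun a => le_trans ?_ (hidx a)
  exact mul_le_mul_of_nonneg_right (hw₁ a) (Nat.cast_nonneg _)

end Cfsg.Agent.Lib.Characters
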