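import Cfsg.Agent.Lib.Characters.OddTIPartition
import Mathlib.Tactic.NormNum.Prime

/-!
# No simple CN-type configuration of odd order

A finite group of odd order is not covered by conjugates of nilpotent TI subgroups of pairwise
coprime order with proper Frobenius normalizers (Suzuki, Feit–Hall–Thompson counting).
-/

namespace Cfsg.Agent.Lib.Characters

open scoped ComplexConjugate

set_option linter.unusedSectionVars false
set_option linter.style.haveILetI false

universe u v

namespace TIDatum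

variable {G : Type u} [Group G] [Fintype G] (D : TIDatum G)

/-- The proportion of the group covered by the conjugates of the kernel. -/
noncomputable def w : ℝ := (D.U.card : ℝ) / Nat.card G

theorem w_eq : D.w = 1 / (D.e : ℝ) - 1 / Nat.card D.M := by
  classical
  have h := D.sum_U (fun _ => 1) (fun _ _ => rfl)
  have hcard : (Finset.univ.filter (fun x : D.M => x ∈ D.K' ∧ x ≠ 1)).card + 1 = Nat.card D.K := by
    rw [← D.card_kernel, Nat.card_eq_fintype_card, Fintype.card_subtype,
      ← Finset.card_erase_add_one (Finset.mem_filter.mpr ⟨Finset.mem_univ _, D.K'.one_mem⟩)]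
    congr 2
    ext x
    simp [and_comm]
  simp only [Finset.sum_const, nsmul_eq_mul, mul_one] at h
  have hM : (Nat.card D.M : ℝ) = (Nat.card D.K : ℝ) * D.e := by exact_mod_cast D.card_M
  have hk : ((Finset.univ.filter (fun x : D.M => x ∈ D.K' ∧ x ≠ 1)).card : ℝ) + 1 = Nat.card D.K := by
    exact_mod_cast hcard
  have hg : (Nat.card G : ℝ) ≠ 0 := Nat.cast_ne_zero.mpr Nat.card_pos.ne'
  have he : (D.e : ℝ) ≠ 0 := Nat.cast_ne_zero.mpr D.e_pos.ne'
  have hK : (Nat.card D.K : ℝ) ≠ 0 := Nat.cast_ne_zero.mpr Nat.card_pos.ne'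
  rw [hM] at h ⊢
  rw [w]
  field_simp
  rw [← hk] at h ⊢
  linarith

theorem w_le_inv : D.w ≤ 1 / (D.e : ℝ) := by
  rw [D.w_eq]
  have : (0 : ℝ) ≤ 1 / Nat.card D.M := by positivity
  linarith

theorem w_le_div {Q : ℕ} (hQ : 1 < Q) (hq : Q ≤ D.q) :
    D.w ≤ (D.n : ℝ) / ((Q : ℝ) - 1) := by
  refine D.w_le_inv.trans ?_
  have hQ' : (1 : ℝ) < Q := by exact_mod_cast hQ
  have hq' : (Q : ℝ) ≤ D.n * D.e + 1 := by exact_mod_cast hq
  have he : (0 : ℝ) < D.e := by exact_mod_cast D.e_pos
  rw [div_le_div_iff₀ he (by linarith)]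
  linarith

theorem w_le_mul {Q : ℕ} (hQ : 1 < Q) (hq : Q ≤ D.q) :
    D.w ≤ (Q : ℝ) / ((Q : ℝ) - 1) * ((D.n : ℝ) / D.q) := by
  refine D.w_le_inv.trans ?_
  have hQ' : (1 : ℝ) < Q := by exact_mod_cast hQ
  have hq' : (Q : ℝ) ≤ D.n * D.e + 1 := by exact_mod_cast hq
  have he : (0 : ℝ) < D.e := by exact_mod_cast D.e_pos
  rw [show (D.q : ℝ) = D.n * D.e + 1 by simp [q], div_mul_div_comm,
    div_le_div_iff₀ he (mul_pos (by linarith) (by linarith))]
  nlinarith

/-- The lower bound for the mass of a character on the conjugates of the kernel. -/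
theorem mass_ge (θ : IrrCharacter G) (v : D.Fam → ℝ) (hv : ∀ c, (D.Z c θ : ℝ) = v c) :
    (Nat.card G : ℝ) *
        (∑ c, v c ^ 2 - (D.e : ℝ) / ((D.n : ℝ) * D.e + 1) * (∑ c, v c) ^ 2) ≤
      ∑ x ∈ D.U, Complex.normSq ((θ : G → ℂ) x) := by
  classical
  have h1 := D.sum_normSq_ge (fun x : D.M => (θ : G → ℂ) x) v fun c => by
    rw [← classInner_indFun_right D.M _ (irr_isClassFunction θ)]
    show classInner (θ : G → ℂ) (D.tau c) = _
    rw [D.classInner_irr_tau, ← hv c]
    push_cast
    rfl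
  have h2 := D.sum_U (fun x => Complex.normSq ((θ : G → ℂ) x))
    (fun x g => by rw [irr_isClassFunction θ x g])
  have hM : (0 : ℝ) < Nat.card D.M := by exact_mod_cast Nat.card_pos
  refine le_of_mul_le_mul_left ?_ hM
  rw [← h2, mul_left_comm]
  exact mul_le_mul_of_nonneg_left h1 (Nat.cast_nonneg _)

end TIDatum

theorem sum_normSq_irr {G : Type u} [Group G] [Fintype G] (χ : IrrCharacter G) :
    ∑ x, Complex.normSq ((χ : G → ℂ) x) = (Nat.card G : ℝ) := by
  have h := IsIrrCharacter.classInner_self χ.2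
  rw [classInner, inv_mul_eq_iff_eq_mul₀ natCard_ne_zero_complex, mul_one] at h
  simp only [Complex.mul_conj, ← Complex.ofReal_sum] at h
  exact_mod_cast h

theorem cover_bound_large {e m : ℝ} (he : 11 ≤ e) (hm : 3 * m ≤ 2 * e + 2) :
    1 / e + m / (2 * e + 1 + 2 - 1) + (e - 1 - m) / (2 * e + 1 + 4 - 1) +
      (2 * e + 1 + 4) / (2 * e + 1 + 4 - 1) * (e / (2 * e + 1)) ≤ 1 := by
  have p1 : (0 : ℝ) < 2 * e + 2 := by linarith
  have p2 : (0 : ℝ) < 2 * e + 4 := by linarith
  have p3 : (0 : ℝ) < 2 * e + 1 := by linarith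
  have p0 : (0 : ℝ) < e := by linarith
  rw [show 2 * e + 1 + 2 - 1 = 2 * e + 2 by ring, show 2 * e + 1 + 4 - 1 = 2 * e + 4 by ring]
  have b1 : m / (2 * e + 2) + (e - 1 - m) / (2 * e + 4) ≤ (e - 1 / 3) / (2 * e + 4) := by
    rw [div_add_div _ _ p1.ne' p2.ne', div_le_div_iff₀ (mul_pos p1 p2) p2]
    nlinarith
  have b2 : 1 / e + (e - 1 / 3) / (2 * e + 4) +
      (2 * e + 1 + 4) / (2 * e + 4) * (e / (2 * e + 1)) ≤ 1 := by
    field_simp
    nlinarith [mul_nonneg (mul_nonneg (sub_nonneg.mpr he) p0.le) p0.le,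
      mul_nonneg (sub_nonneg.mpr he) p0.le]
  linarith

theorem cover_bound_five {e : ℝ} (he : 5 ≤ e) :
    1 / e + (e - 1) / (2 * e + 1 + 4 - 1) +
      (2 * e + 1 + 2) / (2 * e + 1 + 2 - 1) * (e / (2 * e + 1)) ≤ 1 := by
  have p0 : (0 : ℝ) < e := by linarith
  rw [show 2 * e + 1 + 4 - 1 = 2 * e + 4 by ring, show 2 * e + 1 + 2 - 1 = 2 * e + 2 by ring]
  have b1 : 1 / e + (e - 1) / (2 * e + 4) ≤ 1 / 2 := by
    rw [div_add_div _ _ p0.ne' (by linarith), div_le_iff₀ (by nlinarith)]
    nlinarith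
  have b2 : (2 * e + 1 + 2) / (2 * e + 2) * (e / (2 * e + 1)) ≤ 1 / 2 := by
    rw [div_mul_div_comm, div_le_iff₀ (mul_pos (by linarith) (by linarith))]
    nlinarith
  linarith

set_option maxHeartbeats 1600000 in
/-- A finite group of odd order is not covered by the conjugates of nilpotent TI subgroups of
pairwise coprime orders whose normalizers are proper Frobenius groups. -/
theorem no_odd_TI_partition {G : Type u} [Group G] [Fintype G] [Nontrivial G]
    (hodd : Odd (Nat.card G)) {ι : Type v} [Fintype ι] (D : ι → TIDatum G)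
    (hnil : ∀ l, Group.IsNilpotent (D l).K) (hne : ∀ l, (D l).K ≠ ⊥)
    (hlt : ∀ l, (D l).K ≠ (D l).M) (hM : ∀ l, (D l).M ≠ ⊤)
    (hco : ∀ i l, i ≠ l → Nat.Coprime (Nat.card (D i).K) (Nat.card (D l).K))
    (hcover : ∀ x : G, x ≠ 1 → ∃ l, ∃ t : G, t⁻¹ * x * t ∈ (D l).K) : False := by
  classical
  haveI := Fintype.ofFinite (IrrCharacter G)
  haveI := hnil
  have hn : ∀ l, 2 ≤ (D l).n := fun l => ((D l).two_le_n hodd (hne l)).1
  have hne' : Nonempty ι := by
    obtain ⟨x, hx⟩ := exists_ne (1 : G)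
    exact ⟨(hcover x hx).choose⟩
  obtain ⟨i, -, hmin⟩ := Finset.exists_min_image Finset.univ (fun l => (D l).q)
    Finset.univ_nonempty
  have hqodd : ∀ l, Odd (D l).q := fun l =>
    Odd.of_dvd_nat (Odd.of_dvd_nat hodd (Subgroup.card_subgroup_dvd_card _)) (D l).q_dvd
  have hqne : ∀ a b, a ≠ b → (D a).q ≠ (D b).q := fun a b hab h => by
    have := Nat.eq_one_of_dvd_coprimes (hco a b hab) (D a).q_dvd (h ▸ (D b).q_dvd)
    have := (D a).one_lt_q (hne a)
    omega
  have hq2 : ∀ l, l ≠ i → (D i).q + 2 ≤ (D l).q := fun l hl => by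
    have := hmin l (Finset.mem_univ _)
    have := hqne l i hl
    obtain ⟨a, ha⟩ := hqodd l
    obtain ⟨b, hb⟩ := hqodd i
    omega
  have hc : ∀ l, Nonempty (D l).Fam := fun l =>
    Fintype.card_pos_iff.mp (show 0 < (D l).n by have := hn l; omega)
  let c : ∀ l, (D l).Fam := fun l => (hc l).some
  let X : ι → ℤ := fun l => (D i).Z (c i) ((D l).theta (c l))
  let In := (Finset.univ.erase i).filter fun l => X l ≠ 0
  let Out := (Finset.univ.erase i).filter fun l => ¬X l ≠ 0
  have hsplit : ∀ f : ι → ℝ, ∑ l, f l = f i + (∑ l ∈ In, f l + ∑ l ∈ Out, f l) := fun f => by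
    rw [Finset.sum_filter_add_sum_filter_not, Finset.add_sum_erase _ _ (Finset.mem_univ i)]
  have hInne : ∀ l ∈ In, l ≠ i := fun l hl => Finset.ne_of_mem_erase (Finset.mem_filter.mp hl).1
  have hOutne : ∀ l ∈ Out, l ≠ i := fun l hl => Finset.ne_of_mem_erase (Finset.mem_filter.mp hl).1
  -- the norm of `τ c` bounds the inner families
  have hnorm : (∑ l ∈ In, (D l).n) + 1 ≤ (D i).e := by
    have hinj : Function.Injective fun p : Σ l, (D l).Fam => (D p.1).theta p.2 := by
      rintro ⟨a, x⟩ ⟨b, y⟩ h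
      by_cases hab : a = b
      · subst hab
        exact congrArg (Sigma.mk a) ((D a).theta_injective h)
      · exact absurd h ((D a).theta_ne_theta (hn a) (hn b) (hco a b hab) x y)
    have h0 : trivIrr G ∉ Finset.univ.image fun p : Σ l, (D l).Fam => (D p.1).theta p.2 := by
      simp only [Finset.mem_image, Finset.mem_univ, true_and, not_exists]
      exact fun p => (D p.1).theta_ne_trivIrr (hn _) p.2
    have h1 : 1 + ∑ l, ∑ b, (D i).Z (c i) ((D l).theta b) ^ 2 ≤ ((D i).e : ℤ) + 1 := by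
      rw [← (D i).sum_Z_sq (c i)]
      refine le_trans (le_of_eq ?_) (Finset.sum_le_sum_of_subset_of_nonneg
        (Finset.subset_univ (insert (trivIrr G)
          (Finset.univ.image fun p : Σ l, (D l).Fam => (D p.1).theta p.2)))
        fun ψ _ _ => sq_nonneg _)
      rw [Finset.sum_insert h0, TIDatum.Z_trivIrr, Finset.sum_image fun a _ b _ h => hinj h,
        Fintype.sum_sigma, one_pow]
    have hown : 1 ≤ ∑ b, (D i).Z (c i) ((D i).theta b) ^ 2 := by
      obtain ⟨d, hd⟩ := Fintype.exists_ne_of_one_lt_card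
        (show 1 < Fintype.card (D i).Fam from hn i) (c i)
      have h := (D i).Z_theta_sub (c i) d (c i)
      rw [if_pos rfl, if_neg (Ne.symm hd)] at h
      have h0 : ∀ b, 0 ≤ (D i).Z (c i) ((D i).theta b) ^ 2 := fun b => sq_nonneg _
      by_contra hlt1
      push Not at hlt1
      have hd0 := Finset.single_le_sum (fun b _ => h0 b) (Finset.mem_univ d)
      have hc0 := Finset.single_le_sum (fun b _ => h0 b) (Finset.mem_univ (c i))
      have e1 : (D i).Z (c i) ((D i).theta d) = 0 := by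
        nlinarith [sq_nonneg ((D i).Z (c i) ((D i).theta d))]
      have e2 : (D i).Z (c i) ((D i).theta (c i)) = 0 := by
        nlinarith [sq_nonneg ((D i).Z (c i) ((D i).theta (c i)))]
      rw [e1, e2] at h
      rcases (D i).eps_eq with he | he <;> rw [he] at h <;> norm_num at h
    have hin : ∀ l ∈ In, ((D l).n : ℤ) ≤ ∑ b, (D i).Z (c i) ((D l).theta b) ^ 2 := by
      intro l hl
      have hX := (Finset.mem_filter.mp hl).2
      have hcst : ∀ b, (D i).Z (c i) ((D l).theta b) = X l := fun b =>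
        (D i).Z_other_const (hn i) (hn l) (hco i l (hInne l hl).symm) _ _ _ _
      simp only [hcst, Finset.sum_const, Finset.card_univ, nsmul_eq_mul]
      have : (1 : ℤ) ≤ X l ^ 2 := by
        rcases lt_or_gt_of_ne hX with h | h <;> nlinarith
      exact le_mul_of_one_le_right (Nat.cast_nonneg _) this
    rw [← Finset.add_sum_erase _ _ (Finset.mem_univ i)] at h1
    have h2 : ∑ l ∈ In, ((D l).n : ℤ) ≤
        ∑ l ∈ Finset.univ.erase i, ∑ b, (D i).Z (c i) ((D l).theta b) ^ 2 :=
      (Finset.sum_le_sum hin).trans (Finset.sum_le_sum_of_subset_of_nonneg (Finset.filter_subset _ _)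
        fun l _ _ => Finset.sum_nonneg fun b _ => sq_nonneg _)
    have h3 : ((∑ l ∈ In, (D l).n : ℕ) : ℤ) + 1 ≤ ((D i).e : ℤ) := by push_cast; linarith
    exact_mod_cast h3
  -- the partition of the non-identity elements
  have hUd : ((Finset.univ : Finset ι) : Set ι).PairwiseDisjoint fun l => (D l).U :=
    fun a _ b _ hab => TIDatum.disjoint_U (hco a b hab)
  have hUu : Finset.univ.biUnion (fun l => (D l).U) = Finset.univ.erase (1 : G) := by
    ext x
    simp only [Finset.mem_biUnion, Finset.mem_univ, true_and, TIDatum.mem_U, Finset.mem_erase,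
      and_true]
    exact ⟨fun ⟨l, h, _⟩ => h, fun h => (hcover x h).imp fun l hl => ⟨h, hl⟩⟩
  have hUsum : ∀ f : G → ℝ, ∑ l, ∑ x ∈ (D l).U, f x = ∑ x, f x - f 1 := fun f => by
    rw [← Finset.sum_biUnion hUd, hUu, Finset.sum_erase_eq_sub (Finset.mem_univ _)]
  have hg : (0 : ℝ) < Nat.card G := by exact_mod_cast Nat.card_pos
  have hwsum : ∑ l, (D l).w = 1 - 1 / (Nat.card G : ℝ) := by
    have h := hUsum fun _ => 1
    simp only [Finset.sum_const, nsmul_eq_mul, mul_one, Finset.card_univ,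
      ← Nat.card_eq_fintype_card] at h
    simp only [TIDatum.w]
    rw [← Finset.sum_div, h, sub_div, div_self hg.ne']
  -- the character bound on the outer families
  have hout : ∑ l ∈ Out, ((D l).n : ℝ) / (D l).q < ((D i).e : ℝ) / (D i).q := by
    let θ := (D i).theta (c i)
    have hmass : ∑ l, ∑ x ∈ (D l).U, Complex.normSq ((θ : G → ℂ) x) < Nat.card G := by
      rw [hUsum, sum_normSq_irr]
      have : 0 < Complex.normSq ((θ : G → ℂ) 1) :=
        Complex.normSq_pos.mpr (IsIrrCharacter.apply_one_ne_zero θ.2)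
      linarith
    rw [hsplit] at hmass
    have hqR : ∀ l, ((D l).q : ℝ) = (D l).n * (D l).e + 1 := fun l => by simp [TIDatum.q]
    have hqpos : ∀ l, (0 : ℝ) < (D l).q := fun l => by rw [hqR]; positivity
    have hi : (Nat.card G : ℝ) * ((((D i).q : ℝ) - (D i).e) / (D i).q) ≤
        ∑ x ∈ (D i).U, Complex.normSq ((θ : G → ℂ) x) := by
      let δ : (D i).Fam → ℝ := fun d => if d = c i then 1 else 0
      let y : ℤ := (D i).Z (c i) θ + (D i).eps
      have hv : ∀ d, ((D i).Z d θ : ℝ) = (y : ℝ) - ((D i).eps : ℝ) * δ d := by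
        intro d
        have h := (D i).Z_sub (c i) d θ
        rw [if_pos rfl] at h
        by_cases hd : d = c i
        · simp [δ, hd, y]
        · rw [if_neg fun he => hd ((D i).theta_injective he)] at h
          simp only [δ, if_neg hd, mul_zero, sub_zero, y]
          push_cast
          have h' := congrArg (fun z : ℤ => (z : ℝ)) h
          push_cast at h'
          linarith
      refine le_trans ?_ ((D i).mass_ge θ _ hv)
      refine mul_le_mul_of_nonneg_left ?_ hg.le
      have hε : ((D i).eps : ℝ) ^ 2 = 1 := by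
        rcases (D i).eps_eq with he | he <;> simp [he]
      have h1 : ∑ d, ((y : ℝ) - ((D i).eps : ℝ) * δ d) = (D i).n * (y : ℝ) - (D i).eps := by
        simp [δ, Finset.sum_sub_distrib, TIDatum.n]
      have h2 : ∑ d, ((y : ℝ) - ((D i).eps : ℝ) * δ d) ^ 2 =
          (D i).n * (y : ℝ) ^ 2 - 2 * (y : ℝ) * (D i).eps + 1 := by
        simp [δ, sub_sq, Finset.sum_sub_distrib, Finset.sum_add_distrib, TIDatum.n, hε]
      rw [h1, h2, hqR]
      have hy : (0 : ℝ) ≤ (D i).n * (y : ℝ) ^ 2 - 2 * (y : ℝ) * (D i).eps := by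
        have : (0 : ℤ) ≤ (D i).n * y ^ 2 - 2 * y * (D i).eps := by
          have h2n : (2 : ℤ) ≤ (D i).n := by exact_mod_cast hn i
          rcases (D i).eps_eq with he | he <;> rw [he] <;>
            rcases lt_trichotomy y 0 with hy | hy | hy <;>
            nlinarith [mul_le_mul_of_nonneg_right h2n (sq_nonneg y)]
        exact_mod_cast this
      have hq0 : (0 : ℝ) < (D i).n * (D i).e + 1 := by positivity
      rw [div_mul_eq_mul_div, div_le_iff₀ hq0, sub_mul, div_mul_cancel₀ _ hq0.ne']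
      linear_combination hy + ((D i).e : ℝ) * hε
    have hl : ∀ l ∈ Out, (Nat.card G : ℝ) * (((D l).n : ℝ) / (D l).q) ≤
        ∑ x ∈ (D l).U, Complex.normSq ((θ : G → ℂ) x) := by
      intro l hl
      have hli := hOutne l hl
      have hX : X l = 0 := not_not.mp (Finset.mem_filter.mp hl).2
      let x : ℤ := (D l).Z (c l) θ
      have hx : x ≠ 0 :=
        (D i).cross_ne_zero hodd (hn i) (hn l) (hco i l hli.symm) (c i) (c l) hX
      have hv : ∀ d, ((D l).Z d θ : ℝ) = (x : ℝ) := fun d => by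
        rw [(D l).Z_other_const (hn l) (hn i) (hco l i hli) d (c l) (c i) (c i)]
      refine le_trans ?_ ((D l).mass_ge θ _ hv)
      refine mul_le_mul_of_nonneg_left ?_ hg.le
      simp only [Finset.sum_const, Finset.card_univ, nsmul_eq_mul]
      rw [show (Fintype.card (D l).Fam : ℝ) = (D l).n from rfl, hqR]
      have hq0 : (0 : ℝ) < (D l).n * (D l).e + 1 := by positivity
      rw [div_mul_eq_mul_div, div_le_iff₀ hq0, sub_mul, div_mul_cancel₀ _ hq0.ne']
      have hx1 : (1 : ℝ) ≤ (x : ℝ) ^ 2 := by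
        exact_mod_cast Int.one_le_abs hx |>.trans (by rw [← sq_abs]; nlinarith [abs_nonneg x])
      have := mul_le_mul_of_nonneg_left hx1 (Nat.cast_nonneg (D l).n)
      linear_combination this
    have hIn0 : 0 ≤ ∑ l ∈ In, ∑ x ∈ (D l).U, Complex.normSq ((θ : G → ℂ) x) :=
      Finset.sum_nonneg fun l _ => Finset.sum_nonneg fun x _ => Complex.normSq_nonneg _
    have hO : (Nat.card G : ℝ) * ∑ l ∈ Out, ((D l).n : ℝ) / (D l).q ≤
        ∑ l ∈ Out, ∑ x ∈ (D l).U, Complex.normSq ((θ : G → ℂ) x) := by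
      rw [Finset.mul_sum]
      exact Finset.sum_le_sum hl
    refine lt_of_mul_lt_mul_left ?_ hg.le
    rw [sub_div, div_self (hqpos i).ne', mul_sub, mul_one] at hi
    linarith
  -- bounds on the proportions
  have hIn : ∀ (s : Finset ι) (Q : ℕ) (N : ℕ), s ⊆ In → (∀ l ∈ s, Q ≤ (D l).q) → 1 < Q →
      ∑ l ∈ s, (D l).n ≤ N → ∑ l ∈ s, (D l).w ≤ (N : ℝ) / ((Q : ℝ) - 1) := by
    intro s Q N _ hQ hQ1 hN
    refine (Finset.sum_le_sum fun l hl => (D l).w_le_div hQ1 (hQ l hl)).trans ?_
    rw [← Finset.sum_div]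
    have : (1 : ℝ) < Q := by exact_mod_cast hQ1
    exact div_le_div_of_nonneg_right (by exact_mod_cast hN) (by linarith)
  have hOut : ∀ Q : ℕ, (∀ l ∈ Out, Q ≤ (D l).q) → 1 < Q →
      ∑ l ∈ Out, (D l).w < (Q : ℝ) / ((Q : ℝ) - 1) * (((D i).e : ℝ) / (D i).q) := by
    intro Q hQ hQ1
    refine (Finset.sum_le_sum fun l hl => (D l).w_le_mul hQ1 (hQ l hl)).trans_lt ?_
    rw [← Finset.mul_sum]
    have : (1 : ℝ) < Q := by exact_mod_cast hQ1
    exact mul_lt_mul_of_pos_left hout (div_pos (by linarith) (by linarith))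
  have hMg : (3 : ℝ) * Nat.card (D i).M ≤ Nat.card G := by
    have h3 : 3 ≤ (D i).M.index := TIDatum.three_le_of_odd
      (Odd.of_dvd_nat hodd (D i).M.index_dvd_card) fun h => hM i (Subgroup.index_eq_one.mp h)
    have h := Nat.mul_le_mul_left (Nat.card (D i).M) h3
    rw [(D i).M.card_mul_index, mul_comm] at h
    exact_mod_cast h
  have hMpos : (0 : ℝ) < Nat.card (D i).M := by exact_mod_cast Nat.card_pos
  have hwi : (D i).w ≤ 1 / ((D i).e : ℝ) - 3 / Nat.card G := by
    rw [(D i).w_eq]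
    have : 3 / (Nat.card G : ℝ) ≤ 1 / Nat.card (D i).M := by
      rw [div_le_div_iff₀ hg hMpos]
      linarith
    linarith
  have hprime_w : ∀ l, (D l).q.Prime →
      (D l).w = 1 / ((D l).e : ℝ) - 1 / ((D l).e * (D l).q : ℝ) := by
    intro l hp
    rw [(D l).w_eq, (D l).card_M, (D l).card_eq_q_of_prime hp]
    push_cast
    rw [mul_comm]
  have htot := hwsum
  rw [hsplit] at htot
  have hgpos : (0 : ℝ) < 1 / Nat.card G := by positivity
  have hg3 : (3 : ℝ) / Nat.card G = 3 * (1 / Nat.card G) := by ring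
  rw [hg3] at hwi
  have hcardM : (Nat.card (D i).M : ℝ) = Nat.card (D i).K * (D i).e := by
    exact_mod_cast (D i).card_M
  have he3 := (D i).three_le_e hodd (hlt i)
  have heR : (3 : ℝ) ≤ (D i).e := by exact_mod_cast he3
  obtain ⟨hn2, hneven⟩ := (D i).two_le_n hodd (hne i)
  by_cases hn4 : 4 ≤ (D i).n
  · -- the family is large
    have hqi : (D i).q = (D i).n * (D i).e + 1 := rfl
    have hInb := hIn In ((D i).q + 2) ((D i).e - 1) le_rfl (fun l hl => hq2 l (hInne l hl))
      (by omega) (by omega)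
    have hOutb := hOut ((D i).q + 2) (fun l hl => hq2 l (hOutne l hl)) (by omega)
    rw [Nat.cast_sub (by omega : 1 ≤ (D i).e), hqi] at hInb
    rw [hqi] at hOutb
    push_cast at hInb hOutb
    have hN : (4 : ℝ) ≤ (D i).n := by exact_mod_cast hn4
    have hne0 : (0 : ℝ) < (D i).n * (D i).e := by positivity
    have b1 : (((D i).e : ℝ) - 1) / ((D i).n * (D i).e + 1 + 2 - 1) ≤ 1 / (D i).n := by
      rw [div_le_div_iff₀ (by linarith) (by linarith)]
      nlinarith
    have b2 : ((D i).n * (D i).e + 1 + 2 : ℝ) / ((D i).n * (D i).e + 1 + 2 - 1) *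
        ((D i).e / ((D i).n * (D i).e + 1)) ≤ 1 / (D i).n := by
      rw [div_mul_div_comm, div_le_div_iff₀ (mul_pos (by linarith) (by linarith)) (by linarith)]
      nlinarith
    have b3 : 1 / ((D i).e : ℝ) ≤ 1 / 3 := one_div_le_one_div_of_le (by norm_num) heR
    have b4 : 1 / ((D i).n : ℝ) ≤ 1 / 4 := one_div_le_one_div_of_le (by norm_num) hN
    linarith
  have hn2' : (D i).n = 2 := by
    obtain ⟨j, hj⟩ := hneven
    omega
  have hqi : (D i).q = 2 * (D i).e + 1 := by rw [TIDatum.q, hn2']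
  have hqR : ((D i).q : ℝ) = 2 * (D i).e + 1 := by rw [hqi]; push_cast; ring
  by_cases hA : ∃ l ∈ In, (D l).q = (D i).q + 2
  · obtain ⟨l₀, hl₀, hql₀⟩ := hA
    have hQ : ∀ l, l ≠ i → l ≠ l₀ → (D i).q + 4 ≤ (D l).q := fun l hl hl' => by
      have := hq2 l hl
      have := hqne l l₀ hl'
      obtain ⟨a, ha⟩ := hqodd l
      obtain ⟨b, hb⟩ := hqodd i
      omega
    have hOutb := hOut ((D i).q + 4) (fun l hl => hQ l (hOutne l hl) fun h => by
      subst h
      exact (Finset.mem_filter.mp hl).2 (Finset.mem_filter.mp hl₀).2) (by omega)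
    have hnm : (∑ l ∈ In.erase l₀, (D l).n) + (D l₀).n + 1 ≤ (D i).e := by
      rw [Finset.sum_erase_add _ _ hl₀]
      exact hnorm
    have hInb := hIn (In.erase l₀) ((D i).q + 4) ((D i).e - 1 - (D l₀).n)
      (Finset.erase_subset _ _)
      (fun l hl => hQ l (hInne l (Finset.mem_of_mem_erase hl)) (Finset.ne_of_mem_erase hl))
      (by omega) (by omega)
    have hme : (D l₀).n * (D l₀).e = 2 * (D i).e + 2 := by
      have : (D l₀).n * (D l₀).e + 1 = (D i).q + 2 := hql₀
      omega
    have he0 := (D l₀).three_le_e hodd (hlt l₀)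
    obtain ⟨hm2, hmev⟩ := (D l₀).two_le_n hodd (hne l₀)
    have hsum_In : ∑ l ∈ In, (D l).w = (D l₀).w + ∑ l ∈ In.erase l₀, (D l).w :=
      (Finset.add_sum_erase _ _ hl₀).symm
    rw [hsum_In] at htot
    rw [Nat.cast_sub (by omega : (D l₀).n ≤ (D i).e - 1), Nat.cast_sub (by omega : 1 ≤ (D i).e)]
      at hInb
    push_cast at hInb hOutb
    rw [hqR] at hInb hOutb
    rcases Nat.lt_or_ge (D i).e 11 with hsmall | hbig
    · obtain ⟨a, ha⟩ := (D i).odd_e hodd
      obtain ⟨b, hb⟩ := (D l₀).odd_e hodd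
      obtain ⟨m', hm'⟩ := hmev
      have he0le : (D l₀).e ≤ 2 * (D i).e + 2 := Nat.le_of_dvd (by omega) (Dvd.intro_left _ hme)
      have hcases : ((D i).e = 5 ∧ (D l₀).e = 3 ∧ (D l₀).n = 4) ∨
          ((D i).e = 9 ∧ (D l₀).e = 5 ∧ (D l₀).n = 4) := by
        have hme' := hme
        rw [ha, hb] at hme'
        have : a ≤ 4 := by omega
        have : b ≤ 9 := by omega
        have : 1 ≤ a := by omega
        have : 1 ≤ b := by omega
        interval_cases a <;> interval_cases b <;> omega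
      rcases hcases with ⟨h5, h3, h4⟩ | ⟨h9, h5, h4⟩
      · have hqi11 : (D i).q = 11 := by omega
        have hw := hprime_w i (by rw [hqi11]; norm_num)
        have hw0 := hprime_w l₀ (by rw [hql₀, hqi11]; norm_num)
        rw [hql₀] at hw0
        push_cast at hw0
        rw [h5, hqi11] at hw
        rw [h3, hqi11] at hw0
        rw [h5, h4] at hInb
        rw [h5] at hOutb
        have hK : (Nat.card (D i).K : ℝ) = 11 := by
          rw [(D i).card_eq_q_of_prime (by rw [hqi11]; norm_num), hqi11]; norm_num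
        rw [hcardM, hK, h5] at hMg
        have hgb : 1 / (Nat.card G : ℝ) ≤ 1 / 165 :=
          one_div_le_one_div_of_le (by norm_num) (by norm_num at hMg ⊢; linarith)
        norm_num at hw hw0 hInb hOutb
        linarith
      · have hqi19 : (D i).q = 19 := by omega
        have hw := hprime_w i (by rw [hqi19]; norm_num)
        have hw0 := (D l₀).w_le_inv
        rw [h9, hqi19] at hw
        rw [h5] at hw0
        rw [h9, h4] at hInb
        rw [h9] at hOutb
        have hK : (Nat.card (D i).K : ℝ) = 19 := by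
          rw [(D i).card_eq_q_of_prime (by rw [hqi19]; norm_num), hqi19]; norm_num
        rw [hcardM, hK, h9] at hMg
        have hgb : 1 / (Nat.card G : ℝ) ≤ 1 / 513 :=
          one_div_le_one_div_of_le (by norm_num) (by norm_num at hMg ⊢; linarith)
        norm_num at hw hw0 hInb hOutb
        linarith
    · have hm3 : 3 * (D l₀).n ≤ 2 * (D i).e + 2 := by
        rw [← hme, mul_comm 3]
        exact Nat.mul_le_mul_left _ he0
      have heR' : (11 : ℝ) ≤ (D i).e := by exact_mod_cast hbig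
      have hm3' : 3 * ((D l₀).n : ℝ) ≤ 2 * (D i).e + 2 := by exact_mod_cast hm3
      have hw0 := (D l₀).w_le_div (Q := (D i).q + 2) (by omega) (le_of_eq hql₀.symm)
      push_cast at hw0
      rw [hqR] at hw0
      have b1 := cover_bound_large (e := ((D i).e : ℝ)) (m := ((D l₀).n : ℝ)) heR' hm3'
      linarith
  · push Not at hA
    have hInb := hIn In ((D i).q + 4) ((D i).e - 1) le_rfl (fun l hl => by
        have := hq2 l (hInne l hl)
        have := hA l hl
        obtain ⟨a, ha⟩ := hqodd l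
        obtain ⟨b, hb⟩ := hqodd i
        omega) (by omega) (by omega)
    have hOutb := hOut ((D i).q + 2) (fun l hl => hq2 l (hOutne l hl)) (by omega)
    rw [Nat.cast_sub (by omega : 1 ≤ (D i).e)] at hInb
    push_cast at hInb hOutb
    rw [hqR] at hInb hOutb
    rcases Nat.lt_or_ge (D i).e 5 with hsmall | hbig
    · have h3 : (D i).e = 3 := by
        obtain ⟨a, ha⟩ := (D i).odd_e hodd
        omega
      have hqi7 : (D i).q = 7 := by omega
      have hw := hprime_w i (by rw [hqi7]; norm_num)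
      rw [h3, hqi7] at hw
      rw [h3] at hInb hOutb
      have hK : (Nat.card (D i).K : ℝ) = 7 := by
        rw [(D i).card_eq_q_of_prime (by rw [hqi7]; norm_num), hqi7]; norm_num
      rw [hcardM, hK, h3] at hMg
      have hgb : 1 / (Nat.card G : ℝ) ≤ 1 / 63 :=
        one_div_le_one_div_of_le (by norm_num) (by norm_num at hMg ⊢; linarith)
      norm_num at hw hInb hOutb
      linarith
    · have heR' : (5 : ℝ) ≤ (D i).e := by exact_mod_cast hbig
      have b1 := cover_bound_five (e := ((D i).e : ℝ)) heR'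
      linarith

end Cfsg.Agent.Lib.Characters
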