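import Cfsg.Agent.Lib.Characters.TIDatum
import Mathlib.GroupTheory.Frattini
import Cfsg.Agent.Lib.Cores.Frattini
import Mathlib.Algebra.CharP.Two

/-!
# An odd order group is not covered by Frobenius TI subgroups
-/

namespace Cfsg.Agent.Lib.Characters

open scoped ComplexConjugate

set_option linter.unusedSectionVars false
set_option linter.style.haveILetI false

universe u

theorem isConj_inv_eq_one {G : Type u} [Group G] [Finite G] (hodd : Odd (Nat.card G)) {g : G}
    (h : IsConj g g⁻¹) : g = 1 := by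
  obtain ⟨x, hx⟩ := isConj_iff.mp h
  have hx2 : Commute (x ^ 2) g := by
    have h1 : x * g⁻¹ * x⁻¹ = g := by rw [← conj_inv, hx, inv_inv]
    have : x ^ 2 * g * (x ^ 2)⁻¹ = g := by
      calc x ^ 2 * g * (x ^ 2)⁻¹ = x * (x * g * x⁻¹) * x⁻¹ := by rw [sq]; group
        _ = x * g⁻¹ * x⁻¹ := by rw [hx]
        _ = g := h1
    exact mul_inv_eq_iff_eq_mul.mp this
  have hxo : Odd (orderOf x) := Odd.of_dvd_nat hodd (orderOf_dvd_natCard x)
  obtain ⟨j, hj⟩ := hxo
  have hxpow : x = (x ^ 2) ^ (j + 1) := by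
    rw [← pow_mul, show 2 * (j + 1) = orderOf x + 1 by omega, pow_succ, pow_orderOf_eq_one, one_mul]
  have hc : Commute x g := hxpow ▸ hx2.pow_left (j + 1)
  rw [hc.eq, mul_inv_cancel_right] at hx
  have hg2 : g ^ 2 = 1 := by
    rw [sq]; nth_rewrite 2 [hx]; exact mul_inv_cancel _
  have h2 : orderOf g ∣ 2 := orderOf_dvd_of_pow_eq_one hg2
  rcases (Nat.dvd_prime Nat.prime_two).mp h2 with h' | h'
  · exact orderOf_eq_one_iff.mp h'
  · exact absurd (h' ▸ Odd.of_dvd_nat hodd (orderOf_dvd_natCard g)) (by decide)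

/-- In a group of odd order only the principal irreducible character is real. -/
theorem eq_trivIrr_of_real {G : Type u} [Group G] [Finite G] (hodd : Odd (Nat.card G))
    (χ : IrrCharacter G) (h : ∀ g, conj ((χ : G → ℂ) g) = (χ : G → ℂ) g) : χ = trivIrr G := by
  have hcard := card_real_irr (G := G)
  have h1 : Nat.card {C : ConjClasses G // ∀ g : G, ConjClasses.mk g = C → IsConj g g⁻¹} = 1 := by
    rw [Nat.card_eq_one_iff_unique]
    refine ⟨⟨fun a b => ?_⟩, ⟨⟨ConjClasses.mk 1, fun g hg => ?_⟩⟩⟩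
    · obtain ⟨a, ha⟩ := a
      obtain ⟨b, hb⟩ := b
      obtain ⟨x, rfl⟩ := ConjClasses.mk_surjective a
      obtain ⟨y, rfl⟩ := ConjClasses.mk_surjective b
      apply Subtype.ext
      show ConjClasses.mk x = ConjClasses.mk y
      rw [isConj_inv_eq_one hodd (ha x rfl), isConj_inv_eq_one hodd (hb y rfl)]
    · rw [ConjClasses.mk_eq_mk_iff_isConj, isConj_one_left] at hg
      rw [hg, inv_one]
  rw [h1] at hcard
  obtain ⟨hsub, -⟩ := Nat.card_eq_one_iff_unique.mp hcard
  have := hsub.elim ⟨χ, fun g => Complex.conj_eq_iff_im.mp (h g)⟩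
    ⟨trivIrr G, fun g => by simp⟩
  exact congrArg Subtype.val this

namespace TIDatum

variable {G : Type u} [Group G] [Fintype G] (D : TIDatum G)

/-- The complex conjugate in the family. -/
noncomputable def bar (c : D.Fam) : D.Fam :=
  ⟨⟨_, IsIrrCharacter.conjugate c.1.2⟩, by
    obtain ⟨⟨k, hk, hne⟩, h1⟩ := c.2
    refine ⟨⟨k, hk, fun h => hne ?_⟩, ?_⟩
    · exact RingHom.injective _ h
    · show conj ((c.1 : D.M → ℂ) 1) = _
      rw [h1, map_natCast]⟩

theorem bar_ne (hodd : Odd (Nat.card G)) (c : D.Fam) : D.bar c ≠ c := by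
  intro h
  have hM : Odd (Nat.card D.M) := Odd.of_dvd_nat hodd (Subgroup.card_subgroup_dvd_card _)
  have h1 := eq_trivIrr_of_real hM c.1 fun g =>
    congrFun (congrArg (fun c : D.Fam => (c.1 : D.M → ℂ)) h) g
  obtain ⟨k, -, hk⟩ := c.2.1
  rw [h1] at hk
  exact hk rfl

theorem tau_bar (c : D.Fam) (g : G) : D.tau (D.bar c) g = conj (D.tau c g) := by
  simp only [tau, indFun_apply, map_mul, map_inv₀, map_natCast, map_sum]
  refine congrArg _ (Finset.sum_congr rfl fun x _ => ?_)
  by_cases hm : x⁻¹ * g * x ∈ D.M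
  · rw [extendByZero_of_mem _ _ hm, extendByZero_of_mem _ _ hm]
    simp only [alpha, Pi.sub_apply, map_sub]
    congr 1
    by_cases hK : (⟨_, hm⟩ : D.M) ∈ D.K'
    · rw [D.oneK_apply hK, map_natCast]
    · rw [show D.oneK ⟨_, hm⟩ = 0 from indFun_vanish D.K' _ hK, map_zero]
  · rw [extendByZero_of_not_mem _ _ hm, extendByZero_of_not_mem _ _ hm, map_zero]

/-- The integers `⟨τ c, ψ⟩`. -/
noncomputable def Z (c : D.Fam) (ψ : IrrCharacter G) : ℤ :=
  (IsGeneralizedCharacter.exists_classInner_int (D.isGeneralizedCharacter_tau c)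
    (IsCharacter.isGeneralizedCharacter (irr_isCharacter ψ))).choose

theorem classInner_tau_irr (c : D.Fam) (ψ : IrrCharacter G) :
    classInner (D.tau c) (ψ : G → ℂ) = (D.Z c ψ : ℂ) :=
  (IsGeneralizedCharacter.exists_classInner_int (D.isGeneralizedCharacter_tau c)
    (IsCharacter.isGeneralizedCharacter (irr_isCharacter ψ))).choose_spec

theorem classInner_irr_tau (c : D.Fam) (ψ : IrrCharacter G) :
    classInner (ψ : G → ℂ) (D.tau c) = (D.Z c ψ : ℂ) := by
  rw [← classInner_conj_symm, D.classInner_tau_irr, map_intCast]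

theorem Z_trivIrr (c : D.Fam) : D.Z c (trivIrr G) = 1 := by
  have h := D.classInner_tau_irr c (trivIrr G)
  rw [show ((trivIrr G : IrrCharacter G) : G → ℂ) = fun _ => 1 from rfl, D.classInner_tau_one] at h
  exact_mod_cast h.symm

theorem Z_bar (c : D.Fam) (ψ ψ' : IrrCharacter G)
    (h : ∀ g, (ψ' : G → ℂ) g = conj ((ψ : G → ℂ) g)) : D.Z c ψ' = D.Z (D.bar c) ψ := by
  have h1 : classInner (D.tau (D.bar c)) (ψ : G → ℂ) = conj (classInner (D.tau c) (ψ' : G → ℂ)) := by
    simp only [classInner, D.tau_bar, h, Complex.conj_conj, map_mul, map_sum, map_inv₀, map_natCast]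
  rw [D.classInner_tau_irr, D.classInner_tau_irr, map_intCast] at h1
  exact_mod_cast h1.symm

open scoped Classical in
theorem Z_sub (c c' : D.Fam) (ψ : IrrCharacter G) :
    D.Z c' ψ - D.Z c ψ =
      D.eps * ((if D.theta c = ψ then 1 else 0) - (if D.theta c' = ψ then 1 else 0)) := by
  have h := congrArg (fun f => classInner f (ψ : G → ℂ)) (D.tau_sub c c')
  simp only [classInner_sub_left, classInner_smul_left, D.classInner_tau_irr] at h
  have hd : ∀ χ : IrrCharacter G,
      classInner (χ : G → ℂ) (ψ : G → ℂ) = ((if χ = ψ then 1 else 0 : ℤ) : ℂ) := by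
    intro χ
    split_ifs with he
    · rw [he, IsIrrCharacter.classInner_self ψ.2, Int.cast_one]
    · rw [IsIrrCharacter.classInner_ne χ.2 ψ.2 (fun he' => he (Subtype.ext he')), Int.cast_zero]
  rw [hd, hd] at h
  exact_mod_cast h

theorem Z_eq_of_not_range {ψ : IrrCharacter G} (h : ∀ d, D.theta d ≠ ψ) (c c' : D.Fam) :
    D.Z c ψ = D.Z c' ψ := by
  classical
  have h1 := D.Z_sub c c' ψ
  rw [if_neg (h c), if_neg (h c'), sub_self, mul_zero] at h1
  omega

open scoped Classical in
theorem Z_theta_sub (c c' c'' : D.Fam) :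
    D.Z c (D.theta c') - D.Z c (D.theta c'') =
      D.eps * ((if c = c'' then 1 else 0) - (if c = c' then 1 else 0)) := by
  have h := congrArg (classInner (D.tau c)) (D.tau_sub c' c'')
  simp only [classInner_sub_right, classInner_smul_right, D.classInner_tau, D.classInner_tau_irr,
    map_intCast, add_sub_add_left_eq_sub] at h
  have h' : ((if c = c'' then 1 else 0) - (if c = c' then 1 else 0) : ℤ) =
      D.eps * (D.Z c (D.theta c') - D.Z c (D.theta c'')) := by
    split_ifs at h ⊢ <;> exact_mod_cast h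
  rw [h', ← mul_assoc]
  rcases D.eps_eq with he | he <;> rw [he] <;> ring

open scoped Classical in
/-- The non-identity elements conjugate into the kernel. -/
noncomputable def U : Finset G :=
  Finset.univ.filter fun x => x ≠ 1 ∧ ∃ t : G, t⁻¹ * x * t ∈ D.K

theorem mem_U {x : G} : x ∈ D.U ↔ x ≠ 1 ∧ ∃ t : G, t⁻¹ * x * t ∈ D.K := by
  classical
  simp [U]

theorem tau_eq_zero_of_notMem (c : D.Fam) {x : G} (hx : x ∉ D.U) : D.tau c x = 0 := by
  refine D.tau_apply_eq_zero c fun t ht => ?_
  by_contra hne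
  exact hx (D.mem_U.mpr ⟨fun h => hne (by simp [h]), t, ht⟩)

open scoped Classical in
/-- Summing a class function over the conjugates of the kernel. -/
theorem sum_U (f : G → ℝ) (hf : ∀ x g, f (g * x * g⁻¹) = f x) :
    (Nat.card G : ℝ) *
        ∑ x ∈ Finset.univ.filter (fun x : D.M => x ∈ D.K' ∧ x ≠ 1), f (x : G) =
      (Nat.card D.M : ℝ) * ∑ y ∈ D.U, f y := by
  let A : Finset G := Finset.univ.filter fun g => g ∈ D.K ∧ g ≠ 1
  have hA : ∑ x ∈ Finset.univ.filter (fun x : D.M => x ∈ D.K' ∧ x ≠ 1), f (x : G) =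
      ∑ g ∈ A, f g :=
    Finset.sum_bij (fun (x : D.M) _ => (x : G))
      (fun x hx => by
        obtain ⟨-, h1, h2⟩ := Finset.mem_filter.mp hx
        exact Finset.mem_filter.mpr ⟨Finset.mem_univ _, h1, fun h => h2 (Subtype.ext h)⟩)
      (fun x _ y _ h => Subtype.ext h)
      (fun g hg => by
        obtain ⟨-, h1, h2⟩ := Finset.mem_filter.mp hg
        exact ⟨⟨g, D.le h1⟩, Finset.mem_filter.mpr ⟨Finset.mem_univ _, h1,
          fun h => h2 (congrArg Subtype.val h)⟩, rfl⟩)
      (fun x _ => rfl)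
  rw [hA]
  have hconj : ∀ t : G, ∑ y, (if t⁻¹ * y * t ∈ A then f y else 0) = ∑ g ∈ A, f g := by
    intro t
    rw [← Finset.sum_filter]
    refine Finset.sum_bij' (fun y _ => t⁻¹ * y * t) (fun g _ => t * g * t⁻¹) ?_ ?_ ?_ ?_ ?_
    · exact fun y hy => (Finset.mem_filter.mp hy).2
    · intro g hg
      exact Finset.mem_filter.mpr ⟨Finset.mem_univ _, by simpa [mul_assoc] using hg⟩
    · intro y _; simp [mul_assoc]
    · intro g _; simp [mul_assoc]
    · intro y _
      have := hf y t⁻¹
      rw [inv_inv] at this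
      exact this.symm
  calc (Nat.card G : ℝ) * ∑ g ∈ A, f g
      = ∑ t : G, ∑ y, (if t⁻¹ * y * t ∈ A then f y else 0) := by
        rw [Finset.sum_congr rfl fun t _ => hconj t, Finset.sum_const, Finset.card_univ,
          nsmul_eq_mul, Nat.card_eq_fintype_card]
    _ = ∑ y, ((Finset.univ.filter fun t => t⁻¹ * y * t ∈ A).card : ℝ) * f y := by
        rw [Finset.sum_comm]
        refine Finset.sum_congr rfl fun y _ => ?_
        rw [← Finset.sum_filter, Finset.sum_const, nsmul_eq_mul]
    _ = ∑ y ∈ D.U, (Nat.card D.M : ℝ) * f y := by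
        rw [U, Finset.sum_filter]
        refine Finset.sum_congr rfl fun y _ => ?_
        split_ifs with hy
        · congr 1
          obtain ⟨hy1, t₀, ht₀⟩ := hy
          norm_cast
          rw [← Fintype.card_subtype, ← Nat.card_eq_fintype_card]
          refine Nat.card_congr
            { toFun := fun t => ⟨t₀⁻¹ * t.1, ?_⟩
              invFun := fun m => ⟨t₀ * m, ?_⟩
              left_inv := fun t => Subtype.ext (by simp)
              right_inv := fun m => Subtype.ext (by simp) }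
          · obtain ⟨t, ht⟩ := t
            obtain ⟨-, ht1, ht2⟩ := Finset.mem_filter.mp ht
            by_contra hm
            refine ht2 (D.ti _ hm _ ht1 ?_)
            simpa [mul_assoc] using ht₀
          · refine Finset.mem_filter.mpr ⟨Finset.mem_univ _, ?_, fun h => hy1 ?_⟩
            · have h := D.normal.conj_mem ⟨t₀⁻¹ * y * t₀, D.le ht₀⟩ ht₀ m⁻¹
              simpa [mul_assoc, Subgroup.mem_subgroupOf] using h
            · have := congrArg (fun z => t₀ * (m : G) * z * (t₀ * (m : G))⁻¹) h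
              simpa [mul_assoc] using this
        · have h0 : (Finset.univ.filter fun t => t⁻¹ * y * t ∈ A).card = 0 := by
            rw [Finset.card_eq_zero, Finset.filter_eq_empty_iff]
            intro t _ ht
            obtain ⟨-, ht1, ht2⟩ := Finset.mem_filter.mp ht
            exact hy ⟨fun h => ht2 (by simp [h]), t, ht1⟩
          rw [h0, Nat.cast_zero, zero_mul]
    _ = _ := (Finset.mul_sum _ _ _).symm

theorem three_le_of_odd {k : ℕ} (h : Odd k) (h1 : k ≠ 1) : 3 ≤ k := by
  obtain ⟨j, rfl⟩ := h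
  omega

theorem three_le_e (hodd : Odd (Nat.card G)) (hlt : D.K ≠ D.M) : 3 ≤ D.e := by
  have ho : Odd D.e :=
    Odd.of_dvd_nat (Odd.of_dvd_nat hodd (Subgroup.card_subgroup_dvd_card D.M))
      D.K'.index_dvd_card
  refine three_le_of_odd ho fun h1 => hlt (le_antisymm D.le ?_)
  exact Subgroup.subgroupOf_eq_top.mp (Subgroup.index_eq_one.mp h1)

theorem odd_e (hodd : Odd (Nat.card G)) : Odd D.e :=
  Odd.of_dvd_nat (Odd.of_dvd_nat hodd (Subgroup.card_subgroup_dvd_card D.M))
    D.K'.index_dvd_card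

/-- The index of the derived subgroup of the kernel. -/
noncomputable def q : ℕ := D.n * D.e + 1

theorem card_kernel : Nat.card D.K' = Nat.card D.K :=
  Nat.card_congr (Subgroup.subgroupOfEquivOfLe D.le).toEquiv

section Nilpotent

variable [Group.IsNilpotent D.K]

theorem isNilpotent_kernel : Group.IsNilpotent D.K' :=
  Group.nilpotent_of_mulEquiv (Subgroup.subgroupOfEquivOfLe D.le).symm

theorem q_dvd : D.q ∣ Nat.card D.K := by
  rw [← D.card_kernel, q, D.n_mul_e_add_one]
  exact Subgroup.index_dvd_card _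

theorem one_lt_q (hne : D.K ≠ ⊥) : 1 < D.q := by
  have := D.isNilpotent_kernel
  have : Nontrivial D.K' := by
    rw [← Finite.one_lt_card_iff_nontrivial, D.card_kernel, Finite.one_lt_card_iff_nontrivial]
    exact (Subgroup.nontrivial_iff_ne_bot _).mpr hne
  rw [q, D.n_mul_e_add_one, Nat.one_lt_iff_ne_zero_and_ne_one, Ne, Ne, Subgroup.index_eq_one]
  exact ⟨Subgroup.index_ne_zero_of_finite, (IsSolvable.commutator_lt_top_of_nontrivial D.K').ne⟩

theorem two_le_n (hodd : Odd (Nat.card G)) (hne : D.K ≠ ⊥) : 2 ≤ D.n ∧ Even D.n := by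
  have h1 := D.one_lt_q hne
  have hq : Odd D.q :=
    Odd.of_dvd_nat (Odd.of_dvd_nat hodd (Subgroup.card_subgroup_dvd_card D.K)) D.q_dvd
  have hev : Even (D.n * D.e) := by
    rw [q] at hq
    exact Nat.not_odd_iff_even.mp fun h => Nat.not_even_iff_odd.mpr hq (h.add_one)
  have hn : Even D.n := (Nat.even_mul.mp hev).resolve_right
    (Nat.not_even_iff_odd.mpr (D.odd_e hodd))
  refine ⟨?_, hn⟩
  rw [q] at h1
  have : D.n ≠ 0 := fun h => by rw [h] at h1; omega
  obtain ⟨j, hj⟩ := hn
  omega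

/-- If the derived subgroup has prime index then the kernel has prime order. -/
theorem card_eq_q_of_prime (hp : D.q.Prime) : Nat.card D.K = D.q := by
  have := D.isNilpotent_kernel
  rw [q, D.n_mul_e_add_one] at hp
  rw [← D.card_kernel, q, D.n_mul_e_add_one]
  have hne : commutator D.K' ≠ ⊤ := fun h => by
    rw [h, Subgroup.index_top] at hp
    exact Nat.not_prime_one hp
  obtain ⟨x, -, hx⟩ := SetLike.exists_of_lt (lt_top_iff_ne_top.mpr hne)
  have htop : Subgroup.zpowers x = ⊤ := by
    refine frattini_nongenerating ?_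
    refine top_le_iff.mp (le_trans ?_ (sup_le_sup_left Cores.commutator_le_frattini _))
    rw [top_le_iff, ← Subgroup.index_eq_one]
    have hlt : commutator D.K' < Subgroup.zpowers x ⊔ commutator D.K' :=
      lt_of_le_of_ne le_sup_right fun h => hx (h ▸ le_sup_left (α := Subgroup D.K')
        (Subgroup.mem_zpowers x))
    rcases (Nat.dvd_prime hp).mp (Subgroup.index_dvd_of_le hlt.le) with h | h
    · exact h
    · exact absurd h (Subgroup.index_strictAnti hlt).ne
  have hcyc : IsCyclic D.K' := ⟨⟨x, fun y => (Subgroup.eq_top_iff' _).mp htop y⟩⟩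
  rw [show commutator D.K' = ⊥ by
    rw [commutator_def, Subgroup.commutator_eq_bot_iff_le_centralizer]
    exact fun a _ b _ => IsMulCommutative.is_comm.comm b a, Subgroup.index_bot]

end Nilpotent

/-! ### Two kernels of coprime order -/

theorem disjoint_U {D D' : TIDatum G} (hco : Nat.Coprime (Nat.card D.K) (Nat.card D'.K)) :
    Disjoint D.U D'.U := by
  rw [Finset.disjoint_left]
  intro x hx hx'
  obtain ⟨h1, t, ht⟩ := D.mem_U.mp hx
  obtain ⟨-, t', ht'⟩ := D'.mem_U.mp hx'
  have hord : ∀ (K : Subgroup G) (t : G), t⁻¹ * x * t ∈ K → orderOf x ∣ Nat.card K := by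
    intro K t ht
    rw [show orderOf x = orderOf (t⁻¹ * x * t) by
      simpa using (orderOf_injective (MulAut.conj t⁻¹).toMonoidHom
        (MulAut.conj t⁻¹).injective x).symm]
    exact Subgroup.orderOf_dvd_natCard K ht
  exact h1 (orderOf_eq_one_iff.mp
    (Nat.eq_one_of_dvd_coprimes hco (hord _ t ht) (hord _ t' ht')))

variable {D' : TIDatum G}

theorem classInner_tau_tau (hco : Nat.Coprime (Nat.card D.K) (Nat.card D'.K))
    (a : D.Fam) (b : D'.Fam) : classInner (D.tau a) (D'.tau b) = 0 := by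
  rw [classInner, Finset.sum_eq_zero fun x _ => ?_, mul_zero]
  by_cases hx : x ∈ D.U
  · rw [D'.tau_eq_zero_of_notMem b (Finset.disjoint_left.mp (disjoint_U hco) hx), map_zero,
      mul_zero]
  · rw [D.tau_eq_zero_of_notMem a hx, zero_mul]

theorem sum_Z_mul_Z (hco : Nat.Coprime (Nat.card D.K) (Nat.card D'.K))
    [Fintype (IrrCharacter G)] (a : D.Fam) (b : D'.Fam) : ∑ ψ, D.Z a ψ * D'.Z b ψ = 0 := by
  have h := D.classInner_tau_tau hco a b
  rw [classInner_eq_sum_irr (IsGeneralizedCharacter.isClassFunction (D.isGeneralizedCharacter_tau a))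
    (IsGeneralizedCharacter.isClassFunction (D'.isGeneralizedCharacter_tau b))] at h
  simp only [D.classInner_tau_irr, D'.classInner_tau_irr, map_intCast, ← Int.cast_mul,
    ← Int.cast_sum] at h
  exact_mod_cast h

open scoped Classical in
theorem sum_Z_sq [Fintype (IrrCharacter G)] (a : D.Fam) : ∑ ψ, D.Z a ψ ^ 2 = (D.e : ℤ) + 1 := by
  have h := D.classInner_tau a a
  rw [classInner_eq_sum_irr (IsGeneralizedCharacter.isClassFunction (D.isGeneralizedCharacter_tau a))
    (IsGeneralizedCharacter.isClassFunction (D.isGeneralizedCharacter_tau a)), if_pos rfl] at h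
  simp only [D.classInner_tau_irr, map_intCast, ← Int.cast_mul, ← Int.cast_sum] at h
  simp only [sq]
  exact_mod_cast h

theorem theta_ne_trivIrr (hn : 2 ≤ D.n) (c : D.Fam) : D.theta c ≠ trivIrr G := by
  classical
  obtain ⟨c', hc'⟩ := Fintype.exists_ne_of_one_lt_card (show 1 < Fintype.card D.Fam from hn) c
  intro h
  have h1 := D.Z_sub c c' (D.theta c)
  rw [if_pos rfl, if_neg fun he => hc' (D.theta_injective he), h, Z_trivIrr, Z_trivIrr] at h1
  rcases D.eps_eq with he | he <;> rw [he] at h1 <;> norm_num at h1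

theorem theta_ne_theta (hn : 2 ≤ D.n) (hn' : 2 ≤ D'.n)
    (hco : Nat.Coprime (Nat.card D.K) (Nat.card D'.K)) (a : D.Fam) (b : D'.Fam) :
    D.theta a ≠ D'.theta b := by
  classical
  obtain ⟨a', ha'⟩ := Fintype.exists_ne_of_one_lt_card (show 1 < Fintype.card D.Fam from hn) a
  obtain ⟨b', hb'⟩ := Fintype.exists_ne_of_one_lt_card (show 1 < Fintype.card D'.Fam from hn') b
  intro h
  have h0 : classInner (D.tau a' - D.tau a) (D'.tau b' - D'.tau b) = 0 := by
    simp only [classInner_sub_left, classInner_sub_right, D.classInner_tau_tau hco, sub_zero]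
  rw [D.tau_sub, D'.tau_sub, classInner_smul_left, classInner_smul_right, map_intCast] at h0
  have he : ∀ {E : TIDatum G}, (E.eps : ℂ) ≠ 0 := fun {E} => by
    rcases E.eps_eq with h | h <;> simp [h]
  have h1 := ((mul_eq_zero.mp h0).resolve_left he)
  have h2 := ((mul_eq_zero.mp h1).resolve_left he)
  haveI := Fintype.ofFinite (IrrCharacter G)
  have n1 : D.theta a ≠ D'.theta b' := h ▸ fun he => hb' (D'.theta_injective he).symm
  have n2 : D.theta a' ≠ D'.theta b := h ▸ fun he => ha' (D.theta_injective he)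
  simp only [classInner_sub_left, classInner_sub_right, classInner_irr, if_pos h, if_neg n1,
    if_neg n2] at h2
  split_ifs at h2 <;> norm_num at h2

theorem Z_other_const (hn : 2 ≤ D.n) (hn' : 2 ≤ D'.n)
    (hco : Nat.Coprime (Nat.card D.K) (Nat.card D'.K)) (a a' : D.Fam) (b b' : D'.Fam) :
    D.Z a (D'.theta b) = D.Z a' (D'.theta b') := by
  rw [D.Z_eq_of_not_range (fun d => D.theta_ne_theta hn hn' hco d b) a a']
  have h : classInner (D.tau a') (D'.tau b' - D'.tau b) = 0 := by
    simp only [classInner_sub_right, D.classInner_tau_tau hco, sub_zero]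
  rw [D'.tau_sub, classInner_smul_right, classInner_sub_right, D.classInner_tau_irr,
    D.classInner_tau_irr, map_intCast, mul_eq_zero] at h
  rcases h with h | h
  · rcases D'.eps_eq with he | he <;> simp [he] at h
  · exact_mod_cast sub_eq_zero.mp h

/-- Of two coprime data at least one meets the exceptional characters of the other. -/
theorem cross_ne_zero (hodd : Odd (Nat.card G)) (hn : 2 ≤ D.n) (hn' : 2 ≤ D'.n)
    (hco : Nat.Coprime (Nat.card D.K) (Nat.card D'.K)) (a : D.Fam) (b : D'.Fam)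
    (h : D.Z a (D'.theta b) = 0) : D'.Z b (D.theta a) ≠ 0 := by
  classical
  haveI := Fintype.ofFinite (IrrCharacter G)
  intro h'
  have hzero : ∀ (x : D.Fam) (y : D'.Fam) (ψ : IrrCharacter G),
      ((∃ d, D.theta d = ψ) ∨ ∃ d, D'.theta d = ψ) → D.Z x ψ * D'.Z y ψ = 0 := by
    rintro x y ψ (⟨d, rfl⟩ | ⟨d, rfl⟩)
    · rw [D'.Z_other_const hn' hn hco.symm y b d a, h', mul_zero]
    · rw [D.Z_other_const hn hn' hco x a d b, h, zero_mul]
  let cj : IrrCharacter G → IrrCharacter G := fun ψ => ⟨_, IsIrrCharacter.conjugate ψ.2⟩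
  have hcj : ∀ ψ, D.Z a (cj ψ) * D'.Z b (cj ψ) = D.Z a ψ * D'.Z b ψ := by
    intro ψ
    rw [D.Z_bar a ψ (cj ψ) fun g => rfl, D'.Z_bar b ψ (cj ψ) fun g => rfl]
    by_cases hr : (∃ d, D.theta d = ψ) ∨ ∃ d, D'.theta d = ψ
    · rw [hzero _ _ ψ hr, hzero _ _ ψ hr]
    · simp only [not_or, not_exists] at hr
      rw [D.Z_eq_of_not_range hr.1 (D.bar a) a, D'.Z_eq_of_not_range hr.2 (D'.bar b) b]
  have hsum := D.sum_Z_mul_Z hco a b
  rw [← Finset.add_sum_erase Finset.univ _ (Finset.mem_univ (trivIrr G)), Z_trivIrr, Z_trivIrr,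
    one_mul] at hsum
  have hev : ∑ ψ ∈ Finset.univ.erase (trivIrr G), ((D.Z a ψ * D'.Z b ψ : ℤ) : ZMod 2) = 0 := by
    refine Finset.sum_involution (fun ψ _ => cj ψ) (fun ψ _ => ?_) (fun ψ hψ _ he => ?_)
      (fun ψ hψ => ?_) (fun ψ _ => Subtype.ext (funext fun g => Complex.conj_conj _))
    · rw [hcj]
      exact CharTwo.add_self_eq_zero _
    · exact Finset.ne_of_mem_erase hψ (eq_trivIrr_of_real hodd ψ
        fun g => congrFun (congrArg Subtype.val he) g)
    · refine Finset.mem_erase.mpr ⟨fun he => Finset.ne_of_mem_erase hψ ?_, Finset.mem_univ _⟩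
      refine Subtype.ext (funext fun g => ?_)
      have := congrArg conj (congrFun (congrArg Subtype.val he) g)
      simpa [cj, trivIrr] using this
  have := congrArg (fun z : ℤ => (z : ZMod 2)) hsum
  simp only [Int.cast_add, Int.cast_one, Int.cast_sum, Int.cast_zero, hev, add_zero] at this
  exact one_ne_zero this

end TIDatum

end Cfsg.Agent.Lib.Characters
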