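import Cfsg.Agent.Lib.Characters.ExtensionCoprime
import Cfsg.Agent.Lib.Characters.Kernel
import Cfsg.Agent.Lib.Characters.Clifford
import Cfsg.Agent.Lib.Coprime.Basic
import Cfsg.Prelude.Def_Blocks
import Cfsg.Agent.Lib.Transfer.PFrattini

/-!
Characters of degree prime to `p`: invariant characters under a `p`-group and kernels.
-/

set_option autoImplicit false
set_option linter.unusedSectionVars false
set_option linter.style.haveILetI false

namespace Cfsg.Agent.Lib.Characters

open scoped ComplexConjugate ComplexOrder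

universe u

variable {G : Type u} [Group G] {p : ℕ} [hp : Fact p.Prime]

theorem charDegree_eq_of_apply_one {χ : G → ℂ} {n : ℕ} (h : χ 1 = n) : Cfsg.charDegree χ = n := by
  simp [Cfsg.charDegree, h]

theorem isIntegral_natCast_complex (n : ℕ) : IsIntegral ℤ (n : ℂ) := by
  have h := isIntegral_algebraMap (R := ℤ) (A := ℂ) (x := (n : ℤ))
  simpa using h

theorem dvd_of_eq_prime_mul {a : ℕ} {z : ℂ} (hz : IsIntegral ℤ z) (h : (a : ℂ) = (p : ℂ) * z) : p ∣ a := by
  refine dvd_of_isIntegral_div hp.out.ne_zero ?_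
  rw [h, mul_div_cancel_left₀ z (Nat.cast_ne_zero.mpr hp.out.ne_zero)]
  exact hz

/-- An invariant sum without fixed points is a multiple of `p`. -/
theorem exists_sum_eq_prime_mul {P : Type*} [Group P] (hP : IsPGroup p P) {α : Type*} [MulAction P α]
    [Fintype α] (f : α → ℂ) (hf : ∀ (g : P) a, f (g • a) = f a) (hint : ∀ a, IsIntegral ℤ (f a))
    (hfix : ∀ a, (∀ g : P, g • a = a) → f a = 0) :
    ∃ z : ℂ, IsIntegral ℤ z ∧ ∑ a, f a = (p : ℂ) * z := by
  classical
  let φ : α → MulAction.orbitRel.Quotient P α := fun a => Quotient.mk'' a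
  haveI : Finite (MulAction.orbitRel.Quotient P α) := Finite.of_surjective φ Quotient.mk''_surjective
  haveI := Fintype.ofFinite (MulAction.orbitRel.Quotient P α)
  have key : ∀ ω, ∃ z : ℂ, IsIntegral ℤ z ∧ ∑ a ∈ Finset.univ.filter (fun a => φ a = ω), f a = (p : ℂ) * z := by
    intro ω
    obtain ⟨a, rfl⟩ := Quotient.mk''_surjective ω
    have hset : Finset.univ.filter (fun b => φ b = Quotient.mk'' a) = (MulAction.orbit P a).toFinset := by
      ext b
      simp [φ, Quotient.eq'', MulAction.orbitRel_apply]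
    obtain ⟨n, hn⟩ := hP.card_orbit a
    have hconst : ∀ b ∈ (MulAction.orbit P a).toFinset, f b = f a := by
      intro b hb
      obtain ⟨g, rfl⟩ := Set.mem_toFinset.mp hb
      exact hf g a
    rw [hset, Finset.sum_congr rfl hconst, Finset.sum_const, nsmul_eq_mul,
      Set.toFinset_card, ← Nat.card_eq_fintype_card, hn]
    rcases n with _ | n
    · refine ⟨0, isIntegral_zero, ?_⟩
      rw [hfix a fun g => ?_, mul_zero, mul_zero]
      have : Subsingleton (MulAction.orbit P a) :=
        (Nat.card_eq_one_iff_unique.mp (hn.trans (pow_zero p))).1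
      exact congrArg Subtype.val
        (this.elim ⟨g • a, MulAction.mem_orbit a g⟩ ⟨a, MulAction.mem_orbit_self a⟩)
    · exact ⟨((p ^ n : ℕ) : ℂ) * f a, (isIntegral_natCast_complex _).mul (hint a), by push_cast; ring⟩
  choose z hz hsum using key
  refine ⟨∑ ω, z ω, IsIntegral.sum _ fun ω _ => hz ω, ?_⟩
  rw [← Finset.sum_fiberwise (g := φ), Finset.mul_sum]
  exact Finset.sum_congr rfl fun ω _ => hsum ω

variable (R : Subgroup G) [hRn : R.Normal] {P : Subgroup G}

/-- Only the trivial irreducible character is invariant under a fixed-point-free coprime `p`-group. -/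
theorem eq_one_of_invariant_of_centralizer_eq_bot [Finite G] (hP : IsPGroup p P)
    (hR : (Nat.card R).Coprime p) (hC : R ⊓ Subgroup.centralizer (P : Set G) = ⊥) {θ : R → ℂ}
    (hθ : IsIrrCharacter R θ) (hinv : ∀ g ∈ P, conjFun R g θ = θ) : θ = fun _ => 1 := by
  classical
  haveI := Fintype.ofFinite R
  by_contra hne
  have h0 : ∑ x : R, θ x = 0 := by
    have := IsIrrCharacter.classInner_ne hθ isIrrCharacter_one hne
    simpa [classInner] using this
  letI : MulAction P R := MulAction.compHom R ((MulAut.conjNormal (H := R)).comp P.subtype)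
  have hsmul : ∀ (g : P) (x : R), g • x = (MulAut.conjNormal (H := R) (g : G)) x := fun _ _ => rfl
  obtain ⟨z, hz, hsum⟩ := exists_sum_eq_prime_mul hP (fun x : R => if x = 1 then 0 else θ x)
    (fun g x => by
      have h1 : g • x = 1 ↔ x = 1 := by rw [hsmul, map_eq_one_iff _ (MulEquiv.injective _)]
      simp only [h1]
      split_ifs
      · rfl
      · exact congrFun (hinv g g.2) x)
    (fun x => by
      split_ifs
      · exact isIntegral_zero
      · exact IsCharacter.isIntegral (IsIrrCharacter.isCharacter hθ) x)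
    (fun x hx => by
      rw [if_pos]
      have : (x : G) ∈ R ⊓ Subgroup.centralizer (P : Set G) := by
        refine ⟨x.2, Subgroup.mem_centralizer_iff.mpr fun g hg => ?_⟩
        have h2 := congrArg Subtype.val (hx ⟨g, hg⟩)
        rw [hsmul, MulAut.conjNormal_apply] at h2
        exact mul_inv_eq_iff_eq_mul.mp h2
      rw [hC, Subgroup.mem_bot] at this
      exact Subtype.ext this)
  obtain ⟨d, -, hd, hdvd⟩ := IsIrrCharacter.exists_degree_dvd hθ
  have h2 : ∑ x : R, θ x = θ 1 + ∑ x : R, (if x = 1 then 0 else θ x) := by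
    rw [← Finset.add_sum_erase Finset.univ θ (Finset.mem_univ 1),
      ← Finset.add_sum_erase Finset.univ (fun x => if x = 1 then 0 else θ x) (Finset.mem_univ 1)]
    simp only [if_true, zero_add]
    congr 1
    exact Finset.sum_congr rfl fun x hx => by rw [if_neg (Finset.ne_of_mem_erase hx)]
  rw [h2, hsum, hd] at h0
  have hpd : p ∣ d := dvd_of_eq_prime_mul (z := -z) hz.neg (by linear_combination h0)
  exact hp.out.not_dvd_one (hR ▸ Nat.dvd_gcd (hpd.trans hdvd) dvd_rfl)

/-- A fixed point gives a nontrivial invariant irreducible character. -/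
theorem exists_invariant_ne_one [Finite G] (hP : IsPGroup p P)
    (hC : R ⊓ Subgroup.centralizer (P : Set G) ≠ ⊥) :
    ∃ θ : R → ℂ, IsIrrCharacter R θ ∧ θ ≠ (fun _ => 1) ∧ ∀ g ∈ P, conjFun R g θ = θ := by
  classical
  obtain ⟨⟨c, hcR, hcC⟩, hc1⟩ := Subgroup.ne_bot_iff_exists_ne_one.mp hC
  by_contra hno
  push Not at hno
  haveI := Fintype.ofFinite (IrrCharacter R)
  letI : MulAction P (IrrCharacter R) :=
    { smul := fun g θ => ⟨conjFun R (g : G)⁻¹ (θ : R → ℂ), IsIrrCharacter.conjFun R θ.2 _⟩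
      one_smul := fun θ => Subtype.ext (by
        show conjFun R ((1 : P) : G)⁻¹ (θ : R → ℂ) = θ
        rw [Subgroup.coe_one, inv_one, conjFun_one])
      mul_smul := fun g h θ => Subtype.ext (by
        show conjFun R ((g * h : P) : G)⁻¹ (θ : R → ℂ) =
          conjFun R (g : G)⁻¹ (conjFun R (h : G)⁻¹ (θ : R → ℂ))
        rw [Subgroup.coe_mul, mul_inv_rev, conjFun_mul]) }
  have hsmul : ∀ (g : P) (θ : IrrCharacter R),
      ((g • θ : IrrCharacter R) : R → ℂ) = conjFun R (g : G)⁻¹ (θ : R → ℂ) := fun _ _ => rfl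
  set c' : R := ⟨c, hcR⟩ with hc'
  have hconj1 : ∀ g : G, conjFun R g (fun _ => (1 : ℂ)) = fun _ => 1 := fun g => rfl
  obtain ⟨z, hz, hsum⟩ := exists_sum_eq_prime_mul hP
    (fun θ : IrrCharacter R => if (θ : R → ℂ) = (fun _ => 1) then 0 else (θ : R → ℂ) 1 * (θ : R → ℂ) c')
    (fun g θ => by
      have h1 : ((g • θ : IrrCharacter R) : R → ℂ) = (fun _ => 1) ↔ (θ : R → ℂ) = fun _ => 1 := by
        rw [hsmul]
        constructor
        · intro h
          rw [← conjFun_inv_cancel R (g : G)⁻¹ (θ : R → ℂ), h, hconj1]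
        · intro h
          rw [h, hconj1]
      simp only [h1]
      split_ifs
      · rfl
      · rw [hsmul, conjFun_apply_one]
        congr 1
        refine congrArg (θ : R → ℂ) (Subtype.ext ?_)
        show (g : G)⁻¹ * c * (g : G)⁻¹⁻¹ = c
        rw [inv_inv, mul_assoc, ← Subgroup.mem_centralizer_iff.mp hcC g g.2, inv_mul_cancel_left])
    (fun θ => by
      split_ifs
      · exact isIntegral_zero
      · exact (IsCharacter.isIntegral (IsIrrCharacter.isCharacter θ.2) _).mul
          (IsCharacter.isIntegral (IsIrrCharacter.isCharacter θ.2) _))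
    (fun θ hθ => by
      rw [if_pos]
      by_contra hne
      obtain ⟨g, hg, hgne⟩ := hno θ θ.2 hne
      have := congrArg Subtype.val (hθ ⟨g⁻¹, inv_mem hg⟩)
      rw [hsmul] at this
      simp only [inv_inv] at this
      exact hgne this)
  have h0 := sum_degree_mul (G := R) c'
  have hc'1 : c' ≠ 1 := fun h => hc1 (Subtype.ext (congrArg Subtype.val h :))
  rw [if_neg hc'1] at h0
  set o : IrrCharacter R := ⟨fun _ => 1, isIrrCharacter_one⟩ with ho
  have h2 : ∑ θ : IrrCharacter R, (θ : R → ℂ) 1 * (θ : R → ℂ) c' = 1 + ∑ θ : IrrCharacter R,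
      (if (θ : R → ℂ) = (fun _ => 1) then 0 else (θ : R → ℂ) 1 * (θ : R → ℂ) c') := by
    rw [← Finset.add_sum_erase Finset.univ (fun θ : IrrCharacter R => (θ : R → ℂ) 1 * (θ : R → ℂ) c')
        (Finset.mem_univ o),
      ← Finset.add_sum_erase Finset.univ (fun θ : IrrCharacter R =>
        if (θ : R → ℂ) = (fun _ => 1) then 0 else (θ : R → ℂ) 1 * (θ : R → ℂ) c') (Finset.mem_univ o)]
    simp only [ho, if_true, zero_add, one_mul]
    congr 1
    refine Finset.sum_congr rfl fun θ hθ => ?_
    rw [if_neg fun h => Finset.ne_of_mem_erase hθ (Subtype.ext h)]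
  rw [h2, hsum] at h0
  exact hp.out.not_dvd_one (dvd_of_eq_prime_mul (z := -z) hz.neg (by push_cast; linear_combination h0))

/-- A character of degree prime to `p` has a constituent of degree prime to `p`. -/
theorem exists_constituent_not_dvd [Fintype G] {φ : G → ℂ} (hφ : IsCharacter G φ) {d : ℕ} (hd : φ 1 = d)
    (hpd : ¬ p ∣ d) : ∃ χ : IrrCharacter G, classInner φ (χ : G → ℂ) ≠ 0 ∧
      ¬ p ∣ Cfsg.charDegree (χ : G → ℂ) := by
  classical
  haveI := Fintype.ofFinite (IrrCharacter G)
  obtain ⟨m, hm, hmi⟩ := IsCharacter.exists_nat_decomp hφ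
  by_contra h
  push Not at h
  refine hpd ?_
  have hdeg : ∀ χ : IrrCharacter G, (χ : G → ℂ) 1 = (Cfsg.charDegree (χ : G → ℂ) : ℂ) := fun χ => by
    obtain ⟨n, -, hn⟩ := IsIrrCharacter.exists_apply_one χ.2
    rw [charDegree_eq_of_apply_one hn, hn]
  have hsum : (d : ℂ) = ((∑ χ : IrrCharacter G, m χ * Cfsg.charDegree (χ : G → ℂ) : ℕ) : ℂ) := by
    rw [← hd, hm]
    push_cast
    simp [hdeg]
  rw [Nat.cast_inj] at hsum
  rw [hsum]
  refine Finset.dvd_sum fun χ _ => ?_
  by_cases h0 : m χ = 0
  · simp [h0]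
  · exact Dvd.dvd.mul_left (h χ (by rw [hmi]; exact_mod_cast h0)) _

/-- Constituents inherit the kernel. -/
theorem apply_eq_of_classInner_ne_zero [Fintype G] {χ η : G → ℂ} (hχ : IsCharacter G χ)
    (hη : IsIrrCharacter G η) (h : classInner χ η ≠ 0) {g : G} (hg : χ g = χ 1) : η g = η 1 := by
  obtain ⟨ψ, hψ, rfl⟩ := IsCharacter.exists_add_of_classInner_ne_zero hχ hη h
  obtain ⟨n, -, hn⟩ := IsIrrCharacter.exists_apply_one hη
  have h1 := IsCharacter.norm_le_re (IsIrrCharacter.isCharacter hη) g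
  have h2 := IsCharacter.norm_le_re hψ g
  have h3 := (Complex.re_le_norm (ψ g))
  have h4 : (η g).re + (ψ g).re = (η 1).re + (ψ 1).re := by
    rw [← Complex.add_re, ← Complex.add_re]
    exact congrArg Complex.re hg
  have h5 : (η g).re = ‖η g‖ := le_antisymm (Complex.re_le_norm _) (by linarith)
  have h6 : (η g).re = (η 1).re := le_antisymm (by linarith) (by linarith)
  have h7 : 0 ≤ η g := Complex.re_eq_norm.mp h5
  refine Complex.ext h6 ?_
  rw [hn, ← (Complex.le_def.mp h7).2]
  simp

/-- An invariant irreducible character of a normal `p'`-subgroup extends to the product with a `p`-group. -/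
theorem exists_extension_sup [Finite G] (hP : IsPGroup p P) (hR : (Nat.card R).Coprime p)
    {θ : R → ℂ} (hθ : IsIrrCharacter R θ) (hinv : ∀ g ∈ P, conjFun R g θ = θ) :
    ∃ η : ↥(R ⊔ P) → ℂ, IsIrrCharacter ↥(R ⊔ P) η ∧
      ∀ r : R, η ⟨r, Subgroup.mem_sup_left r.2⟩ = θ r := by
  classical
  set X := R ⊔ P with hX
  set R' := R.subgroupOf X with hR'
  have hle : R ≤ X := le_sup_left
  set e : R' ≃* R := Subgroup.subgroupOfEquivOfLe hle with he
  set θ' : R' → ℂ := θ ∘ e with hθ'
  have hθ'i : IsIrrCharacter R' θ' := IsIrrCharacter.comp_equiv hθ e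
  have hXI : X ≤ inertia R θ := sup_le
    (le_inertia R (IsCharacter.isClassFunction (IsIrrCharacter.isCharacter hθ))) fun g hg => hinv g hg
  have hinv' : ∀ (g : X) (n : R'), θ' ⟨g * n * g⁻¹, (inferInstance : R'.Normal).conj_mem (n : X) n.2 g⟩ = θ' n :=
    fun g n => congrFun ((mem_inertia_iff R).mp (hXI g.2)) (e n)
  have hcardR : Nat.card R' = Nat.card R := Nat.card_congr e.toEquiv
  have hidx : R'.index.Coprime (Nat.card R') := by
    obtain ⟨k, hk⟩ := IsPGroup.iff_card.mp hP
    have h1 : R'.index = R.relIndex P := by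
      rw [hR', ← Subgroup.relIndex, hX, sup_comm, Subgroup.relIndex_sup_right]
    rw [hcardR, h1]
    refine Nat.Coprime.coprime_dvd_left (Subgroup.relIndex_dvd_card R P) ?_
    rw [hk]
    exact (hR.symm).pow_left k
  obtain ⟨hdc, hd1⟩ := isCharacter_detChar (IsIrrCharacter.isCharacter hθ'i)
  obtain ⟨lam, hlam⟩ := IsCharacter.exists_hom_of_apply_one hdc hd1
  have hord : orderOf (detChar θ') ∣ Nat.card R' := by
    refine orderOf_dvd_of_pow_eq_one (funext fun x => ?_)
    rw [Pi.pow_apply, hlam, ← Units.val_pow_eq_pow_val, ← map_pow, pow_card_eq_one', map_one,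
      Units.val_one, Pi.one_apply]
  obtain ⟨μ, ⟨hμ, hμ1, hμN, -⟩, -⟩ := exists_linear_extension_coprime (N := R') hdc hd1
    (fun g n => by
      have hcomp : θ' ∘ (MulAut.conjNormal g : MulAut R').toMonoidHom = θ' :=
        funext fun m => by
          rw [← hinv' g m]
          exact congrArg θ' (Subtype.ext (MulAut.conjNormal_apply g m))
      have h := congrFun (detChar_comp (MulAut.conjNormal g : MulAut R').toMonoidHom
        (IsIrrCharacter.isCharacter hθ'i)) n
      rw [hcomp] at h
      refine Eq.trans ?_ h.symm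
      exact congrArg (detChar θ') (Subtype.ext (MulAut.conjNormal_apply g n).symm))
    (hidx.coprime_dvd_right hord)
  obtain ⟨d, -, hd, hdvd⟩ := IsIrrCharacter.exists_degree_dvd hθ'i
  obtain ⟨η, hη, hres⟩ := exists_irr_extension_of_det (N := R') hθ'i hinv' hd
    (hidx.coprime_dvd_right hdvd) hμ hμ1 hμN
  exact ⟨η, hη, fun r => hres ⟨⟨r, hle r.2⟩, r.2⟩⟩

end Cfsg.Agent.Lib.Characters
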