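import Cfsg.Agent.Lib.Characters.BlichfeldtReduce
import Cfsg.Agent.Lib.Cores.PCore
import Cfsg.Agent.Lib.Blocks.PSolvable
import Cfsg.Agent.Lib.Coprime.Action
import Cfsg.Prelude.Def_Local

/-!
# Faithful characters of degree less than `p` of `p`-solvable groups (Ito)
-/

namespace Cfsg.Agent.Lib.Characters

set_option linter.unusedSectionVars false
set_option linter.unusedSimpArgs false
set_option linter.unusedFintypeInType false
set_option linter.style.haveILetI false

universe u

variable {G : Type u} [Group G]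

/-- Quotients of `p`-solvable groups are `p`-solvable. -/
theorem isPSolvable_quotient_of [Finite G] {p : ℕ} [hp : Fact p.Prime] (N : Subgroup G) [N.Normal]
    (h : Cfsg.IsPSolvable p G) : Cfsg.IsPSolvable p (G ⧸ N) := by
  obtain ⟨n, H, h0, h1, hm, hn, hf⟩ := h
  refine ⟨n, fun i => (H i).map (QuotientGroup.mk' N), by simp only [h0, Subgroup.map_bot], by
      simp only [h1, Subgroup.map_top_of_surjective _ (QuotientGroup.mk'_surjective N)],
    fun i j hij => Subgroup.map_mono (hm hij),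
    fun i => (hn i).map _ (QuotientGroup.mk'_surjective N), fun i => ?_⟩
  have hd : ((H i.castSucc).map (QuotientGroup.mk' N)).relIndex
      ((H i.succ).map (QuotientGroup.mk' N)) ∣ (H i.castSucc).relIndex (H i.succ) := by
    rw [Subgroup.relIndex_map_map, QuotientGroup.ker_mk']
    have := hn i.castSucc
    have hsn : (H i.castSucc ⊔ N).Normal := Subgroup.sup_normal _ _
    have e : H i.succ ⊔ N = H i.succ ⊔ (H i.castSucc ⊔ N) := by
      rw [← sup_assoc, sup_eq_left.mpr (hm (Fin.castSucc_lt_succ).le : H i.castSucc ≤ H i.succ)]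
    rw [e, Subgroup.relIndex_sup_right]
    exact Subgroup.relIndex_dvd_of_le_left _ le_sup_left
  rcases hf i with ⟨m, hm'⟩ | hcop
  · obtain ⟨m', -, hm''⟩ := (Nat.dvd_prime_pow hp.out).1 (hm' ▸ hd)
    exact Or.inl ⟨m', hm''⟩
  · exact Or.inr (hcop.coprime_dvd_left hd)

/-- If `p`-solvable `G` has an abelian Sylow subgroup that is not normal, then that Sylow subgroup
does not centralise `O_{p'}(G)`. -/
theorem exists_not_commute_pPrimeCore [Finite G] {p : ℕ} [hp : Fact p.Prime]
    (hG : Cfsg.IsPSolvable p G) (P : Sylow p G)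
    (hc : ∀ x ∈ (P : Subgroup G), ∀ y ∈ (P : Subgroup G), x * y = y * x)
    (hP : ¬ (P : Subgroup G).Normal) :
    ∃ x ∈ (P : Subgroup G), ∃ k ∈ Cfsg.pPrimeCore p G, k * x ≠ x * k := by
  by_contra hcon
  push Not at hcon
  set K := Cfsg.pPrimeCore p G with hK
  let f := QuotientGroup.mk' K
  have hf : Function.Surjective f := QuotientGroup.mk'_surjective K
  let Pb : Sylow p (G ⧸ K) := P.mapSurjective hf
  have hPb : (Pb : Subgroup (G ⧸ K)) = (P : Subgroup G).map f := rfl
  have hle : (Pb : Subgroup (G ⧸ K)) ≤ Cfsg.pCore p (G ⧸ K) := by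
    refine le_trans (fun a ha => Subgroup.mem_centralizer_iff.mpr fun b hb => ?_)
      (Cfsg.Agent.Lib.Blocks.centralizer_pCore_le_of_isPSolvable p (isPSolvable_quotient_of K hG)
        (Cfsg.Agent.Lib.Cores.pPrimeCore_quotient_pPrimeCore p G))
    have hb' : b ∈ (Pb : Subgroup (G ⧸ K)) := Cfsg.Agent.Lib.Cores.pCore_le_sylow Pb hb
    rw [hPb] at ha hb'
    obtain ⟨x, hx, rfl⟩ := ha
    obtain ⟨y, hy, rfl⟩ := hb'
    rw [← map_mul, ← map_mul, hc y hy x hx]
  have hPbn : (Pb : Subgroup (G ⧸ K)).Normal := by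
    rw [le_antisymm hle (Cfsg.Agent.Lib.Cores.pCore_le_sylow Pb)]
    infer_instance
  refine hP ⟨fun x hx g => ?_⟩
  have hgx : f (g * x * g⁻¹) ∈ (Pb : Subgroup (G ⧸ K)) := by
    rw [map_mul, map_mul, map_inv]
    exact hPbn.conj_mem _ (by rw [hPb]; exact Subgroup.mem_map_of_mem f hx) _
  rw [hPb] at hgx
  obtain ⟨y, hy, hyg⟩ := hgx
  have hk : y⁻¹ * (g * x * g⁻¹) ∈ K := QuotientGroup.eq.mp hyg
  set k := y⁻¹ * (g * x * g⁻¹) with hkdef
  obtain ⟨j, hj⟩ := IsPGroup.iff_orderOf.mp P.2 ⟨x, hx⟩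
  obtain ⟨l, hl⟩ := IsPGroup.iff_orderOf.mp P.2 ⟨y, hy⟩
  rw [← Subgroup.orderOf_coe] at hj hl
  have hpow : k ^ (p ^ j * p ^ l) = 1 := by
    have hcomm : Commute y⁻¹ (g * x * g⁻¹) := by
      have h1 : Commute y⁻¹ k := (show Commute k y⁻¹ from hcon _ ((P : Subgroup G).inv_mem hy) k hk).symm
      have := (Commute.refl y⁻¹).inv_right.mul_right h1
      simpa [hkdef] using this
    rw [hkdef, hcomm.mul_pow, inv_pow, conj_pow]
    have e1 : y ^ (p ^ j * p ^ l) = 1 := by
      rw [mul_comm, pow_mul, ← hl, pow_orderOf_eq_one, one_pow]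
    have e2 : x ^ (p ^ j * p ^ l) = 1 := by rw [pow_mul, ← hj, pow_orderOf_eq_one, one_pow]
    rw [e1, e2]
    group
  have hk1 : k = 1 := by
    refine orderOf_eq_one_iff.mp (Nat.eq_one_of_dvd_coprimes ?_
      (Subgroup.orderOf_dvd_natCard K hk) (orderOf_dvd_of_pow_eq_one hpow))
    rw [← pow_add]
    exact Nat.Coprime.pow_right _ (Cfsg.Agent.Lib.Cores.pPrimeCore_coprime p G)
  rw [hkdef, inv_mul_eq_one] at hk1
  exact hk1 ▸ hy

/-- An element centralising an invariant Sylow subgroup for every prime centralises the group. -/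
theorem exists_invariant_sylow_not_commute [Finite G] (x : G) (K : Subgroup G) [K.Normal]
    (hcop : (orderOf x).Coprime (Nat.card K)) (h : ∃ k ∈ K, k * x ≠ x * k) :
    ∃ (q : ℕ) (Q : Subgroup G), q.Prime ∧ IsPGroup q Q ∧ Q ≤ K ∧
      x ∈ Subgroup.normalizer (Q : Set G) ∧ ∃ k ∈ Q, k * x ≠ x * k := by
  by_contra hcon
  push Not at hcon
  obtain ⟨k, hk, hkx⟩ := h
  set C := K ⊓ Subgroup.centralizer ({x} : Set G) with hC
  have hdvd : Nat.card K ∣ Nat.card C := by
    refine (Nat.factorization_le_iff_dvd Nat.card_pos.ne' Nat.card_pos.ne').mp fun q => ?_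
    by_cases hq : q.Prime
    swap
    · simp [Nat.factorization_eq_zero_of_not_prime _ hq]
    haveI : Fact q.Prime := ⟨hq⟩
    haveI : IsMulCommutative (Subgroup.zpowers x) := inferInstance
    obtain ⟨S, hS⟩ := Cfsg.Agent.Lib.Coprime.exists_invariant_sylow
      (A := Subgroup.zpowers x) (K := K)
      (by rw [Subgroup.normalizer_eq_top]; exact le_top) (by rw [Nat.card_zpowers]; exact hcop)
      (Or.inl inferInstance) q
    have hle : (S : Subgroup K).map K.subtype ≤ C := fun y hy => ⟨Subgroup.map_subtype_le _ hy,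
      Subgroup.mem_centralizer_singleton_iff.mpr (hcon q _ hq (S.2.map _)
        (Subgroup.map_subtype_le _) (hS (Subgroup.mem_zpowers x)) y hy)⟩
    have h1 : q ^ (Nat.card K).factorization q ∣ Nat.card C := by
      refine dvd_trans (dvd_of_eq ?_) (Subgroup.card_dvd_of_le hle)
      rw [Subgroup.card_map_of_injective K.subtype_injective, S.card_eq_multiplicity]
    exact (hq.pow_dvd_iff_le_factorization Nat.card_pos.ne').mp h1
  have : C = K := Subgroup.eq_of_le_of_card_ge inf_le_left (Nat.le_of_dvd Nat.card_pos hdvd)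
  rw [← this] at hk
  exact hkx (Subgroup.mem_centralizer_singleton_iff.mp hk.2)

/-- **Ito**: a `p`-solvable group with a faithful character of degree less than `p` and a
non-normal Sylow subgroup has degree `p - 1`, a power of two, and the character is irreducible. -/
theorem small_degree_structure [Finite G] {p : ℕ} [hp : Fact p.Prime]
    (hG : Cfsg.IsPSolvable p G) (P : Sylow p G) (hP : ¬ (P : Subgroup G).Normal) {n : ℕ}
    (ρ : Representation ℂ G (Fin n → ℂ)) (hρ : Function.Injective ρ) (hn : n + 1 ≤ p) :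
    n + 1 = p ∧ (∃ k : ℕ, n = 2 ^ k) ∧ IsIrrCharacter G ρ.character := by
  classical
  have hp' : p.Prime := Fact.out
  have hc : ∀ x ∈ (P : Subgroup G), ∀ y ∈ (P : Subgroup G), x * y = y * x := by
    intro x hx y hy
    let σ : Representation ℂ (P : Subgroup G) (Fin n → ℂ) := ρ.comp (P : Subgroup G).subtype
    have := Cfsg.Agent.S0185.result σ (hρ.comp (P : Subgroup G).subtype_injective)
      (fun q hq hqd => by
        obtain ⟨k, hk⟩ := IsPGroup.iff_card.mp P.2
        rw [hk] at hqd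
        rw [(Nat.prime_dvd_prime_iff_eq hq hp').mp (hq.dvd_of_dvd_pow hqd),
          Module.finrank_fin_fun]
        omega) ⟨x, hx⟩ ⟨y, hy⟩
    exact congrArg Subtype.val this
  set K := Cfsg.pPrimeCore p G with hK
  have hKp : (Nat.card K).Coprime p := Cfsg.Agent.Lib.Cores.pPrimeCore_coprime p G
  -- an element of least order not centralising `K`
  have hex : ∃ m, ∃ x ∈ (P : Subgroup G), orderOf x = m ∧ ∃ k ∈ K, k * x ≠ x * k := by
    obtain ⟨x, hx, h⟩ := exists_not_commute_pPrimeCore hG P hc hP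
    exact ⟨_, x, hx, rfl, h⟩
  obtain ⟨x, hx, hxm, k, hk, hkx⟩ := Nat.find_spec hex
  obtain ⟨a, ha⟩ := IsPGroup.iff_orderOf.mp P.2 ⟨x, hx⟩
  rw [← Subgroup.orderOf_coe] at ha
  replace ha : orderOf x = p ^ a := ha
  have ha0 : a ≠ 0 := fun h => hkx (by
    rw [orderOf_eq_one_iff.mp (show orderOf x = 1 by rw [ha, h, pow_zero]), mul_one, one_mul])
  have hxpK : ∀ k ∈ K, k * x ^ p = x ^ p * k := by
    by_contra hcon
    push Not at hcon
    have hlt : orderOf (x ^ p) < Nat.find hex := by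
      rw [← hxm, orderOf_pow' x hp'.ne_zero, ha, Nat.gcd_eq_right (dvd_pow_self p ha0)]
      exact Nat.div_lt_self (pow_pos hp'.pos a) hp'.one_lt
    exact Nat.find_min hex hlt ⟨x ^ p, (P : Subgroup G).pow_mem hx p, rfl, hcon⟩
  obtain ⟨q, Q, hq, hQq, hQK, hxQ, k0, hk0, hk0x⟩ :=
    exists_invariant_sylow_not_commute x K
      (by rw [ha]; exact (Nat.Coprime.pow_right a hKp).symm) ⟨k, hk, hkx⟩
  -- the subgroup `Q⟨x⟩`
  set H : Subgroup G := Subgroup.zpowers x ⊔ Q with hHdef
  have hxH : x ∈ H := Subgroup.mem_sup_left (Subgroup.mem_zpowers x)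
  have hQH : Q ≤ H := le_sup_right
  have hHn : H ≤ Subgroup.normalizer (Q : Set G) :=
    sup_le (Subgroup.zpowers_le.mpr hxQ) Subgroup.le_normalizer
  haveI hQ'n : (Q.subgroupOf H).Normal := Subgroup.normal_subgroupOf_of_le_normalizer hHn
  set x' : H := ⟨x, hxH⟩ with hx'
  have hQ'card : Nat.card (Q.subgroupOf H) = Nat.card Q :=
    Nat.card_congr (Subgroup.subgroupOfEquivOfLe hQH).toEquiv
  have hQcop : (Nat.card Q).Coprime p := hKp.coprime_dvd_left (Subgroup.card_dvd_of_le hQK)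
  have hordx : orderOf x' = p ^ a := by rw [← ha, ← Subgroup.orderOf_coe]
  have hgenH : ∀ g : H, ∃ i : ℕ, ∃ c ∈ Q.subgroupOf H, g = x' ^ i * c := by
    intro g
    have hg : (g : G) ∈ Subgroup.zpowers x ⊔ Q := g.2
    rw [← SetLike.mem_coe, Subgroup.coe_mul_of_left_le_normalizer_right _ _
      (Subgroup.zpowers_le.mpr hxQ)] at hg
    obtain ⟨y, hy, c, hc', hyc⟩ := hg
    obtain ⟨i, rfl⟩ := (isOfFinOrder_of_finite x).mem_powers_iff_mem_zpowers.mpr hy
    exact ⟨i, ⟨c, hQH hc'⟩, hc', Subtype.ext (by simpa [hx'] using hyc.symm)⟩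
  have hxpC : x' ^ p ∈ Subgroup.center H := by
    rw [Subgroup.mem_center_iff]
    intro g
    obtain ⟨i, c, hc', rfl⟩ := hgenH g
    have h1 : c * x' ^ p = x' ^ p * c :=
      Subtype.ext (by simpa [hx'] using hxpK _ (hQK hc'))
    rw [mul_assoc, h1, ← mul_assoc, ← pow_add, add_comm, pow_add, mul_assoc]
  -- a constituent on which `x` and `Q` do not commute
  let σ : Representation ℂ H (Fin n → ℂ) := ρ.comp H.subtype
  haveI := Fintype.ofFinite H
  haveI := Fintype.ofFinite (IrrCharacter H)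
  obtain ⟨m, hm, -⟩ := IsCharacter.exists_nat_decomp (isCharacter_of_rep σ)
  obtain ⟨θ, hθm, hθ⟩ : ∃ θ : IrrCharacter H, m θ ≠ 0 ∧
      (θ : H → ℂ) ((⟨k0, hQH hk0⟩ : H) * x' * (⟨k0, hQH hk0⟩ : H)⁻¹ * x'⁻¹) ≠ (θ : H → ℂ) 1 := by
    by_contra hcon
    push Not at hcon
    have h1 := eq_one_of_constituents σ (hρ.comp H.subtype_injective) m hm hcon
    exact hk0x (mul_inv_eq_iff_eq_mul.mp (mul_inv_eq_one.mp
      (by simpa [hx'] using congrArg Subtype.val h1)))
  obtain ⟨d, τ, hτ, hτθ⟩ := θ.2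
  haveI := hτ
  have hd1 : (θ : H → ℂ) 1 = (d : ℂ) := by rw [← hτθ, τ.char_one, Module.finrank_fin_fun]
  have hdn : d ≤ n := constituent_degree_le σ m hm hθm hd1
  have hd0 : 0 < d := Nat.pos_of_ne_zero fun h =>
    IsIrrCharacter.apply_one_ne_zero θ.2 (by rw [hd1, h, Nat.cast_zero])
  have hdp : p ≤ d + 1 := by
    by_contra hlt
    have hcomm := ito_commute hp' (Q.subgroupOf H) x' (a := a) (hQ'card ▸ hQcop) hordx hxpC hgenH
      τ (by omega) (⟨k0, hQH hk0⟩ : H)
    refine hθ ?_
    rw [← hτθ]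
    simp only [Representation.character]
    congr 1
    rw [map_mul, map_mul, map_mul, ← hcomm, mul_assoc (τ x'), ← map_mul τ _ _, mul_inv_cancel,
      map_one, mul_one, ← map_mul, mul_inv_cancel, map_one]
  have hnp : n + 1 = p := by omega
  have hdeq : d = n := by omega
  -- the restriction to `H` is this constituent
  have hθeq : σ.character = (θ : H → ℂ) := by
    choose e he he' using fun η : IrrCharacter H => IsIrrCharacter.exists_apply_one η.2
    have h := congrFun hm 1
    rw [σ.char_one, Module.finrank_fin_fun] at h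
    simp only [Finset.sum_apply, Pi.smul_apply, smul_eq_mul, he'] at h
    have h' : n = ∑ η, m η * e η := by exact_mod_cast h
    have heθ : e θ = d := by exact_mod_cast (he' θ).symm.trans hd1
    rw [← Finset.add_sum_erase _ _ (Finset.mem_univ θ), heθ, hdeq] at h'
    have hmθ : 1 ≤ m θ := Nat.one_le_iff_ne_zero.mpr hθm
    have hge : n ≤ m θ * n := Nat.le_mul_of_pos_left _ hmθ
    have hrest : ∑ η ∈ Finset.univ.erase θ, m η * e η = 0 := by omega
    have hm1 : m θ = 1 := by
      have h2 : m θ * n = n := by omega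
      exact Nat.eq_of_mul_eq_mul_right (by omega : 0 < n) (by rw [h2, one_mul])
    rw [hm, ← Finset.add_sum_erase _ _ (Finset.mem_univ θ), hm1, Nat.cast_one, one_smul,
      Finset.sum_eq_zero (fun η hη => ?_), add_zero]
    have h3 := (Finset.sum_eq_zero_iff.mp hrest) η hη
    rw [(Nat.mul_eq_zero.mp h3).resolve_right (he η).ne', Nat.cast_zero, zero_smul]
  haveI : σ.IsIrreducible := isIrreducible_of_isIrrCharacter σ (hθeq ▸ θ.2)
  refine ⟨hnp, ?_, ?_⟩
  · obtain ⟨e, -, he', hedvd⟩ := IsIrrCharacter.exists_degree_dvd θ.2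
    have hen : e = n := by rw [← hdeq]; exact_mod_cast he'.symm.trans hd1
    subst hen
    have hcard : Nat.card H = p ^ a * Nat.card Q := by
      have hdisjH : ∀ i : ℕ, x' ^ i ∈ Q.subgroupOf H → x' ^ i = 1 := fun i hi =>
        orderOf_eq_one_iff.mp (Nat.eq_one_of_dvd_coprimes
          ((Nat.Coprime.pow_right a hQcop).symm) (hordx ▸ orderOf_pow_dvd i)
          (hQ'card ▸ Subgroup.orderOf_dvd_natCard _ hi))
      have := sum_eq_sum_range_sum x' (Q.subgroupOf H) hdisjH hgenH (fun _ => (1 : ℕ))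
      simpa [hordx, ← hQ'card, Nat.card_eq_fintype_card] using this
    haveI : Fact q.Prime := ⟨hq⟩
    obtain ⟨b, hb⟩ := IsPGroup.iff_card.mp hQq
    have hcop' : Nat.Coprime e (p ^ a) := Nat.Coprime.pow_right _
      ((hp'.coprime_iff_not_dvd.mpr fun hdvd =>
        absurd (Nat.le_of_dvd (by omega) hdvd) (by omega)).symm)
    obtain ⟨c, -, hc'⟩ := (Nat.dvd_prime_pow hq).mp
      (hb ▸ hcop'.dvd_of_dvd_mul_left (hcard ▸ hedvd))
    rcases hp'.eq_two_or_odd with h2 | hodd
    · exact ⟨0, by rw [pow_zero]; omega⟩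
    · have heven : 2 ∣ q ^ c := hc' ▸ (by omega : 2 ∣ e)
      exact ⟨c, by
        rw [(Nat.prime_dvd_prime_iff_eq Nat.prime_two hq).mp (Nat.prime_two.dvd_of_dvd_pow heven)]
        exact hc'⟩
  · haveI : ρ.IsIrreducible := by
      have h := (isIrreducible_iff_forall σ).mp inferInstance
      exact (isIrreducible_iff_forall ρ).mpr ⟨h.1, fun S hS => h.2 S fun g v hv => hS g v hv⟩
    exact isIrrCharacter_of_rep ρ

end Cfsg.Agent.Lib.Characters
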