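import Cfsg.Agent.Lib.Characters.BlichfeldtIto
import Cfsg.Agent.Lib.Cores.PCore
import Cfsg.Prelude.Def_Local
import Cfsg.Prelude.Def_Blocks

/-!
# Small faithful characters of `p`-solvable groups with trivial intersection Sylow subgroups

If `G = PK` with `K` a normal `p'`-subgroup such that all nontrivial elements of `P` have the same
centraliser in `K`, and `n² ≤ |P|`, then in an irreducible representation of degree `n` the centre
of `P` acts by scalars.
-/

namespace Cfsg.Agent.Lib.Characters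

open scoped ComplexConjugate

set_option linter.unusedSectionVars false
set_option linter.unusedSimpArgs false
set_option linter.unusedFintypeInType false
set_option linter.style.haveILetI false

universe u

variable {G : Type u} [Group G]

/-- The sum of a function over a group `PK`. -/
theorem sum_eq_sum_mul_sum {R : Type*} [AddCommMonoid R] [Fintype G] (P K : Subgroup G)
    [Fintype P] [Fintype K] (hdisj : P ⊓ K = ⊥)
    (hgen : ∀ g : G, ∃ y ∈ P, ∃ k ∈ K, g = y * k) (F : G → R) :
    ∑ g, F g = ∑ y : P, ∑ k : K, F ((y : G) * (k : G)) := by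
  classical
  rw [← Fintype.sum_prod_type' (fun (y : P) (k : K) => F ((y : G) * (k : G)))]
  refine (Fintype.sum_bijective (fun a : P × K => (a.1 : G) * (a.2 : G))
    ⟨?_, ?_⟩ _ _ fun a => rfl).symm
  · exact Subgroup.mul_injective_of_disjoint (disjoint_iff.mpr hdisj)
  · intro g
    obtain ⟨y, hy, k, hk, rfl⟩ := hgen g
    exact ⟨(⟨y, hy⟩, ⟨k, hk⟩), rfl⟩

/-- In degree `n` with `n² ≤ |P|`, a group `PK` with common centralisers has scalar centre of
`P`. -/
theorem commute_center_of_small [Finite G] {p : ℕ} [Fact p.Prime] (P K : Subgroup G) [K.Normal]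
    (hPp : IsPGroup p P) (hKp : (Nat.card K).Coprime p)
    (hgen : ∀ g : G, ∃ y ∈ P, ∃ k ∈ K, g = y * k)
    (hC : ∀ y ∈ P, y ≠ 1 → ∀ k ∈ K, k * y = y * k → ∀ z ∈ P, k * z = z * k)
    {n : ℕ} (ρ : Representation ℂ G (Fin n → ℂ)) [ρ.IsIrreducible] (hn : n ^ 2 ≤ Nat.card P)
    {z : G} (hz : z ∈ P) (hzc : ∀ y ∈ P, y * z = z * y) (g : G) : ρ z * ρ g = ρ g * ρ z := by
  classical
  haveI := Fintype.ofFinite G
  have hcopPK : ∀ y ∈ P, (orderOf y).Coprime (Nat.card K) := by
    intro y hy
    obtain ⟨j, hj⟩ := IsPGroup.iff_orderOf.mp hPp ⟨y, hy⟩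
    rw [← Subgroup.orderOf_coe] at hj
    rw [show orderOf y = p ^ j from hj]
    exact (Nat.Coprime.pow_right _ hKp).symm
  have hdisj : P ⊓ K = ⊥ := by
    rw [Subgroup.eq_bot_iff_forall]
    rintro y ⟨hyP, hyK⟩
    exact orderOf_eq_one_iff.mp
      (Nat.eq_one_of_dvd_coprimes (hcopPK y hyP) dvd_rfl (Subgroup.orderOf_dvd_natCard K hyK))
  set C := K ⊓ Subgroup.centralizer (P : Set G) with hCdef
  have hCcomm : ∀ c ∈ C, ∀ y ∈ P, c * y = y * c := fun c hc y hy =>
    (Subgroup.mem_centralizer_iff.mp hc.2 y hy).symm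
  let L : Subgroup G :=
    { carrier := {g | ∃ y ∈ P, ∃ c ∈ C, g = y * c}
      one_mem' := ⟨1, P.one_mem, 1, C.one_mem, (mul_one 1).symm⟩
      mul_mem' := by
        rintro _ _ ⟨y, hy, c, hc, rfl⟩ ⟨y', hy', c', hc', rfl⟩
        refine ⟨y * y', P.mul_mem hy hy', c * c', C.mul_mem hc hc', ?_⟩
        rw [mul_assoc, ← mul_assoc c, hCcomm c hc y' hy']
        group
      inv_mem' := by
        rintro _ ⟨y, hy, c, hc, rfl⟩
        refine ⟨y⁻¹, P.inv_mem hy, c⁻¹, C.inv_mem hc, ?_⟩
        rw [mul_inv_rev, hCcomm c⁻¹ (C.inv_mem hc) y⁻¹ (P.inv_mem hy)] }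
  have hPL : P ≤ L := fun y hy => ⟨y, hy, 1, C.one_mem, (mul_one y).symm⟩
  have hCL : C ≤ L := fun c hc => ⟨1, P.one_mem, c, hc, (one_mul c).symm⟩
  set χ := ρ.character with hχdef
  have hχ : IsIrrCharacter G χ := isIrrCharacter_of_rep ρ
  have hχK : IsCharacter K fun g : K => χ g :=
    IsCharacter.restrict (IsIrrCharacter.isCharacter hχ) K
  have hχC : IsCharacter C fun g : C => χ g :=
    IsCharacter.restrict (IsIrrCharacter.isCharacter hχ) C
  have hχL : IsCharacter L fun g : L => χ g :=
    IsCharacter.restrict (IsIrrCharacter.isCharacter hχ) L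
  obtain ⟨s, hs⟩ := IsCharacter.exists_classInner_nat hχK hχK
  obtain ⟨sC, hsC⟩ := IsCharacter.exists_classInner_nat hχC hχC
  obtain ⟨T, hT⟩ := IsCharacter.exists_classInner_nat hχL hχL
  have toReal : ∀ {H : Subgroup G} {j : ℕ},
      classInner (fun g : H => χ g) (fun g : H => χ g) = (j : ℂ) →
      ∑ g : H, Complex.normSq (χ g) = Nat.card H * (j : ℝ) := by
    intro H j hj
    rw [classInner_self_eq_sum_normSq] at hj
    have hj' : (Nat.card H : ℝ)⁻¹ * ∑ g : H, Complex.normSq (χ g) = (j : ℝ) := by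
      exact_mod_cast hj
    rw [← hj', mul_inv_cancel_left₀]
    exact_mod_cast Nat.card_pos.ne'
  set SK : P → ℝ := fun y => ∑ k : K, Complex.normSq (χ ((y : G) * (k : G))) with hSK
  set SC : P → ℝ := fun y => ∑ k : C, Complex.normSq (χ ((y : G) * (k : G))) with hSC
  have hsumL : ∀ F : G → ℝ, ∑ g : L, F (g : G) = ∑ y : P, ∑ c : C, F ((y : G) * (c : G)) := by
    intro F
    rw [sum_eq_sum_mul_sum (P.subgroupOf L) (C.subgroupOf L) (by
        rw [Subgroup.eq_bot_iff_forall]
        rintro g ⟨h1, h2⟩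
        exact Subtype.ext ((Subgroup.eq_bot_iff_forall _).mp hdisj _ ⟨h1, h2.1⟩))
      (fun g => by
        obtain ⟨y, hy, c, hc, hgyc⟩ := g.2
        exact ⟨⟨y, hPL hy⟩, hy, ⟨c, hCL hc⟩, hc, Subtype.ext hgyc⟩) (fun g => F (g : G))]
    refine Fintype.sum_equiv (Subgroup.subgroupOfEquivOfLe hPL).toEquiv _ _ fun y => ?_
    exact Fintype.sum_equiv (Subgroup.subgroupOfEquivOfLe hCL).toEquiv _ _ fun c => by simp
  have hcardG : (Nat.card G : ℝ) = Nat.card P * Nat.card K := by
    have := sum_eq_sum_mul_sum P K hdisj hgen (fun _ => (1 : ℝ))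
    simpa [Nat.card_eq_fintype_card] using this
  have hcardL : (Nat.card L : ℝ) = Nat.card P * Nat.card C := by
    have := hsumL (fun _ => (1 : ℝ))
    simpa [Nat.card_eq_fintype_card] using this
  have hPpos : (0 : ℝ) < Nat.card P := by exact_mod_cast Nat.card_pos
  have hKpos : (0 : ℝ) < Nat.card K := by exact_mod_cast Nat.card_pos
  have hCpos : (0 : ℝ) < Nat.card C := by exact_mod_cast Nat.card_pos
  have eG : ∑ y, SK y = Nat.card P * Nat.card K := by
    have h1 := IsIrrCharacter.classInner_self hχ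
    rw [classInner_self_eq_sum_normSq, sum_eq_sum_mul_sum P K hdisj hgen, hcardG] at h1
    have h2 : ((Nat.card P : ℝ) * Nat.card K)⁻¹ * ∑ y, SK y = 1 := by exact_mod_cast h1
    exact ((inv_mul_eq_one₀ (by positivity)).mp h2).symm
  have eL : ∑ y, SC y = Nat.card P * Nat.card C * T := by
    rw [← hcardL, ← toReal hT, hsumL (fun g => Complex.normSq (χ g))]
  have eK1 : SK 1 = Nat.card K * s := by simpa [hSK] using toReal hs
  have eC1 : SC 1 = Nat.card C * sC := by simpa [hSC] using toReal hsC
  have hcoset : ∀ y : P, y ≠ 1 → (Nat.card C : ℝ) * SK y = Nat.card K * SC y := by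
    intro y hy
    refine (card_mul_sum_centralizer_coset K (y : G) C (fun g => ?_) (hcopPK _ y.2)
      (fun g => Complex.normSq (χ g)) (fun g h => ?_)).symm
    · rw [hCdef, Subgroup.mem_inf]
      refine ⟨fun h => ⟨h.1, hCcomm g h (y : G) y.2⟩, fun h => ⟨h.1, ?_⟩⟩
      exact Subgroup.mem_centralizer_iff.mpr fun w hw =>
        (hC _ y.2 (fun h' => hy (Subtype.ext h')) g h.1 h.2 w hw).symm
    · rw [IsCharacter.conj_apply (IsIrrCharacter.isCharacter hχ)]
  have hrel : Nat.card P * T + s = Nat.card P + sC := by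
    have e1 : ∑ y, ((Nat.card C : ℝ) * SK y - Nat.card K * SC y) =
        (Nat.card C : ℝ) * SK 1 - Nat.card K * SC 1 :=
      Finset.sum_eq_single_of_mem (1 : P) (Finset.mem_univ _)
        fun y _ hy => by rw [hcoset y hy, sub_self]
    rw [Finset.sum_sub_distrib, ← Finset.mul_sum, ← Finset.mul_sum, eG, eL, eK1, eC1] at e1
    have e2 : (Nat.card C : ℝ) * Nat.card K * ((Nat.card P : ℝ) * T + s) =
        (Nat.card C : ℝ) * Nat.card K * ((Nat.card P : ℝ) + sC) := by linarith
    exact_mod_cast mul_left_cancel₀ (by positivity) e2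
  have hsCn : sC ≤ n ^ 2 := by
    have h1 := toReal hsC
    have h2 : ∑ g : C, Complex.normSq (χ g) ≤ Nat.card C * ((n : ℝ) ^ 2) := by
      calc ∑ g : C, Complex.normSq (χ g) ≤ ∑ _g : C, (n : ℝ) ^ 2 := by
            refine Finset.sum_le_sum fun g _ => ?_
            have h3 : ‖χ g‖ ≤ ‖χ 1‖ := IsCharacter.norm_le (IsIrrCharacter.isCharacter hχ) (g : G)
            rw [hχdef, ρ.char_one, Module.finrank_fin_fun, Complex.norm_natCast] at h3
            rw [Complex.normSq_eq_norm_sq]
            exact pow_le_pow_left₀ (norm_nonneg _) h3 2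
        _ = _ := by simp [Nat.card_eq_fintype_card]
    rw [h1] at h2
    exact_mod_cast le_of_mul_le_mul_left h2 hCpos
  have hs1 : 1 ≤ s := Nat.one_le_iff_ne_zero.mpr fun h => by
    subst h
    exact IsIrrCharacter.apply_one_ne_zero hχ
      (congrFun (classInner_self_eq_zero (hs.trans Nat.cast_zero)) 1)
  have hT0 : 1 ≤ T := Nat.one_le_iff_ne_zero.mpr fun h => by
    subst h
    exact IsIrrCharacter.apply_one_ne_zero hχ
      (congrFun (classInner_self_eq_zero (hT.trans Nat.cast_zero)) 1)
  have hT1 : T = 1 := by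
    by_contra hne
    have h2 : Nat.card P * 2 ≤ Nat.card P * T := Nat.mul_le_mul_left _ (by omega)
    omega
  let σ : Representation ℂ L (Fin n → ℂ) := ρ.comp L.subtype
  haveI : σ.IsIrreducible := isIrreducible_of_isIrrCharacter σ (by
    rw [show σ.character = fun g : L => χ g from rfl, IsCharacter.isIrr_iff hχL, hT, hT1,
      Nat.cast_one])
  obtain ⟨c', hc'⟩ := exists_smul_of_commute σ (ρ z) fun w => by
    obtain ⟨y, hy, c, hc, hw⟩ := w.2
    show ρ z * ρ (w : G) = ρ (w : G) * ρ z
    rw [← map_mul, ← map_mul, hw, mul_assoc, hCcomm c hc z hz, ← mul_assoc, ← mul_assoc, hzc y hy]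
  rw [hc']
  simp [← Module.End.one_eq_id]

/-- In a `p`-solvable group with trivial `p`-core, `O_{p'}` contains its centraliser. -/
theorem centralizer_pPrimeCore_le_of_pCore_eq_bot [Finite G] (p : ℕ) [hp : Fact p.Prime]
    (hG : Cfsg.IsPSolvable p G) (hcore : Cfsg.pCore p G = ⊥) :
    Subgroup.centralizer (Cfsg.pPrimeCore p G : Set G) ≤ Cfsg.pPrimeCore p G := by
  obtain ⟨n, H, h0, hlast, hmono, hnorm, hfac⟩ := hG
  set K0 := Cfsg.pPrimeCore p G with hK0
  have hK0n : K0.Normal := inferInstance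
  suffices h : ∀ i : Fin (n + 1), Subgroup.centralizer (K0 : Set G) ⊓ H i ≤ K0 by
    have := h (Fin.last n)
    rwa [hlast, inf_top_eq] at this
  intro i
  induction i using Fin.induction with
  | zero => rw [h0, inf_bot_eq]; exact bot_le
  | succ i ih =>
    set C := Subgroup.centralizer (K0 : Set G) with hC
    set Z := C ⊓ H i.castSucc with hZ
    set K := C ⊓ H i.succ with hK
    haveI := hnorm i.castSucc
    haveI := hnorm i.succ
    have hKn : K.Normal := by rw [hK]; infer_instance
    have hZn : Z.Normal := by rw [hZ]; infer_instance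
    have hZK : Z ≤ K := inf_le_inf_left _ (hmono (Fin.castSucc_le_succ i))
    have hrel : Z.relIndex K ∣ (H i.castSucc).relIndex (H i.succ) := by
      have e : Z.relIndex K = (H i.castSucc).relIndex K := by
        rw [← Subgroup.inf_relIndex_right (H i.castSucc) K]
        congr 1
        rw [hZ, hK, inf_comm (H i.castSucc), inf_assoc,
          inf_eq_right.2 (hmono (Fin.castSucc_le_succ i))]
      rw [e, ← Subgroup.relIndex_subgroupOf (inf_le_right : K ≤ H i.succ)]
      exact Subgroup.relIndex_dvd_index_of_normal _ _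
    have hcard : Nat.card K = Nat.card Z * Z.relIndex K := by
      have h := Subgroup.relIndex_mul_relIndex ⊥ Z K bot_le hZK
      rwa [Subgroup.relIndex_bot_left, Subgroup.relIndex_bot_left, eq_comm] at h
    have hZcop : (Nat.card Z).Coprime p :=
      Nat.Coprime.coprime_dvd_left (Subgroup.card_dvd_of_le ih)
        (Cfsg.Agent.Lib.Cores.pPrimeCore_coprime p G)
    rcases hfac i with ⟨m, hm⟩ | hcop
    · rw [hm] at hrel
      obtain ⟨e, -, he⟩ := (Nat.dvd_prime_pow hp.out).1 hrel
      obtain ⟨L⟩ : Nonempty (Sylow p K) := inferInstance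
      have hidx : (L : Subgroup K).index = Nat.card Z := by
        obtain ⟨l, hl⟩ := IsPGroup.iff_card.mp L.2
        have h1 := (L : Subgroup K).card_mul_index
        rw [hl, hcard, he] at h1
        have h2 : ((L : Subgroup K).index).Coprime p :=
          (hp.out.coprime_iff_not_dvd.mpr L.not_dvd_index).symm
        have hd1 : (L : Subgroup K).index ∣ Nat.card Z :=
          (Nat.Coprime.pow_right e h2).dvd_of_dvd_mul_right (h1 ▸ dvd_mul_left _ _)
        have hd2 : Nat.card Z ∣ (L : Subgroup K).index :=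
          (Nat.Coprime.pow_right l hZcop).dvd_of_dvd_mul_left (h1 ▸ dvd_mul_right _ _)
        exact Nat.dvd_antisymm hd1 hd2
      have hgenK : ∀ k : K, ∃ z : G, ∃ l : K, z ∈ Z ∧ l ∈ (L : Subgroup K) ∧
          (k : G) = z * (l : G) := by
        have hcomp : Subgroup.IsComplement' (Z.subgroupOf K) (L : Subgroup K) := by
          refine Subgroup.isComplement'_of_coprime ?_ ?_
          · rw [Nat.card_congr (Subgroup.subgroupOfEquivOfLe hZK).toEquiv, ← hidx, mul_comm]
            exact (L : Subgroup K).card_mul_index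
          · obtain ⟨l, hl⟩ := IsPGroup.iff_card.mp L.2
            rw [Nat.card_congr (Subgroup.subgroupOfEquivOfLe hZK).toEquiv, hl]
            exact Nat.Coprime.pow_right l hZcop
        intro k
        obtain ⟨⟨z, l⟩, hzl⟩ := hcomp.2 k
        exact ⟨((z : K) : G), l, z.2, l.2, by rw [← hzl]; rfl⟩
      have hLn : (L : Subgroup K).Normal := by
        refine ⟨fun x hx k => ?_⟩
        obtain ⟨z, l, hz, hl, hkzl⟩ := hgenK k
        have hzx : ∀ w : K, (w : G) * z = z * (w : G) := fun w =>
          (Subgroup.mem_centralizer_iff.mp w.2.1 z (ih hz)).symm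
        have : k * x * k⁻¹ = l * x * l⁻¹ := by
          refine Subtype.ext ?_
          simp only [Subgroup.coe_mul, InvMemClass.coe_inv, hkzl]
          have h2 := hzx (l * x * l⁻¹)
          simp only [Subgroup.coe_mul, InvMemClass.coe_inv] at h2
          calc z * (l : G) * (x : G) * (z * (l : G))⁻¹
              = z * ((l : G) * (x : G) * (l : G)⁻¹) * z⁻¹ := by group
            _ = (l : G) * (x : G) * (l : G)⁻¹ := by rw [← h2, mul_inv_cancel_right]
        rw [this]
        exact (L : Subgroup K).mul_mem ((L : Subgroup K).mul_mem hl hx)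
          ((L : Subgroup K).inv_mem hl)
      haveI := Sylow.characteristic_of_normal L hLn
      have hLG : ((L : Subgroup K).map K.subtype).Normal := inferInstance
      have hLbot : (L : Subgroup K) = ⊥ := by
        have := (Cfsg.Agent.Lib.Cores.pCore_eq_bot_iff.mp hcore) _ hLG (L.2.map _)
        exact (Subgroup.map_eq_bot_iff_of_injective _ K.subtype_injective).mp this
      intro k hk
      obtain ⟨z, l, hz, hl, hkzl⟩ := hgenK ⟨k, hk⟩
      rw [hLbot, Subgroup.mem_bot] at hl
      rw [hl, OneMemClass.coe_one, mul_one] at hkzl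
      exact (show k = z from hkzl) ▸ ih hz
    · refine Cfsg.Agent.Lib.Cores.le_pPrimeCore hKn ?_
      rw [hcard]
      exact Nat.Coprime.mul_left hZcop (hcop.coprime_dvd_left hrel)

end Cfsg.Agent.Lib.Characters
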