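import Cfsg.Agent.Lib.CharMisc.RealOverOdd
import Cfsg.Agent.Lib.InvChar.GaloisChar
import Cfsg.Agent.Lib.Characters.ExtensionCoprime
import Mathlib.GroupTheory.PGroup
import Mathlib.GroupTheory.Perm.Cycle.Type

/-!
# Characters fixed by a power map over a fixed character of a normal subgroup of odd index

If `g ↦ g ^ k` inverts the elements of odd order, a fixed character of a normal subgroup of odd
index lies under exactly one fixed irreducible character, which extends it in the invariant case.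
-/

set_option autoImplicit false
set_option linter.unusedSectionVars false
set_option linter.unusedVariables false
set_option linter.style.haveILetI false

namespace Cfsg.Agent.Lib.Characters

open Cfsg
open scoped ComplexConjugate

universe u

variable {G : Type u} [Group G] [Fintype G] (N : Subgroup G) [hN : N.Normal] [Fintype N]

/-- Every element is congruent modulo a subgroup of odd index to an element of odd order. -/
theorem exists_odd_same_coset (hodd : Odd N.index) (g : G) :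
    ∃ c : ℕ, Odd (orderOf (g ^ c)) ∧ (g : G ⧸ N) ^ c = g := by
  have hcop : Nat.Coprime (2 ^ (Nat.card G).factorization 2) N.index :=
    (Nat.prime_two.coprime_iff_not_dvd.2 fun h =>
      Nat.not_even_iff_odd.2 hodd (even_iff_two_dvd.2 h)).pow_left _
  obtain ⟨c, hc1, hc2⟩ := Nat.chineseRemainder hcop 0 1
  refine ⟨c, ?_, (pow_eq_pow_of_modEq hc2 (pow_card_eq_one' (x := (g : G ⧸ N)))).trans (pow_one _)⟩
  obtain ⟨w, hw⟩ := Nat.modEq_zero_iff_dvd.1 hc1
  refine Nat.not_even_iff_odd.1 fun he => ?_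
  have h2 : (g ^ c) ^ (Nat.card G / 2 ^ (Nat.card G).factorization 2) = 1 := by
    rw [← pow_mul, hw, mul_comm (2 ^ (Nat.card G).factorization 2) w, mul_assoc,
      Nat.ordProj_mul_ordCompl_eq_self, mul_comm, pow_mul, pow_card_eq_one', one_pow]
  exact Nat.not_dvd_ordCompl Nat.prime_two Nat.card_pos.ne'
    ((even_iff_two_dvd.1 he).trans (orderOf_dvd_of_pow_eq_one h2))

theorem mk_pow_eq_inv (hodd : Odd N.index) {k : ℕ}
    (hk2 : ∀ g : G, Odd (orderOf g) → g ^ k = g⁻¹) (g : G) :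
    (g : G ⧸ N) ^ k = (g : G ⧸ N)⁻¹ := by
  obtain ⟨c, hc, hgc⟩ := exists_odd_same_coset N hodd g
  rw [← hgc, ← QuotientGroup.mk_pow, ← QuotientGroup.mk_pow, ← QuotientGroup.mk_inv, hk2 _ hc]

theorem mem_of_isConj_pow (hodd : Odd N.index) {k : ℕ}
    (hk2 : ∀ g : G, Odd (orderOf g) → g ^ k = g⁻¹) {g x : G} (hx : x ∈ N)
    (h : IsConj (g * x) (g ^ k)) : g ∈ N := by
  haveI := Fintype.ofFinite (G ⧸ N)
  haveI := Fintype.ofFinite (⊥ : Subgroup (G ⧸ N))
  have h1 : IsConj ((g : G ⧸ N) * 1) (g : G ⧸ N)⁻¹ := by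
    have h2 := (QuotientGroup.mk' N).map_isConj h
    simp only [map_mul, map_pow, QuotientGroup.mk'_apply, (QuotientGroup.eq_one_iff x).2 hx] at h2
    rwa [mk_pow_eq_inv N hodd hk2] at h2
  have h3 := CharMisc.mem_of_isConj_inv (⊥ : Subgroup (G ⧸ N))
    (by rw [Subgroup.index_bot]; exact hodd) (Subgroup.one_mem ⊥) h1
  exact (QuotientGroup.eq_one_iff g).1 (Subgroup.mem_bot.1 h3)

/-- Exactly one fixed irreducible character lies over a fixed one. -/
theorem existsUnique_powFixed_over (hodd : Odd N.index) {k : ℕ} (hk : Nat.Coprime k (Nat.card G))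
    (hk2 : ∀ g : G, Odd (orderOf g) → g ^ k = g⁻¹) (φ : IrrCharacter N)
    (hφ : ∀ n : N, (φ : N → ℂ) (n ^ k) = (φ : N → ℂ) n) :
    ∃! χ : IrrCharacter G, classInner (fun n : N => (χ : G → ℂ) n) (φ : N → ℂ) ≠ 0 ∧
      ∀ g, (χ : G → ℂ) (g ^ k) = (χ : G → ℂ) g := by
  classical
  haveI := Fintype.ofFinite (IrrCharacter G)
  have hφc := irr_isCharacter φ
  choose m hm using fun χ : IrrCharacter G =>
    IsCharacter.exists_classInner_nat (IsCharacter.restrict (irr_isCharacter χ) N) hφc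
  set Φ := indFun N (φ : N → ℂ) with hΦ
  have hΦc : IsCharacter G Φ := IsCharacter.indFun N hφc
  have hmΦ : ∀ χ : IrrCharacter G, classInner Φ (χ : G → ℂ) = m χ := fun χ => by
    rw [hΦ, classInner_indFun N _ (irr_isClassFunction χ),
      IsCharacter.classInner_comm hφc (IsCharacter.restrict (irr_isCharacter χ) N)]
    exact hm χ
  have hN0 : (Nat.card N : ℂ) ≠ 0 := natCard_ne_zero_complex
  have hG0 : (Nat.card G : ℂ) ≠ 0 := natCard_ne_zero_complex
  let f : G → ℂ := fun x => conj (Φ x)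
  have hf : IsClassFunction G f := fun a b => by
    show conj _ = conj _
    rw [IsCharacter.isClassFunction hΦc a b]
  have hfsum : ∀ χ : IrrCharacter G, ∑ x, f x * (χ : G → ℂ) x = (Nat.card G : ℂ) * m χ := by
    intro χ
    rw [← hmΦ χ, IsCharacter.classInner_comm hΦc (irr_isCharacter χ), classInner, ← mul_assoc,
      mul_inv_cancel₀ hG0, one_mul]
    exact Finset.sum_congr rfl fun x _ => mul_comm _ _
  choose d hd0 hd using fun χ : IrrCharacter G => IsIrrCharacter.exists_apply_one χ.2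
  have hdne : ∀ χ, (d χ : ℂ) ≠ 0 := fun χ => Nat.cast_ne_zero.2 (hd0 χ).ne'
  have hout : ∀ g, g ∉ N → ∑ χ : IrrCharacter G, (m χ : ℂ) / (d χ : ℂ) *
      ((χ : G → ℂ) g * conj ((χ : G → ℂ) (g ^ k))) = 0 := by
    intro g hg
    have h1 : ∀ χ : IrrCharacter G, (Nat.card G : ℂ) * ((m χ : ℂ) / (d χ : ℂ) *
        ((χ : G → ℂ) g * conj ((χ : G → ℂ) (g ^ k)))) =
        ∑ x, f x * ((χ : G → ℂ) (g * x) * conj ((χ : G → ℂ) (g ^ k))) := by
      intro χ
      simp only [← mul_assoc]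
      rw [← Finset.sum_mul, IsIrrCharacter.sum_mul_translate χ.2 hf g, hfsum, hd]
      ring
    refine mul_left_cancel₀ hG0 ?_
    rw [mul_zero, Finset.mul_sum, Finset.sum_congr rfl fun χ _ => h1 χ, Finset.sum_comm]
    refine Finset.sum_eq_zero fun x _ => ?_
    by_cases hx : x ∈ N
    · rw [← Finset.mul_sum]
      have h2 := sum_irr_mul_conj (g * x) (g ^ k)
      rw [if_neg fun h => hg (mem_of_isConj_pow N hodd hk2 hx h)] at h2
      rw [h2, mul_zero]
    · have : f x = 0 := by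
        show conj (Φ x) = 0
        rw [hΦ, indFun_vanish N _ hx, map_zero]
      simp [this]
  set t : ℂ := ((inertia N (φ : N → ℂ)).index : ℂ) with ht
  have ht0 : t ≠ 0 := Nat.cast_ne_zero.2 Subgroup.index_ne_zero_of_finite
  have hφ1 : (φ : N → ℂ) 1 ≠ 0 := IsIrrCharacter.apply_one_ne_zero φ.2
  have hdeg : ∀ χ, m χ ≠ 0 → (d χ : ℂ) = m χ * t * (φ : N → ℂ) 1 := fun χ h => by
    rw [← hd χ, degree_eq N χ.2 φ.2 (by rw [hm]; exact_mod_cast h), hm]
  have hresfix : ∀ χ : IrrCharacter G, m χ ≠ 0 → ∀ n : N,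
      (χ : G → ℂ) ((n : G) ^ k) = (χ : G → ℂ) n := by
    intro χ h n
    have hne : classInner (fun n : N => (χ : G → ℂ) n) (φ : N → ℂ) ≠ 0 := by
      rw [hm]; exact_mod_cast h
    have h0 := restrict_eq_smul_sum N χ.2 φ.2 hne
    have h1 := congrFun h0 (n ^ k)
    have h2 := congrFun h0 n
    simp only [Pi.smul_apply, Finset.sum_apply, SubgroupClass.coe_pow] at h1 h2
    rw [h1, h2]
    congr 1
    refine Finset.sum_congr rfl fun ψ hψ => ?_
    obtain ⟨x, rfl⟩ := (Set.Finite.mem_toFinset _).1 hψ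
    show (φ : N → ℂ) ⟨_, _⟩ = (φ : N → ℂ) ⟨_, _⟩
    rw [← hφ ⟨x * n * x⁻¹, hN.conj_mem (n : G) n.2 x⟩]
    refine congrArg _ (Subtype.ext ?_)
    show x * ((n : G) ^ k) * x⁻¹ = (x * n * x⁻¹) ^ k
    exact (conj_pow).symm
  have hinN : ∀ χ : IrrCharacter G, (m χ : ℂ) / (d χ : ℂ) *
      ∑ n : N, (χ : G → ℂ) n * conj ((χ : G → ℂ) ((n : G) ^ k)) =
        (Nat.card N : ℂ) / (φ : N → ℂ) 1 * ((m χ : ℂ) * m χ) := by
    intro χ
    rcases _root_.em (m χ = 0) with h | h
    · simp [h]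
    have h1 : ∑ n : N, (χ : G → ℂ) n * conj ((χ : G → ℂ) ((n : G) ^ k)) =
        (Nat.card N : ℂ) * ((m χ : ℂ) * m χ * t) := by
      have h2 : ∑ n : N, (χ : G → ℂ) n * conj ((χ : G → ℂ) ((n : G) ^ k)) =
          (Nat.card N : ℂ) * classInner (fun n : N => (χ : G → ℂ) n) (fun n : N => (χ : G → ℂ) n) := by
        rw [classInner, ← mul_assoc, mul_inv_cancel₀ hN0, one_mul]
        exact Finset.sum_congr rfl fun n _ => by rw [hresfix χ h n]
      rw [h2]
      conv_lhs =>
        arg 2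
        rw [restrict_eq_smul_sum N χ.2 φ.2 (by rw [hm]; exact_mod_cast h)]
      rw [classInner_smul_left, classInner_smul_right, classInner_sum_left, hm, map_natCast]
      have h4 : ∀ ψ ∈ (Set.finite_range fun g : G => conjFun N g (φ : N → ℂ)).toFinset,
          classInner ψ (∑ η ∈ (Set.finite_range fun g : G => conjFun N g (φ : N → ℂ)).toFinset, η) = 1 := by
        intro ψ hψ
        obtain ⟨x, rfl⟩ := (Set.Finite.mem_toFinset _).1 hψ
        rw [classInner_sum_right, Finset.sum_eq_single (conjFun N x (φ : N → ℂ))]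
        · exact IsIrrCharacter.classInner_self (IsIrrCharacter.conjFun N φ.2 x)
        · intro η hη hne
          obtain ⟨y, rfl⟩ := (Set.Finite.mem_toFinset _).1 hη
          exact IsIrrCharacter.classInner_ne (IsIrrCharacter.conjFun N φ.2 x)
            (IsIrrCharacter.conjFun N φ.2 y) (Ne.symm hne)
        · exact fun h0 => absurd ((Set.Finite.mem_toFinset
            (Set.finite_range fun g : G => conjFun N g (φ : N → ℂ))).2 ⟨x, rfl⟩) h0
      rw [Finset.sum_congr rfl h4, Finset.sum_const, nsmul_one, ← Set.ncard_eq_toFinset_card _ (Set.finite_range fun g : G => conjFun N g (φ : N → ℂ)),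
        ← Nat.card_coe_set_eq, card_conjugates N, ← ht]
      ring
    rw [h1, hdeg χ h]
    have : (m χ : ℂ) ≠ 0 := Nat.cast_ne_zero.2 h
    field_simp
  have hsq : (Nat.card N : ℂ) * ∑ χ : IrrCharacter G, (m χ : ℂ) * m χ =
      (Nat.card (inertia N (φ : N → ℂ)) : ℂ) := by
    rw [← classInner_indFun_self N φ.2]
    congr 1
    have h : classInner Φ Φ = ∑ χ : IrrCharacter G, classInner Φ (χ : G → ℂ) *
        conj (classInner Φ (χ : G → ℂ)) :=
      classInner_eq_sum_irr (IsCharacter.isClassFunction hΦc) (IsCharacter.isClassFunction hΦc)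
    rw [h]
    exact Finset.sum_congr rfl fun χ _ => by rw [hmΦ, map_natCast]
  let R : IrrCharacter G → Prop := fun χ => m χ ≠ 0 ∧ ∀ g, (χ : G → ℂ) (g ^ k) = (χ : G → ℂ) g
  have hfixsum : ∀ χ : IrrCharacter G, (m χ : ℂ) / (d χ : ℂ) *
      ∑ g, (χ : G → ℂ) g * conj ((χ : G → ℂ) (g ^ k)) =
        if R χ then (Nat.card G : ℂ) / (t * (φ : N → ℂ) 1) else 0 := by
    intro χ
    rcases _root_.em (m χ = 0) with h | h
    · rw [if_neg fun h' => h'.1 h]; simp [h]
    have hpow := InvChar.isIrr_comp_pow χ.2 hk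
    have h1 : ∑ g, (χ : G → ℂ) g * conj ((χ : G → ℂ) (g ^ k)) =
        (Nat.card G : ℂ) * classInner (χ : G → ℂ) (fun g => (χ : G → ℂ) (g ^ k)) := by
      rw [classInner, ← mul_assoc, mul_inv_cancel₀ hG0, one_mul]
    rw [h1]
    by_cases hr : R χ
    · rw [if_pos hr, show (fun g => (χ : G → ℂ) (g ^ k)) = (χ : G → ℂ) from funext hr.2,
        IsIrrCharacter.classInner_self χ.2, hdeg χ h]
      have : (m χ : ℂ) ≠ 0 := Nat.cast_ne_zero.2 h
      field_simp
    · rw [if_neg hr, IsIrrCharacter.classInner_ne χ.2 hpow fun he =>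
        hr ⟨h, fun g => (congrFun he g).symm⟩]
      ring
  have hone : (Finset.univ.filter R).card = 1 := by
    have h1 : ∑ χ : IrrCharacter G, (m χ : ℂ) / (d χ : ℂ) *
          ∑ g, (χ : G → ℂ) g * conj ((χ : G → ℂ) (g ^ k)) =
        ∑ χ : IrrCharacter G, (m χ : ℂ) / (d χ : ℂ) *
          ∑ n : N, (χ : G → ℂ) n * conj ((χ : G → ℂ) ((n : G) ^ k)) := by
      simp only [Finset.mul_sum]
      rw [Finset.sum_comm, ← Finset.sum_subset (Finset.subset_univ (Finset.univ.filter fun g : G => g ∈ N))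
        (fun g _ hg => hout g fun h => hg (by simp [h])), Finset.sum_comm (γ := IrrCharacter G)]
      exact Finset.sum_subtype (p := fun g : G => g ∈ N) _ (fun g => by simp)
        fun g => ∑ χ : IrrCharacter G, (m χ : ℂ) / (d χ : ℂ) *
          ((χ : G → ℂ) g * conj ((χ : G → ℂ) (g ^ k)))
    rw [Finset.sum_congr rfl fun χ _ => hfixsum χ, Finset.sum_congr rfl fun χ _ => hinN χ,
      ← Finset.sum_filter, Finset.sum_const, nsmul_eq_mul, ← Finset.mul_sum] at h1
    have hT : (Nat.card G : ℂ) = (Nat.card (inertia N (φ : N → ℂ)) : ℂ) * t := by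
      rw [ht, ← Nat.cast_mul, Subgroup.card_mul_index]
    rw [hT] at h1
    have hTne : (Nat.card (inertia N (φ : N → ℂ)) : ℂ) ≠ 0 := Nat.cast_ne_zero.2 Nat.card_pos.ne'
    have h2 : ((Finset.univ.filter R).card : ℂ) * (Nat.card (inertia N (φ : N → ℂ)) : ℂ) =
        1 * (Nat.card (inertia N (φ : N → ℂ)) : ℂ) := by
      rw [one_mul]
      conv_rhs => rw [← hsq]
      field_simp at h1
      simp only [pow_two] at h1
      linear_combination h1
    exact_mod_cast mul_right_cancel₀ hTne h2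
  obtain ⟨χ₀, hχ₀⟩ := Finset.card_eq_one.1 hone
  have hR : ∀ χ, R χ ↔ χ = χ₀ := fun χ => by
    rw [← Finset.mem_singleton, ← hχ₀, Finset.mem_filter]
    simp
  refine ⟨χ₀, ⟨?_, ((hR χ₀).2 rfl).2⟩, fun χ hχ => (hR χ).1 ⟨fun h => hχ.1 ?_, hχ.2⟩⟩
  · rw [hm]; exact_mod_cast ((hR χ₀).2 rfl).1
  · rw [hm, h, Nat.cast_zero]

/-- An extension of a fixed character can be chosen fixed. -/
theorem exists_powFixed_extension_of_extension (hodd : Odd N.index) {k : ℕ}
    (hk : Nat.Coprime k (Nat.card G)) (hk2 : ∀ g : G, Odd (orderOf g) → g ^ k = g⁻¹)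
    (φ : IrrCharacter N) (hφ : ∀ n : N, (φ : N → ℂ) (n ^ k) = (φ : N → ℂ) n)
    {χ : G → ℂ} (hχ : IsIrrCharacter G χ) (hres : ∀ n : N, χ n = (φ : N → ℂ) n) :
    ∃ η : IrrCharacter G, (∀ n : N, (η : G → ℂ) n = (φ : N → ℂ) n) ∧
      ∀ g, (η : G → ℂ) (g ^ k) = (η : G → ℂ) g := by
  have hc := IsIrrCharacter.isCharacter hχ
  have hσ := InvChar.isIrr_comp_pow hχ hk
  obtain ⟨lam, hlam, he⟩ := exists_linear_mul_of_restrict_eq hc (IsIrrCharacter.isCharacter hσ)
    (show IsIrrCharacter N (fun n : N => χ n) by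
      rw [show (fun n : N => χ n) = (φ : N → ℂ) from funext hres]; exact φ.2)
    (fun n => (congrArg χ (SubgroupClass.coe_pow n k).symm).trans
      ((hres (n ^ k)).trans ((hφ n).trans (hres n).symm)))
  obtain ⟨j, hj⟩ := hodd
  have hlamN : ∀ g : G, lam g ^ N.index = 1 := fun g => pow_index_eq_one_of_trivial lam hlam g
  let μ : G →* ℂˣ := lam ^ (j + 1)
  refine ⟨⟨_, isIrrCharacter_twist μ hχ⟩, fun n => ?_, fun g => ?_⟩
  · show (μ n : ℂ) * χ n = _
    simp [μ, hlam n, hres n]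
  · show (μ (g ^ k) : ℂ) * χ (g ^ k) = (μ g : ℂ) * χ g
    obtain ⟨c, hc', hgc⟩ := exists_odd_same_coset N ⟨j, hj⟩ g
    have hlc : lam (g ^ c) = lam g := by
      have h1 : (g ^ c)⁻¹ * g ∈ N :=
        QuotientGroup.eq.1 (by rw [QuotientGroup.mk_pow]; exact hgc)
      have h2 := hlam ⟨_, h1⟩
      rwa [map_mul, map_inv, inv_mul_eq_one] at h2
    have hinv : lam g ^ k = (lam g)⁻¹ := by rw [← hlc, ← map_pow, hk2 _ hc', map_inv]
    have hμ : μ (g ^ k) = (lam g ^ (j + 1))⁻¹ := by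
      show lam (g ^ k) ^ (j + 1) = _
      rw [map_pow, hinv, inv_pow]
    have hsq : (lam g ^ (j + 1))⁻¹ * lam g = lam g ^ (j + 1) := by
      rw [inv_mul_eq_iff_eq_mul, ← pow_add, show j + 1 + (j + 1) = N.index + 1 by omega, pow_succ,
        hlamN, one_mul]
    have h3 : χ (g ^ k) = (lam g : ℂ) * χ g := congrFun he g
    rw [h3, ← mul_assoc, hμ, ← Units.val_mul, hsq]
    rfl

omit [Fintype G] [Fintype N] in
/-- A normal subgroup of prime index above a normal subgroup of prime power index. -/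
theorem exists_normal_prime_index [Finite G] {q a : ℕ} [hq : Fact q.Prime] (ha : 0 < a)
    (h : N.index = q ^ a) : ∃ M : Subgroup G, N ≤ M ∧ M.Normal ∧ M.index = q := by
  haveI : Nontrivial (G ⧸ N) := by
    rw [← Finite.one_lt_card_iff_nontrivial, ← Subgroup.index_eq_card, h]
    exact Nat.one_lt_pow ha.ne' hq.out.one_lt
  have hcard : Nat.card (G ⧸ N) = q ^ a := by rw [← Subgroup.index_eq_card, h]
  obtain ⟨M, hM⟩ := Sylow.exists_subgroup_card_pow_prime (G := G ⧸ N) q (n := a - 1)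
    (hcard ▸ pow_dvd_pow q (Nat.sub_le a 1))
  have hidx : M.index = q := by
    have h1 := M.index_mul_card
    rw [hM, hcard] at h1
    refine Nat.eq_of_mul_eq_mul_right (pow_pos hq.out.pos (a - 1)) (h1.trans ?_)
    rw [← pow_succ', Nat.sub_add_cancel ha]
  have hn : M.Normal := Subgroup.normal_of_index_eq_minFac_card (by
    rw [hidx, hcard, Nat.pow_minFac ha.ne', hq.out.minFac_eq])
  refine ⟨M.comap (QuotientGroup.mk' N), ?_, hn.comap _, ?_⟩
  · intro x hx
    rw [Subgroup.mem_comap, QuotientGroup.mk'_apply, (QuotientGroup.eq_one_iff x).2 hx]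
    exact one_mem _
  · rw [Subgroup.index_comap_of_surjective _ (QuotientGroup.mk'_surjective N), hidx]

/-- An invariant fixed character has a fixed extension. -/
theorem exists_powFixed_extension (hodd : Odd N.index) {k : ℕ} (hk : Nat.Coprime k (Nat.card G))
    (hk2 : ∀ g : G, Odd (orderOf g) → g ^ k = g⁻¹) (φ : IrrCharacter N)
    (hφ : ∀ n : N, (φ : N → ℂ) (n ^ k) = (φ : N → ℂ) n)
    (hinv : ∀ g : G, conjFun N g (φ : N → ℂ) = (φ : N → ℂ)) :
    ∃ η : IrrCharacter G, (∀ n : N, (η : G → ℂ) n = (φ : N → ℂ) n) ∧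
      ∀ g, (η : G → ℂ) (g ^ k) = (η : G → ℂ) g := by
  classical
  induction hn : Nat.card G using Nat.strong_induction_on generalizing G with
  | _ n ih =>
  subst hn
  suffices hext : ∃ χ : G → ℂ, IsIrrCharacter G χ ∧ ∀ n : N, χ n = (φ : N → ℂ) n by
    obtain ⟨χ, hχ, hres⟩ := hext
    exact exists_powFixed_extension_of_extension N hodd hk hk2 φ hφ hχ hres
  -- the case of a proper intermediate subgroup
  have hsub : ∀ H : Subgroup G, N ≤ H → H ≠ ⊤ → ∀ [Fintype H],
      ∃ η : IrrCharacter H, (∀ (n : G) (hn : n ∈ N) (hnH : n ∈ H),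
        (η : H → ℂ) ⟨n, hnH⟩ = (φ : N → ℂ) ⟨n, hn⟩) ∧
        ∀ g, (η : H → ℂ) (g ^ k) = (η : H → ℂ) g := by
    intro H hNH hH _
    haveI := Fintype.ofFinite (N.subgroupOf H)
    let e := Subgroup.subgroupOfEquivOfLe hNH
    have hlt : Nat.card H < Nat.card G := by
      have h := H.index_mul_card
      have h1 := Subgroup.index_ne_zero_of_finite (H := H)
      have h2 : H.index ≠ 1 := fun h => hH (Subgroup.index_eq_one.1 h)
      rw [← h]
      exact lt_mul_of_one_lt_left Nat.card_pos (by omega)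
    obtain ⟨η, hη, hηk⟩ := ih _ hlt (G := H) (N.subgroupOf H)
      (hodd.of_dvd_nat ⟨_, (Subgroup.relIndex_mul_index hNH).symm⟩)
      (hk.coprime_dvd_right (Subgroup.card_subgroup_dvd_card H))
      (fun g hg => Subtype.ext (by
        rw [SubgroupClass.coe_pow]
        exact hk2 (g : G) (by rwa [Subgroup.orderOf_coe])))
      ⟨fun x => (φ : N → ℂ) (e x), IsIrrCharacter.comp_surjective φ.2 e.toMonoidHom e.surjective⟩
      (fun x => (congrArg (φ : N → ℂ) (map_pow e x k)).trans (hφ (e x)))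
      (fun g => funext fun x => congrFun (hinv (g : G)) (e x)) rfl
    exact ⟨η, fun n hn hnH => hη ⟨⟨n, hnH⟩, hn⟩, hηk⟩
  have hN0 : ∀ (g : G) (n : N), (φ : N → ℂ) ⟨g * n * g⁻¹, hN.conj_mem (n : G) n.2 g⟩ =
      (φ : N → ℂ) n := fun g n => congrFun (hinv g) n
  by_cases hpp : ∃ q a : ℕ, q.Prime ∧ N.index = q ^ a
  · obtain ⟨q, a, hq, ha⟩ := hpp
    haveI := Fact.mk hq
    rcases Nat.eq_zero_or_pos a with rfl | ha0
    · rw [pow_zero, Subgroup.index_eq_one] at ha
      subst ha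
      exact ⟨_, IsIrrCharacter.comp_surjective φ.2 (Subgroup.topEquiv (G := G)).symm.toMonoidHom
        (Subgroup.topEquiv (G := G)).symm.surjective, fun n => rfl⟩
    obtain ⟨M, hNM, hMn, hMi⟩ := exists_normal_prime_index N ha0 ha
    haveI := Fintype.ofFinite M
    have hMt : M ≠ ⊤ := fun h => hq.one_lt.ne' (by rw [← hMi, h, Subgroup.index_top])
    obtain ⟨η, hη, hηk⟩ := hsub M hNM hMt
    haveI := Fintype.ofFinite (N.subgroupOf M)
    let e := Subgroup.subgroupOfEquivOfLe hNM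
    let φ' : IrrCharacter (N.subgroupOf M) :=
      ⟨fun x => (φ : N → ℂ) (e x), IsIrrCharacter.comp_surjective φ.2 e.toMonoidHom e.surjective⟩
    obtain ⟨χ₁, -, huniq⟩ := existsUnique_powFixed_over (N.subgroupOf M)
      (hodd.of_dvd_nat ⟨_, (Subgroup.relIndex_mul_index hNM).symm⟩)
      (hk.coprime_dvd_right (Subgroup.card_subgroup_dvd_card M))
      (fun g hg => Subtype.ext (by
        rw [SubgroupClass.coe_pow]
        exact hk2 (g : G) (by rwa [Subgroup.orderOf_coe])))
      φ' (fun x => (congrArg (φ : N → ℂ) (map_pow e x k)).trans (hφ (e x)))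
    have hover : ∀ η' : IrrCharacter M, (∀ x : N.subgroupOf M, (η' : M → ℂ) x = (φ' : _ → ℂ) x) →
        classInner (fun x : N.subgroupOf M => (η' : M → ℂ) x) (φ' : N.subgroupOf M → ℂ) ≠ 0 := by
      intro η' h
      rw [show (fun x : N.subgroupOf M => (η' : M → ℂ) x) = (φ' : N.subgroupOf M → ℂ) from funext h,
        IsIrrCharacter.classInner_self φ'.2]
      exact one_ne_zero
    have hηinv : ∀ g : G, conjFun M g (η : M → ℂ) = (η : M → ℂ) := by
      intro g
      let η' : IrrCharacter M := ⟨_, IsIrrCharacter.conjFun M η.2 g⟩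
      have h1 : η = χ₁ := huniq η ⟨hover η fun x => hη _ x.2 _, hηk⟩
      have h2 : η' = χ₁ := huniq η' ⟨hover η' fun x => by
        show (η : M → ℂ) ⟨g * (x : M) * g⁻¹, _⟩ = _
        exact (hη _ (hN.conj_mem ((x : M) : G) x.2 g)
          (hMn.conj_mem ((x : M) : G) (x : M).2 g)).trans (hN0 g (e x)), fun y => by
        show (η : M → ℂ) ⟨g * ((y ^ k : M) : G) * g⁻¹, _⟩ = (η : M → ℂ) ⟨g * (y : G) * g⁻¹, _⟩
        rw [← hηk ⟨g * (y : G) * g⁻¹, hMn.conj_mem _ y.2 g⟩]
        refine congrArg _ (Subtype.ext ?_)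
        show g * ((y ^ k : M) : G) * g⁻¹ = ((g * (y : G) * g⁻¹) ^ k)
        rw [SubgroupClass.coe_pow, conj_pow]⟩
      exact congrArg Subtype.val (h2.trans h1.symm)
    have hcyc : IsCyclic (G ⧸ M) := isCyclic_of_prime_card (by rw [← Subgroup.index_eq_card, hMi])
    obtain ⟨χ, hχ, hres⟩ := exists_irr_extension_of_cyclic hcyc η.2 fun g n => congrFun (hηinv g) n
    exact ⟨χ, hχ, fun n => (hres ⟨n, hNM n.2⟩).trans (hη n n.2 _)⟩
  · refine exists_irr_extension_of_sylow φ.2 hN0 fun q hq => ?_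
    haveI := Fact.mk hq
    obtain ⟨Q⟩ : Nonempty (Sylow q G) := inferInstance
    set P := N ⊔ (Q : Subgroup G) with hP
    have hPne : P ≠ ⊤ := by
      intro htop
      apply hpp
      obtain ⟨b, hb⟩ := Q.isPGroup'.exists_card_eq
      have h1 : N.index ∣ q ^ b := by
        rw [← hb, ← Subgroup.relIndex_top_right, ← htop, hP, sup_comm, Subgroup.relIndex_sup_right]
        exact Subgroup.relIndex_dvd_card _ _
      obtain ⟨a, -, ha⟩ := (Nat.dvd_prime_pow hq).1 h1
      exact ⟨q, a, hq, ha⟩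
    haveI := Fintype.ofFinite P
    obtain ⟨η, hη, -⟩ := hsub P le_sup_left hPne
    exact ⟨P, le_sup_left, (η : P → ℂ),
      fun hd => Q.not_dvd_index (hd.trans (Subgroup.index_dvd_of_le le_sup_right)),
      irr_isCharacter η, fun n => hη n n.2 _⟩

end Cfsg.Agent.Lib.Characters
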