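import Cfsg.Agent.Lib.Blocks.Defect
import Cfsg.Agent.Lib.Characters.Monomial
import Cfsg.Agent.Lib.Characters.PPowerDegrees
import Cfsg.Agent.Lib.BlockHeights.Extension
import Cfsg.Agent.Lib.CharMisc.ResidualCount
import Cfsg.Agent.Lib.InvChar.ItoMichler
import Cfsg.Agent.Lib.Solvable.Nilpotent
import Mathlib.GroupTheory.SchurZassenhaus

/-!
# Groups with two character degrees

If the irreducible character degrees are `1` and `m`, then there is an abelian normal subgroup of
index `m` containing the derived subgroup, or `m` is a power of a prime `p` and the group is the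
direct product of a `p`-group and an abelian group.
-/

set_option autoImplicit false
set_option linter.unusedSectionVars false
set_option linter.style.haveILetI false
set_option maxHeartbeats 1000000

namespace Cfsg.Agent.Lib.Characters

open Cfsg Cfsg.Agent.Lib.Blocks
open scoped ComplexConjugate commutatorElement

universe u

namespace TwoDegrees

variable {G : Type u} [Group G]

/-- The degrees are `1` and possibly `m`. -/
def DegLE (G : Type u) [Group G] (m : ℕ) : Prop :=
  ∀ χ : IrrCharacter G, charDegree (χ : G → ℂ) = 1 ∨ charDegree (χ : G → ℂ) = m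

theorem DegLE.map [Finite G] {m : ℕ} (h : DegLE G m) {Q : Type u} [Group Q] (f : G →* Q)
    (hf : Function.Surjective f) : DegLE Q m := fun χ => by
  have := h ⟨_, IsIrrCharacter.comp_surjective χ.2 f hf⟩
  simpa [Cfsg.charDegree] using this

theorem apply_one_eq [Finite G] (χ : IrrCharacter G) :
    (χ : G → ℂ) 1 = (charDegree (χ : G → ℂ) : ℂ) := by
  haveI := Fintype.ofFinite G
  exact (Blocks.charDegree_eq χ).symm

theorem comm_of_forall_linear [Finite G]
    (h : ∀ χ : IrrCharacter G, charDegree (χ : G → ℂ) = 1) : ∀ a b : G, a * b = b * a := by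
  rw [comm_iff_forall_irr_one]
  intro χ
  rw [apply_one_eq, h, Nat.cast_one]

/-- Every character of a subgroup lies under one of at most `index` times its degree, and the
degree is a multiple of it. -/
theorem exists_over_eq [Fintype G] (U : Subgroup G) [Fintype U] {φ : U → ℂ}
    (hφ : IsIrrCharacter U φ) :
    ∃ (χ : IrrCharacter G), classInner (fun x : U => (χ : G → ℂ) x) φ ≠ 0 ∧
      ∃ k : ℕ, (k : ℂ) = φ 1 * U.index - (χ : G → ℂ) 1 := by
  have hne : indFun U φ ≠ 0 := by
    intro h
    have h1 := congrFun h 1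
    rw [indFun_one, Pi.zero_apply] at h1
    exact mul_ne_zero (Nat.cast_ne_zero.mpr Subgroup.index_ne_zero_of_finite)
      (IsIrrCharacter.apply_one_ne_zero hφ) h1
  have hI := IsCharacter.indFun U (IsIrrCharacter.isCharacter hφ)
  obtain ⟨χ, hχ⟩ := IsCharacter.exists_constituent hI hne
  obtain ⟨ψ, hψ, he⟩ := IsCharacter.exists_add_of_classInner_ne_zero hI χ.2 hχ
  obtain ⟨k, hk⟩ := IsCharacter.exists_apply_one hψ
  refine ⟨χ, fun h0 => hχ ?_, k, ?_⟩
  · rw [classInner_indFun U _ (irr_isClassFunction χ), ← classInner_conj_symm, h0, map_zero]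
  · have h1 := congrFun he 1
    rw [Pi.add_apply, indFun_one, hk] at h1
    linear_combination -h1

/-- Taketa's argument: the derived subgroup of a nilpotent group with two degrees is abelian. -/
theorem commutator_comm_of_nilpotent [Finite G] [Group.IsNilpotent G] {m : ℕ} (hcd : DegLE G m) :
    ∀ a ∈ commutator G, ∀ b ∈ commutator G, a * b = b * a := by
  classical
  haveI := Fintype.ofFinite G
  haveI := Fintype.ofFinite (IrrCharacter G)
  intro a ha b hb
  rw [← commutatorElement_eq_one_iff_mul_comm]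
  by_contra hne
  obtain ⟨χ, hχ⟩ := exists_irr_ne_apply_one hne
  refine hχ ?_
  rcases hcd χ with h1 | hm
  · exact (IsCharacter.apply_of_mem_commutator (irr_isCharacter χ)
      (by rw [apply_one_eq, h1, Nat.cast_one])
      (Subgroup.commutator_mem_commutator (Subgroup.mem_top a) (Subgroup.mem_top b))).trans
      (by rw [apply_one_eq, h1, Nat.cast_one])
  obtain ⟨H, lam, hlam⟩ := exists_monomial χ.2
  haveI := Fintype.ofFinite H
  have hidx : H.index = m := by
    have h := congrFun hlam 1
    rw [apply_one_eq, hm, indFun_one, map_one, Units.val_one, mul_one] at h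
    exact_mod_cast h.symm
  -- the constituents of the permutation character are linear
  set π := indFun H (fun _ : H => (1 : ℂ)) with hπ
  have hπc : IsCharacter G π := IsCharacter.indFun H isCharacter_one
  obtain ⟨c, hc, hci⟩ := IsCharacter.exists_nat_decomp hπc
  have hc1 : 1 ≤ c (trivIrr G) := by
    have h := hci (trivIrr G)
    rw [hπ, classInner_indFun H _ (irr_isClassFunction _)] at h
    simp only [trivIrr_apply] at h
    rw [IsIrrCharacter.classInner_self isIrrCharacter_one] at h
    have : c (trivIrr G) = 1 := by exact_mod_cast h.symm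
    omega
  have hdeg : m = ∑ ψ, c ψ * charDegree (ψ : G → ℂ) := by
    refine Nat.cast_injective (R := ℂ) ?_
    rw [← hidx, Nat.cast_sum]
    have h : π 1 = (H.index : ℂ) := by rw [hπ, indFun_one, mul_one]
    rw [← h, hc, Finset.sum_apply]
    exact Finset.sum_congr rfl fun ψ _ => by
      rw [Pi.smul_apply, smul_eq_mul, apply_one_eq, Nat.cast_mul]
  have hlin : ∀ ψ, c ψ ≠ 0 → ∀ g ∈ commutator G, (ψ : G → ℂ) g = (ψ : G → ℂ) 1 := by
    intro ψ hψ g hg
    rcases hcd ψ with h | h
    · exact (IsCharacter.apply_of_mem_commutator (irr_isCharacter ψ)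
        (by rw [apply_one_eq, h, Nat.cast_one]) hg).trans (by rw [apply_one_eq, h, Nat.cast_one])
    · by_cases hψ1 : ψ = trivIrr G
      · simp [hψ1]
      exfalso
      have h2 := Finset.sum_le_sum_of_subset
        (f := fun ψ : IrrCharacter G => c ψ * charDegree (ψ : G → ℂ))
        (Finset.subset_univ {ψ, trivIrr G})
      rw [Finset.sum_pair hψ1, ← hdeg, h,
        show charDegree ((trivIrr G : IrrCharacter G) : G → ℂ) = 1 from
          Nat.cast_injective (R := ℂ) (by rw [← apply_one_eq, trivIrr_apply, Nat.cast_one])] at h2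
      have := Nat.le_mul_of_pos_left m (Nat.pos_of_ne_zero hψ)
      omega
  have hmemH : ∀ g ∈ commutator G, g ∈ H := by
    intro g hg
    by_contra hgH
    have h : π g = (H.index : ℂ) := by
      have h' : π 1 = (H.index : ℂ) := by rw [hπ, indFun_one, mul_one]
      rw [← h', hc, Finset.sum_apply, Finset.sum_apply]
      refine Finset.sum_congr rfl fun ψ _ => ?_
      by_cases h0 : c ψ = 0
      · simp [h0]
      · rw [Pi.smul_apply, Pi.smul_apply, hlin ψ h0 g hg]
    have hle : (Finset.univ.filter fun x : G => x⁻¹ * g * x ∈ H).card = Nat.card G := by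
      have hH : (Nat.card H : ℂ) ≠ 0 := natCard_ne_zero_complex
      rw [hπ, indFun_apply, inv_mul_eq_iff_eq_mul₀ hH, ← Nat.cast_mul,
        Subgroup.card_mul_index] at h
      refine Nat.cast_injective (R := ℂ) (h ▸ ?_)
      rw [Finset.card_eq_sum_ones, Nat.cast_sum, Finset.sum_filter]
      refine Finset.sum_congr rfl fun x _ => ?_
      split_ifs with hx
      · rw [extendByZero_of_mem H _ hx, Nat.cast_one]
      · rw [extendByZero_of_not_mem H _ hx]
    rw [Nat.card_eq_fintype_card, Finset.card_eq_iff_eq_univ] at hle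
    have h1 := Finset.mem_univ (1 : G)
    rw [← hle, Finset.mem_filter] at h1
    exact hgH (by simpa using h1.2)
  rw [hlam, indFun_apply, indFun_apply]
  refine congrArg _ (Finset.sum_congr rfl fun x _ => ?_)
  have hN : ∀ g ∈ commutator G, x⁻¹ * g * x ∈ H := fun g hg => by
    refine hmemH _ ?_
    have := Subgroup.Normal.conj_mem (inferInstance : (commutator G).Normal) g hg x⁻¹
    simpa using this
  have h1 : (1 : G) ∈ H := one_mem H
  have hab : x⁻¹ * ⁅a, b⁆ * x =
      ((⁅(⟨_, hN a ha⟩ : H), (⟨_, hN b hb⟩ : H)⁆ : H) : G) := by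
    simp [commutatorElement_def, mul_assoc]
  rw [hab, show x⁻¹ * (1 : G) * x = ((1 : H) : G) by simp, extendByZero_coe, extendByZero_coe]
  rw [map_commutatorElement, commutatorElement_eq_one_iff_mul_comm.2 (mul_comm _ _), map_one]

/-- Averaging over a subgroup of order prime to the exponent. -/
theorem eq_one_of_pow_eq_one {A : Type*} [Monoid A] {a : A} {n k : ℕ} (hn : a ^ n = 1)
    (hk : a ^ k = 1) (hcop : n.Coprime k) : a = 1 :=
  orderOf_eq_one_iff.1 (Nat.eq_one_of_dvd_coprimes hcop (orderOf_dvd_of_pow_eq_one hn)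
    (orderOf_dvd_of_pow_eq_one hk))

/-- The action of a group element on the linear characters of a normal subgroup. -/
def act (K : Subgroup G) [K.Normal] (g : G) (lam : K →* ℂˣ) : K →* ℂˣ :=
  lam.comp (MulAut.conjNormal g : MulAut K).toMonoidHom

theorem act_apply (K : Subgroup G) [K.Normal] (g : G) (lam : K →* ℂˣ) (k : K) :
    act K g lam k = lam (MulAut.conjNormal g k) := rfl

theorem act_one (K : Subgroup G) [K.Normal] (lam : K →* ℂˣ) : act K 1 lam = lam :=
  MonoidHom.ext fun k => by simp [act_apply]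

theorem act_act (K : Subgroup G) [K.Normal] (g h : G) (lam : K →* ℂˣ) :
    act K h (act K g lam) = act K (g * h) lam :=
  MonoidHom.ext fun k => by simp [act_apply]

theorem act_mul (K : Subgroup G) [K.Normal] (g : G) (lam mu : K →* ℂˣ) :
    act K g (lam * mu) = act K g lam * act K g mu := rfl

theorem act_pow (K : Subgroup G) [K.Normal] (g : G) (lam : K →* ℂˣ) (n : ℕ) :
    act K g (lam ^ n) = act K g lam ^ n := rfl

theorem act_prod (K : Subgroup G) [K.Normal] (g : G) {ι : Type*} (s : Finset ι)
    (f : ι → K →* ℂˣ) : act K g (∏ i ∈ s, f i) = ∏ i ∈ s, act K g (f i) := by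
  refine MonoidHom.ext fun k => ?_
  simp [act_apply, MonoidHom.finsetProd_apply]

/-- The stabilizer of a linear character of the kernel, inside the complement. -/
def stab (K H : Subgroup G) [K.Normal] (lam : K →* ℂˣ) : Subgroup H where
  carrier := {h | act K (h : G) lam = lam}
  one_mem' := act_one K lam
  mul_mem' := fun {a b} ha hb => by
    show act K ((a * b : H) : G) lam = lam
    rw [Subgroup.coe_mul, ← act_act, show act K (a : G) lam = lam from ha]
    exact hb
  inv_mem' := fun {a} ha => by
    show act K ((a⁻¹ : H) : G) lam = lam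
    conv_lhs => rw [← (show act K (a : G) lam = lam from ha)]
    rw [act_act, Subgroup.coe_inv, mul_inv_cancel, act_one]

theorem mem_stab (K H : Subgroup G) [K.Normal] {lam : K →* ℂˣ} {h : H} :
    h ∈ stab K H lam ↔ act K (h : G) lam = lam := Iff.rfl

section Split

variable [Finite G] {K H : Subgroup G} [K.Normal] {m : ℕ}

/-- The degrees over a linear character of the kernel. -/
theorem exists_degree_over (hab : ∀ a ∈ K, ∀ b ∈ K, a * b = b * a) (π : G →* H)
    (hπ : ∀ h : H, π h = h) (hker : ∀ g, π g = 1 ↔ g ∈ K) (lam : K →* ℂˣ)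
    (θ : IrrCharacter (stab K H lam)) :
    ∃ χ : IrrCharacter G, charDegree (χ : G → ℂ) =
      (stab K H lam).index * charDegree (θ : stab K H lam → ℂ) := by
  classical
  haveI := Fintype.ofFinite G
  haveI := Fintype.ofFinite K
  set U : Subgroup G := (stab K H lam).comap π with hU
  haveI := Fintype.ofFinite U
  have hsurj : Function.Surjective π := fun h => ⟨h, hπ h⟩
  have hKU : ∀ k ∈ K, k ∈ U := fun k hk =>
    Subgroup.mem_comap.2 (by rw [(hker k).2 hk]; exact one_mem _)
  have hfst : ∀ g : G, g * ((π g : H) : G)⁻¹ ∈ K := fun g => by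
    rw [← hker, map_mul, map_inv, hπ, mul_inv_cancel]
  let mu : U →* ℂˣ :=
    { toFun := fun g => lam ⟨(g : G) * ((π (g : G) : H) : G)⁻¹, hfst _⟩
      map_one' := by
        rw [← map_one lam]
        exact congrArg lam (Subtype.ext (by simp))
      map_mul' := fun g g' => by
        have hst := DFunLike.congr_fun ((mem_stab K H).1 (g.2 : π (g : G) ∈ (stab K H lam)))
          ⟨(g' : G) * ((π (g' : G) : H) : G)⁻¹, hfst _⟩
        rw [act_apply] at hst
        rw [← hst, ← map_mul]
        refine congrArg lam (Subtype.ext ?_)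
        simp [mul_assoc] }
  let f : U →* (stab K H lam) := (π.comp U.subtype).codRestrict (stab K H lam) (fun g => g.2)
  have hf : Function.Surjective f := fun t =>
    ⟨⟨((t : H) : G), Subgroup.mem_comap.2 (by rw [hπ]; exact t.2)⟩, Subtype.ext (hπ t)⟩
  let θ' : IrrCharacter U := ⟨_, IsIrrCharacter.comp_surjective θ.2 f hf⟩
  have hφ := BlockHeights.isIrrCharacter_mul_unitsHom θ' mu
  obtain ⟨χ, hres, k, hk⟩ := exists_over_eq U hφ
  set d := charDegree (θ : (stab K H lam) → ℂ) with hd
  have hd1 : (θ' : U → ℂ) 1 * (mu 1 : ℂ) = d := by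
    show (θ : (stab K H lam) → ℂ) (f 1) * _ = _
    rw [map_one, map_one, Units.val_one, mul_one, apply_one_eq]
  have hidx : U.index = (stab K H lam).index := Subgroup.index_comap_of_surjective _ hsurj
  rw [hd1, hidx, apply_one_eq] at hk
  -- the restriction to the kernel
  obtain ⟨ψ, hψ, hdec⟩ := IsCharacter.exists_add_of_classInner_ne_zero
    (IsCharacter.restrict (irr_isCharacter χ) U) hφ hres
  have hlam : IsIrrCharacter K (fun k => (lam k : ℂ)) := isIrrCharacter_unitsHom lam
  have hψK : IsCharacter K (fun k : K => ψ ⟨k, hKU k k.2⟩) :=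
    IsCharacter.comp hψ (Subgroup.inclusion hKU)
  obtain ⟨a, ha⟩ := IsCharacter.exists_classInner_nat hψK (IsIrrCharacter.isCharacter hlam)
  have hcK : classInner (fun k : K => (χ : G → ℂ) k) (fun k => (lam k : ℂ)) = ((d + a : ℕ) : ℂ) := by
    have he : (fun k : K => (χ : G → ℂ) k) =
        (d : ℂ) • (fun k : K => (lam k : ℂ)) + fun k : K => ψ ⟨k, hKU k k.2⟩ := by
      funext k
      have h := congrFun hdec ⟨k, hKU k k.2⟩
      refine h.trans ?_
      simp only [Pi.add_apply, Pi.smul_apply, smul_eq_mul]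
      congr 1
      show (θ : (stab K H lam) → ℂ) (f _) * (lam _ : ℂ) = _
      have hπk : π (k : G) = 1 := (hker _).2 k.2
      rw [show f ⟨k, hKU k k.2⟩ = 1 from Subtype.ext hπk, apply_one_eq, ← hd]
      show (d : ℂ) * (lam ⟨(k : G) * ((π (k : G) : H) : G)⁻¹, hfst _⟩ : ℂ) = (d : ℂ) * (lam k : ℂ)
      rw [show (⟨(k : G) * ((π (k : G) : H) : G)⁻¹, hfst _⟩ : K) = k from Subtype.ext (by
        show (k : G) * ((π (k : G) : H) : G)⁻¹ = k
        rw [hπk, OneMemClass.coe_one, inv_one, mul_one])]
    rw [he, classInner_add_left, classInner_smul_left, IsIrrCharacter.classInner_self hlam, mul_one,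
      ha, Nat.cast_add]
  have hd0 : 0 < d := charDegree_pos θ
  have hne : classInner (fun k : K => (χ : G → ℂ) k) (fun k => (lam k : ℂ)) ≠ 0 := by
    rw [hcK]; exact_mod_cast (by omega : d + a ≠ 0)
  have hdeg := degree_eq K χ.2 hlam hne
  rw [hcK, map_one, Units.val_one, mul_one, apply_one_eq, ← Nat.cast_mul, Nat.cast_inj] at hdeg
  have hin : inertia K (fun k => (lam k : ℂ)) = U := by
    ext g
    rw [mem_inertia_iff, hU, Subgroup.mem_comap, mem_stab]
    have hgk : ∀ k : K, lam (MulAut.conjNormal g k) =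
        lam (MulAut.conjNormal ((π g : H) : G) k) := by
      intro k
      have hc : (MulAut.conjNormal g k : K) =
          ⟨_, hfst g⟩ * MulAut.conjNormal ((π g : H) : G) k * (⟨_, hfst g⟩ : K)⁻¹ := by
        refine Subtype.ext ?_
        simp [mul_assoc]
      rw [hc, map_mul, map_mul, map_inv, mul_inv_cancel_comm]
    constructor
    · intro h
      exact MonoidHom.ext fun k => (hgk k).symm.trans (Units.ext (congrFun h k))
    · intro h
      exact funext fun k => congrArg Units.val ((hgk k).trans (DFunLike.congr_fun h k))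
  rw [hin, hidx] at hdeg
  have hk' : k + charDegree (χ : G → ℂ) = d * (stab K H lam).index := by
    have : ((k + charDegree (χ : G → ℂ) : ℕ) : ℂ) = ((d * (stab K H lam).index : ℕ) : ℂ) := by
      push_cast; linear_combination hk
    exact_mod_cast this
  refine ⟨χ, ?_⟩
  rw [hdeg] at hk' ⊢
  have : a * (stab K H lam).index = 0 := by rw [Nat.add_mul] at hk'; omega
  rw [Nat.add_mul, this, add_zero, mul_comm]

theorem stab_eq_top_or (hab : ∀ a ∈ K, ∀ b ∈ K, a * b = b * a) (π : G →* H)
    (hπ : ∀ h : H, π h = h) (hker : ∀ g, π g = 1 ↔ g ∈ K) (hcd : DegLE G m) (lam : K →* ℂˣ) :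
    stab K H lam = ⊤ ∨ ((stab K H lam).index = m ∧
      ∀ a b : stab K H lam, a * b = b * a) := by
  classical
  haveI := Fintype.ofFinite G
  by_cases htop : stab K H lam = ⊤
  · exact Or.inl htop
  refine Or.inr ?_
  have hi1 : (stab K H lam).index ≠ 1 := fun h => htop (Subgroup.index_eq_one.1 h)
  have hidx : (stab K H lam).index = m := by
    obtain ⟨χ, hχ⟩ := exists_degree_over hab π hπ hker lam (trivIrr _)
    rw [show charDegree ((trivIrr (stab K H lam) : IrrCharacter _) : stab K H lam → ℂ) = 1 from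
      Nat.cast_injective (R := ℂ) (by rw [← apply_one_eq, trivIrr_apply, Nat.cast_one]), mul_one] at hχ
    rcases hcd χ with h | h <;> omega
  refine ⟨hidx, comm_of_forall_linear fun θ => ?_⟩
  obtain ⟨χ, hχ⟩ := exists_degree_over hab π hπ hker lam θ
  rcases hcd χ with h | h
  · rw [h] at hχ
    exact Nat.eq_one_of_mul_eq_one_left hχ.symm
  · rw [h, hidx] at hχ
    have hm0 : 0 < m := h ▸ charDegree_pos χ
    exact ((mul_eq_left₀ hm0.ne').1 hχ.symm)

/-- The main step: a coprime nilpotent complement acting nontrivially. -/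
theorem exists_abelian_of_split [Group.IsNilpotent H]
    (hab : ∀ a ∈ K, ∀ b ∈ K, a * b = b * a) (hcop : (Nat.card K).Coprime (Nat.card H))
    (π : G →* H) (hπ : ∀ h : H, π h = h) (hker : ∀ g, π g = 1 ↔ g ∈ K) (hcd : DegLE G m)
    (hne : ¬ ∀ h ∈ H, ∀ k ∈ K, h * k = k * h) :
    ∃ A : Subgroup G, A.Normal ∧ (∀ a ∈ A, ∀ b ∈ A, a * b = b * a) ∧ A.index = m ∧
      commutator G ≤ A := by
  classical
  haveI := Fintype.ofFinite G
  haveI := Fintype.ofFinite K
  haveI := Fintype.ofFinite H
  haveI : Fintype (IrrCharacter H) := Fintype.ofFinite _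
  have hsurj : Function.Surjective π := fun h => ⟨h, hπ h⟩
  set C : Subgroup H := ⨅ lam : K →* ℂˣ, stab K H lam with hC
  have hKc : ∀ a b : K, a * b = b * a := fun a b => Subtype.ext (hab a a.2 b b.2)
  have hCmem : ∀ h : H, h ∈ C ↔ ∀ k ∈ K, (h : G) * k = k * h := by
    intro h
    rw [hC, Subgroup.mem_iInf]
    constructor
    · intro hh k hk
      by_contra hne'
      have hx : MulAut.conjNormal (h : G) (⟨k, hk⟩ : K) * (⟨k, hk⟩ : K)⁻¹ ≠ 1 := by
        intro he
        rw [mul_inv_eq_one] at he
        have := congrArg Subtype.val he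
        simp at this
        exact hne' (mul_inv_eq_iff_eq_mul.1 this)
      obtain ⟨χ, hχ⟩ := exists_irr_ne_apply_one hx
      obtain ⟨l, hl⟩ := IsCharacter.exists_hom_of_apply_one (irr_isCharacter χ)
        (IsIrrCharacter.apply_one_of_comm hKc χ.2)
      refine hχ ?_
      have h2 := DFunLike.congr_fun ((mem_stab K H).1 (hh l)) ⟨k, hk⟩
      rw [act_apply] at h2
      simp [hl, h2]
    · intro hh lam
      rw [mem_stab]
      refine MonoidHom.ext fun k => ?_
      rw [act_apply]
      exact congrArg lam (Subtype.ext (by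
        rw [MulAut.conjNormal_apply, hh k k.2, mul_inv_cancel_right]))
  haveI hCn : C.Normal := ⟨fun c hc h => by
    rw [hCmem]
    intro k hk
    have hk' : (h : G)⁻¹ * k * h ∈ K := by
      have := Subgroup.Normal.conj_mem ‹K.Normal› k hk (h : G)⁻¹
      simpa using this
    have := (hCmem c).1 hc _ hk'
    calc ((h * c * h⁻¹ : H) : G) * k = (h : G) * ((c : G) * ((h : G)⁻¹ * k * h)) * (h : G)⁻¹ := by
          simp [mul_assoc]
      _ = (h : G) * (((h : G)⁻¹ * k * h) * c) * (h : G)⁻¹ := by rw [this]
      _ = k * ((h * c * h⁻¹ : H) : G) := by simp [mul_assoc]⟩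
  have hCtop : C ≠ ⊤ := fun h => hne fun x hx k hk =>
    (hCmem ⟨x, hx⟩).1 (h ▸ Subgroup.mem_top _) k hk
  -- an element central modulo `C`
  haveI : Nontrivial (H ⧸ C) := QuotientGroup.nontrivial_iff.2 hCtop
  obtain ⟨⟨z, hz⟩, hz1⟩ : ∃ z : Subgroup.center (H ⧸ C), z ≠ 1 :=
    haveI : Nontrivial (Subgroup.center (H ⧸ C)) := by
      rw [Subgroup.nontrivial_iff_ne_bot]
      simpa using Solvable.inf_center_ne_bot (G := H ⧸ C) (N := ⊤) top_ne_bot
    exists_ne 1
  obtain ⟨d, rfl⟩ := QuotientGroup.mk'_surjective C z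
  have hdC : d ∉ C := fun h => hz1 (Subtype.ext ((QuotientGroup.eq_one_iff d).2 h))
  have hdc : ∀ h : H, ⁅h, d⁆ ∈ C := fun h => by
    rw [← QuotientGroup.eq_one_iff]
    show QuotientGroup.mk' C ⁅h, d⁆ = 1
    rw [map_commutatorElement, commutatorElement_eq_one_iff_mul_comm]
    exact Subgroup.mem_center_iff.1 hz _
  obtain ⟨lam1, hd1⟩ : ∃ lam : K →* ℂˣ, d ∉ stab K H lam := by
    by_contra hall
    push Not at hall
    exact hdC (Subgroup.mem_iInf.2 hall)
  obtain ⟨hidx1, hT1ab⟩ := (stab_eq_top_or hab π hπ hker hcd lam1).resolve_left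
    (fun h => hd1 (h ▸ Subgroup.mem_top d))
  set T1 := stab K H lam1 with hT1
  have hCT : ∀ lam, C ≤ stab K H lam := fun lam => iInf_le _ lam
  have hcdH : DegLE H m := hcd.map π hsurj
  -- nonlinear characters of the complement vanish at `d`
  have hvan : ∀ χ : IrrCharacter H, charDegree (χ : H → ℂ) ≠ 1 → (χ : H → ℂ) d = 0 := by
    intro χ hχ1
    have hm : charDegree (χ : H → ℂ) = m := (hcdH χ).resolve_left hχ1
    haveI := Fintype.ofFinite T1
    obtain ⟨θ, hθ⟩ := IsCharacter.exists_constituent
      (IsCharacter.restrict (irr_isCharacter χ) T1)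
      (fun h => IsIrrCharacter.apply_one_ne_zero χ.2 (congrFun h 1))
    have hθ1 : (θ : T1 → ℂ) 1 = 1 := IsIrrCharacter.apply_one_of_comm hT1ab θ.2
    have hI := IsCharacter.indFun T1 (irr_isCharacter θ)
    have hne' : classInner (indFun T1 (θ : T1 → ℂ)) (χ : H → ℂ) ≠ 0 := by
      rw [classInner_indFun T1 _ (irr_isClassFunction χ), ← classInner_conj_symm]
      exact (map_ne_zero _).2 hθ
    obtain ⟨ψ, hψ, he⟩ := IsCharacter.exists_add_of_classInner_ne_zero hI χ.2 hne'
    have hψ1 : ψ 1 = 0 := by
      have h1 := congrFun he 1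
      rw [indFun_one, hθ1, mul_one, Pi.add_apply, apply_one_eq, hm, hidx1] at h1
      linear_combination -h1
    have hψ0 : ψ d = 0 := by
      have h := IsCharacter.norm_le_re hψ d
      rw [hψ1, Complex.zero_re] at h
      exact norm_eq_zero.1 (le_antisymm h (norm_nonneg _))
    have h2 := congrFun he d
    rw [Pi.add_apply, hψ0, add_zero] at h2
    rw [← h2]
    refine indFun_eq_zero T1 _ fun x hx => hd1 ?_
    have h3 : ⁅x⁻¹, d⁆ ∈ T1 := hCT lam1 (hdc _)
    have h4 : d = ⁅x⁻¹, d⁆⁻¹ * (x⁻¹ * d * x) := by simp [commutatorElement_def, mul_assoc]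
    rw [h4]
    exact mul_mem (inv_mem h3) hx
  have hcent : Nat.card (Subgroup.centralizer ({d} : Set H)) = (commutator H).index := by
    refine Nat.cast_injective (R := ℂ) ?_
    have h := sum_irr_mul_conj d d
    rw [if_pos (IsConj.refl d)] at h
    rw [← h, ← card_linear_irr, Nat.card_eq_fintype_card, Fintype.card_subtype,
      Finset.card_eq_sum_ones, Nat.cast_sum, Finset.sum_filter]
    refine Finset.sum_congr rfl fun χ _ => ?_
    by_cases hl : charDegree (χ : H → ℂ) = 1
    · rw [if_pos (by rw [apply_one_eq, hl, Nat.cast_one])]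
      obtain ⟨l, hl'⟩ := IsCharacter.exists_hom_of_apply_one (irr_isCharacter χ)
        (by rw [apply_one_eq, hl, Nat.cast_one])
      rw [hl', Nat.cast_one, mul_comm]
      exact BlockHeights.conj_unitsHom_mul l d
    · rw [if_neg (fun h1 => hl (Nat.cast_injective (R := ℂ) (by rw [← apply_one_eq, h1, Nat.cast_one]))),
        hvan χ hl, zero_mul]
  have hHC : commutator H ≤ C := by
    set Z := Subgroup.centralizer ({d} : Set H) with hZ
    have hcard : Nat.card (commutator H) ≤ Nat.card (commutator H ⊓ C : Subgroup H) := by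
      have h1 : Nat.card (H ⧸ Z) = Nat.card (commutator H) := by
        have e1 := (commutator H).card_mul_index
        have e2 := Z.card_mul_index
        rw [hcent] at e2
        rw [← Subgroup.index_eq_card]
        refine Nat.eq_of_mul_eq_mul_left
          (Nat.pos_of_ne_zero (Subgroup.index_ne_zero_of_finite (H := commutator H))) ?_
        rw [e2, ← e1, mul_comm]
      rw [← h1]
      refine Nat.card_le_card_of_injective (fun q => ⟨⁅q.out, d⁆,
        Subgroup.commutator_mem_commutator (Subgroup.mem_top _) (Subgroup.mem_top _), hdc _⟩) ?_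
      intro q q' he
      have he' : ⁅q.out, d⁆ = ⁅q'.out, d⁆ := congrArg Subtype.val he
      rw [← q.out_eq, ← q'.out_eq]
      refine QuotientGroup.eq.2 (Subgroup.mem_centralizer_singleton_iff.2 ?_)
      simp only [commutatorElement_def] at he'
      have h5 : q.out * d * q.out⁻¹ = q'.out * d * q'.out⁻¹ := mul_right_cancel he'
      calc q.out⁻¹ * q'.out * d = q.out⁻¹ * (q'.out * d * q'.out⁻¹) * q'.out := by group
        _ = q.out⁻¹ * (q.out * d * q.out⁻¹) * q'.out := by rw [h5]
        _ = d * (q.out⁻¹ * q'.out) := by group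
    exact inf_eq_left.1 (Subgroup.eq_of_le_of_card_ge inf_le_left hcard)
  have hnormal : ∀ lam, (stab K H lam).Normal := fun lam => ⟨fun x hx g => by
    have h1 : ⁅g, x⁆ ∈ stab K H lam := hCT lam
      (hHC (Subgroup.commutator_mem_commutator (Subgroup.mem_top g) (Subgroup.mem_top x)))
    have h2 := mul_mem h1 hx
    rwa [commutatorElement_def, inv_mul_cancel_right] at h2⟩
  -- all stabilizers contain the first one
  haveI := Fintype.ofFinite T1
  set n := Fintype.card T1 with hn
  have hncop : n.Coprime (Nat.card K) := by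
    refine Nat.Coprime.symm (Nat.Coprime.coprime_dvd_right ?_ hcop)
    rw [hn, ← Nat.card_eq_fintype_card]
    exact Subgroup.card_subgroup_dvd_card T1
  have hexp : ∀ lam : K →* ℂˣ, lam ^ Nat.card K = 1 := fun lam => MonoidHom.ext fun k => by
    rw [MonoidHom.pow_apply, ← map_pow, pow_card_eq_one', map_one, MonoidHom.one_apply]
  let Nm : (K →* ℂˣ) → (K →* ℂˣ) := fun mu => ∏ t : T1, act K ((t : H) : G) mu
  have hNm1 : ∀ mu (t : T1), act K ((t : H) : G) (Nm mu) = Nm mu := by
    intro mu t
    simp only [Nm, act_prod, act_act]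
    exact Fintype.prod_equiv (Equiv.mulRight t) _ _ fun s => by simp
  have hNmfix : ∀ mu, (∀ t : T1, act K ((t : H) : G) mu = mu) → Nm mu = mu ^ n := by
    intro mu hmu
    simp only [Nm, hmu, Finset.prod_const, Finset.card_univ, ← hn]
  have hNmmul : ∀ mu nu, Nm (mu * nu) = Nm mu * Nm nu := fun mu nu => by
    simp only [Nm, act_mul, Finset.prod_mul_distrib]
  have hNmeq : ∀ (h : H) mu, act K (h : G) (Nm mu) = Nm (act K (h : G) mu) := by
    intro h mu
    simp only [Nm, act_prod, act_act]
    haveI := hnormal lam1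
    refine Fintype.prod_equiv (MulAut.conjNormal (h⁻¹ : H) : MulAut T1).toEquiv _ _ fun s => ?_
    congr 1
    simp [mul_assoc]
  have hall : ∀ mu, T1 ≤ stab K H mu := by
    intro mu
    set del := mu ^ n / Nm mu with hdel
    have hNdel : Nm del = 1 := by
      have h1 : Nm (mu ^ n) = Nm mu ^ n := by
        simp only [Nm, act_pow, Finset.prod_pow]
      have h2 : mu ^ n = del * Nm mu := (div_mul_cancel (mu ^ n) (Nm mu)).symm
      have h3 := h1
      rw [h2, hNmmul, hNmfix (Nm mu) (hNm1 mu)] at h3
      exact (mul_eq_right (a := Nm del) (b := Nm mu ^ n)).1 h3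
    have hle : stab K H (lam1 * del) ≤ T1 ⊓ stab K H del := by
      intro h hh
      rw [mem_stab] at hh
      have h1 : act K (h : G) (lam1 ^ n) = lam1 ^ n := by
        have h' := hNmeq h (lam1 * del)
        rw [hh, hNmmul, hNdel, hNmfix lam1 (fun t => t.2)] at h'
        exact MonoidHom.ext fun k => by simpa [act_apply] using DFunLike.congr_fun h' k
      have h2 : act K (h : G) lam1 = lam1 := by
        rw [act_pow] at h1
        refine mul_inv_eq_one.1 (eq_one_of_pow_eq_one ?_ (hexp _) hncop)
        rw [mul_pow, inv_pow, h1, mul_inv_cancel]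
      refine ⟨h2, ?_⟩
      rw [act_mul, h2] at hh
      exact mul_left_cancel hh
    have hne' : stab K H (lam1 * del) ≠ ⊤ := fun h => hd1
      (hle (h ▸ Subgroup.mem_top d)).1
    obtain ⟨hidx', -⟩ := (stab_eq_top_or hab π hπ hker hcd _).resolve_left hne'
    have heq : stab K H (lam1 * del) = T1 := by
      refine Subgroup.eq_of_le_of_card_ge (hle.trans inf_le_left) (le_of_eq ?_)
      have e1 := T1.card_mul_index
      have e2 := (stab K H (lam1 * del)).card_mul_index
      rw [hidx1, ← e2, hidx'] at e1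
      have hm0 : 0 < m := hidx1 ▸ Nat.pos_of_ne_zero Subgroup.index_ne_zero_of_finite
      exact Nat.eq_of_mul_eq_mul_right hm0 e1
    have hT1del : T1 ≤ stab K H del := (heq.ge.trans hle).trans inf_le_right
    have hdel1 : del = 1 := by
      refine eq_one_of_pow_eq_one (A := K →* ℂˣ) (a := del) ?_ (hexp del) hncop
      rw [← hNmfix del (fun t => hT1del t.2), hNdel]
    intro t ht
    rw [mem_stab]
    refine mul_inv_eq_one.1 (eq_one_of_pow_eq_one ?_ (hexp _) hncop)
    rw [mul_pow, inv_pow, ← act_pow, show mu ^ n = Nm mu from (div_eq_one (a := mu ^ n)).1 (hdel ▸ hdel1),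
      hNm1 mu ⟨t, ht⟩, mul_inv_cancel]
  have hCeq : C = T1 := le_antisymm (hCT lam1) (le_iInf hall)
  refine ⟨C.comap π, hCn.comap π, ?_, ?_, ?_⟩
  · have hdec : ∀ g : G, g = g * ((π g : H) : G)⁻¹ * ((π g : H) : G) := fun g => by group
    have hfst : ∀ g : G, g * ((π g : H) : G)⁻¹ ∈ K := fun g => by
      rw [← hker, map_mul, map_inv, hπ, mul_inv_cancel]
    intro a ha b hb
    have hva := (hCmem _).1 (Subgroup.mem_comap.1 ha)
    have hvb := (hCmem _).1 (Subgroup.mem_comap.1 hb)
    have hvv : Commute ((π a : H) : G) ((π b : H) : G) := by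
      have := congrArg (fun x : T1 => ((x : H) : G))
        (hT1ab ⟨π a, hCT lam1 ha⟩ ⟨π b, hCT lam1 hb⟩)
      exact this
    rw [hdec a, hdec b]
    exact ((show Commute _ _ from hab _ (hfst a) _ (hfst b)).mul_right
      (show Commute _ _ from (hvb _ (hfst a)).symm)).mul_left
      ((show Commute _ _ from hva _ (hfst b)).mul_right hvv)
  · rw [Subgroup.index_comap_of_surjective _ hsurj, hCeq, hidx1]
  · rw [← Subgroup.map_le_iff_le_comap, commutator_def, Subgroup.map_commutator]
    exact (Subgroup.commutator_mono le_top le_top).trans hHC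

end Split

/-- The structure of a group with the degrees `1` and `m`. -/
theorem structure_of_degLE [Finite G] {m : ℕ} (hcd : DegLE G m)
    (hm : ∃ χ : IrrCharacter G, charDegree (χ : G → ℂ) = m) (hm1 : m ≠ 1) :
    (∃ A : Subgroup G, A.Normal ∧ (∀ a ∈ A, ∀ b ∈ A, a * b = b * a) ∧ A.index = m ∧
      commutator G ≤ A) ∨
    ∃ p e : ℕ, p.Prime ∧ m = p ^ e ∧ ∃ P A : Subgroup G, P.Normal ∧ A.Normal ∧ IsPGroup p P ∧
      (∀ a ∈ A, ∀ b ∈ A, a * b = b * a) ∧ P ⊓ A = ⊥ ∧ P ⊔ A = ⊤ ∧
      (∀ x ∈ P, ∀ y ∈ A, x * y = y * x) ∧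
      ∀ a ∈ commutator G, ∀ b ∈ commutator G, a * b = b * a := by
  classical
  haveI := Fintype.ofFinite G
  have hnot : ¬ ∀ a b : G, a * b = b * a := by
    intro h
    obtain ⟨χ, hχ⟩ := hm
    refine hm1 ?_
    rw [← hχ]
    exact Nat.cast_injective (R := ℂ)
      (by rw [← apply_one_eq, IsIrrCharacter.apply_one_of_comm h χ.2, Nat.cast_one])
  have hm0 : m ≠ 0 := by
    obtain ⟨χ, hχ⟩ := hm
    exact hχ ▸ (charDegree_pos χ).ne'
  -- the kernel: an abelian normal subgroup of order prime to its index, and a complement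
  have key : ∀ K H : Subgroup G, K.Normal → (∀ a ∈ K, ∀ b ∈ K, a * b = b * a) →
      Subgroup.IsComplement' K H → (Nat.card K).Coprime (Nat.card H) → Group.IsNilpotent H →
      (∃ A : Subgroup G, A.Normal ∧ (∀ a ∈ A, ∀ b ∈ A, a * b = b * a) ∧ A.index = m ∧
        commutator G ≤ A) ∨
      (H.Normal ∧ (∀ x ∈ H, ∀ y ∈ K, x * y = y * x) ∧ DegLE H m ∧
        ∃ π : G →* H, (∀ h : H, π h = h) ∧ ∀ g, π g = 1 ↔ g ∈ K) := by
    intro K H hKn hab hc hcop hnil
    have hbij : Function.Bijective ((QuotientGroup.mk' K).comp H.subtype) := by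
      constructor
      · rw [injective_iff_map_eq_one]
        intro h hh
        have hK : (h : G) ∈ K := (QuotientGroup.eq_one_iff (h : G)).1 hh
        exact Subtype.ext ((Subgroup.disjoint_def.1 hc.disjoint) hK h.2)
      · intro q
        obtain ⟨g, rfl⟩ := QuotientGroup.mk'_surjective K q
        obtain ⟨⟨k, h⟩, hkh⟩ := hc.2 g
        refine ⟨h, ?_⟩
        rw [← hkh]
        show QuotientGroup.mk' K (h : G) = QuotientGroup.mk' K ((k : G) * (h : G))
        rw [map_mul, show QuotientGroup.mk' K (k : G) = 1 from (QuotientGroup.eq_one_iff (k : G)).2 k.2,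
          one_mul]
    let e := MulEquiv.ofBijective _ hbij
    let π : G →* H := e.symm.toMonoidHom.comp (QuotientGroup.mk' K)
    have hπ : ∀ h : H, π h = h := fun h => e.symm_apply_apply h
    have hker : ∀ g, π g = 1 ↔ g ∈ K := fun g => by
      show e.symm (QuotientGroup.mk' K g) = 1 ↔ _
      rw [MulEquiv.map_eq_one_iff, QuotientGroup.mk'_apply, QuotientGroup.eq_one_iff]
    by_cases hcen : ∀ h ∈ H, ∀ k ∈ K, h * k = k * h
    · refine Or.inr ⟨⟨fun x hx g => ?_⟩, hcen, hcd.map π (fun h => ⟨h, hπ h⟩), π, hπ, hker⟩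
      obtain ⟨⟨k, h⟩, rfl⟩ := hc.2 g
      have hy : (h : G) * x * (h : G)⁻¹ ∈ H := mul_mem (mul_mem h.2 hx) (inv_mem h.2)
      have : (k : G) * (h : G) * x * ((k : G) * (h : G))⁻¹ = (h : G) * x * (h : G)⁻¹ := by
        calc (k : G) * (h : G) * x * ((k : G) * (h : G))⁻¹
            = (k : G) * ((h : G) * x * (h : G)⁻¹) * (k : G)⁻¹ := by group
          _ = (h : G) * x * (h : G)⁻¹ * (k : G) * (k : G)⁻¹ := by rw [hcen _ hy k k.2]
          _ = (h : G) * x * (h : G)⁻¹ := by group
      show (k : G) * (h : G) * x * ((k : G) * (h : G))⁻¹ ∈ H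
      rw [this]; exact hy
    · exact Or.inl (exists_abelian_of_split hab hcop π hπ hker hcd hcen)
  by_cases hpp : IsPrimePow m
  · obtain ⟨p, e, hp, he, rfl⟩ := (isPrimePow_nat_iff m).1 hpp
    haveI := Fact.mk hp
    obtain ⟨A, hA, hAab, hAcop, k, hk⟩ := (degrees_pPower_iff (G := G) hp).1 fun χ => by
      rcases hcd χ with h | h
      · exact ⟨0, by rw [apply_one_eq, h, Nat.cast_one, pow_zero]⟩
      · exact ⟨e, by rw [apply_one_eq, h, Nat.cast_pow]⟩
    obtain ⟨P⟩ : Nonempty (Sylow p G) := inferInstance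
    have hcop : (Nat.card A).Coprime (Nat.card (P : Subgroup G)) := by
      rw [P.card_eq_multiplicity]; exact hAcop.pow_right _
    have hcardP : Nat.card (P : Subgroup G) = p ^ k := by
      have h1 := A.card_mul_index
      rw [hk] at h1
      rw [P.card_eq_multiplicity, ← h1,
        Nat.factorization_mul Nat.card_pos.ne' (pow_ne_zero _ hp.ne_zero)]
      rw [Finsupp.add_apply, Nat.factorization_eq_zero_of_not_dvd ((hp.coprime_iff_not_dvd).1 hAcop.symm),
        zero_add, hp.factorization_pow, Finsupp.single_eq_same]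
    have hc : Subgroup.IsComplement' A (P : Subgroup G) :=
      Subgroup.isComplement'_of_coprime (by rw [hcardP, ← hk, A.card_mul_index]) hcop
    rcases key A P hA hAab hc hcop P.2.isNilpotent with h | ⟨hPn, hcen, hcdP, π, hπ, hker⟩
    · exact Or.inl h
    · refine Or.inr ⟨p, e, hp, rfl, P, A, hPn, hA, P.2, hAab, ?_, ?_, hcen, ?_⟩
      · rw [inf_comm]; exact hc.disjoint.eq_bot
      · rw [sup_comm]; exact hc.sup_eq_top
      · haveI := P.2.isNilpotent
        have hP' := commutator_comm_of_nilpotent hcdP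
        have hle : commutator G ≤ (commutator (P : Subgroup G)).map (P : Subgroup G).subtype := by
          rw [commutator_def, Subgroup.commutator_le]
          intro x _ y _
          obtain ⟨⟨a, u⟩, rfl⟩ := hc.2 x
          obtain ⟨⟨b, v⟩, rfl⟩ := hc.2 y
          refine ⟨⁅u, v⁆, Subgroup.commutator_mem_commutator (Subgroup.mem_top u) (Subgroup.mem_top v), ?_⟩
          have c1 : ∀ (z : (P : Subgroup G)) (c : A), Commute (z : G) (c : G) := fun z c => hcen z z.2 c c.2
          have c2 : Commute (a : G) (b : G) := hAab a a.2 b b.2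
          show ((⁅u, v⁆ : (P : Subgroup G)) : G) = ⁅(a : G) * (u : G), (b : G) * (v : G)⁆
          simp only [commutatorElement_def, Subgroup.coe_mul, Subgroup.coe_inv]
          have e1 : (a : G) * (u : G) * ((b : G) * (v : G)) = (a : G) * (b : G) * ((u : G) * (v : G)) := by
            rw [mul_assoc, ← mul_assoc (u : G), (c1 u b).eq]; group
          have e2 : (b : G) * (v : G) * ((a : G) * (u : G)) = (a : G) * (b : G) * ((v : G) * (u : G)) := by
            rw [mul_assoc, ← mul_assoc (v : G), (c1 v a).eq, c2.eq]; group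
          have c3 : Commute ((a : G) * (b : G)) ((u : G) * (v : G) * ((u : G))⁻¹ * ((v : G))⁻¹) :=
            (c1 (u * v * u⁻¹ * v⁻¹) (a * b)).symm
          calc (u : G) * (v : G) * (u : G)⁻¹ * (v : G)⁻¹
              = (u : G) * (v : G) * (u : G)⁻¹ * (v : G)⁻¹ * ((a : G) * (b : G)) * ((a : G) * (b : G))⁻¹ := by
                group
            _ = (a : G) * (b : G) * ((u : G) * (v : G)) * ((a : G) * (b : G) * ((v : G) * (u : G)))⁻¹ := by
                rw [← c3.eq]; group
            _ = (a : G) * (u : G) * ((b : G) * (v : G)) * ((b : G) * (v : G) * ((a : G) * (u : G)))⁻¹ := by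
                rw [e1, e2]
            _ = (a : G) * (u : G) * ((b : G) * (v : G)) * ((a : G) * (u : G))⁻¹ *
                ((b : G) * (v : G))⁻¹ := by group
        intro x hx y hy
        obtain ⟨x', hx', rfl⟩ := hle hx
        obtain ⟨y', hy', rfl⟩ := hle hy
        exact congrArg Subtype.val (hP' x' hx' y' hy')
  · -- `m` is not a prime power
    left
    have hq : ∀ q ∈ m.primeFactors, (Nat.card (pResidual q G)).Coprime q ∧
        ∃ j, (pResidual q G).index = q ^ j := by
      intro q hqm
      have hqp := Nat.prime_of_mem_primeFactors hqm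
      haveI := Fact.mk hqp
      haveI := Cfsg.Agent.Lib.LocalEven.pResidual_normal q G
      refine ⟨Cfsg.Agent.Lib.CharMisc.coprime_card_pResidual hqp fun χ hχ => ?_, ?_⟩
      · rw [(hcd χ).resolve_left hχ]
        exact Nat.dvd_of_mem_primeFactors hqm
      · obtain ⟨j, hj⟩ := (Cfsg.Agent.Lib.LocalEven.quotient_pResidual_isPGroup (p := q)
          (Cfsg.pResidual q G) le_rfl).exists_card_eq
        exact ⟨j, by rw [Subgroup.index_eq_card, hj]⟩
    haveI hnorm : ∀ q, (pResidual q G).Normal := fun q => Cfsg.Agent.Lib.LocalEven.pResidual_normal q G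
    set K : Subgroup G := ⨅ q : m.primeFactors, pResidual (q : ℕ) G with hK
    haveI hKn : K.Normal := Subgroup.normal_iInf_normal fun q => hnorm q
    have hKle : ∀ q ∈ m.primeFactors, K ≤ pResidual q G := fun q hq' =>
      iInf_le (fun q : m.primeFactors => pResidual (q : ℕ) G) ⟨q, hq'⟩
    -- the quotient is abelian
    have hGK : commutator G ≤ K := by
      refine le_iInf fun q => ?_
      obtain ⟨q, hq'⟩ := q
      obtain ⟨-, j, hj⟩ := hq q hq'
      have hqp := Nat.prime_of_mem_primeFactors hq'
      refine Subgroup.Normal.quotient_commutative_iff_commutator_le.1 ⟨⟨comm_of_forall_linear fun χ => ?_⟩⟩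
      rcases (hcd.map (QuotientGroup.mk' (pResidual q G)) (QuotientGroup.mk'_surjective _)) χ with h | h
      · exact h
      · exfalso
        obtain ⟨d, -, hd, hdvd⟩ := IsIrrCharacter.exists_degree_dvd χ.2
        rw [← Subgroup.index_eq_card, hj, Nat.dvd_prime_pow hqp] at hdvd
        obtain ⟨i, -, rfl⟩ := hdvd
        rw [apply_one_eq, h] at hd
        refine hpp ((isPrimePow_nat_iff m).2 ⟨q, i, hqp, ?_, (Nat.cast_inj.1 hd).symm⟩)
        by_contra hi
        rw [show i = 0 by omega, pow_zero, Nat.cast_inj] at hd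
        exact hm1 hd
    have hKcop : (Nat.card K).Coprime m := by
      refine Nat.coprime_of_dvd fun q hqp h1 h2 => ?_
      have hq' : q ∈ m.primeFactors := Nat.mem_primeFactors.2 ⟨hqp, h2, hm0⟩
      exact (hqp.coprime_iff_not_dvd.1 (hq q hq').1.symm)
        (h1.trans (Subgroup.card_dvd_of_le (hKle q hq')))
    have hKab : ∀ a ∈ K, ∀ b ∈ K, a * b = b * a := by
      intro a ha b hb
      refine congrArg Subtype.val
        (comm_of_forall_linear (G := K) (fun θ => ?_) ⟨a, ha⟩ ⟨b, hb⟩)
      haveI := Fintype.ofFinite K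
      obtain ⟨χ, d, e, hd, hχ⟩ := InvChar.ItoMichler.exists_over K θ
      obtain ⟨d', -, hd', hdvd⟩ := IsIrrCharacter.exists_degree_dvd θ.2
      have hdd : charDegree (θ : K → ℂ) = d := InvChar.ItoMichler.charDegree_eq hd
      rw [hd, Nat.cast_inj] at hd'
      rw [hdd]
      rcases hcd χ with h | h <;> rw [InvChar.ItoMichler.charDegree_eq hχ] at h
      · exact Nat.eq_one_of_mul_eq_one_left h
      · exact Nat.eq_one_of_dvd_coprimes hKcop (hd' ▸ hdvd) (h ▸ dvd_mul_left d _)
    have hidx : (Nat.card K).Coprime K.index := by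
      refine Nat.coprime_of_dvd fun r hrp h1 h2 => ?_
      obtain ⟨⟨q, hq'⟩, hrq⟩ : ∃ q : m.primeFactors, r ∣ (pResidual (q : ℕ) G).index := by
        by_contra hno
        push Not at hno
        have := (Subgroup.index_iInf_le (f := fun q : m.primeFactors => pResidual (q : ℕ) G))
        have hdvd : K.index ∣ ∏ q : m.primeFactors, (pResidual (q : ℕ) G).index := by
          rw [Subgroup.index_eq_card]
          let φ : G →* ∀ q : m.primeFactors, G ⧸ pResidual (q : ℕ) G :=
            Pi.monoidHom fun q => QuotientGroup.mk' _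
          have hkerφ : φ.ker = K := by
            ext g
            simp [φ, hK, funext_iff, Subgroup.mem_iInf, QuotientGroup.eq_one_iff, Pi.monoidHom]
          rw [← Subgroup.index_eq_card, ← hkerφ, Subgroup.index_ker]
          refine (Subgroup.card_subgroup_dvd_card φ.range).trans ?_
          rw [Nat.card_pi]
          simp [Subgroup.index_eq_card]
        obtain ⟨q, -, hq2⟩ := (hrp.prime.dvd_finsetProd_iff _).1 (h2.trans hdvd)
        exact hno q hq2
      obtain ⟨-, j, hj⟩ := hq q hq'
      rw [hj] at hrq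
      have hrq' := (Nat.prime_dvd_prime_iff_eq hrp (Nat.prime_of_mem_primeFactors hq')).1
        (hrp.dvd_of_dvd_pow hrq)
      subst hrq'
      exact hrp.ne_one (Nat.eq_one_of_dvd_coprimes hKcop h1 (Nat.dvd_of_mem_primeFactors hq'))
    obtain ⟨H, hc⟩ := Subgroup.exists_right_complement'_of_coprime hidx
    have hHab : ∀ a b : H, a * b = b * a := by
      intro a b
      refine Subtype.ext ?_
      have h1 : ⁅(a : G), (b : G)⁆ ∈ K :=
        hGK (Subgroup.commutator_mem_commutator (Subgroup.mem_top _) (Subgroup.mem_top _))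
      have h2 : ⁅(a : G), (b : G)⁆ ∈ H := mul_mem (mul_mem (mul_mem a.2 b.2) (inv_mem a.2)) (inv_mem b.2)
      have := (Subgroup.disjoint_def.1 hc.disjoint) h1 h2
      exact commutatorElement_eq_one_iff_mul_comm.1 this
    letI : CommGroup H := { (inferInstance : Group H) with mul_comm := hHab }
    have hcop : (Nat.card K).Coprime (Nat.card H) := by
      rwa [← hc.symm.index_eq_card]
    rcases key K H hKn hKab hc hcop CommGroup.isNilpotent with h | ⟨-, hcen, -⟩
    · exact h
    · exfalso
      refine hnot fun x y => ?_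
      obtain ⟨⟨k, h⟩, rfl⟩ := hc.2 x
      obtain ⟨⟨k', h'⟩, rfl⟩ := hc.2 y
      exact ((show Commute (k : G) k' from hKab k k.2 k' k'.2).mul_right
        (show Commute _ _ from (hcen h' h'.2 k k.2).symm)).mul_left
        ((show Commute _ _ from hcen h h.2 k' k'.2).mul_right
          (show Commute (h : G) h' from congrArg Subtype.val (hHab h h')))

end TwoDegrees

end Cfsg.Agent.Lib.Characters
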