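import Cfsg.Agent.Lib.Characters.SmallDegreePrime
import Cfsg.Agent.Lib.Characters.TwoDegrees
import Cfsg.Agent.Lib.Characters.PowFixedOver

/-!
# Groups whose nonlinear irreducible character degrees are primes
-/

set_option autoImplicit false
set_option linter.unusedSectionVars false
set_option linter.style.haveILetI false
set_option maxHeartbeats 1600000

namespace Cfsg.Agent.Lib.Characters

open Cfsg Cfsg.Agent.Lib.Blocks
open scoped ComplexConjugate

universe u

namespace PrimeDegrees

/-- Every nonlinear irreducible degree is a prime. -/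
def PrimeDeg (G : Type u) [Group G] : Prop :=
  ∀ χ : IrrCharacter G, charDegree (χ : G → ℂ) = 1 ∨ (charDegree (χ : G → ℂ)).Prime

theorem PrimeDeg.quotient {G : Type u} [Group G] [Finite G] (h : PrimeDeg G) (N : Subgroup G)
    [N.Normal] : PrimeDeg (G ⧸ N) := fun χ => by
  have := h ⟨_, IsIrrCharacter.comp_surjective χ.2 (QuotientGroup.mk' N)
    (QuotientGroup.mk'_surjective N)⟩
  simpa [Cfsg.charDegree] using this

theorem PrimeDeg.normal {G : Type u} [Group G] [Finite G] (h : PrimeDeg G) (N : Subgroup G)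
    [N.Normal] : PrimeDeg N := fun θ => by
  obtain ⟨χ, d, e, hd, hχ⟩ := InvChar.ItoMichler.exists_over N θ
  rw [InvChar.ItoMichler.charDegree_eq hd]
  have hdvd : d ∣ charDegree (χ : G → ℂ) := by
    rw [InvChar.ItoMichler.charDegree_eq hχ]; exact dvd_mul_left _ _
  rcases h χ with h1 | hp
  · exact Or.inl (Nat.dvd_one.1 (h1 ▸ hdvd))
  · rcases (Nat.dvd_prime hp).1 hdvd with rfl | rfl
    · exact Or.inl rfl
    · exact Or.inr hp

/-- A small character rules out that all elements of order `p` are conjugate. -/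
theorem index_lt_of_small {G : Type u} [Group G] [Fintype G] {p : ℕ} [hp : Fact p.Prime]
    {P O : Subgroup G} {u : G} (S : PrimeSplit p P O u) {θ : IrrCharacter O} {t : G} {r n e : ℕ}
    (D : S.StabData θ t r n e) (χ : IrrCharacter G) (hd : charDegree (χ : G → ℂ) + 1 < p)
    (hu : ∀ g : G, (χ : G → ℂ) g = (χ : G → ℂ) 1 → g = 1) : n * e < p - 1 := by
  classical
  haveI : NeZero p := ⟨hp.out.ne_zero⟩
  have hEpos : 0 < n * e := Nat.mul_pos D.n_pos D.e_pos
  have hEd : n * e ∣ p - 1 := D.prim.dvd_of_pow_eq_one _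
    (ZMod.pow_card_sub_one_eq_one (D.prim.ne_zero hEpos.ne'))
  by_contra hge
  have hE : n * e = p - 1 := le_antisymm (Nat.le_of_dvd (by omega) hEd) (by omega)
  haveI : NeZero (n * e) := ⟨hEpos.ne'⟩
  have hconst : ∀ i : ZMod p, i ≠ 0 → (χ : G → ℂ) (upow u i) = (χ : G → ℂ) (upow u (1 : ZMod p)) := by
    intro i hi
    obtain ⟨s, -, hs⟩ := D.prim.eq_pow_of_pow_eq_one
      (show i ^ (n * e) = 1 by rw [hE]; exact ZMod.pow_card_sub_one_eq_one hi)
    have h := D.conj_pow s 1
    rw [mul_one, hs] at h
    rw [← h]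
    exact irr_isClassFunction χ _ _
  obtain ⟨m, hm⟩ := SmallDegreePrime.sum_upow S χ
  set d := charDegree (χ : G → ℂ) with hdd
  set c := (χ : G → ℂ) (upow u (1 : ZMod p)) with hc
  rw [← Finset.add_sum_erase _ _ (Finset.mem_univ (0 : ZMod p)), upow_zero,
    Finset.sum_congr rfl (fun i hi => hconst i (Finset.ne_of_mem_erase hi)), Finset.sum_const,
    Finset.card_erase_of_mem (Finset.mem_univ _), Finset.card_univ, ZMod.card, nsmul_eq_mul,
    SmallDegreePrime.charDegree_natCast] at hm
  have hp1 : ((p - 1 : ℕ) : ℂ) = (p : ℂ) - 1 := by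
    rw [Nat.cast_sub hp.out.one_le, Nat.cast_one]
  rw [hp1] at hm
  have hmle : m ≤ d := by
    have hre := congrArg Complex.re hm
    have hcre : c.re ≤ (d : ℝ) := by
      have h1 := IsCharacter.norm_le_re (irr_isCharacter χ) (upow u (1 : ZMod p))
      rw [SmallDegreePrime.charDegree_natCast, Complex.natCast_re] at h1
      exact (Complex.re_le_norm c).trans h1
    simp only [Complex.add_re, Complex.mul_re, Complex.sub_re, Complex.natCast_re,
      Complex.one_re, Complex.sub_im, Complex.natCast_im, Complex.one_im, Complex.mul_re,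
      sub_zero, zero_mul] at hre
    rw [← hdd] at hre
    have hpr : (2 : ℝ) ≤ p := by exact_mod_cast hp.out.two_le
    have : (m : ℝ) ≤ d := by nlinarith
    exact_mod_cast this
  have hne1 : p - 1 ≠ 0 := by omega
  have hint : IsIntegral ℤ (((p * (d - m) : ℕ) : ℂ) / ((p - 1 : ℕ) : ℂ)) := by
    have he : ((p * (d - m) : ℕ) : ℂ) / ((p - 1 : ℕ) : ℂ) = (d : ℂ) - c := by
      rw [div_eq_iff (by exact_mod_cast hne1), hp1, Nat.cast_mul, Nat.cast_sub hmle]
      linear_combination hm
    rw [he]
    exact (show IsIntegral ℤ (d : ℂ) by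
      simpa using (isIntegral_algebraMap (R := ℤ) (A := ℂ) (x := (d : ℤ)))).sub
      (IsCharacter.isIntegral (irr_isCharacter χ) _)
  have hdvd := dvd_of_isIntegral_div hne1 hint
  have hcop : (p - 1).Coprime p := (hp.out.coprime_iff_not_dvd.2 fun h => by
    have := Nat.le_of_dvd (by omega) h
    omega).symm
  have hdm : d = m := by
    rcases Nat.eq_zero_or_pos (d - m) with h0 | h0
    · omega
    · have := Nat.le_of_dvd h0 (hcop.dvd_of_dvd_mul_left hdvd)
      omega
  subst hdm
  have hcd : c = (d : ℂ) := by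
    have hne : ((p : ℂ) - 1) ≠ 0 := by rw [← hp1]; exact_mod_cast hne1
    exact mul_left_cancel₀ hne (by linear_combination hm)
  have := hu (upow u (1 : ZMod p)) (by rw [← hc, hcd, SmallDegreePrime.charDegree_natCast])
  rw [upow_eq_one_iff S.orderOf_u] at this
  exact one_ne_zero this

theorem comm_of_isPGroup {G : Type u} [Group G] [Finite G] [IsSimpleGroup G] {p : ℕ}
    [Fact p.Prime] (h : IsPGroup p G) : ∀ a b : G, a * b = b * a := by
  haveI := h.isNilpotent
  exact fun a b => IsSimpleGroup.comm_iff_isSolvable.mpr inferInstance a b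

/-- A simple group has no faithful representation of degree two. -/
theorem false_of_degree_two {G : Type u} [Group G] [Finite G] [IsSimpleGroup G]
    (hna : ¬ ∀ a b : G, a * b = b * a) (χ : IrrCharacter G)
    (hd : charDegree (χ : G → ℂ) = 2) : False := by
  classical
  haveI := Fintype.ofFinite G
  haveI : Fact (Nat.Prime 2) := ⟨Nat.prime_two⟩
  have hperf : commutator G = ⊤ := by
    rcases IsSimpleGroup.eq_bot_or_eq_top_of_normal (commutator G) inferInstance with h | h
    · refine absurd (fun a b => ?_) hna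
      have := Subgroup.commutator_mem_commutator (H₁ := (⊤ : Subgroup G)) (H₂ := ⊤)
        (Subgroup.mem_top a) (Subgroup.mem_top b)
      rw [← commutator_def, h, Subgroup.mem_bot] at this
      exact commutatorElement_eq_one_iff_mul_comm.1 this
    · exact h
  obtain ⟨n', hn0, hn1, hdvd⟩ := IsIrrCharacter.exists_degree_dvd χ.2
  rw [SmallDegreePrime.charDegree_natCast, hd, Nat.cast_inj] at hn1
  obtain ⟨t, ht⟩ := exists_prime_orderOf_dvd_card' 2 (hn1 ▸ hdvd)
  obtain ⟨n, ρ, hρ, hρχ⟩ := χ.2
  have hn : n = 2 := by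
    have h := SmallDegreePrime.charDegree_natCast χ
    rw [← hρχ, ρ.char_one, Module.finrank_fin_fun, hρχ, hd, Nat.cast_inj] at h
    exact h
  subst hn
  haveI := hρ
  have hne : (χ : G → ℂ) ≠ fun _ => 1 := by
    intro h
    have h2 := SmallDegreePrime.charDegree_natCast χ
    rw [hd, h] at h2
    norm_num at h2
  have hinj : Function.Injective ρ := rep_injective_of_isSimpleGroup ρ (hρχ ▸ hne)
  let R : G →* Matrix (Fin 2) (Fin 2) ℂ :=
    (LinearMap.toMatrixAlgEquiv' : ((Fin 2 → ℂ) →ₗ[ℂ] (Fin 2 → ℂ)) ≃ₐ[ℂ] _).toMonoidHom.comp ρ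
  have hRinj : Function.Injective R := LinearMap.toMatrixAlgEquiv'.injective.comp hinj
  let dt : G →* ℂˣ := (Matrix.detMonoidHom.comp R).toHomUnits
  have hdet : ∀ g, (R g).det = 1 := by
    intro g
    have h : dt g = 1 :=
      MonoidHom.mem_ker.mp (Abelianization.commutator_subset_ker dt (hperf ▸ Subgroup.mem_top g))
    exact congrArg Units.val h
  have ht2 : R t * R t = 1 := by
    have ht' : t ^ 2 = 1 := orderOf_dvd_iff_pow_eq_one.1 ht.dvd
    rw [← map_mul, ← pow_two, ht', map_one]
  have h00 := congrFun (congrFun ht2 0) 0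
  have h01 := congrFun (congrFun ht2 0) 1
  have h10 := congrFun (congrFun ht2 1) 0
  have h11 := congrFun (congrFun ht2 1) 1
  simp [Matrix.mul_apply, Fin.sum_univ_two] at h00 h01 h10 h11
  have hd' := hdet t
  rw [Matrix.det_fin_two] at hd'
  set a := R t 0 0 with ha
  set b := R t 0 1 with hb
  set c := R t 1 0 with hc
  set d := R t 1 1 with hd2
  have had : a * (a + d) = 2 := by linear_combination h00 + hd'
  have hne0 : a + d ≠ 0 := fun h => by rw [h, mul_zero] at had; norm_num at had
  have hb0 : b = 0 := by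
    have : b * (a + d) = 0 := by linear_combination h01
    exact (mul_eq_zero.1 this).resolve_right hne0
  have hc0 : c = 0 := by
    have : c * (a + d) = 0 := by linear_combination h10
    exact (mul_eq_zero.1 this).resolve_right hne0
  have hdd : d * (a + d) = 2 := by linear_combination h11 + hd'
  have hadd : a = d := mul_right_cancel₀ hne0 (had.trans hdd.symm)
  have hscal : R t = a • (1 : Matrix (Fin 2) (Fin 2) ℂ) := by
    ext i j
    fin_cases i <;> fin_cases j <;> simp [← ha, ← hb, ← hc, ← hd2, hb0, hc0, hadd]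
  have htc : t ∈ Subgroup.center G := by
    rw [Subgroup.mem_center_iff]
    intro g
    refine hRinj ?_
    rw [map_mul, map_mul, hscal, mul_smul_comm, smul_mul_assoc, mul_one, one_mul]
  rcases IsSimpleGroup.eq_bot_or_eq_top_of_normal (Subgroup.center G) inferInstance with h | h
  · rw [h, Subgroup.mem_bot] at htc
    rw [htc, orderOf_one] at ht
    omega
  · exact hna fun x y => Subgroup.mem_center_iff.1 (h ▸ Subgroup.mem_top y) x

/-- A nonabelian simple group has a nonlinear degree that is not a prime. -/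
theorem false_of_simple {G : Type u} [Group G] [Finite G] [IsSimpleGroup G]
    (hna : ¬ ∀ a b : G, a * b = b * a) (h : PrimeDeg G) : False := by
  classical
  haveI := Fintype.ofFinite G
  haveI : Fintype (IrrCharacter G) := Fintype.ofFinite _
  have hfaith : ∀ χ : IrrCharacter G, χ ≠ trivIrr G → ∀ g : G,
      (χ : G → ℂ) g = (χ : G → ℂ) 1 → g = 1 := fun χ hne g hg =>
    IsCharacter.eq_one_of_isSimpleGroup (irr_isCharacter χ)
      (IsIrrCharacter.exists_ne_apply_one χ.2 (fun h => hne (Subtype.ext h))) hg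
  have htriv : charDegree ((trivIrr G : IrrCharacter G) : G → ℂ) = 1 :=
    Nat.cast_injective (R := ℂ)
      (by rw [← SmallDegreePrime.charDegree_natCast, trivIrr_apply, Nat.cast_one])
  have hpr : ∀ χ : IrrCharacter G, χ ≠ trivIrr G → (charDegree (χ : G → ℂ)).Prime := by
    intro χ hne
    refine (h χ).resolve_left fun h1 => hna fun a b => ?_
    have h1' : (χ : G → ℂ) 1 = 1 := by rw [SmallDegreePrime.charDegree_natCast, h1, Nat.cast_one]
    obtain ⟨l, hl⟩ := IsCharacter.exists_hom_of_apply_one (irr_isCharacter χ) h1'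
    have hinj : Function.Injective l := by
      rw [injective_iff_map_eq_one]
      exact fun g hg => hfaith χ hne g (by simp [hl, hg])
    exact hinj (by rw [map_mul, map_mul, mul_comm])
  obtain ⟨χp, -, hmax⟩ := Finset.exists_max_image Finset.univ
    (fun χ : IrrCharacter G => charDegree (χ : G → ℂ)) ⟨trivIrr G, Finset.mem_univ _⟩
  set p := charDegree (χp : G → ℂ) with hpdef
  have hne : χp ≠ trivIrr G := by
    intro he
    obtain ⟨χ, hχ⟩ : ∃ χ : IrrCharacter G, χ ≠ trivIrr G := by
      by_contra hall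
      push Not at hall
      exact hna ((comm_iff_forall_irr_one).2 fun χ => by rw [hall χ, trivIrr_apply])
    have h1 := hmax χ (Finset.mem_univ _)
    have h2 := (hpr χ hχ).two_le
    rw [hpdef, he, htriv] at h1
    omega
  have hp : p.Prime := hpr χp hne
  haveI := Fact.mk hp
  have hpd : p ∣ Nat.card G := by
    obtain ⟨n', -, hn1, hdvd⟩ := IsIrrCharacter.exists_degree_dvd χp.2
    rw [SmallDegreePrime.charDegree_natCast, Nat.cast_inj] at hn1
    rw [hpdef, hn1]; exact hdvd
  -- there is a smaller nonlinear degree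
  obtain ⟨χq, hqne, hqlt⟩ : ∃ χ : IrrCharacter G, χ ≠ trivIrr G ∧ charDegree (χ : G → ℂ) < p := by
    by_contra hall
    push Not at hall
    haveI := Cfsg.Agent.Lib.LocalEven.pResidual_normal p G
    have hcop := Cfsg.Agent.Lib.CharMisc.coprime_card_pResidual hp
      (G := G) fun χ hχ => by
        have hne' : χ ≠ trivIrr G := fun he => hχ (he ▸ htriv)
        rw [le_antisymm (hmax χ (Finset.mem_univ _)) (hall χ hne')]
    rcases IsSimpleGroup.eq_bot_or_eq_top_of_normal (pResidual p G) inferInstance with hb | ht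
    · refine hna (comm_of_isPGroup (p := p) ?_)
      have hq := Cfsg.Agent.Lib.LocalEven.quotient_pResidual_isPGroup (p := p)
        (Cfsg.pResidual p G) le_rfl
      exact hq.of_injective (QuotientGroup.mk' _) (by
        rw [← MonoidHom.ker_eq_bot_iff, QuotientGroup.ker_mk', hb])
    · rw [ht, Subgroup.card_top] at hcop
      exact hp.coprime_iff_not_dvd.1 hcop.symm hpd
  set q := charDegree (χq : G → ℂ) with hqdef
  have hq : q.Prime := hpr χq hqne
  have hp3 : 3 ≤ p := by have := hq.two_le; omega
  -- the Sylow `p`-subgroup has order `p`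
  obtain ⟨P⟩ : Nonempty (Sylow p G) := inferInstance
  have hPab : ∀ x ∈ (P : Subgroup G), ∀ y ∈ (P : Subgroup G), x * y = y * x := by
    obtain ⟨n, ρ, hρ, hρχ⟩ := χq.2
    haveI := hρ
    have hn : n = q := by
      have h1 := SmallDegreePrime.charDegree_natCast χq
      rw [← hρχ, ρ.char_one, Module.finrank_fin_fun, hρχ, ← hqdef, Nat.cast_inj] at h1
      exact h1
    have hinj := rep_injective_of_isSimpleGroup ρ (hρχ ▸ fun he => hqne (Subtype.ext he))
    intro x hx y hy
    have := Cfsg.Agent.S0185.result (ρ.comp (P : Subgroup G).subtype)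
      (hinj.comp (P : Subgroup G).subtype_injective)
      (fun r hr hrd => by
        obtain ⟨k, hk⟩ := IsPGroup.iff_card.mp P.2
        rw [hk] at hrd
        rw [(Nat.prime_dvd_prime_iff_eq hr hp).mp (hr.dvd_of_dvd_pow hrd), Module.finrank_fin_fun]
        omega) ⟨x, hx⟩ ⟨y, hy⟩
    exact congrArg Subtype.val this
  have hvan : ∀ x ∈ (P : Subgroup G), x ≠ 1 → (χp : G → ℂ) x = 0 := by
    intro x hx hx1
    obtain ⟨n, ρ, hρ, hρχ⟩ := χp.2
    haveI := hρ
    have hn : n = p := by
      have h1 := SmallDegreePrime.charDegree_natCast χp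
      rw [← hρχ, ρ.char_one, Module.finrank_fin_fun, hρχ, ← hpdef, Nat.cast_inj] at h1
      exact h1
    have hcl : ¬ p ∣ Nat.card {y : G // IsConj x y} := by
      intro hd
      rw [card_conj_eq_index] at hd
      refine P.not_dvd_index (hd.trans (Subgroup.index_dvd_of_le ?_))
      exact fun y hy => Subgroup.mem_centralizer_singleton_iff.2 (hPab y hy x hx)
    rcases char_eq_zero_or_norm_eq_of_coprime ρ x (by
      rw [Module.finrank_fin_fun, hn]; exact hp.coprime_iff_not_dvd.2 hcl) with h0 | hnorm
    · rw [← hρχ]; exact h0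
    · exfalso
      obtain ⟨μ, hμ⟩ := (norm_char_eq_iff ρ x).1 hnorm
      have hxc : x ∈ Subgroup.center G := by
        rw [Subgroup.mem_center_iff]
        intro g
        refine rep_injective_of_isSimpleGroup ρ (hρχ ▸ fun he => hne (Subtype.ext he)) ?_
        rw [map_mul, map_mul, hμ, ← Module.End.one_eq_id, mul_smul_comm, smul_mul_assoc, mul_one,
          one_mul]
      rcases IsSimpleGroup.eq_bot_or_eq_top_of_normal (Subgroup.center G) inferInstance with hb | ht
      · rw [hb, Subgroup.mem_bot] at hxc; exact hx1 hxc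
      · exact hna fun a b => Subgroup.mem_center_iff.1 (ht ▸ Subgroup.mem_top b) a
  have hPc : Nat.card (P : Subgroup G) = p := by
    haveI := Fintype.ofFinite (P : Subgroup G)
    obtain ⟨m, hm⟩ := IsCharacter.exists_classInner_nat
      (IsCharacter.restrict (irr_isCharacter χp) (P : Subgroup G))
      (isCharacter_one (G := (P : Subgroup G)))
    rw [classInner_eq_sum_inv isCharacter_one, Finset.sum_eq_single (1 : (P : Subgroup G))
      (fun y _ hy => by rw [hvan y y.2 (fun he => hy (Subtype.ext he)), zero_mul])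
      (fun he => absurd (Finset.mem_univ _) he), OneMemClass.coe_one,
      SmallDegreePrime.charDegree_natCast, mul_one, inv_mul_eq_iff_eq_mul₀ natCard_ne_zero_complex,
      ← Nat.cast_mul, Nat.cast_inj, ← hpdef] at hm
    rcases (Nat.dvd_prime hp).1 (Dvd.intro m hm.symm) with h1 | h1
    · exfalso
      have h2 := P.not_dvd_index
      have h3 := (P : Subgroup G).card_mul_index
      rw [h1, one_mul] at h3
      exact h2 (h3 ▸ hpd)
    · exact h1
  by_cases hp5 : p = 3
  · refine false_of_degree_two hna χq ?_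
    have := hq.two_le
    omega
  have hsq : ¬ p ^ 2 ∣ Nat.card G := by
    intro h2
    have h3 := Nat.le_of_dvd Nat.card_pos (P.pow_dvd_card_of_pow_dvd_card h2)
    rw [hPc, pow_two] at h3
    have : p * 2 ≤ p * p := Nat.mul_le_mul_left _ hp.two_le
    omega
  obtain ⟨M, hM⟩ := exists_isPModular hp
  haveI := isPrime_of_isPModular hM
  obtain ⟨u, O, S⟩ := exists_primeSplit (P : Subgroup G) hPc hsq
  haveI := Fintype.ofFinite O
  haveI := Fintype.ofFinite (Subgroup.centralizer ((P : Subgroup G) : Set G))
  obtain ⟨t, r, n, e, D⟩ := S.exists_stabData (trivIrr O)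
  have hqp : q + 1 < p := by
    rcases Nat.lt_or_ge (q + 1) p with h1 | h1
    · exact h1
    · exfalso
      have hpq : p = q + 1 := by omega
      rcases hq.eq_two_or_odd with h2 | h2
      · exact hp5 (by omega)
      · rcases hp.eq_two_or_odd with h3 | h3 <;> omega
  have hElt := index_lt_of_small S D χq hqp (hfaith χq hqne)
  have hE1 : n * e ≠ 1 := by
    intro h1
    refine hna (comm_of_isPGroup (p := p) ?_)
    exact Transfer.isPGroup_of_simple (Transfer.hasNormalPComplement_of_normalizer_le_centralizer P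
      (Subgroup.relIndex_eq_one.1 (D.relIndex_N.trans h1))) hpd
  obtain ⟨SX, δ, hcard, hts, hX, -⟩ := S.principal_sections hM D.relIndex_N hElt
  have hpos : 0 < n * e := Nat.mul_pos D.n_pos D.e_pos
  obtain ⟨ψ, hψ⟩ : (SX.erase (trivIrr G)).Nonempty := by
    rw [← Finset.card_pos, Finset.card_erase_of_mem hts, hcard]; omega
  obtain ⟨hne', hψX⟩ := Finset.mem_erase.1 hψ
  obtain ⟨hδ, -, hmod, -⟩ := hX ψ hψX
  obtain ⟨k, hk⟩ := Int.modEq_iff_dvd.1 hmod.symm
  have h2 := hpr ψ hne'
  have h3 := hmax ψ (Finset.mem_univ _)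
  have h4 := h2.two_le
  have hk0 : 0 < k := by
    by_contra hle
    push Not at hle
    have : (p : ℤ) * k ≤ 0 := Int.mul_nonpos_of_nonneg_of_nonpos (by positivity) hle
    omega
  have hk1 : k < 2 := by
    by_contra hge
    push Not at hge
    have : (p : ℤ) * 2 ≤ p * k := by nlinarith
    omega
  obtain rfl : k = 1 := by omega
  rcases h2.eq_two_or_odd with h5 | h5
  · omega
  · rcases hp.eq_two_or_odd with h6 | h6 <;> omega

theorem isSolvable : ∀ {m : ℕ} {G : Type u} [Group G] [Finite G] (_ : Nat.card G = m),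
    PrimeDeg G → Group.IsSolvable G := by
  intro m
  induction m using Nat.strong_induction_on with
  | _ m ih =>
    intro G _ _ hm h
    classical
    by_cases hcomm : ∀ a b : G, a * b = b * a
    · exact isSolvable_of_comm hcomm
    by_cases hs : ∃ N : Subgroup G, N.Normal ∧ N ≠ ⊥ ∧ N ≠ ⊤
    · obtain ⟨N, hN, hNb, hNt⟩ := hs
      haveI : Group.IsSolvable N := ih (Nat.card N) (hm ▸ lt_of_le_of_ne
        (Subgroup.card_le_card_group N) (fun he => hNt (Subgroup.eq_top_of_card_eq N he))) rfl
        (h.normal N)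
      haveI : Group.IsSolvable (G ⧸ N) := ih (Nat.card (G ⧸ N)) (by
        rw [← hm, Subgroup.card_eq_card_quotient_mul_card_subgroup N]
        exact lt_mul_of_one_lt_right Nat.card_pos (N.one_lt_card_iff_ne_bot.mpr hNb)) rfl
        (h.quotient N)
      exact solvable_of_ker_le_range N.subtype (QuotientGroup.mk' N) (by simp)
    · push Not at hs
      haveI : Nontrivial G := by
        by_contra h1
        rw [not_nontrivial_iff_subsingleton] at h1
        exact hcomm fun a b => Subsingleton.elim _ _
      haveI : IsSimpleGroup G := ⟨fun N hN => by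
        by_cases h1 : N = ⊥
        · exact Or.inl h1
        · exact Or.inr (hs N hN h1)⟩
      exact (false_of_simple hcomm h).elim

/-- Restriction to a normal subgroup of prime index. -/
theorem restrict_prime_index {G : Type u} [Group G] [Fintype G] (M : Subgroup G) [M.Normal]
    [Fintype M] {s : ℕ} (hs : s.Prime) (hM : M.index = s) (χ : IrrCharacter G) :
    IsIrrCharacter M (fun n : M => (χ : G → ℂ) n) ∨
      ∃ θ : IrrCharacter M, (inertia M (θ : M → ℂ)).index = s ∧
        charDegree (χ : G → ℂ) = s * charDegree (θ : M → ℂ) := by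
  classical
  obtain ⟨θ, hθ⟩ := IsCharacter.exists_constituent
    (IsCharacter.restrict (irr_isCharacter χ) M)
    (fun h => IsIrrCharacter.apply_one_ne_zero χ.2 (congrFun h 1))
  obtain ⟨c, hc⟩ := IsCharacter.exists_classInner_nat
    (IsCharacter.restrict (irr_isCharacter χ) M) (irr_isCharacter θ)
  obtain ⟨e, he, hes⟩ := degree_ratio_dvd_index M χ.2 θ.2 hθ
  have hd := degree_eq M χ.2 θ.2 hθ
  rw [hc, SmallDegreePrime.charDegree_natCast, SmallDegreePrime.charDegree_natCast,
    ← Nat.cast_mul, ← Nat.cast_mul, Nat.cast_inj] at hd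
  rw [SmallDegreePrime.charDegree_natCast, SmallDegreePrime.charDegree_natCast,
    ← Nat.cast_mul, Nat.cast_inj] at he
  have hce : c * (inertia M (θ : M → ℂ)).index = e :=
    Nat.eq_of_mul_eq_mul_right (charDegree_pos θ) (hd.symm.trans he)
  rw [hM, Nat.dvd_prime hs] at hes
  have hc0 : c ≠ 0 := fun h0 => hθ (by rw [hc, h0, Nat.cast_zero])
  rcases hes with he1 | hes'
  · subst he1
    have hc1 := Nat.eq_one_of_mul_eq_one_right hce
    have ht1 := Nat.eq_one_of_mul_eq_one_left hce
    left
    have hinv : ∀ g : G, conjFun M g (θ : M → ℂ) = θ := fun g =>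
      (mem_inertia_iff M).1 (by rw [Subgroup.index_eq_one.1 ht1]; exact Subgroup.mem_top g)
    rw [restrict_eq_smul_of_invariant M χ.2 θ.2 hinv hθ, hc, hc1, Nat.cast_one, one_smul]
    exact θ.2
  · rw [hes'] at he
    have hts : (inertia M (θ : M → ℂ)).index ∣ s := by
      rw [← hM]
      exact Subgroup.index_dvd_of_le (le_inertia M (irr_isClassFunction θ))
    rcases (Nat.dvd_prime hs).1 hts with h1 | h1
    · -- `χ_M = s θ` contradicts the norm
      exfalso
      rw [h1, mul_one, hes'] at hce
      have hinv : ∀ g : G, conjFun M g (θ : M → ℂ) = θ := fun g =>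
        (mem_inertia_iff M).1 (by rw [Subgroup.index_eq_one.1 h1]; exact Subgroup.mem_top g)
      have hres := restrict_eq_smul_of_invariant M χ.2 θ.2 hinv hθ
      have hle : ∑ n : M, Complex.normSq ((χ : G → ℂ) n) ≤ ∑ g : G, Complex.normSq ((χ : G → ℂ) g) := by
        refine le_of_eq_of_le (Finset.sum_subtype (Finset.univ.filter fun g : G => g ∈ M)
          (fun g => by simp) (fun g => Complex.normSq ((χ : G → ℂ) g))).symm ?_
        exact Finset.sum_le_sum_of_subset_of_nonneg (Finset.subset_univ _)
          (fun g _ _ => Complex.normSq_nonneg _)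
      have hnorm : ∀ (X : Type u) [Group X] [Fintype X] (f : X → ℂ),
          ((∑ x, Complex.normSq (f x) : ℝ) : ℂ) = (Nat.card X : ℂ) * classInner f f := by
        intro X _ _ f
        rw [classInner, ← mul_assoc, mul_inv_cancel₀ natCard_ne_zero_complex, one_mul,
          Complex.ofReal_sum]
        exact Finset.sum_congr rfl fun x _ => (Complex.mul_conj _).symm
      have hG := hnorm G (χ : G → ℂ)
      rw [IsIrrCharacter.classInner_self χ.2, mul_one] at hG
      have hMn := hnorm M (fun n : M => (χ : G → ℂ) n)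
      rw [hres, classInner_smul_left, classInner_smul_right, IsIrrCharacter.classInner_self θ.2,
        hc, hce, map_natCast, mul_one] at hMn
      have hG' : ∑ g, Complex.normSq ((χ : G → ℂ) g) = ((Nat.card M * s : ℕ) : ℝ) := by
        have := M.card_mul_index
        rw [hM] at this
        rw [this]
        exact_mod_cast hG
      have hMn' : ∑ n : M, Complex.normSq ((χ : G → ℂ) n) = ((Nat.card M * (s * s) : ℕ) : ℝ) := by
        rw [← hres, hc, hce] at *
        have h5 : ((∑ n : M, Complex.normSq ((χ : G → ℂ) n) : ℝ) : ℂ) =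
            (((Nat.card M * (s * s) : ℕ) : ℝ) : ℂ) := by
          rw [hMn]; push_cast; ring
        exact_mod_cast h5
      rw [hG', hMn'] at hle
      have h6 : Nat.card M * (s * s) ≤ Nat.card M * s := by exact_mod_cast hle
      have h7 := Nat.le_of_mul_le_mul_left h6 Nat.card_pos
      have h8 : s * 2 ≤ s * s := Nat.mul_le_mul_left _ hs.two_le
      have := hs.pos
      omega
    · exact Or.inr ⟨θ, h1, he⟩

/-- At most two nonlinear degrees. -/
theorem exists_two_degrees : ∀ {m : ℕ} {G : Type u} [Group G] [Finite G] (_ : Nat.card G = m),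
    PrimeDeg G → ∃ a b : ℕ, ∀ χ : IrrCharacter G,
      charDegree (χ : G → ℂ) = 1 ∨ charDegree (χ : G → ℂ) = a ∨ charDegree (χ : G → ℂ) = b := by
  intro m
  induction m using Nat.strong_induction_on with
  | _ m ih =>
    intro G _ _ hm h
    classical
    haveI := Fintype.ofFinite G
    by_cases hcomm : ∀ a b : G, a * b = b * a
    · exact ⟨1, 1, fun χ => Or.inl (Nat.cast_injective (R := ℂ) (by
        rw [← SmallDegreePrime.charDegree_natCast, IsIrrCharacter.apply_one_of_comm hcomm χ.2,
          Nat.cast_one]))⟩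
    haveI := isSolvable hm h
    haveI : Nontrivial G := by
      by_contra h1
      rw [not_nontrivial_iff_subsingleton] at h1
      exact hcomm fun a b => Subsingleton.elim _ _
    have hidx : (commutator G).index ≠ 1 := fun h1 =>
      (Group.IsSolvable.commutator_lt_top_of_nontrivial G).ne (Subgroup.index_eq_one.1 h1)
    obtain ⟨s, hs, hsd⟩ := Nat.exists_prime_and_dvd hidx
    obtain ⟨M, hMn, hMi⟩ := exists_normal_index_eq_prime hs hsd
    haveI := hMn
    haveI := Fintype.ofFinite M
    obtain ⟨a, b, hab⟩ := ih (Nat.card M) (hm ▸ lt_of_le_of_ne (Subgroup.card_le_card_group M)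
      (fun he => by
        have h1 := M.card_mul_index
        rw [hMi, he] at h1
        exact hs.ne_one ((Nat.mul_eq_left Nat.card_pos.ne').1 h1))) rfl (h.normal M)
    have hG : ∀ χ : IrrCharacter G, charDegree (χ : G → ℂ) = 1 ∨ charDegree (χ : G → ℂ) = a ∨
        charDegree (χ : G → ℂ) = b ∨ (charDegree (χ : G → ℂ) = s ∧ ∃ l : IrrCharacter M,
          (l : M → ℂ) 1 = 1 ∧ (inertia M (l : M → ℂ)).index = s) := by
      intro χ
      rcases restrict_prime_index M hs hMi χ with hi | ⟨θ, ht, hd⟩
      · have h1 : charDegree (χ : G → ℂ) = charDegree (fun n : M => (χ : G → ℂ) n) := rfl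
        rw [h1]
        rcases hab ⟨_, hi⟩ with h2 | h2 | h2
        exacts [Or.inl h2, Or.inr (Or.inl h2), Or.inr (Or.inr (Or.inl h2))]
      · have hθ1 : charDegree (θ : M → ℂ) = 1 := by
          rcases h χ with h1 | hp
          · rw [hd] at h1; exact Nat.eq_one_of_mul_eq_one_left h1
          · rw [hd] at hp
            rcases Nat.prime_mul_iff.1 hp with ⟨-, h2⟩ | ⟨-, h2⟩
            · exact h2
            · exact absurd h2 hs.ne_one
        exact Or.inr (Or.inr (Or.inr ⟨by rw [hd, hθ1, mul_one], θ,
          by rw [SmallDegreePrime.charDegree_natCast, hθ1, Nat.cast_one], ht⟩))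
    by_cases hnew : ∃ l : IrrCharacter M, (l : M → ℂ) 1 = 1 ∧ (inertia M (l : M → ℂ)).index = s
    swap
    · refine ⟨a, b, fun χ => ?_⟩
      rcases hG χ with h1 | h1 | h1 | ⟨-, h1⟩
      exacts [Or.inl h1, Or.inr (Or.inl h1), Or.inr (Or.inr h1), absurd h1 hnew]
    obtain ⟨l, hl1, hls⟩ := hnew
    obtain ⟨lam, hlam⟩ := IsCharacter.exists_hom_of_apply_one (irr_isCharacter l) hl1
    obtain ⟨g, hg⟩ : ∃ g, g ∉ inertia M (l : M → ℂ) := by
      by_contra hall
      push Not at hall
      rw [(Subgroup.eq_top_iff' _).2 hall, Subgroup.index_top] at hls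
      exact hs.ne_one hls.symm
    let mu : M →* ℂˣ := TwoDegrees.act M g lam / lam
    have hmu : mu ≠ 1 := by
      intro h1
      refine hg ((mem_inertia_iff M).2 ?_)
      have h2 := (div_eq_one (a := TwoDegrees.act M g lam) (b := lam)).1 h1
      rw [hlam]
      exact funext fun x => congrArg Units.val (DFunLike.congr_fun h2 x)
    -- nonlinear characters of `M` are invariant
    have hinv : ∀ θ : IrrCharacter M, charDegree (θ : M → ℂ) ≠ 1 →
        ∀ x : G, conjFun M x (θ : M → ℂ) = θ := by
      intro θ hθ x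
      obtain ⟨χ, d, e, hd, hχ⟩ := InvChar.ItoMichler.exists_over M θ
      rw [InvChar.ItoMichler.charDegree_eq hd] at hθ
      have hdeg := InvChar.ItoMichler.charDegree_eq hχ
      have ht : (inertia M (θ : M → ℂ)).index = 1 := by
        rcases h χ with h1 | hp
        · rw [hdeg] at h1; exact absurd (Nat.eq_one_of_mul_eq_one_left h1) hθ
        · rw [hdeg] at hp
          rcases Nat.prime_mul_iff.1 hp with ⟨-, h2⟩ | ⟨-, h2⟩
          · exact absurd h2 hθ
          · exact Nat.eq_one_of_mul_eq_one_left h2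
      exact (mem_inertia_iff M).1 (by rw [Subgroup.index_eq_one.1 ht]; exact Subgroup.mem_top x)
    have hfix : ∀ θ : IrrCharacter M, charDegree (θ : M → ℂ) ≠ 1 →
        ∀ x : M, (θ : M → ℂ) x * (mu x : ℂ) = (θ : M → ℂ) x := by
      intro θ hθ x
      let θl : IrrCharacter M := ⟨_, BlockHeights.isIrrCharacter_mul_unitsHom θ lam⟩
      have hθl : charDegree (θl : M → ℂ) ≠ 1 := by
        intro h1
        apply hθ
        have h2 := SmallDegreePrime.charDegree_natCast θl
        rw [h1] at h2
        have h3 : (θ : M → ℂ) 1 * (lam 1 : ℂ) = ((1 : ℕ) : ℂ) := h2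
        rw [map_one, Units.val_one, mul_one, SmallDegreePrime.charDegree_natCast] at h3
        exact_mod_cast h3
      have h1 : (θ : M → ℂ) (MulAut.conjNormal g x) * (lam (MulAut.conjNormal g x) : ℂ) =
          (θ : M → ℂ) x * (lam x : ℂ) := congrFun (hinv θl hθl g) x
      have h2 : (θ : M → ℂ) (MulAut.conjNormal g x) = (θ : M → ℂ) x := congrFun (hinv θ hθ g) x
      rw [h2] at h1
      show (θ : M → ℂ) x * ((lam (MulAut.conjNormal g x) / lam x : ℂˣ) : ℂ) = _
      rw [Units.val_div_eq_div_val, mul_div_assoc', h1, mul_div_assoc, div_self (Units.ne_zero _),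
        mul_one]
    -- every nonlinear degree of `M` is a prime divisor of the order of `mu`
    obtain ⟨x0, hx0⟩ : ∃ x, mu x ≠ 1 := by
      by_contra hall
      push Not at hall
      exact hmu (MonoidHom.ext hall)
    have hrangecard : Nat.card mu.range ≠ 1 := fun h1 => hx0 (Subgroup.mem_bot.1
      (Subgroup.card_eq_one.1 h1 ▸ (⟨x0, rfl⟩ : mu x0 ∈ mu.range)))
    obtain ⟨l0, hl0, hl0d⟩ := Nat.exists_prime_and_dvd hrangecard
    refine ⟨s, l0, fun χ => ?_⟩
    have hM2 : ∀ θ : IrrCharacter M, charDegree (θ : M → ℂ) = 1 ∨ charDegree (θ : M → ℂ) = l0 := by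
      intro θ
      by_cases hθ : charDegree (θ : M → ℂ) = 1
      · exact Or.inl hθ
      right
      haveI := Fact.mk hl0
      have hidx' : mu.ker.index = Nat.card mu.range := Subgroup.index_ker mu
      haveI : Finite mu.range := Finite.of_surjective _ mu.rangeRestrict_surjective
      -- a subgroup of index `l0` outside of which `θ` vanishes
      obtain ⟨k, hk⟩ := hl0d
      have hcyc : IsCyclic mu.range := inferInstance
      obtain ⟨⟨z, hz⟩, hzgen⟩ := hcyc.exists_generator
      obtain ⟨y, rfl⟩ := hz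
      let nu : M →* ℂˣ := mu ^ k
      let K : Subgroup M := nu.ker
      haveI : K.Normal := MonoidHom.normal_ker nu
      haveI := Fintype.ofFinite K
      have hord : orderOf (mu y) = Nat.card mu.range := by
        have h1 := orderOf_eq_card_of_forall_mem_zpowers hzgen
        rw [← Subgroup.orderOf_coe] at h1
        exact h1
      have hnuy : orderOf (nu y) = l0 := by
        have hk0 : k ≠ 0 := fun h0 => by
          rw [h0, mul_zero] at hk
          exact Nat.card_pos.ne' hk
        show orderOf ((mu y) ^ k) = l0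
        rw [orderOf_pow' _ hk0, hord, hk, Nat.gcd_eq_right (dvd_mul_left k l0),
          Nat.mul_div_cancel _ (Nat.pos_of_ne_zero hk0)]
      have hKi : K.index = l0 := by
        rw [show K.index = Nat.card nu.range from Subgroup.index_ker nu, ← hnuy, ← Nat.card_zpowers]
        refine congrArg (fun H : Subgroup ℂˣ => Nat.card H) (le_antisymm ?_
          (Subgroup.zpowers_le.2 ⟨y, rfl⟩))
        rintro _ ⟨w, rfl⟩
        obtain ⟨j, hj⟩ := Subgroup.mem_zpowers_iff.1 (hzgen ⟨mu w, w, rfl⟩)
        refine Subgroup.mem_zpowers_iff.2 ⟨j, ?_⟩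
        show (mu y ^ k) ^ j = mu w ^ k
        have hj' : mu y ^ j = mu w := congrArg Subtype.val hj
        rw [← hj', ← zpow_natCast, ← zpow_natCast, ← zpow_mul, ← zpow_mul, mul_comm]
      have hvan : ∀ w : M, w ∉ K → (θ : M → ℂ) w = 0 := by
        intro w hw
        by_contra hne
        have h1 := hfix θ hθ w
        have h2 : (mu w : ℂ) = 1 := mul_left_cancel₀ hne (h1.trans (mul_one _).symm)
        refine hw (MonoidHom.mem_ker.2 ?_)
        show mu w ^ k = 1
        rw [Units.val_eq_one.1 h2, one_pow]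
      rcases restrict_prime_index K hl0 hKi θ with hi | ⟨ψ, -, hd⟩
      · exfalso
        have h1 := IsIrrCharacter.classInner_self hi
        have h2 := IsIrrCharacter.classInner_self θ.2
        rw [classInner, inv_mul_eq_iff_eq_mul₀ natCard_ne_zero_complex, mul_one] at h1 h2
        have h3 : ∑ w : M, (θ : M → ℂ) w * conj ((θ : M → ℂ) w) =
            ∑ w : K, (θ : M → ℂ) w * conj ((θ : M → ℂ) w) := by
          rw [← Finset.sum_subset (Finset.subset_univ (Finset.univ.filter fun w : M => w ∈ K))
            (fun w _ hw => by rw [hvan w (by simpa using hw), zero_mul])]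
          exact Finset.sum_subtype _ (fun w => by simp) (fun w => (θ : M → ℂ) w * conj ((θ : M → ℂ) w))
        rw [h3, h1, Nat.cast_inj] at h2
        have h4 := K.card_mul_index
        rw [hKi, ← h2] at h4
        exact hl0.ne_one ((Nat.mul_eq_left Nat.card_pos.ne').1 h4)
      · have hp := ((h.normal M) θ).resolve_left hθ
        rw [hd] at hp ⊢
        rcases Nat.prime_mul_iff.1 hp with ⟨-, h2⟩ | ⟨-, h2⟩
        · rw [h2, mul_one]
        · exact absurd h2 hl0.ne_one
    rcases restrict_prime_index M hs hMi χ with hi | ⟨θ, -, hd⟩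
    · have h1 : charDegree (χ : G → ℂ) = charDegree (fun n : M => (χ : G → ℂ) n) := rfl
      rw [h1]
      rcases hM2 ⟨_, hi⟩ with h2 | h2
      exacts [Or.inl h2, Or.inr (Or.inr h2)]
    · rcases h χ with h1 | hp
      · exact Or.inl h1
      · rw [hd] at hp ⊢
        rcases Nat.prime_mul_iff.1 hp with ⟨-, h2⟩ | ⟨-, h2⟩
        · rw [h2, mul_one]; exact Or.inr (Or.inl rfl)
        · exact absurd h2 hs.ne_one

end PrimeDegrees

end Cfsg.Agent.Lib.Characters
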