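import Cfsg.Agent.S4492
import Cfsg.Agent.Lib.Characters.Kernel
import Cfsg.Agent.Lib.Blocks.PrincipalRestrict

/-!
# The principal block of a `p`-solvable group
-/

set_option autoImplicit false
set_option linter.unusedSectionVars false
set_option linter.style.haveILetI false

namespace Cfsg.Agent.Lib.Characters

open Cfsg Cfsg.Agent.Lib.Blocks

universe u

/-- The principal block of a `p`-solvable group consists of the characters trivial on the
`p'`-core. -/
theorem mem_principalBlock_iff_of_isPSolvable {p : ℕ} [Fact p.Prime] {M : Ideal AlgInt}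
    (hM : IsPModular p M) {G : Type u} [Group G] [Finite G] (hsolv : IsPSolvable p G)
    (χ : IrrCharacter G) :
    χ ∈ principalBlock M G ↔ ∀ n ∈ pPrimeCore p G, (χ : G → ℂ) n = (χ : G → ℂ) 1 := by
  classical
  haveI := isPrime_of_isPModular hM
  haveI := Fintype.ofFinite G
  set N := pPrimeCore p G with hN
  haveI : N.Normal := (Cores.pPrimeCore_mem p G).1
  haveI := Fintype.ofFinite N
  obtain ⟨B, hB, hmem, -⟩ := Cfsg.Agent.S4492.result p M hM hsolv N rfl (trivIrr N)
    (fun g n => by simp [trivIrr_apply])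
  have h1 : trivIrr G ∈ B := (hmem _).2
    ((classInner_trivIrr_ne_zero_iff N (trivIrr G)).2 fun n _ => by simp [trivIrr_apply])
  have hB0 : principalBlock M G = B :=
    IsPBlock.eq_of_mem isPBlock_principalBlock hB (self_mem_blockOf (trivIrr G)) h1
  rw [hB0, hmem, classInner_trivIrr_ne_zero_iff]

/-- A proper normal subgroup is in the kernel of some nontrivial irreducible character. -/
theorem exists_irr_ne_one_trivial_on {G : Type u} [Group G] [Finite G] (K : Subgroup G) [K.Normal]
    (hK : K ≠ ⊤) :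
    ∃ χ : IrrCharacter G, (χ : G → ℂ) ≠ (fun _ => 1) ∧ ∀ n ∈ K, (χ : G → ℂ) n = (χ : G → ℂ) 1 := by
  classical
  haveI := Fintype.ofFinite G
  obtain ⟨g, hg⟩ : ∃ g : G, g ∉ K := not_forall.1 fun h => hK ((Subgroup.eq_top_iff' K).2 h)
  obtain ⟨η, hη⟩ := exists_irr_ne_apply_one (g := (g : G ⧸ K))
    fun h => hg ((QuotientGroup.eq_one_iff g).1 h)
  refine ⟨⟨_, IsIrrCharacter.comp_surjective η.2 (QuotientGroup.mk' K) (QuotientGroup.mk'_surjective K)⟩, ?_, ?_⟩
  · intro h
    apply hη
    have h1 := congrFun h g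
    have h2 := congrFun h 1
    simp only [Function.comp_apply, QuotientGroup.mk'_apply, QuotientGroup.mk_one] at h1 h2
    rw [h1, h2]
  · intro n hn
    simp [(QuotientGroup.eq_one_iff n).2 hn]

end Cfsg.Agent.Lib.Characters
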