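import Cfsg.Agent.Lib.Characters.QuaternionChar
import Cfsg.Agent.Lib.Characters.Kernel

/-!
# The Brauer-Suzuki theorem for generalized quaternion Sylow 2-subgroups of order at least 16
-/

namespace Cfsg.Agent.Lib.Characters

open scoped commutatorElement ComplexConjugate
open QuaternionGroup

set_option linter.unusedSectionVars false
set_option linter.style.haveILetI false

universe u

theorem quat_involution {m : ℕ} [NeZero m] {x : QuaternionGroup m} (hx : orderOf x = 2) :
    x = a (m : ZMod (2 * m)) := by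
  rcases x with i | i
  · rw [orderOf_eq_iff two_pos] at hx
    obtain ⟨h2, h1⟩ := hx
    rw [sq, a_mul_a, ← a_zero] at h2
    have h2' : ((2 * i.val : ℕ) : ZMod (2 * m)) = 0 := by
      push_cast
      rw [ZMod.natCast_zmod_val]
      have := QuaternionGroup.a.inj h2
      linear_combination this
    rw [ZMod.natCast_eq_zero_iff] at h2'
    have hval : m ∣ i.val := Nat.dvd_of_mul_dvd_mul_left two_pos h2'
    have hlt := ZMod.val_lt i
    have hne : i.val ≠ 0 := by
      intro h0
      have := h1 1 one_lt_two one_pos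
      rw [pow_one, ← a_zero, Ne, QuaternionGroup.a.injEq] at this
      exact this ((ZMod.val_eq_zero i).mp h0)
    congr 1
    obtain ⟨k, hk⟩ := hval
    rcases Nat.lt_or_ge k 2 with h | h
    · obtain rfl : k = 1 := by
        rcases Nat.eq_zero_or_pos k with h0 | h0
        · exact absurd (by rw [hk, h0, mul_zero]) hne
        · omega
      rw [← ZMod.natCast_zmod_val i, hk, mul_one]
    · exfalso
      have : m * 2 ≤ m * k := Nat.mul_le_mul_left m h
      omega
  · rw [orderOf_xa] at hx
    omega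

theorem quat_involution_central {m : ℕ} [NeZero m] {x : QuaternionGroup m} (hx : orderOf x = 2)
    (y : QuaternionGroup m) : x * y = y * x := by
  rw [quat_involution hx]
  have h2 : ((m : ZMod (2 * m)) + m) = 0 := by
    rw [← Nat.cast_add, ← two_mul, ZMod.natCast_self]
  rcases y with i | i
  · rw [a_mul_a, a_mul_a, add_comm]
  · rw [a_mul_xa, xa_mul_a]
    congr 1
    linear_combination -h2

variable {G : Type u} [Group G] [Finite G] (S : Sylow 2 G) {n : ℕ}
  (e : (S : Subgroup G) ≃* QuaternionGroup (2 ^ (n + 2)))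

include S e in
/-- A product of two involutions has order not divisible by 4. -/
theorem not_four_dvd_orderOf_mul {x y : G} (hx : orderOf x = 2) (hy : orderOf y = 2) :
    ¬ 4 ∣ orderOf (x * y) := by
  intro h4
  haveI : Fact (Nat.Prime 2) := ⟨Nat.prime_two⟩
  have hxx : x * x = 1 := by rw [← sq, ← hx]; exact pow_orderOf_eq_one x
  have hyy : y * y = 1 := by rw [← sq, ← hy]; exact pow_orderOf_eq_one y
  have hxi : x⁻¹ = x := inv_eq_of_mul_eq_one_right hxx
  have hyi : y⁻¹ = y := inv_eq_of_mul_eq_one_right hyy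
  set z := (x * y) ^ (orderOf (x * y) / 4) with hz
  have hzo : orderOf z = 4 := by
    rw [hz, orderOf_pow, Nat.gcd_eq_right (Nat.div_dvd_of_dvd h4),
      Nat.div_div_self h4 (orderOf_pos _).ne']
  have hinv : x * z * x⁻¹ = z⁻¹ := by
    have h1 : x * (x * y) * x⁻¹ = (x * y)⁻¹ := by
      rw [mul_inv_rev, hxi, hyi, ← mul_assoc x x y, hxx, one_mul]
    rw [hz, ← conj_pow, h1, inv_pow]
  have hPx : IsPGroup 2 (Subgroup.zpowers x) :=
    IsPGroup.of_card (n := 1) (by rw [Nat.card_zpowers, hx, pow_one])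
  have hPz : IsPGroup 2 (Subgroup.zpowers z) :=
    IsPGroup.of_card (n := 2) (by rw [Nat.card_zpowers, hzo]; rfl)
  have hnorm : Subgroup.zpowers x ≤ Subgroup.normalizer (Subgroup.zpowers z : Set G) := by
    rw [Subgroup.zpowers_le, Subgroup.mem_normalizer_iff]
    intro w
    constructor
    · rintro ⟨k, rfl⟩
      refine ⟨-k, ?_⟩
      simp only
      rw [← conj_zpow, hinv, inv_zpow, zpow_neg]
    · rintro ⟨k, hk⟩
      refine ⟨-k, ?_⟩
      simp only at hk ⊢
      have h1 : x * (z ^ (-k)) * x⁻¹ = x * w * x⁻¹ := by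
        rw [← conj_zpow, hinv, inv_zpow', neg_neg, hk]
      simpa using h1
  have hP : IsPGroup 2 ↥(Subgroup.zpowers x ⊔ Subgroup.zpowers z) :=
    hPx.to_sup_of_normal_right' hPz hnorm
  obtain ⟨Q, hQ⟩ := hP.exists_le_sylow
  let f : (Q : Subgroup G) ≃* QuaternionGroup (2 ^ (n + 2)) := (Sylow.equiv Q S).trans e
  have hxQ : x ∈ (Q : Subgroup G) := hQ (Subgroup.mem_sup_left (Subgroup.mem_zpowers x))
  have hzQ : z ∈ (Q : Subgroup G) := hQ (Subgroup.mem_sup_right (Subgroup.mem_zpowers z))
  have ho : orderOf (f ⟨x, hxQ⟩) = 2 := by rw [MulEquiv.orderOf_eq, Subgroup.orderOf_mk, hx]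
  have hcomm := quat_involution_central ho (f ⟨z, hzQ⟩)
  rw [← map_mul, ← map_mul] at hcomm
  have hc : x * z = z * x := congrArg Subtype.val (f.injective hcomm)
  rw [hc, mul_inv_cancel_right] at hinv
  have hzz : z ^ 2 = 1 := by
    rw [sq]; nth_rewrite 2 [hinv]; exact mul_inv_cancel _
  have := Nat.le_of_dvd two_pos (orderOf_dvd_of_pow_eq_one hzz)
  omega

include S e in
/-- A normal subgroup containing all involutions, with cyclic Sylow 2-subgroups and non-abelian
quotient. -/
theorem exists_involution_subgroup :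
    ∃ M : Subgroup G, M.Normal ∧ ¬ commutator G ≤ M ∧ (∀ x : G, orderOf x = 2 → x ∈ M) ∧
      ∀ P : Subgroup G, IsPGroup 2 P → P ≤ M → IsCyclic P := by
  classical
  haveI := Fintype.ofFinite G
  haveI : Fact (Nat.Prime 2) := ⟨Nat.prime_two⟩
  obtain ⟨χ₁, χ₂, h1, h2, -, -, hdeg, hval, hd⟩ := exists_two_characters' S e
  have h1c := IsIrrCharacter.isCharacter h1
  have h2c := IsIrrCharacter.isCharacter h2
  obtain ⟨f, hf, hf'⟩ := IsIrrCharacter.exists_apply_one h2
  have hker : ∀ u : G, orderOf u = 2 → χ₁ u = χ₁ 1 ∧ χ₂ u = χ₂ 1 := by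
    intro u hu
    have hu4 : ¬ 4 ∣ orderOf u := by rw [hu]; norm_num
    have hsum : ∑ g : G, (χ₁ (u * (g * u * g⁻¹)) - χ₂ (u * (g * u * g⁻¹))) =
        (Nat.card G : ℂ) := by
      rw [Finset.sum_congr rfl fun g _ => hval _ ?_, Finset.sum_const, Finset.card_univ,
        nsmul_eq_mul, mul_one, Nat.card_eq_fintype_card]
      refine not_four_dvd_orderOf_mul S e hu ?_
      rw [show g * u * g⁻¹ = MulAut.conj g u from rfl, MulEquiv.orderOf_eq, hu]
    rw [Finset.sum_sub_distrib, IsIrrCharacter.sum_conj_translate h1,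
      IsIrrCharacter.sum_conj_translate h2] at hsum
    have hx : χ₁ u = χ₂ u + 1 := by linear_combination hval u hu4
    rw [hx, hdeg, hf'] at hsum
    have hf0 : (f : ℂ) ≠ 0 := Nat.cast_ne_zero.mpr hf.ne'
    have hf1 : (f : ℂ) + 1 ≠ 0 := by
      rw [← Nat.cast_one, ← Nat.cast_add]
      exact Nat.cast_ne_zero.mpr (by omega)
    have hG : (Nat.card G : ℂ) ≠ 0 := natCard_ne_zero_complex
    field_simp at hsum
    have hzero : ((f : ℂ) - χ₂ u) ^ 2 = 0 := by linear_combination -hsum
    have he : χ₂ u = (f : ℂ) := (sub_eq_zero.mp (pow_eq_zero_iff two_ne_zero |>.mp hzero)).symm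
    exact ⟨by rw [hx, he, hdeg, hf'], by rw [he, hf']⟩
  let M : Subgroup G := charKernel h1c ⊓ charKernel h2c
  haveI hM : M.Normal := Subgroup.normal_inf_normal _ _
  refine ⟨M, hM, ?_, fun u hu => hker u hu, ?_⟩
  · intro hle
    obtain ⟨ψ, hψ, hψe⟩ := IsIrrCharacter.exists_quotient h1 (commutator G)
      (fun g hg => (hle hg).1)
    have hone : ψ 1 = 1 := IsIrrCharacter.apply_one_of_comm
      (G := G ⧸ commutator G) (fun a b => mul_comm (G := Abelianization G) a b) hψ
    have h1' : χ₁ 1 = 1 := by rw [hψe, Function.comp_apply, map_one, hone]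
    rw [hdeg, hf'] at h1'
    have : (f : ℂ) = 0 := by linear_combination h1'
    exact hf.ne' (by exact_mod_cast this)
  · intro P hP hPM
    have hdM : qD S e ∉ M := by
      intro hd'
      have e1 : χ₁ (qD S e) = χ₁ 1 := hd'.1
      have e2 : χ₂ (qD S e) = χ₂ 1 := hd'.2
      rw [e1, e2, hdeg] at hd
      norm_num at hd
    have hSM : (S : Subgroup G) ⊓ M ≤ Subgroup.zpowers (qEmb S e (a 1)) := by
      intro w hw
      obtain ⟨q, rfl⟩ : w ∈ (qEmb S e).range := by
        rw [qEmb_range]; exact (Subgroup.mem_inf.mp hw).1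
      rcases q with i | i
      · refine ⟨(i.val : ℤ), ?_⟩
        simp only [zpow_natCast]
        rw [← map_pow, a_one_pow, ZMod.natCast_zmod_val]
      · exfalso
        apply hdM
        have hi : qEmb S e (xa i) ∈ M := (Subgroup.mem_inf.mp hw).2
        have hc : qEmb S e (xa i * (a 1 * (xa i)⁻¹ * (a 1)⁻¹)) ∈ M := by
          rw [map_mul, map_mul, map_mul, map_inv, map_inv]
          exact M.mul_mem hi (hM.conj_mem _ (M.inv_mem hi) _)
        have he' : (xa i : QuaternionGroup (2 ^ (n + 2))) * (a 1 * (xa i)⁻¹ * (a 1)⁻¹) =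
            (a 2)⁻¹ := by
          simp only [quat_inv_xa, quat_inv_a, a_mul_xa, xa_mul_a, xa_mul_xa]
          congr 1
          have hh : ((2 ^ (n + 2) : ℕ) : ZMod (2 * 2 ^ (n + 2))) + (2 ^ (n + 2) : ℕ) = 0 := by
            rw [← Nat.cast_add, ← two_mul, ZMod.natCast_self]
          linear_combination hh
        rw [he', map_inv] at hc
        exact M.inv_mem_iff.mp hc
    obtain ⟨Q, hQ⟩ := hP.exists_le_sylow
    obtain ⟨g, rfl⟩ := MulAction.exists_smul_eq G S Q
    have hmap : ∀ w ∈ P, g⁻¹ * w * g ∈ Subgroup.zpowers (qEmb S e (a 1)) := by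
      intro w hw
      refine hSM (Subgroup.mem_inf.mpr ⟨?_, ?_⟩)
      · have h := hQ hw
        rw [Sylow.coe_subgroup_smul, Subgroup.mem_pointwise_smul_iff_inv_smul_mem] at h
        simpa using h
      · simpa using hM.conj_mem w (hPM hw) g⁻¹
    haveI : IsCyclic (Subgroup.zpowers (qEmb S e (a 1))) := Subgroup.isCyclic_zpowers _
    let φ : P →* Subgroup.zpowers (qEmb S e (a 1)) :=
      ((MulAut.conj g⁻¹).toMonoidHom.comp P.subtype).codRestrict _ fun w => by
        simpa using hmap w w.2
    refine isCyclic_of_injective φ fun v w hvw => Subtype.ext ?_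
    exact (MulAut.conj g⁻¹).injective (congrArg Subtype.val hvw)

include S e in
theorem exists_normal_even_not_commutator :
    ∃ M : Subgroup G, M.Normal ∧ Even (Nat.card M) ∧ ¬ commutator G ≤ M := by
  obtain ⟨M, hM, hc, hinv, -⟩ := exists_involution_subgroup S e
  have h2 : 2 ∣ Nat.card G :=
    (dvd_pow_self 2 (by omega : n + 4 ≠ 0)).trans (card_sylow S e ▸ Subgroup.card_subgroup_dvd_card _)
  haveI : Fact (Nat.Prime 2) := ⟨Nat.prime_two⟩
  obtain ⟨u, hu⟩ := exists_prime_orderOf_dvd_card' (G := G) 2 h2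
  refine ⟨M, hM, even_iff_two_dvd.mpr ?_, hc⟩
  rw [← hu]
  exact Subgroup.orderOf_dvd_natCard M (hinv u hu)

include S e in
theorem isCyclic_sylow_closure_involutions
    (Q : Sylow 2 ↥(Subgroup.closure {g : G | orderOf g = 2})) : IsCyclic Q := by
  obtain ⟨M, -, -, hinv, hcyc⟩ := exists_involution_subgroup S e
  have hle : (Q : Subgroup (Subgroup.closure {g : G | orderOf g = 2})).map
      (Subgroup.subtype _) ≤ M :=
    (Subgroup.map_subtype_le _).trans ((Subgroup.closure_le M).mpr hinv)
  haveI := hcyc _ (Q.2.map (Subgroup.subtype _)) hle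
  exact (((Q : Subgroup (Subgroup.closure {g : G | orderOf g = 2})).equivMapOfInjective
    (Subgroup.subtype _) (Subgroup.subtype_injective _)).isCyclic).mpr inferInstance

include S e in
theorem card_center_eq_two (hO : ∀ N : Subgroup G, N.Normal → Odd (Nat.card N) → N = ⊥) :
    Nat.card (Subgroup.center G) = 2 := by
  classical
  haveI : Fact (Nat.Prime 2) := ⟨Nat.prime_two⟩
  obtain ⟨M, hM, -, hinv, hcyc⟩ := exists_involution_subgroup S e
  have h2 : 2 ∣ Nat.card G :=
    (dvd_pow_self 2 (by omega : n + 4 ≠ 0)).trans (card_sylow S e ▸ Subgroup.card_subgroup_dvd_card _)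
  obtain ⟨u, hu⟩ := exists_prime_orderOf_dvd_card' (G := G) 2 h2
  -- `M` is a cyclic 2-group
  have hMev : (Nat.card M).minFac = 2 := by
    rw [Nat.minFac_eq_two_iff, ← hu]
    exact Subgroup.orderOf_dvd_natCard M (hinv u hu)
  let T : Sylow 2 M := default
  haveI : IsCyclic ↥((T : Subgroup M).map M.subtype) :=
    hcyc _ (T.2.map M.subtype) (Subgroup.map_subtype_le _)
  have hTc : IsCyclic T :=
    (((T : Subgroup M).equivMapOfInjective M.subtype M.subtype_injective).isCyclic).mpr inferInstance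
  have hcompl := IsCyclic.isComplement' hMev hTc
  set K := (MonoidHom.transferSylow T (hTc.normalizer_le_centralizer hMev)).ker with hKdef
  obtain ⟨j, hj⟩ := T.2.exists_card_eq
  have hKodd : Odd (Nat.card K) :=
    Nat.not_even_iff_odd.mp fun h =>
      MonoidHom.not_dvd_card_ker_transferSylow T (hTc.normalizer_le_centralizer hMev)
        (even_iff_two_dvd.mp h)
  have hchar : ∀ x : M, x ∈ K ↔ Odd (orderOf x) := by
    intro x
    constructor
    · intro hx
      exact Odd.of_dvd_nat hKodd (Subgroup.orderOf_dvd_natCard K hx)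
    · intro hx
      rw [← QuotientGroup.eq_one_iff, ← orderOf_eq_one_iff]
      refine Nat.Coprime.eq_one_of_dvd ?_ (orderOf_map_dvd (QuotientGroup.mk' K) x)
      have h1 : orderOf (x : M ⧸ K) ∣ 2 ^ j := by
        have h2 := orderOf_dvd_natCard (x : M ⧸ K)
        rwa [← Subgroup.index_eq_card, hcompl.symm.index_eq_card, hj] at h2
      exact Nat.Coprime.coprime_dvd_left h1
        (Nat.Coprime.pow_left _ (Nat.coprime_two_left.mpr hx))
  have hKn : (K.map M.subtype).Normal := by
    refine ⟨?_⟩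
    rintro _ ⟨x, hx, rfl⟩ g
    refine ⟨⟨g * x * g⁻¹, hM.conj_mem x x.2 g⟩, ?_, rfl⟩
    rw [SetLike.mem_coe, hchar, ← Subgroup.orderOf_coe]
    show Odd (orderOf (MulAut.conj g (x : G)))
    rw [MulEquiv.orderOf_eq, Subgroup.orderOf_coe]
    exact (hchar x).mp hx
  have hK1 := hO _ hKn (by rwa [Subgroup.card_map_of_injective M.subtype_injective])
  rw [Subgroup.map_eq_bot_iff_of_injective _ M.subtype_injective] at hK1
  have hMp : IsPGroup 2 M := by
    have h := hcompl.card_mul_card
    rw [hK1, Subgroup.card_bot, one_mul, hj] at h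
    exact IsPGroup.of_card h.symm
  -- everything lives in `S`
  have hsub : ∀ H : Subgroup G, H.Normal → IsPGroup 2 H → H ≤ (S : Subgroup G) := by
    intro H hH hHp
    obtain ⟨Q, hQ⟩ := hHp.exists_le_sylow
    obtain ⟨g, rfl⟩ := MulAction.exists_smul_eq G S Q
    intro x hx
    have hx' := hQ (hH.conj_mem x hx g)
    rw [Sylow.coe_subgroup_smul, Subgroup.mem_pointwise_smul_iff_inv_smul_mem] at hx'
    simpa [mul_assoc] using hx'
  have huS : ∀ x : G, orderOf x = 2 → x ∈ (S : Subgroup G) :=
    fun x hx => hsub M hM hMp (hinv x hx)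
  have huniq : ∀ x : G, orderOf x = 2 → x = u := by
    intro x hx
    have h1 : e ⟨x, huS x hx⟩ = e ⟨u, huS u hu⟩ := by
      rw [quat_involution (x := e ⟨x, huS x hx⟩)
        (by rw [MulEquiv.orderOf_eq, Subgroup.orderOf_mk, hx]),
        quat_involution (x := e ⟨u, huS u hu⟩)
        (by rw [MulEquiv.orderOf_eq, Subgroup.orderOf_mk, hu])]
    exact congrArg Subtype.val (e.injective h1)
  have huZ : u ∈ Subgroup.center G := by
    refine Subgroup.mem_center_iff.mpr fun g => ?_
    have h1 := huniq (g * u * g⁻¹)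
      (by rw [show g * u * g⁻¹ = MulAut.conj g u from rfl, MulEquiv.orderOf_eq, hu])
    exact mul_inv_eq_iff_eq_mul.mp h1
  have hZp : IsPGroup 2 (Subgroup.center G) := by
    have hprime : ∀ p : ℕ, p.Prime → p ∣ Nat.card (Subgroup.center G) → p = 2 := by
      intro p hp hpd
      by_contra hne
      haveI := Fact.mk hp
      obtain ⟨z, hz⟩ := exists_prime_orderOf_dvd_card' (G := Subgroup.center G) p hpd
      have hn : (Subgroup.zpowers (z : G)).Normal := by
        refine ⟨fun w hw g => ?_⟩
        have hwc : w ∈ Subgroup.center G := Subgroup.zpowers_le.mpr z.2 hw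
        rwa [Subgroup.mem_center_iff.mp hwc g, mul_inv_cancel_right]
      have h1 := hO _ hn (by
        rw [Nat.card_zpowers, Subgroup.orderOf_coe, hz]; exact hp.odd_of_ne_two hne)
      rw [Subgroup.zpowers_eq_bot] at h1
      rw [← Subgroup.orderOf_coe, h1, orderOf_one] at hz
      exact hp.ne_one hz.symm
    exact IsPGroup.of_card (Nat.eq_prime_pow_of_unique_prime_dvd Nat.card_pos.ne'
      fun {d} hd hd' => hprime d hd hd')
  have hZS := hsub (Subgroup.center G) inferInstance hZp
  have hZ : ∀ z ∈ Subgroup.center G, z = 1 ∨ z = u := by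
    intro z hz
    have hcomm : ∀ y : QuaternionGroup (2 ^ (n + 2)),
        y * e ⟨z, hZS hz⟩ = e ⟨z, hZS hz⟩ * y := by
      intro y
      obtain ⟨w, rfl⟩ := e.surjective y
      rw [← map_mul, ← map_mul]
      exact congrArg e (Subtype.ext (Subgroup.mem_center_iff.mp hz w))
    have hsq : e ⟨z, hZS hz⟩ ^ 2 = 1 := by
      revert hcomm
      generalize e ⟨z, hZS hz⟩ = q
      intro hcomm
      rcases q with i | i
      · have h := hcomm (xa 0)
        rw [xa_mul_a, a_mul_xa] at h
        rw [sq, a_mul_a, ← a_zero]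
        congr 1
        linear_combination (QuaternionGroup.xa.inj h)
      · exfalso
        have h := (quat_centralizer three_le_pow (xa i)).mp (hcomm (a 2)).symm
        obtain ⟨k, hk⟩ := h
        obtain ⟨l, rfl | rfl⟩ := Int.eq_nat_or_neg k
        · simp [QuaternionGroup.a_one_pow] at hk
        · simp only [zpow_neg, zpow_natCast, QuaternionGroup.a_one_pow, quat_inv_a] at hk
          cases hk
    rw [← map_pow, MulEquiv.map_eq_one_iff] at hsq
    have hz2 : z ^ 2 = 1 := congrArg Subtype.val hsq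
    by_cases h1 : z = 1
    · exact Or.inl h1
    · exact Or.inr (huniq z (orderOf_eq_prime hz2 h1))
  have hu1 : u ≠ 1 := fun h => by rw [h, orderOf_one] at hu; omega
  have hset : ((Subgroup.center G : Subgroup G) : Set G) = {1, u} := by
    ext z
    refine ⟨fun hz => hZ z hz, ?_⟩
    rintro (rfl | rfl)
    exacts [Subgroup.one_mem _, huZ]
  rw [show Nat.card (Subgroup.center G) = ((Subgroup.center G : Subgroup G) : Set G).ncard from
    Nat.card_coe_set_eq _, hset]
  exact Set.ncard_pair hu1.symm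

end Cfsg.Agent.Lib.Characters
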