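import Cfsg.Agent.Lib.Characters.QuaternionSylow
import Mathlib.GroupTheory.SpecificGroups.Cyclic

/-!
# Two characters of a group with generalized quaternion Sylow 2-subgroup
-/

namespace Cfsg.Agent.Lib.Characters

open scoped ComplexConjugate

set_option linter.unusedSectionVars false
set_option linter.style.haveILetI false

universe u

/-- A generalized character of norm two is a signed sum of two irreducible characters. -/
theorem IsGeneralizedCharacter.exists_pm_pair {G : Type u} [Group G] [Fintype G] {θ : G → ℂ}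
    (hθ : IsGeneralizedCharacter G θ) (h2 : classInner θ θ = 2) :
    ∃ (a b : IrrCharacter G) (s t : ℤ), a ≠ b ∧ (s = 1 ∨ s = -1) ∧ (t = 1 ∨ t = -1) ∧
      θ = (s : ℂ) • (a : G → ℂ) + (t : ℂ) • (b : G → ℂ) := by
  classical
  haveI := Fintype.ofFinite (IrrCharacter G)
  obtain ⟨c, hc, -⟩ := IsGeneralizedCharacter.exists_int_decomp hθ
  have hsq : ∑ χ : IrrCharacter G, c χ ^ 2 = 2 := by
    rw [hc, classInner_sum_sum] at h2
    simp only [map_intCast] at h2
    exact_mod_cast (by simpa [sq] using h2 :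
      ((∑ χ : IrrCharacter G, c χ ^ 2 : ℤ) : ℂ) = ((2 : ℤ) : ℂ))
  let s := Finset.univ.filter fun χ => c χ ≠ 0
  have hle : ∀ χ, c χ ^ 2 ≤ 2 := fun χ =>
    hsq ▸ Finset.single_le_sum (f := fun ψ => c ψ ^ 2) (fun _ _ => sq_nonneg _) (Finset.mem_univ χ)
  have hval : ∀ χ ∈ s, c χ = 1 ∨ c χ = -1 := by
    intro χ hχ
    have h := hle χ
    have hne := (Finset.mem_filter.mp hχ).2
    have hl : -2 < c χ := by nlinarith
    have hu : c χ < 2 := by nlinarith
    omega
  have hcard : s.card = 2 := by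
    have h' : ∑ χ ∈ s, c χ ^ 2 = 2 := by
      rw [← hsq]
      exact Finset.sum_filter_of_ne fun x _ hx h0 => hx (by simp [h0])
    rw [Finset.sum_congr rfl (g := fun _ => (1 : ℤ)) fun χ hχ => by
      rcases hval χ hχ with h | h <;> simp [h]] at h'
    simp at h'
    exact_mod_cast h'
  obtain ⟨a, b, hab, hs⟩ := Finset.card_eq_two.mp hcard
  refine ⟨a, b, c a, c b, hab, hval a (by rw [hs]; simp), hval b (by rw [hs]; simp), ?_⟩
  rw [hc, ← Finset.sum_pair (f := fun χ : IrrCharacter G => (c χ : ℂ) • (χ : G → ℂ)) hab, ← hs]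
  refine (Finset.sum_filter_of_ne ?_).symm
  intro x _ hx h0
  exact hx (by simp [h0])

variable {G : Type u} [Group G] [Finite G] (S : Sylow 2 G) {n : ℕ}
  (e : (S : Subgroup G) ≃* QuaternionGroup (2 ^ (n + 2)))

/-- A linear character of order four of the centralizer. -/
theorem exists_lam :
    ∃ (lam : Subgroup.centralizer (Subgroup.zpowers (qD S e) : Set G) →* ℂˣ)
      (ha : qEmb S e (QuaternionGroup.a 1) ∈
        Subgroup.centralizer (Subgroup.zpowers (qD S e) : Set G)),
      ((lam ⟨_, ha⟩ : ℂˣ) : ℂ) = Complex.I ∧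
      ∀ x, ¬ 2 ^ (n + 2) ∣ orderOf x → lam x = 1 := by
  obtain ⟨K, hK, hKC, hNK, -, -, hdec⟩ := exists_oddComplement S e
  set C := Subgroup.centralizer (Subgroup.zpowers (qD S e) : Set G) with hC
  have ha : qEmb S e (QuaternionGroup.a 1) ∈ C := by
    have h : qEmb S e (QuaternionGroup.a 1) ∈ (S : Subgroup G) ⊓ C := by
      rw [hC, inf_centralizer_eq S e]; exact Subgroup.mem_zpowers _
    exact (Subgroup.mem_inf.mp h).2
  haveI : (K.subgroupOf C).Normal :=
    Subgroup.normal_subgroupOf_of_le_normalizer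
      ((Subgroup.centralizer_le_normalizer _).trans hNK)
  let Q := C ⧸ K.subgroupOf C
  let g : Q := QuotientGroup.mk ⟨_, ha⟩
  have hgen : ∀ q : Q, q ∈ Subgroup.zpowers g := by
    intro q
    obtain ⟨x, rfl⟩ := QuotientGroup.mk_surjective q
    obtain ⟨k, hk⟩ := hdec x x.2
    refine ⟨-k, ?_⟩
    show g ^ (-k) = _
    rw [← QuotientGroup.mk_zpow, QuotientGroup.eq, Subgroup.mem_subgroupOf, zpow_neg, inv_inv]
    have hx : (x : G)⁻¹ * ((x : G) * qEmb S e (QuaternionGroup.a 1) ^ k) * (x : G) ∈ K := by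
      have hxn : (x : G)⁻¹ ∈ Subgroup.normalizer (K : Set G) :=
        Subgroup.inv_mem _ (hNK (Subgroup.centralizer_le_normalizer _ x.2))
      simpa using (Subgroup.mem_normalizer_iff.mp hxn _).mp hk
    simpa [mul_assoc] using hx
  have hog : orderOf g = 2 ^ (n + 3) := by
    have h1 : orderOf g ∣ 2 ^ (n + 3) := by
      rw [← orderOf_qA S e]
      refine (orderOf_map_dvd (QuotientGroup.mk' _) (⟨_, ha⟩ : C)).trans ?_
      rw [← Subgroup.orderOf_coe]
    have h2 : g ^ orderOf g = 1 := pow_orderOf_eq_one g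
    rw [← QuotientGroup.mk_pow, QuotientGroup.eq_one_iff, Subgroup.mem_subgroupOf,
      Subgroup.coe_pow] at h2
    have h3 := Subgroup.orderOf_dvd_natCard K h2
    have h4 : qEmb S e (QuaternionGroup.a 1) ^ orderOf g = 1 := by
      rw [← orderOf_eq_one_iff]
      refine Nat.eq_one_of_dvd_coprimes (Nat.Coprime.pow_left (n + 3)
        (Nat.coprime_two_left.mpr hK)) ?_ h3
      rw [← orderOf_qA S e]
      exact orderOf_pow_dvd _
    have h5 := orderOf_dvd_of_pow_eq_one h4
    rw [orderOf_qA S e] at h5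
    exact Nat.dvd_antisymm h1 h5
  let i' : ℂˣ := Units.mk0 Complex.I Complex.I_ne_zero
  have hi4 : i' ^ 4 = 1 := Units.ext (by simp [i', Complex.I_pow_four])
  have hdvd : orderOf i' ∣ orderOf g := by
    rw [hog, show n + 3 = 2 + (n + 1) by omega, pow_add]
    exact (orderOf_dvd_of_pow_eq_one hi4).trans (Dvd.intro _ rfl)
  let mu : Q →* ℂˣ := monoidHomOfForallMemZpowers hgen hdvd
  have hmu : mu g = i' := monoidHomOfForallMemZpowers_apply_gen hgen hdvd
  refine ⟨mu.comp (QuotientGroup.mk' _), ha, ?_, ?_⟩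
  · show ((mu g : ℂˣ) : ℂ) = Complex.I
    rw [hmu]
    rfl
  · intro x hx
    show mu (QuotientGroup.mk x) = 1
    obtain ⟨k, hk⟩ := Subgroup.mem_zpowers_iff.mp (hgen (QuotientGroup.mk x))
    rw [← hk, map_zpow, hmu]
    have h1 : ¬ 2 ^ (n + 2) ∣ orderOf (g ^ k) := fun h =>
      hx (h.trans (hk.symm ▸ orderOf_map_dvd (QuotientGroup.mk' (K.subgroupOf C)) x))
    obtain ⟨j, hj, hj'⟩ := (Nat.dvd_prime_pow Nat.prime_two).mp
      (show orderOf (g ^ k) ∣ 2 ^ (n + 3) from hog ▸ orderOf_dvd_of_mem_zpowers ⟨k, rfl⟩)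
    have hj2 : j ≤ n + 1 := by
      by_contra hcon
      exact h1 (hj' ▸ pow_dvd_pow 2 (by omega))
    have h2 : (g ^ k) ^ ((2 ^ (n + 1) : ℕ) : ℤ) = 1 := by
      rw [zpow_natCast, ← orderOf_dvd_iff_pow_eq_one, hj']
      exact pow_dvd_pow 2 hj2
    rw [← zpow_mul, ← orderOf_dvd_iff_zpow_eq_one, hog, show n + 3 = 2 + (n + 1) by omega,
      pow_add, Nat.cast_mul] at h2
    have h3 : ((2 ^ 2 : ℕ) : ℤ) ∣ k :=
      (mul_dvd_mul_iff_right (by positivity)).mp h2
    obtain ⟨l, rfl⟩ := h3
    rw [zpow_mul, zpow_natCast, show (2 : ℕ) ^ 2 = 4 by norm_num, hi4, one_zpow]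

include S e in
theorem exists_two_characters' [Fintype G] :
    ∃ χ₁ χ₂ : G → ℂ, IsIrrCharacter G χ₁ ∧ IsIrrCharacter G χ₂ ∧ χ₁ ≠ (fun _ => 1) ∧
      χ₂ ≠ (fun _ => 1) ∧ χ₁ 1 = χ₂ 1 + 1 ∧ (∀ g : G, ¬ 4 ∣ orderOf g → χ₁ g - χ₂ g = 1) ∧
      χ₁ (qD S e) - χ₂ (qD S e) = -3 := by
  classical
  have hidx := (index_and_card S e).1
  set C := Subgroup.centralizer (Subgroup.zpowers (qD S e) : Set G) with hC
  obtain ⟨lam, ha, hlamI, hlam1⟩ : ∃ (lam : C →* ℂˣ) (ha : qEmb S e (QuaternionGroup.a 1) ∈ C),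
      ((lam ⟨_, ha⟩ : ℂˣ) : ℂ) = Complex.I ∧
      ∀ x, ¬ 2 ^ (n + 2) ∣ orderOf x → lam x = 1 := exists_lam S e
  set N := Subgroup.normalizer (Subgroup.zpowers (qD S e) : Set G) with hN
  have hCN : C ≤ N := Subgroup.centralizer_le_normalizer _
  set C' : Subgroup N := C.subgroupOf N with hC'
  haveI : C'.Normal := by
    rw [hC', hC, hN, ← Subgroup.normalizerMonoidHom_ker]; infer_instance
  haveI := Fintype.ofFinite N
  haveI := Fintype.ofFinite C'
  let em : C' →* C := (Subgroup.subgroupOfEquivOfLe hCN).toMonoidHom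
  let lamC : C' → ℂ := fun x => ((lam (em x) : ℂˣ) : ℂ)
  have hlamirr : IsIrrCharacter C' lamC := isIrrCharacter_unitsHom (lam.comp em)
  -- an element outside the centralizer inverting `a`
  have hsS : qEmb S e (QuaternionGroup.xa 0) ∈ (S : Subgroup G) := by
    rw [← qEmb_range S e]; exact ⟨_, rfl⟩
  let s : N := ⟨_, sylow_le_normalizer S e hsS⟩
  have hs : s ∉ C' := by
    intro h
    have h1 : qEmb S e (QuaternionGroup.xa 0) ∈ (S : Subgroup G) ⊓ C := ⟨hsS, h⟩
    rw [hC, inf_centralizer_eq S e, ← MonoidHom.map_zpowers] at h1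
    obtain ⟨q, hq, he⟩ := h1
    rw [qEmb_injective S e he] at hq
    obtain ⟨k, hk⟩ := hq
    obtain ⟨l, rfl | rfl⟩ := Int.eq_nat_or_neg k
    · simp [QuaternionGroup.a_one_pow] at hk
    · simp only [zpow_neg, zpow_natCast, QuaternionGroup.a_one_pow, quat_inv_a] at hk
      cases hk
  have hind : ∀ g : N, conjFun C' g lamC = lamC → g ∈ C' := by
    intro g hg
    by_contra hgC
    have hc : g * s⁻¹ ∈ C' :=
      (Subgroup.mul_mem_iff_of_index_two hidx).mpr
        (iff_of_false hgC fun h => hs (by simpa using h))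
    let cC : C := em ⟨g * s⁻¹, hc⟩
    let aC : C := ⟨_, ha⟩
    have h := congrFun hg (⟨⟨_, hCN ha⟩, ha⟩ : C')
    have hel : em ⟨g * ⟨_, hCN ha⟩ * g⁻¹, Subgroup.Normal.conj_mem inferInstance _
        (show (⟨_, hCN ha⟩ : N) ∈ C' from ha) g⟩ = cC * aC⁻¹ * cC⁻¹ := by
      apply Subtype.ext
      show (g : G) * qEmb S e (QuaternionGroup.a 1) * (g : G)⁻¹ = ((g : G) * (s : G)⁻¹) *
        (qEmb S e (QuaternionGroup.a 1))⁻¹ * ((g : G) * (s : G)⁻¹)⁻¹
      have hconj := congrArg (qEmb S e) (quat_conj_a (m := 2 ^ (n + 2)) 1)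
      rw [← quat_inv_a, map_mul, map_mul, map_inv, map_inv] at hconj
      have hsc : (s : G) = qEmb S e (QuaternionGroup.xa 0) := rfl
      rw [hsc]
      have hconj2 : qEmb S e (QuaternionGroup.a 1) = (qEmb S e (QuaternionGroup.xa 0))⁻¹ *
          (qEmb S e (QuaternionGroup.a 1))⁻¹ * qEmb S e (QuaternionGroup.xa 0) := by
        rw [← hconj]; group
      nth_rewrite 1 [hconj2]
      group
    simp only [conjFun, lamC] at h
    rw [hel] at h
    rw [map_mul, map_mul, map_inv, map_inv, mul_comm (lam cC), mul_inv_cancel_right,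
      show em ⟨⟨_, hCN ha⟩, ha⟩ = aC from rfl, Units.val_inv_eq_inv_val, hlamI, Complex.inv_I] at h
    exact Complex.I_ne_zero (by linear_combination (-1 / 2 : ℂ) * h)
  let psi : N → ℂ := indFun C' lamC
  have hpsi : IsIrrCharacter N psi := isIrrCharacter_indFun_of_inertia C' hlamirr hind
  let eps : N → ℂ := fun x => if x ∈ C' then 1 else -1
  have heps : IsIrrCharacter N eps := by
    refine IsCharacter.isIrr_of_apply_one ?_ (if_pos C'.one_mem)
    let f : N →* ℂ :=
      { toFun := eps
        map_one' := if_pos C'.one_mem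
        map_mul' := fun x y => by
          have h := Subgroup.mul_mem_iff_of_index_two hidx (a := x) (b := y)
          by_cases hx : x ∈ C' <;> by_cases hy : y ∈ C' <;> simp [eps, h, hx, hy] }
    exact IsIrrCharacter.isCharacter (isIrrCharacter_monoidHom f)
  let one : N → ℂ := fun _ => 1
  have hone : IsIrrCharacter N one := isIrrCharacter_one
  let θ : N → ℂ := one + eps - psi
  have hpsi1 : psi 1 = 2 := by
    show indFun C' lamC 1 = 2
    rw [indFun_one, hidx, show lamC 1 = 1 by simp [lamC]]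
    norm_num
  have hne1 : one ≠ eps := fun h => by
    have h1 := congrFun h s
    simp only [one, eps, if_neg hs] at h1
    norm_num at h1
  have hne2 : one ≠ psi := fun h => by
    have h1 := congrFun h 1
    rw [hpsi1] at h1
    norm_num [one] at h1
  have hne3 : eps ≠ psi := fun h => by
    have h1 := congrFun h 1
    rw [hpsi1, show eps 1 = 1 from if_pos C'.one_mem] at h1
    norm_num at h1
  have hnorm : classInner θ θ = 3 := by
    simp only [θ, classInner_add_left, classInner_sub_left, classInner_add_right,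
      classInner_sub_right, IsIrrCharacter.classInner_self hone,
      IsIrrCharacter.classInner_self heps, IsIrrCharacter.classInner_self hpsi,
      IsIrrCharacter.classInner_ne hone heps hne1, IsIrrCharacter.classInner_ne heps hone hne1.symm,
      IsIrrCharacter.classInner_ne hone hpsi hne2, IsIrrCharacter.classInner_ne hpsi hone hne2.symm,
      IsIrrCharacter.classInner_ne heps hpsi hne3, IsIrrCharacter.classInner_ne hpsi heps hne3.symm]
    norm_num
  have hθone : classInner θ one = 1 := by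
    simp only [θ, classInner_add_left, classInner_sub_left, IsIrrCharacter.classInner_self hone,
      IsIrrCharacter.classInner_ne heps hone hne1.symm,
      IsIrrCharacter.classInner_ne hpsi hone hne2.symm]
    norm_num
  have hθgen : IsGeneralizedCharacter N θ :=
    IsGeneralizedCharacter.sub (IsGeneralizedCharacter.add
      (IsCharacter.isGeneralizedCharacter (IsIrrCharacter.isCharacter hone))
      (IsCharacter.isGeneralizedCharacter (IsIrrCharacter.isCharacter heps)))
      (IsCharacter.isGeneralizedCharacter (IsIrrCharacter.isCharacter hpsi))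
  let T : Set G := {y | y ∈ C ∧ 2 ^ (n + 2) ∣ orderOf y}
  have hvan : ∀ x : N, (x : G) ∉ T → θ x = 0 := by
    intro x hx
    simp only [θ, one, eps, Pi.add_apply, Pi.sub_apply]
    by_cases hxC : x ∈ C'
    · have hd : ¬ 2 ^ (n + 2) ∣ orderOf (x : G) := fun h => hx ⟨hxC, h⟩
      have h1 : ∀ y : N, extendByZero C' lamC (y⁻¹ * x * y) = 1 := by
        intro y
        have hm : y⁻¹ * x * y ∈ C' := by
          simpa using Subgroup.Normal.conj_mem (H := C') inferInstance x hxC y⁻¹
        rw [extendByZero_of_mem C' lamC hm]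
        show ((lam (em ⟨_, hm⟩) : ℂˣ) : ℂ) = 1
        rw [hlam1 _ ?_, Units.val_one]
        rw [← Subgroup.orderOf_coe]
        show ¬ 2 ^ (n + 2) ∣ orderOf (((y⁻¹ * x * y : N)) : G)
        rwa [Subgroup.orderOf_coe, show y⁻¹ * x * y = MulAut.conj y⁻¹ x by simp,
          MulEquiv.orderOf_eq, ← Subgroup.orderOf_coe]
      have h2 : psi x = 2 := by
        show indFun C' lamC x = 2
        rw [indFun_apply, Finset.sum_congr rfl fun y _ => h1 y, Finset.sum_const,
          Finset.card_univ, nsmul_eq_mul, mul_one, ← Nat.card_eq_fintype_card,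
          ← C'.card_mul_index, hidx, Nat.cast_mul, inv_mul_cancel_left₀ natCard_ne_zero_complex]
        norm_num
      rw [if_pos hxC, h2]
      norm_num
    · rw [if_neg hxC, show psi x = 0 from indFun_vanish C' lamC hxC]
      norm_num
  -- the induced generalized character
  have hθcl := IsGeneralizedCharacter.isClassFunction hθgen
  have hsupp : ∀ t : N, θ t ≠ 0 → ∀ x : G, x ∉ N → x⁻¹ * (t : G) * x ∉ T := by
    intro t ht x hx hmem
    have htT : (t : G) ∈ T := by
      by_contra h
      exact ht (hvan t h)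
    apply hx
    have h := mem_normalizer_of_conj_mem S e (g := x⁻¹) htT.1 htT.2 (by simpa using hmem.1)
    simpa using h
  have htau : classInner (indFun N θ) (indFun N θ) = 3 := by
    rw [classInner_indFun_indFun_eq N T hθcl hvan hsupp, hnorm]
  have htau1 : classInner (indFun N θ) (fun _ : G => (1 : ℂ)) = 1 := by
    rw [classInner_indFun N θ (fun _ _ => rfl)]
    exact hθone
  let sg : G → ℂ := indFun N θ - fun _ => 1
  have hsgen : IsGeneralizedCharacter G sg :=
    IsGeneralizedCharacter.sub (IsGeneralizedCharacter.indFun N hθgen)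
      (IsCharacter.isGeneralizedCharacter isCharacter_one)
  have hone1 : classInner (fun _ : G => (1 : ℂ)) (fun _ => 1) = 1 :=
    IsIrrCharacter.classInner_self isIrrCharacter_one
  have htau1' : classInner (fun _ : G => (1 : ℂ)) (indFun N θ) = 1 := by
    rw [← classInner_conj_symm, htau1, map_one]
  have hsnorm : classInner sg sg = 2 := by
    simp only [sg, classInner_sub_left, classInner_sub_right, htau, htau1, htau1', hone1]
    norm_num
  have hsone : classInner sg (fun _ => 1) = 0 := by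
    simp only [sg, classInner_sub_left, htau1, hone1, sub_self]
  have hzero : ∀ g : G, ¬ 4 ∣ orderOf g → indFun N θ g = 0 := by
    intro g hg
    rw [indFun_apply, Finset.sum_eq_zero fun x _ => ?_, mul_zero]
    by_cases hm : x⁻¹ * g * x ∈ N
    · rw [extendByZero_of_mem N θ hm]
      refine hvan _ fun h => hg ?_
      have h2 : 2 ^ (n + 2) ∣ orderOf (x⁻¹ * g * x) := h.2
      rw [show x⁻¹ * g * x = MulAut.conj x⁻¹ g by simp] at h2
      simp only [MulEquiv.orderOf_eq] at h2
      refine dvd_trans ?_ h2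
      rw [pow_add]
      exact Dvd.intro_left _ rfl
    · exact extendByZero_of_not_mem N θ hm
  have hs1 : sg 1 = -1 := by
    simp only [sg, Pi.sub_apply]
    rw [hzero 1 (by rw [orderOf_one]; norm_num), zero_sub]
  have hdT : qD S e ∈ N := by
    rw [hN]
    exact Subgroup.le_normalizer (Subgroup.mem_zpowers _)
  have hdC : qD S e ∈ C := by
    rw [qD, quat_a_two, map_pow]
    exact C.pow_mem ha 2
  let d : N := ⟨qD S e, hdT⟩
  have hoD : orderOf (qD S e) = 2 ^ (n + 2) := by rw [← Nat.card_zpowers, card_qD]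
  have hdval : θ d = 4 := by
    have h1 : ∀ y : N, extendByZero C' lamC (y⁻¹ * d * y) = -1 := by
      intro y
      have hm : y⁻¹ * d * y ∈ C' := by
        simpa using Subgroup.Normal.conj_mem (H := C') inferInstance d hdC y⁻¹
      rw [extendByZero_of_mem C' lamC hm]
      show ((lam (em ⟨_, hm⟩) : ℂˣ) : ℂ) = -1
      have hD' : (y : G)⁻¹ * qD S e * (y : G) ∈ Subgroup.zpowers (qD S e) :=
        (Subgroup.mem_normalizer_iff''.mp y.2 _).mp (Subgroup.mem_zpowers _)
      obtain ⟨k, hk⟩ := Subgroup.mem_zpowers_iff.mp hD'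
      have hko : orderOf (qD S e ^ k) = 2 ^ (n + 2) := by
        rw [hk, show (y : G)⁻¹ * qD S e * (y : G) = MulAut.conj (y : G)⁻¹ (qD S e) by simp,
          MulEquiv.orderOf_eq, hoD]
      have hodd : Odd k := by
        refine Int.not_even_iff_odd.mp fun ⟨l, hl⟩ => ?_
        have hz : (qD S e ^ k) ^ (2 ^ (n + 1)) = 1 := by
          rw [← zpow_natCast, ← zpow_mul, ← orderOf_dvd_iff_zpow_eq_one, hoD, hl]
          push_cast
          exact ⟨l, by ring⟩
        have := Nat.le_of_dvd (pow_pos two_pos _) (hko ▸ orderOf_dvd_of_pow_eq_one hz)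
        rw [pow_succ 2 (n + 1)] at this
        have := Nat.two_pow_pos (n + 1)
        omega
      have hel : em ⟨y⁻¹ * d * y, hm⟩ = (⟨_, ha⟩ : C) ^ (2 * k) := by
        apply Subtype.ext
        show (y : G)⁻¹ * qD S e * (y : G) = _
        rw [← hk, Subgroup.coe_zpow, zpow_mul, zpow_two]
        congr 1
        rw [qD, quat_a_two, map_pow, sq]
      rw [hel, map_zpow, Units.val_zpow_eq_zpow_val, hlamI, zpow_mul, zpow_two, Complex.I_mul_I]
      exact Odd.neg_one_zpow hodd
    have h2 : psi d = -2 := by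
      show indFun C' lamC d = -2
      rw [indFun_apply, Finset.sum_congr rfl fun y _ => h1 y, Finset.sum_const,
        Finset.card_univ, nsmul_eq_mul, ← Nat.card_eq_fintype_card,
        ← C'.card_mul_index, hidx, Nat.cast_mul, mul_assoc,
        inv_mul_cancel_left₀ natCard_ne_zero_complex]
      norm_num
    have hdC' : d ∈ C' := hdC
    simp only [θ, one, eps, Pi.add_apply, Pi.sub_apply, if_pos hdC', h2]
    norm_num
  have hsd : sg (qD S e) = 3 := by
    have h1 : indFun N θ (d : G) = θ d :=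
      indFun_eq_self N T hθcl hvan d (hsupp d (by rw [hdval]; norm_num))
    simp only [sg, Pi.sub_apply]
    rw [show qD S e = (d : G) from rfl, h1, hdval]
    norm_num
  obtain ⟨a, b, p, q, hab, hp, hq, hsg⟩ := IsGeneralizedCharacter.exists_pm_pair hsgen hsnorm
  have htriv : ∀ (a b : IrrCharacter G) (p q : ℤ), a ≠ b → (p = 1 ∨ p = -1) →
      sg = (p : ℂ) • (a : G → ℂ) + (q : ℂ) • (b : G → ℂ) → (a : G → ℂ) ≠ fun _ => 1 := by
    intro a b p q hab hp hsg ha
    have hbne : (b : G → ℂ) ≠ fun _ => 1 := fun hb => hab (Subtype.ext (ha.trans hb.symm))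
    rw [hsg, classInner_add_left, classInner_smul_left, classInner_smul_left, ha, hone1,
      IsIrrCharacter.classInner_ne b.2 isIrrCharacter_one hbne] at hsone
    rcases hp with rfl | rfl <;> simp at hsone
  have hanet := htriv a b p q hab hp hsg
  have hbnet := htriv b a q p hab.symm hq (by rw [hsg, add_comm])
  have key : ∀ g, sg g = (p : ℂ) * (a : G → ℂ) g + (q : ℂ) * (b : G → ℂ) g := fun g => by
    rw [hsg]; rfl
  have hk1 := key 1
  rw [hs1] at hk1
  obtain ⟨m, hm, hm'⟩ := IsIrrCharacter.exists_apply_one a.2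
  obtain ⟨k, hk, hk'⟩ := IsIrrCharacter.exists_apply_one b.2
  have hk2 : (-1 : ℤ) = p * m + q * k := by
    rw [hm', hk'] at hk1
    exact_mod_cast hk1
  have hres : ∀ g : G, ¬ 4 ∣ orderOf g →
      (p : ℂ) * (a : G → ℂ) g + (q : ℂ) * (b : G → ℂ) g = -1 := fun g hg => by
    rw [← key g]
    simp only [sg, Pi.sub_apply, hzero g hg, zero_sub]
  have hd3 := key (qD S e)
  rw [hsd] at hd3
  rcases hp with rfl | rfl <;> rcases hq with rfl | rfl
  · omega
  · refine ⟨b, a, b.2, a.2, hbnet, hanet, ?_, fun g hg => ?_, ?_⟩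
    · push_cast at hk1
      linear_combination hk1
    · have h := hres g hg
      push_cast at h
      linear_combination -h
    · push_cast at hd3
      linear_combination hd3
  · refine ⟨a, b, a.2, b.2, hanet, hbnet, ?_, fun g hg => ?_, ?_⟩
    · push_cast at hk1
      linear_combination hk1
    · have h := hres g hg
      push_cast at h
      linear_combination -h
    · push_cast at hd3
      linear_combination hd3
  · omega

include S e in
theorem exists_two_characters [Fintype G] :
    ∃ χ₁ χ₂ : G → ℂ, IsIrrCharacter G χ₁ ∧ IsIrrCharacter G χ₂ ∧ χ₁ ≠ (fun _ => 1) ∧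
      χ₂ ≠ (fun _ => 1) ∧ χ₁ 1 = χ₂ 1 + 1 ∧ ∀ g : G, ¬ 4 ∣ orderOf g → χ₁ g - χ₂ g = 1 := by
  obtain ⟨χ₁, χ₂, h1, h2, h3, h4, h5, h6, -⟩ := exists_two_characters' S e
  exact ⟨χ₁, χ₂, h1, h2, h3, h4, h5, h6⟩

end Cfsg.Agent.Lib.Characters
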