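import Cfsg.Agent.Lib.Characters.Clifford
import Cfsg.Agent.Lib.Characters.TI
import Mathlib.GroupTheory.SpecificGroups.Quaternion
import Mathlib.GroupTheory.Transfer

/-!
# Groups with a generalized quaternion Sylow 2-subgroup of order at least 16
-/

namespace Cfsg.Agent.Lib.Characters

open scoped commutatorElement ComplexConjugate
open QuaternionGroup

set_option linter.unusedSectionVars false
set_option linter.style.haveILetI false

section Quaternion

variable {m : ℕ} [NeZero m]

theorem quat_a_two : (a 2 : QuaternionGroup m) = a 1 ^ 2 := by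
  rw [a_one_pow, Nat.cast_ofNat]

theorem quat_a_two_mul_mem (k : ZMod (2 * m)) :
    (a (2 * k) : QuaternionGroup m) ∈ Subgroup.zpowers (a 2) := by
  refine ⟨k.val, ?_⟩
  simp only [zpow_natCast]
  rw [quat_a_two, ← pow_mul, a_one_pow, Nat.cast_mul, ZMod.natCast_zmod_val, Nat.cast_ofNat]

theorem quat_inv_a (i : ZMod (2 * m)) : (a i : QuaternionGroup m)⁻¹ = a (-i) := rfl

theorem quat_inv_xa (i : ZMod (2 * m)) : (xa i : QuaternionGroup m)⁻¹ = xa ((m : ZMod (2 * m)) + i) :=
  rfl

theorem quat_commutator :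
    (⁅(⊤ : Subgroup (QuaternionGroup m)), ⊤⁆ : Subgroup (QuaternionGroup m)) =
      Subgroup.zpowers (a 2) := by
  have h2 : ((m : ZMod (2 * m)) + m) = 0 := by
    rw [← Nat.cast_add, ← two_mul, ZMod.natCast_self]
  refine le_antisymm (Subgroup.commutator_le.mpr fun x _ y _ => ?_) ?_
  · rw [commutatorElement_def]
    rcases x with i | i <;> rcases y with j | j <;>
      simp only [quat_inv_a, quat_inv_xa, a_mul_a, a_mul_xa, xa_mul_a, xa_mul_xa]
    · convert quat_a_two_mul_mem (m := m) 0 using 2; ring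
    · convert quat_a_two_mul_mem (m := m) i using 2; linear_combination h2
    · convert quat_a_two_mul_mem (m := m) (-j) using 2; linear_combination h2
    · convert quat_a_two_mul_mem (m := m) (j - i) using 2; linear_combination h2
  · rw [Subgroup.zpowers_le]
    have h := Subgroup.commutator_mem_commutator (Subgroup.mem_top (a 1 : QuaternionGroup m))
      (Subgroup.mem_top (xa 0 : QuaternionGroup m))
    convert h using 1
    rw [commutatorElement_def]
    simp only [quat_inv_a, quat_inv_xa, a_mul_a, a_mul_xa, xa_mul_a, xa_mul_xa]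
    congr 1
    linear_combination -h2

theorem quat_orderOf_a_two : orderOf (a 2 : QuaternionGroup m) = m := by
  rw [quat_a_two, orderOf_pow' _ two_ne_zero, orderOf_a_one, Nat.gcd_mul_right_left,
    Nat.mul_div_cancel_left m two_pos]

theorem quat_conj_a (i : ZMod (2 * m)) :
    (xa 0 : QuaternionGroup m) * a i * (xa 0)⁻¹ = a (-i) := by
  simp only [quat_inv_xa, xa_mul_a, xa_mul_xa]
  congr 1
  have h2 : ((m : ZMod (2 * m)) + m) = 0 := by
    rw [← Nat.cast_add, ← two_mul, ZMod.natCast_self]
  linear_combination h2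

theorem quat_centralizer (hm : 3 ≤ m) (x : QuaternionGroup m) :
    x * a 2 = a 2 * x ↔ x ∈ Subgroup.zpowers (a 1) := by
  constructor
  · rcases x with i | i
    · intro _
      exact ⟨i.val, by simp only [zpow_natCast]; rw [a_one_pow, ZMod.natCast_zmod_val]⟩
    · intro h
      rw [xa_mul_a, a_mul_xa] at h
      have h' : ((4 : ℕ) : ZMod (2 * m)) = 0 := by
        have := QuaternionGroup.xa.inj h
        push_cast
        linear_combination this
      rw [ZMod.natCast_eq_zero_iff] at h'
      have := Nat.le_of_dvd (by norm_num) h'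
      omega
  · rintro ⟨k, rfl⟩
    rw [quat_a_two]
    exact ((Commute.refl (a 1 : QuaternionGroup m)).zpow_left k).pow_right 2

end Quaternion

universe u

/-- Two subgroups of the same order of a finite cyclic group coincide. -/
theorem eq_of_le_zpowers {G : Type u} [Group G] [Finite G] {y : G} {A B : Subgroup G}
    (hA : A ≤ Subgroup.zpowers y) (hB : B ≤ Subgroup.zpowers y) (h : Nat.card A = Nat.card B) :
    A = B := by
  classical
  haveI := Fintype.ofFinite (Subgroup.zpowers y)
  have key : ∀ A B : Subgroup G, A ≤ Subgroup.zpowers y → B ≤ Subgroup.zpowers y →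
      Nat.card A = Nat.card B → A ≤ B := by
    intro A B hA hB h x hx
    have hk : 0 < Nat.card B := Nat.card_pos
    let s := Finset.univ.filter fun z : Subgroup.zpowers y => z ^ Nat.card B = 1
    have hs : s.card ≤ Nat.card B := IsCyclic.card_pow_eq_one_le hk
    let t := Finset.univ.filter fun z : Subgroup.zpowers y => (z : G) ∈ B
    have ht : t.card = Nat.card B := by
      rw [← Fintype.card_subtype, ← Nat.card_eq_fintype_card]
      exact Nat.card_congr ⟨fun z => ⟨z.1, z.2⟩, fun z => ⟨⟨z.1, hB z.2⟩, z.2⟩, fun _ => rfl,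
        fun _ => rfl⟩
    have hts : t ⊆ s := fun z hz => by
      simp only [t, s, Finset.mem_filter, Finset.mem_univ, true_and] at hz ⊢
      apply Subtype.ext
      exact orderOf_dvd_iff_pow_eq_one.mp (Subgroup.orderOf_dvd_natCard B hz)
    have hxs : (⟨x, hA hx⟩ : Subgroup.zpowers y) ∈ s := by
      simp only [s, Finset.mem_filter, Finset.mem_univ, true_and]
      apply Subtype.ext
      rw [← h]
      exact orderOf_dvd_iff_pow_eq_one.mp (Subgroup.orderOf_dvd_natCard A hx)
    rw [← Finset.eq_of_subset_of_card_le hts (hs.trans ht.ge)] at hxs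
    exact (Finset.mem_filter.mp hxs).2
  exact le_antisymm (key A B hA hB h) (key B A hB hA h.symm)

section Setup

variable {G : Type u} [Group G] [Finite G] (S : Sylow 2 G) {n : ℕ}
  (e : (S : Subgroup G) ≃* QuaternionGroup (2 ^ (n + 2)))

/-- The embedding of the quaternion group as the Sylow subgroup. -/
noncomputable def qEmb : QuaternionGroup (2 ^ (n + 2)) →* G :=
  (S : Subgroup G).subtype.comp e.symm.toMonoidHom

theorem qEmb_injective : Function.Injective (qEmb S e) :=
  (S : Subgroup G).subtype_injective.comp e.symm.injective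

theorem qEmb_range : (qEmb S e).range = (S : Subgroup G) := by
  rw [qEmb, MonoidHom.range_comp, MonoidHom.range_eq_top.mpr e.symm.surjective,
    ← MonoidHom.range_eq_map, Subgroup.range_subtype]

/-- The generator of the derived subgroup. -/
noncomputable def qD : G := qEmb S e (a 2)

theorem commutator_sylow_eq :
    ⁅(S : Subgroup G), (S : Subgroup G)⁆ = Subgroup.zpowers (qD S e) := by
  rw [← qEmb_range S e, MonoidHom.range_eq_map, ← Subgroup.map_commutator, quat_commutator,
    MonoidHom.map_zpowers]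
  rfl

theorem card_qD : Nat.card (Subgroup.zpowers (qD S e)) = 2 ^ (n + 2) := by
  rw [Nat.card_zpowers, qD, orderOf_injective _ (qEmb_injective S e), quat_orderOf_a_two]

theorem three_le_pow : 3 ≤ 2 ^ (n + 2) := by
  have : 2 ^ 2 ≤ 2 ^ (n + 2) := Nat.pow_le_pow_right two_pos (by omega)
  omega

theorem sylow_le_normalizer :
    (S : Subgroup G) ≤ Subgroup.normalizer (Subgroup.zpowers (qD S e) : Set G) := by
  intro g hg
  rw [← qEmb_range S e] at hg
  obtain ⟨q, rfl⟩ := hg
  have hn : (Subgroup.zpowers (a 2 : QuaternionGroup (2 ^ (n + 2)))).Normal := by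
    rw [← quat_commutator]; infer_instance
  rw [Subgroup.mem_normalizer_iff]
  intro x
  rw [qD, ← MonoidHom.map_zpowers]
  constructor
  · rintro ⟨y, hy, rfl⟩
    exact ⟨q * y * q⁻¹, hn.conj_mem y hy q, by simp⟩
  · rintro ⟨y, hy, hxy⟩
    refine ⟨q⁻¹ * y * q⁻¹⁻¹, hn.conj_mem y hy q⁻¹, ?_⟩
    simp [hxy, mul_assoc]

theorem inf_centralizer_eq :
    (S : Subgroup G) ⊓ Subgroup.centralizer (Subgroup.zpowers (qD S e) : Set G) =
      Subgroup.zpowers (qEmb S e (a 1)) := by
  have hc : Subgroup.centralizer (Subgroup.zpowers (qD S e) : Set G) =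
      Subgroup.centralizer {qD S e} := by
    rw [Subgroup.zpowers_eq_closure, Subgroup.centralizer_closure]
  rw [hc, ← qEmb_range S e]
  ext x
  rw [Subgroup.mem_inf, Subgroup.mem_centralizer_singleton_iff, ← MonoidHom.map_zpowers]
  constructor
  · rintro ⟨⟨q, rfl⟩, hq⟩
    rw [qD, ← map_mul, ← map_mul] at hq
    exact ⟨q, (quat_centralizer three_le_pow q).mp (qEmb_injective S e hq), rfl⟩
  · rintro ⟨q, hq, rfl⟩
    refine ⟨⟨q, rfl⟩, ?_⟩
    rw [qD, ← map_mul, ← map_mul, (quat_centralizer three_le_pow q).mpr hq]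

theorem orderOf_qA : orderOf (qEmb S e (a 1)) = 2 ^ (n + 3) := by
  rw [orderOf_injective _ (qEmb_injective S e), orderOf_a_one, pow_succ' 2 (n + 2)]

include e in
theorem card_sylow : Nat.card (S : Subgroup G) = 2 ^ (n + 4) := by
  rw [Nat.card_congr e.toEquiv, Nat.card_eq_fintype_card, QuaternionGroup.card,
    show n + 4 = 2 + (n + 2) by omega, pow_add]
  ring

/-- The index of the centralizer in the normalizer and the order of the centralizer. -/
theorem index_and_card :
    ((Subgroup.centralizer (Subgroup.zpowers (qD S e) : Set G)).subgroupOf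
      (Subgroup.normalizer (Subgroup.zpowers (qD S e) : Set G))).index = 2 ∧
    ∃ u : ℕ, Odd u ∧
      Nat.card (Subgroup.centralizer (Subgroup.zpowers (qD S e) : Set G)) = 2 ^ (n + 3) * u ∧
      (S : Subgroup G).subgroupOf (Subgroup.normalizer (Subgroup.zpowers (qD S e) : Set G)) ⊔
        (Subgroup.centralizer (Subgroup.zpowers (qD S e) : Set G)).subgroupOf
          (Subgroup.normalizer (Subgroup.zpowers (qD S e) : Set G)) = ⊤ := by
  set D := Subgroup.zpowers (qD S e) with hD
  set C := Subgroup.centralizer (D : Set G) with hC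
  set N := Subgroup.normalizer (D : Set G) with hN
  have hCN : C ≤ N := Subgroup.centralizer_le_normalizer _
  have hSN : (S : Subgroup G) ≤ N := sylow_le_normalizer S e
  haveI hCn : (C.subgroupOf N).Normal := by
    rw [hC, hN, ← Subgroup.normalizerMonoidHom_ker]; infer_instance
  haveI : IsCyclic D := Subgroup.isCyclic_zpowers _
  obtain ⟨j, -, hj⟩ : ∃ j ≤ n + 1, (C.subgroupOf N).index = 2 ^ j := by
    refine (Nat.dvd_prime_pow Nat.prime_two).mp ?_
    rw [hC, hN, ← Subgroup.normalizerMonoidHom_ker, Subgroup.index_ker]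
    refine (Subgroup.card_subgroup_dvd_card _).trans (dvd_of_eq ?_)
    rw [IsCyclic.card_mulAut, card_qD, Nat.totient_prime_pow_succ Nat.prime_two (n + 1)]
    simp
  have hodd : Odd (((S : Subgroup G).subgroupOf N).index) := by
    have h1 : ((S : Subgroup G).subgroupOf N).index ∣ (S : Subgroup G).index :=
      Subgroup.relIndex_dvd_index_of_le hSN
    exact Odd.of_dvd_nat (Nat.not_even_iff_odd.mp fun he =>
      S.not_dvd_index (even_iff_two_dvd.mp he)) h1
  have htop : (S : Subgroup G).subgroupOf N ⊔ C.subgroupOf N = ⊤ := by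
    rw [← Subgroup.index_eq_one]
    have h1 : ((S : Subgroup G).subgroupOf N ⊔ C.subgroupOf N).index ∣ 2 ^ j := by
      rw [← hj]; exact Subgroup.index_dvd_of_le le_sup_right
    have h2 : ((S : Subgroup G).subgroupOf N ⊔ C.subgroupOf N).index ∣
        ((S : Subgroup G).subgroupOf N).index := Subgroup.index_dvd_of_le le_sup_left
    exact Nat.eq_one_of_dvd_coprimes (Nat.Coprime.pow_left j (Nat.coprime_two_left.mpr hodd)) h1 h2
  have hidx : (C.subgroupOf N).index = 2 := by
    rw [← Subgroup.relIndex_top_right, ← htop, Subgroup.relIndex_sup_right,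
      Subgroup.relIndex_subgroupOf hSN, ← Subgroup.inf_relIndex_right, inf_comm, hC, hD,
      inf_centralizer_eq S e]
    have hle : Subgroup.zpowers (qEmb S e (a 1)) ≤ (S : Subgroup G) := by
      rw [Subgroup.zpowers_le, ← qEmb_range S e]
      exact ⟨_, rfl⟩
    have h1 := Subgroup.card_mul_index ((Subgroup.zpowers (qEmb S e (a 1))).subgroupOf S)
    rw [Nat.card_congr (Subgroup.subgroupOfEquivOfLe hle).toEquiv, Nat.card_zpowers,
      orderOf_qA, card_sylow S e, pow_succ 2 (n + 3)] at h1
    exact Nat.eq_of_mul_eq_mul_left (pow_pos two_pos _) h1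
  refine ⟨hidx, ((S : Subgroup G).subgroupOf N).index, hodd, ?_, htop⟩
  have h1 := Subgroup.card_mul_index (C.subgroupOf N)
  have h2 := Subgroup.card_mul_index ((S : Subgroup G).subgroupOf N)
  rw [hidx, Nat.card_congr (Subgroup.subgroupOfEquivOfLe hCN).toEquiv] at h1
  rw [Nat.card_congr (Subgroup.subgroupOfEquivOfLe hSN).toEquiv, card_sylow S e] at h2
  rw [← h2, pow_succ 2 (n + 3), mul_comm (2 ^ (n + 3)) 2, mul_assoc, mul_comm _ 2] at h1
  exact Nat.eq_of_mul_eq_mul_left two_pos h1

/-- The intersection with the centralizer, as a Sylow subgroup of the centralizer. -/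
theorem exists_sylow_centralizer :
    ∃ P : Sylow 2 (Subgroup.centralizer (Subgroup.zpowers (qD S e) : Set G)),
      (P : Subgroup (Subgroup.centralizer (Subgroup.zpowers (qD S e) : Set G))) =
        ((S : Subgroup G) ⊓ Subgroup.centralizer (Subgroup.zpowers (qD S e) : Set G)).subgroupOf
          (Subgroup.centralizer (Subgroup.zpowers (qD S e) : Set G)) ∧
      Nat.card P = 2 ^ (n + 3) ∧ IsCyclic P := by
  obtain ⟨-, u, hu, hcard, -⟩ := index_and_card S e
  set C := Subgroup.centralizer (Subgroup.zpowers (qD S e) : Set G)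
  set P := ((S : Subgroup G) ⊓ C).subgroupOf C with hP
  haveI : Fact (Nat.Prime 2) := ⟨Nat.prime_two⟩
  have hc : Nat.card P = 2 ^ (n + 3) := by
    rw [hP, Nat.card_congr (Subgroup.subgroupOfEquivOfLe inf_le_right).toEquiv,
      inf_centralizer_eq S e, Nat.card_zpowers, orderOf_qA]
  have hcyc : IsCyclic P := by
    haveI : IsCyclic ↥((S : Subgroup G) ⊓ C) := by
      rw [inf_centralizer_eq S e]; exact Subgroup.isCyclic_zpowers _
    exact isCyclic_of_surjective (Subgroup.subgroupOfEquivOfLe
      (inf_le_right : (S : Subgroup G) ⊓ C ≤ C)).symm.toMonoidHom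
      (Subgroup.subgroupOfEquivOfLe _).symm.surjective
  have hidx : ¬ 2 ∣ P.index := by
    have h1 := P.card_mul_index
    rw [hc, hcard] at h1
    rw [Nat.eq_of_mul_eq_mul_left (pow_pos two_pos _) h1]
    exact hu.not_two_dvd_nat
  exact ⟨(IsPGroup.of_card hc).toSylow hidx, rfl, hc, hcyc⟩

/-- The normal 2-complement of the centralizer. -/
theorem exists_oddComplement :
    ∃ K : Subgroup G, Odd (Nat.card K) ∧
      K ≤ Subgroup.centralizer (Subgroup.zpowers (qD S e) : Set G) ∧
      Subgroup.normalizer (Subgroup.zpowers (qD S e) : Set G) ≤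
        Subgroup.normalizer (K : Set G) ∧
      K ⊔ (S : Subgroup G) = Subgroup.normalizer (Subgroup.zpowers (qD S e) : Set G) ∧
      K ⊔ ((S : Subgroup G) ⊓ Subgroup.centralizer (Subgroup.zpowers (qD S e) : Set G)) =
        Subgroup.centralizer (Subgroup.zpowers (qD S e) : Set G) ∧
      (∀ x ∈ Subgroup.centralizer (Subgroup.zpowers (qD S e) : Set G), ∃ k : ℤ,
        x * qEmb S e (a 1) ^ k ∈ K) := by
  obtain ⟨-, u, hu, hcard, htop⟩ := index_and_card S e
  set D := Subgroup.zpowers (qD S e) with hD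
  set C := Subgroup.centralizer (D : Set G) with hC
  set N := Subgroup.normalizer (D : Set G) with hN
  obtain ⟨P, hP, hPc, hPcyc⟩ : ∃ P : Sylow 2 C,
      (P : Subgroup C) = ((S : Subgroup G) ⊓ C).subgroupOf C ∧
      Nat.card P = 2 ^ (n + 3) ∧ IsCyclic P := exists_sylow_centralizer S e
  have hmin : (Nat.card C).minFac = 2 := by
    rw [Nat.minFac_eq_two_iff, hcard]
    exact Dvd.dvd.mul_right (dvd_pow_self 2 (by omega)) _
  have hcompl := IsCyclic.isComplement' hmin hPcyc
  set K' := (MonoidHom.transferSylow P (hPcyc.normalizer_le_centralizer hmin)).ker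
  have hKc : Nat.card K' = u := by
    have h1 := hcompl.card_mul_card
    rw [show Nat.card (P : Subgroup C) = 2 ^ (n + 3) from hPc] at h1
    rw [hcard, mul_comm (2 ^ (n + 3))] at h1
    exact Nat.eq_of_mul_eq_mul_right (pow_pos two_pos _) h1
  have hchar : ∀ x : C, x ∈ K' ↔ Odd (orderOf x) := by
    intro x
    constructor
    · intro hx
      refine Odd.of_dvd_nat hu ?_
      rw [← hKc]
      exact Subgroup.orderOf_dvd_natCard K' hx
    · intro hx
      rw [← QuotientGroup.eq_one_iff, ← orderOf_eq_one_iff]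
      refine Nat.Coprime.eq_one_of_dvd ?_ (orderOf_map_dvd (QuotientGroup.mk' K') x)
      have h1 : orderOf (x : C ⧸ K') ∣ 2 ^ (n + 3) := by
        have h2 := orderOf_dvd_natCard (x : C ⧸ K')
        rwa [← Subgroup.index_eq_card, hcompl.symm.index_eq_card,
          show Nat.card (P : Subgroup C) = 2 ^ (n + 3) from hPc] at h2
      exact Nat.Coprime.coprime_dvd_left h1
        (Nat.Coprime.pow_left _ (Nat.coprime_two_left.mpr hx))
  have hKC : K'.map C.subtype ≤ C := Subgroup.map_subtype_le _
  have hKS : K'.map C.subtype ⊔ ((S : Subgroup G) ⊓ C) = C := by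
    have h := congrArg (Subgroup.map C.subtype) hcompl.sup_eq_top
    rwa [Subgroup.map_sup, hP, Subgroup.map_subgroupOf_eq_of_le inf_le_right,
      ← MonoidHom.range_eq_map, Subgroup.range_subtype] at h
  have hCN : C ≤ N := Subgroup.centralizer_le_normalizer _
  have hSN : (S : Subgroup G) ≤ N := sylow_le_normalizer S e
  refine ⟨K'.map C.subtype, ?_, hKC, ?_, ?_, hKS, ?_⟩
  · rw [Subgroup.card_map_of_injective C.subtype_injective, hKc]; exact hu
  · have hCn : ∀ g ∈ N, ∀ x ∈ C, g * x * g⁻¹ ∈ C := by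
      intro g hg x hx
      haveI : (C.subgroupOf N).Normal := by
        rw [hC, hN, ← Subgroup.normalizerMonoidHom_ker]; infer_instance
      exact this.conj_mem ⟨x, hCN hx⟩ hx ⟨g, hg⟩
    have hfwd : ∀ g ∈ N, ∀ x ∈ K'.map C.subtype, g * x * g⁻¹ ∈ K'.map C.subtype := by
      rintro g hg _ ⟨x, hx, rfl⟩
      refine ⟨⟨g * x * g⁻¹, hCn g hg x x.2⟩, ?_, rfl⟩
      rw [SetLike.mem_coe, hchar, ← Subgroup.orderOf_coe]
      show Odd (orderOf (MulAut.conj g (x : G)))
      rw [MulEquiv.orderOf_eq, Subgroup.orderOf_coe]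
      exact (hchar x).mp hx
    intro g hg
    rw [Subgroup.mem_normalizer_iff]
    refine fun x => ⟨hfwd g hg x, fun hx => ?_⟩
    have := hfwd g⁻¹ (N.inv_mem hg) _ hx
    simpa [mul_assoc] using this
  · have h := congrArg (Subgroup.map N.subtype) htop
    rw [Subgroup.map_sup, Subgroup.map_subgroupOf_eq_of_le hSN,
      Subgroup.map_subgroupOf_eq_of_le hCN, ← MonoidHom.range_eq_map, Subgroup.range_subtype] at h
    refine le_antisymm (sup_le (hKC.trans hCN) hSN) ?_
    conv_lhs => rw [← h]
    refine sup_le le_sup_right (hKS.symm.le.trans ?_)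
    exact sup_le_sup_left inf_le_left _
  · intro x hx
    have hx' : (⟨x, hx⟩ : C) ∈ K' ⊔ (P : Subgroup C) := by
      rw [hcompl.sup_eq_top]; exact Subgroup.mem_top _
    obtain ⟨y, hy, z, hz, hyz⟩ := Subgroup.mem_sup_of_normal_left.mp hx'
    have hzS : (z : G) ∈ Subgroup.zpowers (qEmb S e (a 1)) := by
      rw [← inf_centralizer_eq S e]
      rw [hP, Subgroup.mem_subgroupOf] at hz
      exact hz
    obtain ⟨k, hk⟩ := hzS
    refine ⟨-k, y, hy, ?_⟩
    have h1 : (y : G) * (z : G) = x := congrArg Subtype.val hyz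
    simp only at hk
    rw [zpow_neg, hk, ← h1, mul_inv_cancel_right]
    rfl

end Setup

end Cfsg.Agent.Lib.Characters

namespace Cfsg.Agent.Lib.Characters

universe u

section

variable {G : Type u} [Group G] [Finite G] (S : Sylow 2 G) {n : ℕ}
  (e : (S : Subgroup G) ≃* QuaternionGroup (2 ^ (n + 2)))

/-- Elements of the centralizer of order divisible by `|D|` have powers generating `D`. -/
theorem qD_le_zpowers {y : G}
    (hy : y ∈ Subgroup.centralizer (Subgroup.zpowers (qD S e) : Set G))
    (hd : 2 ^ (n + 2) ∣ orderOf y) : Subgroup.zpowers (qD S e) ≤ Subgroup.zpowers y := by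
  haveI : Fact (Nat.Prime 2) := ⟨Nat.prime_two⟩
  set D := Subgroup.zpowers (qD S e) with hD
  set C := Subgroup.centralizer (D : Set G) with hC
  obtain ⟨P, hP, -, -⟩ : ∃ P : Sylow 2 C,
      (P : Subgroup C) = ((S : Subgroup G) ⊓ C).subgroupOf C ∧
      Nat.card P = 2 ^ (n + 3) ∧ IsCyclic P := exists_sylow_centralizer S e
  have hpos : 0 < orderOf y := orderOf_pos y
  set z : C := ⟨y, hy⟩ ^ (orderOf y / 2 ^ (n + 2)) with hz
  have hzo : orderOf z = 2 ^ (n + 2) := by
    rw [hz, orderOf_pow, ← Subgroup.orderOf_coe]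
    show orderOf y / Nat.gcd (orderOf y) (orderOf y / 2 ^ (n + 2)) = 2 ^ (n + 2)
    rw [Nat.gcd_eq_right (Nat.div_dvd_of_dvd hd), Nat.div_div_self hd hpos.ne']
  have hzp : IsPGroup 2 (Subgroup.zpowers z) :=
    IsPGroup.of_card (by rw [Nat.card_zpowers, hzo])
  obtain ⟨Q, hQ⟩ := hzp.exists_le_sylow
  obtain ⟨g, rfl⟩ := MulAction.exists_smul_eq C P Q
  have hconj : (g⁻¹ * z * g : C) ∈ (P : Subgroup C) := by
    have h1 := hQ (Subgroup.mem_zpowers z)
    rw [Sylow.coe_subgroup_smul, Subgroup.mem_pointwise_smul_iff_inv_smul_mem] at h1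
    simpa using h1
  rw [hP, Subgroup.mem_subgroupOf, inf_centralizer_eq S e] at hconj
  have hoz : orderOf ((g⁻¹ * z * g : C) : G) = 2 ^ (n + 2) := by
    rw [Subgroup.orderOf_coe, show g⁻¹ * z * g = MulAut.conj g⁻¹ z by simp, MulEquiv.orderOf_eq,
      hzo]
  have hDa : D ≤ Subgroup.zpowers (qEmb S e (QuaternionGroup.a 1)) := by
    rw [hD, Subgroup.zpowers_le, qD, quat_a_two, map_pow]
    exact Subgroup.pow_mem _ (Subgroup.mem_zpowers _) 2
  have hE := eq_of_le_zpowers (Subgroup.zpowers_le.mpr hconj) hDa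
    (by rw [Nat.card_zpowers, hoz, hD, card_qD S e])
  -- `g` centralizes `D`
  have hgD : ∀ d ∈ D, (g : G) * d * (g : G)⁻¹ = d := fun d hd' => by
    rw [← (Subgroup.mem_centralizer_iff.mp g.2 d hd'), mul_inv_cancel_right]
  have hmem : ((g⁻¹ * z * g : C) : G) ∈ D := by rw [← hE]; exact Subgroup.mem_zpowers _
  have hzeq : ((z : C) : G) = ((g⁻¹ * z * g : C) : G) := by
    conv_rhs => rw [← hgD _ hmem]
    push_cast
    group
  have hzD : Subgroup.zpowers ((z : C) : G) = D :=
    Subgroup.eq_of_le_of_card_ge (Subgroup.zpowers_le.mpr (hzeq ▸ hmem))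
      (by rw [hD, card_qD S e, Nat.card_zpowers, hzeq, hoz])
  rw [← hzD, Subgroup.zpowers_le]
  rw [hz, Subgroup.coe_pow]
  exact Subgroup.pow_mem _ (Subgroup.mem_zpowers y) _

/-- An element conjugating such a `y` into the centralizer normalizes `D`. -/
theorem mem_normalizer_of_conj_mem {g y : G}
    (hy : y ∈ Subgroup.centralizer (Subgroup.zpowers (qD S e) : Set G))
    (hd : 2 ^ (n + 2) ∣ orderOf y)
    (hg : g * y * g⁻¹ ∈ Subgroup.centralizer (Subgroup.zpowers (qD S e) : Set G)) :
    g ∈ Subgroup.normalizer (Subgroup.zpowers (qD S e) : Set G) := by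
  have hd' : 2 ^ (n + 2) ∣ orderOf (g * y * g⁻¹) := by
    rwa [show g * y * g⁻¹ = MulAut.conj g y from rfl, MulEquiv.orderOf_eq]
  have h1 := qD_le_zpowers S e hy hd
  have h2 := qD_le_zpowers S e hg hd'
  set D := Subgroup.zpowers (qD S e) with hD
  have h3 : D.map (MulAut.conj g).toMonoidHom ≤ Subgroup.zpowers (g * y * g⁻¹) := by
    refine (Subgroup.map_mono h1).trans (le_of_eq ?_)
    rw [MonoidHom.map_zpowers]
    rfl
  have h4 : D.map (MulAut.conj g).toMonoidHom = D :=
    eq_of_le_zpowers h3 h2 (Subgroup.card_map_of_injective (MulAut.conj g).injective)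
  rw [Subgroup.mem_normalizer_iff]
  intro x
  constructor
  · intro hx
    rw [← h4]
    exact ⟨x, hx, rfl⟩
  · intro hx
    rw [← h4] at hx
    obtain ⟨x', hx', he⟩ := hx
    exact (MulAut.conj g).injective he ▸ hx'

/-- The normalizer permutes such elements. -/
theorem conj_mem_of_mem_normalizer {g y : G}
    (hg : g ∈ Subgroup.normalizer (Subgroup.zpowers (qD S e) : Set G))
    (hy : y ∈ Subgroup.centralizer (Subgroup.zpowers (qD S e) : Set G)) :
    g * y * g⁻¹ ∈ Subgroup.centralizer (Subgroup.zpowers (qD S e) : Set G) := by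
  rw [Subgroup.mem_centralizer_iff] at hy ⊢
  intro d hd
  have hd' : g⁻¹ * d * g ∈ Subgroup.zpowers (qD S e) :=
    (Subgroup.mem_normalizer_iff''.mp hg d).mp hd
  have h := hy _ hd'
  calc d * (g * y * g⁻¹) = g * ((g⁻¹ * d * g) * y) * g⁻¹ := by group
    _ = g * (y * (g⁻¹ * d * g)) * g⁻¹ := by rw [h]
    _ = g * y * g⁻¹ * d := by group

end

end Cfsg.Agent.Lib.Characters
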