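import Cfsg.Agent.Lib.BlockHeights.GaloisZero
import Cfsg.Agent.Lib.Characters

/-!
# Schur's bound for `p`-rational characters
-/

namespace Cfsg.Agent.Lib.Characters

open scoped ComplexConjugate
open Polynomial Cfsg.Agent.Lib.BlockHeights

set_option linter.unusedSectionVars false
set_option linter.style.haveILetI false

universe u

theorem zeta_mul_pow (a b : ℕ) (hb : b ≠ 0) : zeta (a * b) ^ b = zeta a := by
  rw [zeta, zeta, ← Complex.exp_nat_mul]
  congr 1
  have : (b : ℂ) ≠ 0 := Nat.cast_ne_zero.mpr hb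
  push_cast
  field_simp

variable {G : Type u} [Group G] [Finite G]

/-- A `p`-rational character takes equal values on the generators of a cyclic `p`-group. -/
theorem apply_pow_eq_of_pRational {χ : G → ℂ} (hχ : IsCharacter G χ) {p : ℕ} [Fact p.Prime] {r : ℕ}
    (hr : 0 < r) (hpr : ¬ p ∣ r) {g : G} {j : ℕ} (hg : orderOf g = p ^ j)
    (hval : χ g ∈ IntermediateField.adjoin ℚ ({zeta r} : Set ℂ)) {k : ℕ} (hk : ¬ p ∣ k) :
    χ (g ^ k) = χ g := by
  have hp : p.Prime := Fact.out
  haveI : NeZero r := ⟨hr.ne'⟩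
  haveI : NeZero (p ^ j * r) := ⟨mul_ne_zero (pow_ne_zero _ hp.ne_zero) hr.ne'⟩
  haveI : NeZero (p ^ j) := ⟨pow_ne_zero _ hp.ne_zero⟩
  have halg : IsAlgebraic ℚ (zeta r) :=
    ((isPrimitiveRoot_zeta r).isIntegral hr).tower_top.isAlgebraic
  rw [← IntermediateField.mem_toSubalgebra,
    IntermediateField.adjoin_simple_toSubalgebra_of_isAlgebraic halg,
    Algebra.adjoin_singleton_eq_range_aeval] at hval
  obtain ⟨P, hP⟩ := hval
  obtain ⟨ι, hι, μ, hμ, h⟩ := exists_eigen_sum hχ g
  choose e _ he using fun i => (isPrimitiveRoot_zeta (p ^ j)).eq_pow_of_pow_eq_one (hg ▸ hμ i)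
  have hcop : (p ^ j).Coprime r := Nat.Coprime.pow_left _ (hp.coprime_iff_not_dvd.mpr hpr)
  obtain ⟨m, hm1, hm2⟩ := Nat.chineseRemainder hcop k 1
  have hmcop : m.Coprime (p ^ j * r) := by
    refine Nat.Coprime.mul_right ?_ ?_
    · rw [Nat.Coprime, hm1.gcd_eq]
      exact Nat.Coprime.pow_right _ (hp.coprime_iff_not_dvd.mpr hk).symm
    · rw [Nat.Coprime, hm2.gcd_eq, Nat.gcd_one_left]
  let Q : ℚ[X] := (∑ i, (X : ℚ[X]) ^ (r * e i)) - P.comp (X ^ (p ^ j))
  have hev : ∀ k', aeval (zeta (p ^ j * r) ^ k') Q =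
      χ (g ^ k') - aeval (zeta r ^ k') P := fun k' => by
    simp only [Q, map_sub, map_sum, map_pow, aeval_X, aeval_comp]
    congr 1
    · rw [h k']
      refine Finset.sum_congr rfl fun i _ => ?_
      rw [← he i, ← pow_mul, ← pow_mul, show k' * (r * e i) = r * (e i * k') by ring, pow_mul,
        zeta_mul_pow _ _ hr.ne']
    · rw [← pow_mul, mul_comm k', pow_mul, mul_comm (p ^ j) r,
        zeta_mul_pow _ _ (pow_ne_zero _ hp.ne_zero)]
  have h1 : aeval (zeta (p ^ j * r)) Q = 0 := by
    have h0 := hev 1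
    simp only [pow_one] at h0
    rw [h0]
    exact sub_eq_zero.mpr hP.symm
  have h2 := (aeval_zeta_eq_zero_iff (n := p ^ j * r) Q hmcop).mpr h1
  have hz : zeta r ^ m = zeta r := by
    have h1 : zeta r ^ r = 1 := (isPrimitiveRoot_zeta r).pow_eq_one
    rw [pow_eq_pow_mod m h1, show m % r = 1 % r from hm2, ← pow_eq_pow_mod 1 h1, pow_one]
  have hgm : g ^ m = g ^ k := pow_eq_pow_iff_modEq.mpr (hg ▸ hm1)
  rw [hev m, hz, hgm, sub_eq_zero] at h2
  exact h2.trans hP

/-- Schur's bound for a faithful `p`-rational character. -/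
theorem schur_bound_of_invariant {p : ℕ} [Fact p.Prime] {χ : G → ℂ} (hχ : IsCharacter G χ)
    (hfaith : ∀ g : G, χ g = χ 1 → g = 1)
    (hinv : ∀ (g : G) (j k : ℕ), orderOf g = p ^ j → ¬ p ∣ k → χ (g ^ k) = χ g) {n : ℕ}
    (hn : χ 1 = n) :
    (Nat.card G).factorization p ≤ ∑ i ∈ Finset.range (n + 1), n / ((p - 1) * p ^ i) := by
  classical
  have hp : p.Prime := Fact.out
  obtain ⟨P⟩ : Nonempty (Sylow p G) := inferInstance
  haveI := Fintype.ofFinite (P : Subgroup G)
  set T := n / (p - 1) with hT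
  have hp1 : 0 < p - 1 := Nat.sub_pos_of_lt hp.one_lt
  have hvals : ∀ g : G, g ∈ (P : Subgroup G) → g ≠ 1 →
      ∃ t ∈ Finset.Icc 1 T, χ g = (n : ℂ) - (p : ℂ) * t := by
    intro g hgP hg1
    obtain ⟨j, hj⟩ := IsPGroup.iff_orderOf.mp P.isPGroup' ⟨g, hgP⟩
    rw [Subgroup.orderOf_mk] at hj
    have hj0 : j ≠ 0 := fun h => hg1 (orderOf_eq_one_iff.mp (by rw [hj, h, pow_zero]))
    obtain ⟨j', rfl⟩ := Nat.exists_eq_succ_of_ne_zero hj0
    obtain ⟨ι, hι, μ, hμ, h⟩ := exists_eigen_sum hχ g
    rw [hj] at hμ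
    have hsum : ∀ (q : ℕ) (f : ι → ℂ), (∀ i, f i ^ q = 1) →
        ∑ k ∈ Finset.range q, ∑ i, f i ^ k =
          ((q * (Finset.univ.filter fun i => f i = 1).card : ℕ) : ℂ) := by
      intro q f hf
      rw [Finset.sum_comm, ← Finset.sum_filter_add_sum_filter_not Finset.univ (fun i => f i = 1)]
      rw [Finset.sum_congr rfl (g := fun _ => (q : ℂ)) fun i hi => by
        simp [(Finset.mem_filter.mp hi).2]]
      rw [Finset.sum_eq_zero (s := Finset.univ.filter fun i => ¬ f i = 1) fun i hi => by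
        rw [geom_sum_eq (Finset.mem_filter.mp hi).2, hf i, sub_self, zero_div]]
      simp [mul_comm]
    set m₀ := (Finset.univ.filter fun i => μ i = 1).card with hm₀
    set m₁ := (Finset.univ.filter fun i => μ i ^ p = 1).card with hm₁
    have hcardι : Fintype.card ι = n := by
      have h2 := h 0
      simp only [pow_zero, hn, Finset.sum_const, Finset.card_univ, nsmul_eq_mul, mul_one] at h2
      exact_mod_cast h2.symm
    have hm₁n : m₁ ≤ n := hcardι ▸ Finset.card_le_univ _
    have hS0 : ∑ k ∈ Finset.range (p ^ (j' + 1)), χ (g ^ k) = ((p ^ (j' + 1) * m₀ : ℕ) : ℂ) := by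
      simp only [h]
      exact hsum _ μ hμ
    have hS1 : ∑ k ∈ Finset.range (p ^ j'), χ (g ^ (p * k)) = ((p ^ j' * m₁ : ℕ) : ℂ) := by
      simp only [h]
      simp only [pow_mul]
      refine hsum _ (fun i => μ i ^ p) fun i => ?_
      rw [← pow_mul, ← pow_succ']
      exact hμ i
    have hsplit : ∑ k ∈ Finset.range (p ^ (j' + 1)), χ (g ^ k) =
        ∑ k ∈ Finset.range (p ^ j'), χ (g ^ (p * k)) + (((p - 1) * p ^ j' : ℕ) : ℂ) * χ g := by
      rw [← Finset.sum_filter_add_sum_filter_not (Finset.range (p ^ (j' + 1))) (fun k => p ∣ k)]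
      have himg : (Finset.range (p ^ (j' + 1))).filter (fun k => p ∣ k) =
          (Finset.range (p ^ j')).image (p * ·) := by
        ext k
        simp only [Finset.mem_filter, Finset.mem_range, Finset.mem_image]
        constructor
        · rintro ⟨hk, c, rfl⟩
          exact ⟨c, by rw [pow_succ'] at hk; exact (Nat.mul_lt_mul_left hp.pos).mp hk, rfl⟩
        · rintro ⟨c, hc, rfl⟩
          exact ⟨by rw [pow_succ']; exact (Nat.mul_lt_mul_left hp.pos).mpr hc, dvd_mul_right p c⟩
      have hcard : ((Finset.range (p ^ (j' + 1))).filter fun k => ¬ p ∣ k).card = (p - 1) * p ^ j' := by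
        have h1 := Finset.card_filter_add_card_filter_not (s := Finset.range (p ^ (j' + 1)))
          (fun k => p ∣ k)
        rw [himg, Finset.card_image_of_injective _ (mul_right_injective₀ hp.ne_zero),
          Finset.card_range, Finset.card_range, pow_succ'] at h1
        rw [Nat.sub_mul, one_mul, pow_succ']
        omega
      rw [Finset.sum_congr rfl (g := fun _ => χ g) fun k hk =>
          hinv g _ k hj (Finset.mem_filter.mp hk).2,
        Finset.sum_const, hcard, himg, Finset.sum_image fun a _ b _ hab =>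
          mul_right_injective₀ hp.ne_zero hab, nsmul_eq_mul]
    rw [hS0, hS1] at hsplit
    have hq0 : ((p ^ j' : ℕ) : ℂ) ≠ 0 := Nat.cast_ne_zero.mpr (pow_ne_zero _ hp.ne_zero)
    have hform : (((p - 1 : ℕ)) : ℂ) * χ g = (p : ℂ) * m₀ - m₁ := by
      refine mul_left_cancel₀ hq0 ?_
      push_cast [pow_succ] at hsplit ⊢
      linear_combination -hsplit
    obtain ⟨z, hz⟩ : ∃ z : ℤ, χ g = z := by
      have hint : IsIntegral ℤ (χ g) := by
        have h1 := h 1
        rw [pow_one] at h1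
        rw [h1]
        exact IsIntegral.sum _ fun i _ => by
          simpa using isIntegral_of_pow_eq_one (pow_ne_zero _ hp.ne_zero) (hμ i)
      have hq : χ g = (((p : ℚ) * m₀ - m₁) / ((p - 1 : ℕ) : ℚ) : ℚ) := by
        push_cast
        rw [eq_div_iff (Nat.cast_ne_zero.mpr hp1.ne'), mul_comm, hform]
      rw [hq] at hint ⊢
      obtain ⟨z, hz⟩ := IsIntegrallyClosed.isIntegral_iff.mp
        ((isIntegral_algebraMap_iff (algebraMap ℚ ℂ).injective).mp hint)
      exact ⟨z, by rw [← hz]; simp⟩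
    have hz' : ((p - 1 : ℕ) : ℤ) * z = (p : ℤ) * m₀ - m₁ := by
      have h1 := hform
      rw [hz] at h1
      exact_mod_cast h1
    have hmod : (p : ℤ) ∣ (n : ℤ) - z := by
      let R := integralClosure ℤ ℂ
      let ν : ι → R := fun i =>
        ⟨μ i, isIntegral_of_pow_eq_one (pow_ne_zero _ hp.ne_zero) (hμ i)⟩
      obtain ⟨c, hc⟩ := exists_sum_pow_prime_pow hp (Finset.univ : Finset ι) ν (j' + 1)
      have hc' := congrArg Subtype.val hc
      simp only [SubmonoidClass.coe_pow, AddSubmonoidClass.coe_finsetSum, MulMemClass.coe_mul,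
        AddMemClass.coe_add, SubringClass.coe_natCast, ν, hμ, Finset.sum_const, Finset.card_univ,
        nsmul_eq_mul, mul_one, hcardι] at hc'
      have h1 := h 1
      simp only [pow_one] at h1
      rw [← h1, hz] at hc'
      have hcq : ((c : ℂ)) = (((z ^ (p ^ (j' + 1)) - n : ℤ) : ℚ) / (p : ℚ) : ℚ) := by
        push_cast
        rw [eq_div_iff (Nat.cast_ne_zero.mpr hp.ne_zero)]
        linear_combination -hc'
      have hint : IsIntegral ℤ (c : ℂ) := c.2
      rw [hcq] at hint
      obtain ⟨w, hw⟩ := IsIntegrallyClosed.isIntegral_iff.mp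
        ((isIntegral_algebraMap_iff (algebraMap ℚ ℂ).injective).mp hint)
      simp only [algebraMap_int_eq, eq_intCast] at hw
      rw [eq_div_iff (Nat.cast_ne_zero.mpr hp.ne_zero)] at hw
      have hw' : w * (p : ℤ) = z ^ (p ^ (j' + 1)) - n := by exact_mod_cast hw
      have h3 := congrArg (fun a : ℤ => (a : ZMod p)) hw'
      simp only [Int.cast_mul, Int.cast_natCast, ZMod.natCast_self, mul_zero, Int.cast_sub,
        Int.cast_pow, ZMod.pow_card_pow] at h3
      rw [← ZMod.intCast_zmod_eq_zero_iff_dvd]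
      push_cast
      linear_combination h3
    obtain ⟨t, ht⟩ := hmod
    have hm₀n : m₀ ≤ n := hcardι ▸ Finset.card_le_univ _
    have hpc : ((p - 1 : ℕ) : ℤ) = (p : ℤ) - 1 := by rw [Nat.cast_sub hp.one_le]; rfl
    have hppos : (0 : ℤ) < p := by exact_mod_cast hp.pos
    have hm₁n' : (m₁ : ℤ) ≤ n := by exact_mod_cast hm₁n
    have hm₀n' : (m₀ : ℤ) ≤ n := by exact_mod_cast hm₀n
    have hm0pos : (0 : ℤ) ≤ m₀ := Nat.cast_nonneg _
    have hp1' : (1 : ℤ) ≤ (p : ℤ) - 1 := by have := hp.two_le; omega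
    have hle : m₀ ≤ m₁ := Finset.card_le_card fun i hi => by
      simp only [Finset.mem_filter, Finset.mem_univ, true_and] at hi ⊢
      rw [hi, one_pow]
    have hle' : (m₀ : ℤ) ≤ m₁ := by exact_mod_cast hle
    have htub : t * ((p : ℤ) - 1) ≤ n := by
      refine le_of_mul_le_mul_left ?_ hppos
      rw [hpc] at hz'
      calc (p : ℤ) * (t * ((p : ℤ) - 1)) = ((p : ℤ) - 1) * n - ((p : ℤ) - 1) * z := by
            rw [← mul_sub, ht]; ring
        _ ≤ (p : ℤ) * n := by rw [hz']; nlinarith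
    have htlb : 1 ≤ t := by
      rcases lt_trichotomy t 0 with h0 | h0 | h0
      · exfalso
        rw [hpc] at hz'
        have h3 : (p : ℤ) * t ≤ -p := by nlinarith
        nlinarith
      · exfalso
        apply hg1
        apply hfaith
        rw [hz, hn]
        rw [h0, mul_zero, sub_eq_zero] at ht
        rw [← ht]; simp
      · omega
    lift t to ℕ using (by omega) with t'
    refine ⟨t', Finset.mem_Icc.mpr ⟨by exact_mod_cast htlb, ?_⟩, ?_⟩
    · rw [hT, Nat.le_div_iff_mul_le hp1]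
      rw [← hpc] at htub
      exact_mod_cast htub
    · rw [hz, show (z : ℤ) = (n : ℤ) - (p : ℤ) * t' by linarith]
      push_cast
      rfl
  -- the product vanishes off the identity
  set Φ : ℤ[X] := ∏ t ∈ Finset.Icc 1 T, (X - C ((n : ℤ) - (p : ℤ) * t)) with hΦ
  have hpoly : ∀ Q : ℤ[X], ∃ z : ℤ,
      ∑ g : (P : Subgroup G), aeval (χ g) Q = (Nat.card (P : Subgroup G) : ℂ) * z := by
    intro Q
    induction Q using Polynomial.induction_on' with
    | add a b ha hb =>
      obtain ⟨za, hza⟩ := ha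
      obtain ⟨zb, hzb⟩ := hb
      exact ⟨za + zb, by simp [Finset.sum_add_distrib, hza, hzb, mul_add]⟩
    | monomial d c =>
      obtain ⟨k, hk⟩ := IsCharacter.exists_classInner_nat
        (IsCharacter.pow (IsCharacter.restrict hχ (P : Subgroup G)) d)
        (IsIrrCharacter.isCharacter (isIrrCharacter_unitsHom (1 : (P : Subgroup G) →* ℂˣ)))
      rw [classInner, inv_mul_eq_iff_eq_mul₀ natCard_ne_zero_complex] at hk
      simp only [MonoidHom.one_apply, Units.val_one, map_one, mul_one, Pi.pow_apply] at hk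
      refine ⟨c * k, ?_⟩
      simp only [aeval_monomial, algebraMap_int_eq, eq_intCast, ← Finset.mul_sum, hk]
      push_cast
      ring
  obtain ⟨z, hz⟩ := hpoly Φ
  rw [Finset.sum_eq_single (1 : (P : Subgroup G))] at hz
  · have hone : aeval (χ ((1 : (P : Subgroup G)) : G)) Φ = ((p ^ T * T.factorial : ℕ) : ℂ) := by
      rw [OneMemClass.coe_one, hn, hΦ, map_prod]
      simp only [map_sub, map_mul, map_natCast, aeval_X, aeval_C, algebraMap_int_eq, eq_intCast, Int.cast_sub,
        Int.cast_natCast, Int.cast_mul, sub_sub_cancel]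
      rw [Finset.prod_mul_distrib, Finset.prod_const, Nat.card_Icc, Nat.add_sub_cancel,
        ← Finset.prod_Ico_id_eq_factorial T, Nat.cast_mul, Nat.cast_pow, Nat.cast_prod,
        Finset.Ico_add_one_right_eq_Icc]
    rw [hone] at hz
    have hdvd : Nat.card (P : Subgroup G) ∣ p ^ T * T.factorial := by
      have h1 : ((p ^ T * T.factorial : ℕ) : ℤ) = (Nat.card (P : Subgroup G) : ℤ) * z := by
        exact_mod_cast hz
      exact_mod_cast Dvd.intro z h1.symm
    rw [P.card_eq_multiplicity] at hdvd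
    have hb := (hp.pow_dvd_iff_le_factorization (mul_ne_zero (pow_ne_zero _ hp.ne_zero)
      (Nat.factorial_ne_zero T))).mp hdvd
    rw [Nat.factorization_mul (pow_ne_zero _ hp.ne_zero) (Nat.factorial_ne_zero T),
      Finsupp.add_apply, hp.factorization_pow, Finsupp.single_eq_same,
      Nat.factorization_factorial hp (show Nat.log p T < n + 1 from
        Nat.lt_succ_of_le ((Nat.log_le_self p T).trans (Nat.div_le_self n _)))] at hb
    rw [Finset.sum_range_eq_add_Ico _ (Nat.succ_pos n), pow_zero, mul_one, ← hT]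
    refine hb.trans (le_of_eq (congrArg _ (Finset.sum_congr rfl fun i _ => ?_)))
    rw [hT, Nat.div_div_eq_div_mul]
  · intro g _ hg
    obtain ⟨t, ht, htv⟩ := hvals g g.2 fun h => hg (Subtype.ext h)
    rw [hΦ, map_prod, Finset.prod_eq_zero ht]
    simp [htv]
  · simp

/-- Schur's bound for characters with values in a field of roots of unity of order prime to `p`. -/
theorem schur_bound {p : ℕ} [Fact p.Prime] {χ : G → ℂ} (hχ : IsCharacter G χ)
    (hfaith : ∀ g : G, χ g = χ 1 → g = 1) {r : ℕ} (hr : 0 < r) (hpr : ¬ p ∣ r)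
    (hval : ∀ g : G, χ g ∈ IntermediateField.adjoin ℚ ({zeta r} : Set ℂ)) {n : ℕ}
    (hn : χ 1 = n) :
    (Nat.card G).factorization p ≤ ∑ i ∈ Finset.range (n + 1), n / ((p - 1) * p ^ i) :=
  schur_bound_of_invariant hχ hfaith
    (fun g _ _ hg hk => apply_pow_eq_of_pRational hχ hr hpr hg (hval g) hk) hn

end Cfsg.Agent.Lib.Characters
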