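import Cfsg.Agent.Lib.Characters.SchurBound
import Cfsg.Agent.Lib.Characters.ExtensionCoprime
import Cfsg.Agent.Lib.Blocks.ComplexAut
import Cfsg.Agent.Lib.Coprime.SchurZassenhaus
import Cfsg.Agent.Lib.Cores
import Cfsg.Agent.Lib.Characters.PSolvableSmallDegree

/-!
# Schur's bound in `p`-solvable linear groups
-/

namespace Cfsg.Agent.Lib.Characters

open scoped ComplexConjugate Pointwise
open Cfsg.Agent.Lib.BlockHeights Cfsg.Agent.Lib.Blocks

set_option linter.unusedSectionVars false
set_option linter.style.haveILetI false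

universe u

section HallHigman

variable {G : Type u} [Group G] [Finite G]

/-- `C(O_{p'}) ≤ O_{p'}` in a `p`-solvable group without normal `p`-subgroups. -/
theorem centralizer_pPrimeCore_le {p : ℕ} [Fact p.Prime] (hG : Cfsg.IsPSolvable p G)
    (hcore : Cfsg.pCore p G = ⊥) :
    Subgroup.centralizer (Cfsg.pPrimeCore p G : Set G) ≤ Cfsg.pPrimeCore p G := by
  classical
  have hp : p.Prime := Fact.out
  set K := Cfsg.pPrimeCore p G with hK
  haveI hKn : K.Normal := (Cores.pPrimeCore_mem p G).1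
  set C := Subgroup.centralizer (K : Set G) with hC
  haveI : C.Normal := inferInstance
  obtain ⟨n, H, h0, hlast, hmono, hnorm, hfac⟩ := hG
  suffices h : ∀ i : Fin (n + 1), C ⊓ H i ≤ K by
    have := h (Fin.last n)
    rwa [hlast, inf_top_eq] at this
  intro i
  induction i using Fin.induction with
  | zero => rw [h0, inf_bot_eq]; exact bot_le
  | succ i ih =>
    haveI := hnorm i.castSucc
    haveI := hnorm i.succ
    set Z := C ⊓ H i.castSucc with hZ
    set L := C ⊓ H i.succ with hL
    haveI hLn : L.Normal := Subgroup.normal_inf_normal C (H i.succ)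
    haveI hZn : Z.Normal := Subgroup.normal_inf_normal C (H i.castSucc)
    have hZL : Z ≤ L := inf_le_inf_left _ (hmono (Fin.castSucc_le_succ i))
    have hZp : (Nat.card Z).Coprime p :=
      (Cores.pPrimeCore_coprime p G).coprime_dvd_left (Subgroup.card_dvd_of_le ih)
    have hrel : Z.relIndex L ∣ (H i.castSucc).relIndex (H i.succ) := by
      have e : Z.relIndex L = (H i.castSucc).relIndex L := by
        rw [← Subgroup.inf_relIndex_right (H i.castSucc) L]
        congr 1
        rw [hZ, hL, inf_comm (H i.castSucc), inf_assoc,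
          inf_eq_right.2 (hmono (Fin.castSucc_le_succ i))]
      rw [e, ← Subgroup.relIndex_subgroupOf (inf_le_right : L ≤ H i.succ)]
      exact Subgroup.relIndex_dvd_index_of_normal _ _
    have hcard : Nat.card L = Nat.card Z * Z.relIndex L := by
      have h := Subgroup.relIndex_mul_relIndex ⊥ Z L bot_le hZL
      rwa [Subgroup.relIndex_bot_left, Subgroup.relIndex_bot_left, eq_comm] at h
    rcases hfac i with ⟨m, hm⟩ | hcop
    · obtain ⟨m', -, hm'⟩ := (Nat.dvd_prime_pow hp).1 (hm ▸ hrel)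
      -- the Sylow subgroup of `L` is central, hence normal, hence trivial
      obtain ⟨P⟩ : Nonempty (Sylow p L) := inferInstance
      have hcop' : (Nat.card (Z.subgroupOf L)).Coprime (Nat.card (P : Subgroup L)) := by
        rw [Nat.card_congr (Subgroup.subgroupOfEquivOfLe hZL).toEquiv, P.card_eq_multiplicity]
        exact Nat.Coprime.pow_right _ hZp
      have hPcard : Nat.card (P : Subgroup L) = p ^ m' := by
        rw [P.card_eq_multiplicity, hcard, hm', Nat.factorization_mul Nat.card_pos.ne'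
          (pow_ne_zero _ hp.ne_zero), Finsupp.add_apply, Nat.factorization_eq_zero_of_not_dvd
          (hp.coprime_iff_not_dvd.mp hZp.symm), hp.factorization_pow, Finsupp.single_eq_same,
          zero_add]
      have hprod : Subgroup.IsComplement' (Z.subgroupOf L) (P : Subgroup L) :=
        Subgroup.isComplement'_of_coprime (by
          rw [Nat.card_congr (Subgroup.subgroupOfEquivOfLe hZL).toEquiv, hPcard, hcard, hm']) hcop'
      have hcentral : ∀ z : L, z ∈ Z.subgroupOf L → ∀ y : L, Commute z y := fun z hz y =>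
        Subtype.ext ((y.2.1 : (y : G) ∈ C) (z : G) (ih hz))
      haveI hPn : (P : Subgroup L).Normal := by
        refine ⟨fun x hx g => ?_⟩
        obtain ⟨⟨z, y⟩, hzy⟩ := hprod.2 g
        simp only at hzy
        have hyx : (y : L) * x * (y : L)⁻¹ ∈ (P : Subgroup L) :=
          mul_mem (mul_mem y.2 hx) (inv_mem y.2)
        have : g * x * g⁻¹ = (y : L) * x * (y : L)⁻¹ := by
          rw [← hzy, mul_inv_rev]
          calc (z : L) * y * x * ((y : L)⁻¹ * (z : L)⁻¹)
              = (z : L) * ((y : L) * x * (y : L)⁻¹) * (z : L)⁻¹ := by group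
            _ = _ := by rw [(hcentral z z.2 _).eq, mul_inv_cancel_right]
        rw [this]; exact hyx
      haveI : (P : Subgroup L).Characteristic := P.characteristic_of_normal hPn
      have hle := Cores.le_pCore (p := p)
        (inferInstance : ((P : Subgroup L).map L.subtype).Normal) (P.isPGroup'.map _)
      rw [hcore, le_bot_iff, Subgroup.map_eq_bot_iff_of_injective _ L.subtype_injective] at hle
      intro x hx
      obtain ⟨⟨z, y⟩, hzy⟩ := hprod.2 ⟨x, hx⟩
      simp only at hzy
      rw [(Subgroup.eq_bot_iff_forall _).mp hle _ y.2, mul_one] at hzy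
      rw [← show ((z : L) : G) = x from congrArg Subtype.val hzy]
      exact ih z.2
    · exact Cores.le_pPrimeCore hLn (hcard ▸ hZp.mul_left (hcop.coprime_dvd_left hrel))

end HallHigman

section Galois

variable {G : Type u} [Group G]

theorem detChar_complexAut [Finite G] (τ : ℂ ≃+* ℂ) {χ : G → ℂ} (hχ : IsCharacter G χ) :
    detChar (fun g => τ (χ g)) = fun g => τ (detChar χ g) := by
  obtain ⟨n, ρ, rfl⟩ := hχ
  let A : G →* Matrix (Fin n) (Fin n) ℂ :=
    (τ.toRingHom.mapMatrix (m := Fin n)).toMonoidHom.comp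
      ((LinearMap.toMatrixAlgEquiv' : _ ≃ₐ[ℂ] Matrix (Fin n) (Fin n) ℂ).toAlgHom.toRingHom.toMonoidHom.comp ρ)
  let σ : Representation ℂ G (Fin n → ℂ) :=
    (Matrix.toLinAlgEquiv' : Matrix (Fin n) (Fin n) ℂ ≃ₐ[ℂ] _).toAlgHom.toRingHom.toMonoidHom.comp A
  have hσ : ∀ g, σ g = Matrix.toLin' ((LinearMap.toMatrix' (ρ g)).map τ) := fun g => rfl
  have hchar : (fun g => τ (ρ.character g)) = σ.character := funext fun g => by
    show τ (LinearMap.trace ℂ _ (ρ g)) = LinearMap.trace ℂ _ (σ g)
    rw [hσ, Matrix.trace_toLin'_eq]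
    conv_lhs => rw [← Matrix.toLin'_toMatrix' (ρ g), Matrix.trace_toLin'_eq]
    exact map_sum τ _ _
  rw [hchar, detChar_eq σ, detChar_eq ρ]
  funext g
  simp only
  rw [hσ, LinearMap.det_toLin', ← LinearMap.det_toMatrix']
  exact (τ.toRingHom.map_det _).symm

theorem complexAut_fixed_of_pow {r : ℕ} [NeZero r] {τ : ℂ ≃+* ℂ}
    (hτ : ∀ z : ℂ, z ^ r = 1 → τ z = z) {χ : G → ℂ} [Finite G] (hχ : IsCharacter G χ) {g : G}
    (hg : g ^ r = 1) : τ (χ g) = χ g := by
  obtain ⟨ι, hι, μ, hμ, h⟩ := exists_eigen_sum hχ g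
  have h1 := h 1
  simp only [pow_one] at h1
  rw [h1, map_sum]
  refine Finset.sum_congr rfl fun i _ => hτ _ ?_
  obtain ⟨c, hc⟩ := orderOf_dvd_of_pow_eq_one hg
  rw [hc, pow_mul, hμ i, one_pow]

/-- The canonical extension over a `p`-factor is fixed by the automorphisms fixing the roots of
unity of order `|R|`. -/
theorem exists_extension_fixed [Finite G] (R : Subgroup G) [R.Normal] {p j : ℕ} [Fact p.Prime]
    (hidx : R.index = p ^ j) (hR : ¬ p ∣ Nat.card R) {θ : R → ℂ} (hθ : IsIrrCharacter R θ)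
    (hinv : ∀ g : G, conjFun R g θ = θ) :
    ∃ χ : G → ℂ, IsIrrCharacter G χ ∧ (∀ x : R, χ x = θ x) ∧
      ∀ τ : ℂ ≃+* ℂ, (∀ z : ℂ, z ^ Nat.card R = 1 → τ z = z) → ∀ g, τ (χ g) = χ g := by
  classical
  haveI : NeZero (Nat.card R) := ⟨Nat.card_pos.ne'⟩
  have hp : p.Prime := Fact.out
  have hcop : R.index.Coprime (Nat.card R) :=
    hidx ▸ Nat.Coprime.pow_left _ (hp.coprime_iff_not_dvd.mpr hR)
  have hinv' : ∀ (g : G) (x : R), θ ⟨g * x * g⁻¹, ‹R.Normal›.conj_mem x x.2 g⟩ = θ x :=
    fun g x => congrFun (hinv g) x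
  have hθc := IsIrrCharacter.isCharacter hθ
  obtain ⟨d, hd⟩ := IsCharacter.exists_apply_one hθc
  obtain ⟨d', -, hd', hddvd⟩ := IsIrrCharacter.exists_degree_dvd hθ
  have hdd : d = d' := by exact_mod_cast hd.symm.trans hd'
  have hcopd : R.index.Coprime d := hcop.coprime_dvd_right (hdd ▸ hddvd)
  obtain ⟨hdc, hd1⟩ := isCharacter_detChar hθc
  have hpow : detChar θ ^ Nat.card R = 1 := by
    obtain ⟨δ, hδ⟩ := IsCharacter.exists_hom_of_apply_one hdc hd1
    funext x
    rw [hδ, Pi.pow_apply, Pi.one_apply, ← Units.val_pow_eq_pow_val, ← map_pow, pow_card_eq_one',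
      map_one, Units.val_one]
  have hinvdet : ∀ (g : G) (x : R), detChar θ ⟨g * x * g⁻¹, ‹R.Normal›.conj_mem x x.2 g⟩ = detChar θ x := by
    intro g x
    have h1 := congrFun (detChar_comp (MulAut.conjNormal g : MulAut R).toMonoidHom hθc) x
    rw [show θ ∘ (MulAut.conjNormal g : MulAut R).toMonoidHom = θ from hinv g] at h1
    exact h1.symm.trans rfl
  obtain ⟨μ, ⟨hμ, hμ1, hμres, hμord⟩, -⟩ := exists_linear_extension_coprime hdc hd1 hinvdet
    (hcop.coprime_dvd_right (orderOf_dvd_of_pow_eq_one hpow))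
  have hext := exists_irr_extension_of_det hθ hinv' hd hcopd hμ hμ1 hμres
  obtain ⟨χ, ⟨hχ, hres, hdet⟩, huniq⟩ :=
    existsUnique_extension_det hθ hd hcopd hext ⟨hμ, hμ1⟩ hμres
  refine ⟨χ, hχ, hres, fun τ hτ g => ?_⟩
  have hfixμ : ∀ g, τ (μ g) = μ g := fun g => hτ _ (by
    have h1 : μ ^ Nat.card R = 1 :=
      orderOf_dvd_iff_pow_eq_one.mp (hμord ▸ orderOf_dvd_of_pow_eq_one hpow)
    exact congrFun h1 g)
  refine congrFun (huniq (fun g => τ (χ g)) ⟨complexAut_isIrr τ hχ, fun x => ?_, ?_⟩) g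
  · show τ (χ x) = θ x
    rw [hres]
    exact complexAut_fixed_of_pow hτ hθc (Subtype.ext (by simp [← Subgroup.coe_pow]))
  · rw [detChar_complexAut τ (IsIrrCharacter.isCharacter hχ), hdet]
    exact funext hfixμ

/-- A sum over an invariant set of characters of a normal `p'`-subgroup of `p`-power index is the
restriction of a `p`-rational character. -/
theorem exists_fixed_char [Fintype G] (R : Subgroup G) [R.Normal] [Fintype R] {p j : ℕ}
    [Fact p.Prime] (hidx : R.index = p ^ j) (hR : ¬ p ∣ Nat.card R) (T : Finset (R → ℂ))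
    (hirr : ∀ θ ∈ T, IsIrrCharacter R θ) (hinv : ∀ g : G, ∀ θ ∈ T, conjFun R g θ ∈ T) :
    ∃ ψ : G → ℂ, IsCharacter G ψ ∧ (fun x : R => ψ x) = ∑ θ ∈ T, θ ∧
      ∀ τ : ℂ ≃+* ℂ, (∀ z : ℂ, z ^ Nat.card R = 1 → τ z = z) → ∀ g, τ (ψ g) = ψ g := by
  classical
  induction T using Finset.strongInduction with
  | _ T ih =>
  rcases T.eq_empty_or_nonempty with rfl | ⟨θ, hθT⟩
  · exact ⟨0, isCharacter_zero, by simp; rfl, fun τ _ g => map_zero τ⟩
  have hθ := hirr θ hθT
  set I := inertia R θ with hI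
  have hRI : R ≤ I := le_inertia R (IsCharacter.isClassFunction (IsIrrCharacter.isCharacter hθ))
  let eR := Subgroup.subgroupOfEquivOfLe hRI
  have hdvd : (R.subgroupOf I).index ∣ p ^ j :=
    hidx ▸ Subgroup.relIndex_dvd_index_of_normal R I
  obtain ⟨i, -, hi⟩ := (Nat.dvd_prime_pow (Fact.out : p.Prime)).mp hdvd
  obtain ⟨χ, hχ, hres, hfix⟩ := exists_extension_fixed (R.subgroupOf I) hi
    (by rwa [Nat.card_congr eR.toEquiv]) (IsIrrCharacter.comp_equiv hθ eR)
    (fun g => funext fun x => congrFun g.2 (eR x))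
  set O := T.filter fun φ => ∃ g : G, conjFun R g θ = φ with hO
  have hOT : O ⊆ T := Finset.filter_subset _ _
  have hθO : θ ∈ O := Finset.mem_filter.mpr ⟨hθT, 1, conjFun_one R θ⟩
  obtain ⟨ψ', hψ', hψ'res, hψ'fix⟩ := ih (T \ O)
    (Finset.sdiff_ssubset hOT ⟨θ, hθO⟩) (fun φ hφ => hirr φ (Finset.mem_sdiff.mp hφ).1)
    (fun g φ hφ => by
      obtain ⟨hφT, hφO⟩ := Finset.mem_sdiff.mp hφ
      refine Finset.mem_sdiff.mpr ⟨hinv g φ hφT, fun h => hφO ?_⟩
      obtain ⟨-, h', hh'⟩ := Finset.mem_filter.mp h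
      refine Finset.mem_filter.mpr ⟨hφT, h' * g⁻¹, ?_⟩
      rw [conjFun_mul, hh', conjFun_inv_cancel])
  set ψ₀ := indFun I χ with hψ₀
  have hψ₀res : (fun x : R => ψ₀ x) = ∑ φ ∈ O, φ := by
    funext x
    rw [hψ₀, indFun_apply]
    have hval : ∀ y : G, extendByZero I χ (y⁻¹ * (x : G) * y) = conjFun R y⁻¹ θ x := fun y => by
      have hm : y⁻¹ * (x : G) * y ∈ R := by simpa using ‹R.Normal›.conj_mem (x : G) x.2 y⁻¹
      rw [extendByZero_of_mem I χ (hRI hm)]
      refine (hres ⟨⟨_, hRI hm⟩, hm⟩).trans ?_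
      show θ _ = θ _
      exact congrArg θ (Subtype.ext (by simp [eR]))
    rw [Finset.sum_congr rfl fun y _ => hval y,
      Fintype.sum_equiv (Equiv.inv G) (fun y => conjFun R y⁻¹ θ x) (fun y => conjFun R y θ x)
        (fun y => rfl),
      ← Finset.sum_fiberwise_of_maps_to (g := fun y : G => conjFun R y θ) (t := O)
        (fun y _ => Finset.mem_filter.mpr ⟨hinv y θ hθT, y, rfl⟩), Finset.mul_sum, Finset.sum_apply]
    refine Finset.sum_congr rfl fun φ hφ => ?_
    obtain ⟨-, g₀, hg₀⟩ := Finset.mem_filter.mp hφ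
    rw [Finset.sum_congr rfl (g := fun _ => φ x) fun y hy => by rw [(Finset.mem_filter.mp hy).2],
      Finset.sum_const, nsmul_eq_mul]
    have hcard : ((Finset.univ : Finset G).filter fun y => conjFun R y θ = φ).card = Nat.card I := by
      rw [← Fintype.card_subtype, ← Nat.card_eq_fintype_card]
      refine Nat.card_congr ?_
      refine
        { toFun := fun y => ⟨(y : G) * g₀⁻¹, ?_⟩
          invFun := fun s => ⟨(s : G) * g₀, ?_⟩
          left_inv := fun y => Subtype.ext (by simp)
          right_inv := fun s => Subtype.ext (by simp) }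
      · rw [mem_inertia_iff, conjFun_mul, y.2, ← hg₀, conjFun_inv_cancel]
      · rw [conjFun_mul, (mem_inertia_iff R).mp s.2, hg₀]
    rw [hcard, inv_mul_cancel_left₀ natCard_ne_zero_complex]
  refine ⟨ψ₀ + ψ', IsCharacter.add (IsCharacter.indFun I (IsIrrCharacter.isCharacter hχ)) hψ',
    ?_, fun τ hτ g => ?_⟩
  · rw [show (fun x : R => (ψ₀ + ψ') x) = (fun x : R => ψ₀ x) + fun x : R => ψ' x from rfl,
      hψ₀res, hψ'res, add_comm, Finset.sum_sdiff hOT]
  · have hRcard : Nat.card (R.subgroupOf I) = Nat.card R := Nat.card_congr eR.toEquiv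
    rw [Pi.add_apply, map_add, hψ'fix τ hτ g, hψ₀, indFun_apply, map_mul, map_inv₀, map_natCast,
      map_sum]
    congr 1
    congr 1
    refine Finset.sum_congr rfl fun y _ => ?_
    by_cases hy : y⁻¹ * g * y ∈ I
    · rw [extendByZero_of_mem I χ hy, hfix τ (fun z hz => hτ z (hRcard ▸ hz))]
    · rw [extendByZero_of_not_mem I χ hy, map_zero]

end Galois

/-- Schur's bound for the index of `O_p(G)` in a `p`-solvable linear group. -/
theorem schur_bound_pSolvable {G : Type u} [Group G] [Finite G] {p : ℕ} [Fact p.Prime]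
    (hsolv : Cfsg.IsPSolvable p G) {χ : G → ℂ} (hχ : IsCharacter G χ)
    (hfaith : ∀ g : G, χ g = χ 1 → g = 1) {n : ℕ} (hn : χ 1 = n) :
    (Cfsg.pCore p G).index.factorization p ≤
      ∑ i ∈ Finset.range (n + 1), n / ((p - 1) * p ^ i) := by
  classical
  have hp : p.Prime := Fact.out
  haveI := Fintype.ofFinite G
  set Q := Cfsg.pCore p G with hQ
  haveI hQn : Q.Normal := by
    refine ⟨fun x hx g => ?_⟩
    rw [hQ, ← Cores.map_pCore_equiv (p := p) (MulAut.conj g)]
    exact ⟨x, hx, rfl⟩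
  have hQp : IsPGroup p Q := Cores.pCore_isPGroup p G
  set π := QuotientGroup.mk' Q with hπ
  set Kb := Cfsg.pPrimeCore p (G ⧸ Q) with hKb
  haveI hKbn : Kb.Normal := (Cores.pPrimeCore_mem p (G ⧸ Q)).1
  set L := Kb.comap π with hL
  haveI hLn : L.Normal := hKbn.comap π
  have hQL : Q ≤ L := fun x hx => by
    show π x ∈ Kb
    rw [show π x = 1 from (QuotientGroup.eq_one_iff x).mpr hx]
    exact Kb.one_mem
  have hQLidx : (Q.subgroupOf L).index = Nat.card Kb := by
    have h := Subgroup.relIndex_ker π (K := L)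
    rw [hπ, QuotientGroup.ker_mk', ← hπ, hL,
      Subgroup.map_comap_eq_self_of_surjective (QuotientGroup.mk'_surjective Q)] at h
    exact h
  obtain ⟨c, hc⟩ := hQp.exists_card_eq
  have hcopQ : (Nat.card (Q.subgroupOf L)).Coprime (Q.subgroupOf L).index := by
    rw [Nat.card_congr (Subgroup.subgroupOfEquivOfLe hQL).toEquiv, hc, hQLidx]
    exact (Nat.Coprime.pow_right _ (Cores.pPrimeCore_coprime p _)).symm
  obtain ⟨R₀, hR₀⟩ := Subgroup.exists_right_complement'_of_coprime hcopQ
  set R : Subgroup G := R₀.map L.subtype with hR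
  have hRL : R ≤ L := Subgroup.map_subtype_le _
  have hRcard : Nat.card R = Nat.card Kb := by
    rw [hR, Subgroup.card_map_of_injective L.subtype_injective, ← hR₀.symm.index_eq_card, hQLidx]
  have hRp : ¬ p ∣ Nat.card R :=
    hp.coprime_iff_not_dvd.mp (hRcard ▸ (Cores.pPrimeCore_coprime p _).symm)
  have hRmap : R.map π = Kb := by
    apply le_antisymm (Subgroup.map_le_iff_le_comap.mpr hRL)
    intro y hy
    obtain ⟨x, rfl⟩ := QuotientGroup.mk_surjective y
    obtain ⟨⟨a, b⟩, hab⟩ := hR₀.2 ⟨x, hy⟩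
    refine ⟨((b : L) : G), Subgroup.mem_map_of_mem _ b.2, ?_⟩
    have h1 : ((a : L) : G) * ((b : L) : G) = x := congrArg Subtype.val hab
    show π ((b : L) : G) = π x
    rw [← h1, map_mul, show π ((a : L) : G) = 1 from (QuotientGroup.eq_one_iff _).mpr a.2, one_mul]
  -- Frattini: `G = Q N(R)`
  set M := Subgroup.normalizer (R : Set G) with hM
  have hGM : ∀ g : G, ∃ m ∈ M, π m = π g := by
    intro g
    let R₁ : Subgroup L := R₀.map (MulAut.conjNormal g : MulAut L).toMonoidHom
    have hR₁card : Nat.card R₁ = Nat.card R₀ :=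
      Subgroup.card_map_of_injective (MulAut.conjNormal g : MulAut L).injective
    have hR₁ : Subgroup.IsComplement' (Q.subgroupOf L) R₁ := by
      refine Subgroup.isComplement'_of_coprime ?_ ?_
      · rw [hR₁card, hR₀.card_mul]
      · rw [hR₁card]
        have h := hR₀.symm.index_eq_card
        rw [← h]
        exact hcopQ
    haveI : Group.IsNilpotent (Q.subgroupOf L) :=
      (hQp.comap_of_injective L.subtype L.subtype_injective).isNilpotent
    obtain ⟨a, ha, hconj⟩ := Coprime.exists_conj_eq_of_isComplement' (Q.subgroupOf L) hcopQ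
      (Or.inl inferInstance) R₀ R₁ hR₀ hR₁
    refine ⟨(a : G)⁻¹ * g, ?_, ?_⟩
    · refine Subgroup.mem_normalizer_iff.mpr fun x => ?_
      have key : ∀ y : G, y ∈ R ↔ (a : G)⁻¹ * g * y * ((a : G)⁻¹ * g)⁻¹ ∈ R := by
        have hback : ∀ y ∈ R, (a : G)⁻¹ * g * y * ((a : G)⁻¹ * g)⁻¹ ∈ R := by
          rintro y ⟨y₀, hy₀, rfl⟩
          have h1 : (MulAut.conjNormal g : MulAut L) y₀ ∈ MulAut.conj a • R₀ :=
            hconj ▸ Subgroup.mem_map_of_mem _ hy₀
          rw [Subgroup.mem_pointwise_smul_iff_inv_smul_mem] at h1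
          refine ⟨_, h1, ?_⟩
          simp [MulAut.smul_def, MulAut.conjNormal_apply, mul_assoc]
        intro y
        refine ⟨hback y, fun hy => ?_⟩
        -- the conjugation is a permutation of a finite set
        let f : R → R := fun z => ⟨_, hback z z.2⟩
        have hf : Function.Injective f := fun z w h => Subtype.ext
          (mul_left_cancel (mul_right_cancel (congrArg Subtype.val h)))
        obtain ⟨z, hz⟩ := (Finite.injective_iff_surjective.mp hf) ⟨_, hy⟩
        have h2 : (z : G) = y := mul_left_cancel (mul_right_cancel (congrArg Subtype.val hz))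
        exact h2 ▸ z.2
      exact key x
    · rw [map_mul, map_inv, show π (a : G) = 1 from (QuotientGroup.eq_one_iff _).mpr ha, inv_one,
        one_mul]
  obtain ⟨P⟩ : Nonempty (Sylow p M) := inferInstance
  have hMsurj : Function.Surjective (π.comp M.subtype) := fun y => by
    obtain ⟨g, rfl⟩ := QuotientGroup.mk_surjective y
    obtain ⟨m, hm, hmg⟩ := hGM g
    exact ⟨⟨m, hm⟩, hmg⟩
  have hPbar := (P.mapSurjective hMsurj).card_eq_multiplicity
  set P' : Subgroup G := (P : Subgroup M).map M.subtype with hP'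
  have hP'M : P' ≤ M := Subgroup.map_subtype_le _
  have hP'p : IsPGroup p P' := P.isPGroup'.map _
  have hv : Nat.card (P'.map π) = p ^ Q.index.factorization p := by
    rw [hP', Subgroup.map_map, Subgroup.index_eq_card, ← hPbar]
    rfl
  have hfaith' : ∀ x ∈ P', (∀ y ∈ R, x * y = y * x) → π x = 1 := by
    intro x hx hcomm
    have h1 : π x ∈ Kb := centralizer_pPrimeCore_le
      (isPSolvable_quotient_of Q hsolv) (Cores.pCore_quotient_pCore p G)
      (Subgroup.mem_centralizer_iff.mpr fun y hy => by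
        obtain ⟨r, hr, rfl⟩ := hRmap.ge hy
        rw [← map_mul, ← map_mul, hcomm r hr])
    obtain ⟨e, he⟩ := hP'p ⟨x, hx⟩
    refine orderOf_eq_one_iff.mp (Nat.eq_one_of_dvd_coprimes
      (Nat.Coprime.pow_left e (Cores.pPrimeCore_coprime p (G ⧸ Q)).symm)
      (orderOf_dvd_of_pow_eq_one ?_) (Subgroup.orderOf_dvd_natCard _ h1))
    rw [← map_pow, show x ^ p ^ e = 1 from congrArg Subtype.val he, map_one]
  -- the group `R P'`
  set S := R ⊔ P' with hS
  have hSM : S ≤ M := sup_le Subgroup.le_normalizer hP'M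
  haveI := Fintype.ofFinite S
  set RS := R.subgroupOf S with hRS
  haveI hRSn : RS.Normal := (Subgroup.normal_subgroupOf_iff_le_normalizer le_sup_left).mpr hSM
  haveI := Fintype.ofFinite RS
  obtain ⟨j, hidx⟩ : ∃ j, RS.index = p ^ j := by
    let f : P' →* S ⧸ RS := (QuotientGroup.mk' RS).comp (Subgroup.inclusion le_sup_right)
    have hsurj : Function.Surjective f := by
      intro y
      obtain ⟨s, rfl⟩ := QuotientGroup.mk_surjective y
      have hs : (s : G) ∈ ((R ⊔ P' : Subgroup G) : Set G) := s.2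
      rw [Subgroup.coe_mul_of_right_le_normalizer_left R P' hP'M] at hs
      obtain ⟨r, hr, x, hx, hrx⟩ := hs
      refine ⟨⟨x, hx⟩, ?_⟩
      refine QuotientGroup.eq.mpr ?_
      show (x⁻¹ * (s : G)) ∈ R
      rw [← hrx]
      have h3 := (Subgroup.mem_normalizer_iff.mp (M.inv_mem (hP'M hx)) r).mp hr
      simpa [mul_assoc] using h3
    exact (hP'p.of_surjective f hsurj).exists_card_eq
  have hRSp : ¬ p ∣ Nat.card RS := by
    rwa [Nat.card_congr (Subgroup.subgroupOfEquivOfLe le_sup_left).toEquiv]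
  let ι₀ : RS →* G := S.subtype.comp RS.subtype
  have hχR := IsCharacter.comp hχ ι₀
  haveI := Fintype.ofFinite (IrrCharacter RS)
  obtain ⟨a, ha, ha'⟩ := IsCharacter.exists_nat_decomp hχR
  set T : Finset (RS → ℂ) := Finset.image (fun θ : IrrCharacter RS => (θ : RS → ℂ))
    ((Finset.univ : Finset (IrrCharacter RS)).filter fun θ : IrrCharacter RS => a θ ≠ 0) with hT
  obtain ⟨ψ, hψ, hψres, hψfix⟩ := exists_fixed_char RS hidx hRSp T
    (fun θ hθ => by
      obtain ⟨φ, -, rfl⟩ := Finset.mem_image.mp hθ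
      exact φ.2)
    (fun g θ hθ => by
      obtain ⟨φ, hφ, rfl⟩ := Finset.mem_image.mp hθ
      refine Finset.mem_image.mpr ⟨⟨_, IsIrrCharacter.conjFun RS φ.2 g⟩, ?_, rfl⟩
      simp only [Finset.mem_filter, Finset.mem_univ, true_and] at hφ ⊢
      intro h0
      apply hφ
      have h1 := ha' ⟨_, IsIrrCharacter.conjFun RS φ.2 g⟩
      rw [h0, Nat.cast_zero] at h1
      have h2 := classInner_restrict_conjFun RS
        (χ := fun s : S => χ s) (IsCharacter.isClassFunction (IsCharacter.restrict hχ S)) g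
        (φ : RS → ℂ)
      have h3 : classInner (χ ∘ ι₀) (φ : RS → ℂ) = 0 := h2.symm.trans h1
      rw [ha' φ] at h3
      exact_mod_cast h3)
  obtain ⟨n', hn'⟩ := IsCharacter.exists_apply_one hψ
  choose dg hdg0 hdg using fun θ : IrrCharacter RS => IsIrrCharacter.exists_apply_one θ.2
  have hψ1 : n' = ∑ θ ∈ (Finset.univ : Finset (IrrCharacter RS)).filter (fun θ => a θ ≠ 0), dg θ := by
    have h1 := congrFun hψres 1
    rw [Finset.sum_apply, hT, Finset.sum_image (fun x _ y _ h => Subtype.ext h)] at h1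
    simp only [OneMemClass.coe_one, hn', hdg] at h1
    exact_mod_cast h1
  have hn1 : n = ∑ θ : IrrCharacter RS, a θ * dg θ := by
    have h1 := congrFun ha 1
    simp only [Function.comp_apply, map_one, hn, Finset.sum_apply, Pi.smul_apply, smul_eq_mul,
      hdg] at h1
    exact_mod_cast h1
  have hn'n : n' ≤ n := by
    rw [hψ1, hn1, Finset.sum_filter]
    refine Finset.sum_le_sum fun θ _ => ?_
    split_ifs with h
    · exact Nat.le_mul_of_pos_left _ (Nat.pos_of_ne_zero h)
    · exact Nat.zero_le _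
  -- pass to the faithful quotient of `ψ`
  set K := charKernel hψ with hK
  haveI : K.Normal := charKernel_normal hψ
  have hKR : ∀ x : RS, (x : S) ∈ K → x = 1 := by
    intro x hx
    have hψx : ψ (x : S) = ψ 1 := hx
    have hall : ∀ θ : IrrCharacter RS, a θ ≠ 0 → (θ : RS → ℂ) x = (θ : RS → ℂ) 1 := by
      intro θ hθ
      have h1 : ∑ φ ∈ (Finset.univ : Finset (IrrCharacter RS)).filter (fun φ => a φ ≠ 0),
          (((φ : RS → ℂ) 1).re - ((φ : RS → ℂ) x).re) = 0 := by
        have h2 := congrFun hψres x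
        have h3 := congrFun hψres 1
        rw [Finset.sum_apply, hT, Finset.sum_image (fun u _ v _ h => Subtype.ext h)] at h2 h3
        simp only [OneMemClass.coe_one] at h3
        rw [hψx, h3] at h2
        rw [Finset.sum_sub_distrib, ← Complex.re_sum, ← Complex.re_sum, ← h2, sub_self]
      have hnn : ∀ φ : IrrCharacter RS,
          ‖(φ : RS → ℂ) x‖ ≤ ((φ : RS → ℂ) 1).re := fun φ => by
        obtain ⟨k, σ, hσ⟩ := irr_isCharacter φ
        rw [← hσ, σ.char_one, Complex.natCast_re]
        exact norm_char_le σ x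
      have h4 := (Finset.sum_eq_zero_iff_of_nonneg fun φ _ =>
        sub_nonneg.mpr (le_trans (Complex.re_le_norm _) (hnn φ))).mp h1 θ
        (Finset.mem_filter.mpr ⟨Finset.mem_univ _, hθ⟩)
      rw [sub_eq_zero] at h4
      have h5 := hnn θ
      rw [h4] at h5
      have h6 := Complex.re_eq_norm.mp (le_antisymm (Complex.re_le_norm _) h5)
      have h7 := hdg θ
      apply Complex.ext h4.symm
      rw [h7, Complex.natCast_im, (Complex.nonneg_iff.mp h6).2]
    have h1 : χ ((x : S) : G) = χ 1 := by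
      have h2 := congrFun ha x
      have h3 := congrFun ha 1
      simp only [Finset.sum_apply, Pi.smul_apply, smul_eq_mul] at h2 h3
      refine h2.trans (Eq.trans ?_ ((h3.symm).trans (by simp [ι₀])))
      refine Finset.sum_congr rfl fun θ _ => ?_
      by_cases hθ : a θ = 0
      · simp [hθ]
      · rw [hall θ hθ]
    exact Subtype.ext (Subtype.ext (hfaith _ h1))
  obtain ⟨ψb, hψb, hψbeq⟩ := IsCharacter.exists_quotient hψ K fun k hk => hk
  have hρb : ∀ s : S, ψb (s : S ⧸ K) = ψ s := fun s => (congrFun hψbeq s).symm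
  have hb := schur_bound_of_invariant (p := p) (χ := ψb) hψb
    (fun q hq => by
      obtain ⟨s, rfl⟩ := QuotientGroup.mk_surjective q
      rw [hρb, show ψb 1 = ψ 1 from hρb 1] at hq
      exact (QuotientGroup.eq_one_iff s).mpr hq)
    (fun q i k hq hk => by
      set r := Nat.card RS with hr
      set N := p ^ i * r with hN
      haveI : NeZero N := ⟨mul_ne_zero (pow_ne_zero _ hp.ne_zero) Nat.card_pos.ne'⟩
      have hcop : (p ^ i).Coprime r := Nat.Coprime.pow_left _ (hp.coprime_iff_not_dvd.mpr hRSp)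
      obtain ⟨e, he1, he2⟩ := Nat.chineseRemainder hcop k 1
      have hecop : e.Coprime N := by
        refine Nat.Coprime.mul_right ?_ ?_
        · rw [Nat.Coprime, he1.gcd_eq]
          exact Nat.Coprime.pow_right _ (hp.coprime_iff_not_dvd.mpr hk).symm
        · rw [Nat.Coprime, he2.gcd_eq, Nat.gcd_one_left]
      obtain ⟨τ, hτ⟩ := exists_complexAut_pow hecop
      have hτr : ∀ z : ℂ, z ^ r = 1 → τ z = z := fun z hz => by
        rw [hτ z (by rw [hN, mul_comm, pow_mul, hz, one_pow]), pow_eq_pow_mod e hz,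
          show e % r = 1 % r from he2, ← pow_eq_pow_mod 1 hz, pow_one]
      obtain ⟨s, rfl⟩ := QuotientGroup.mk_surjective q
      obtain ⟨ι, hι, μ, hμ, h⟩ := exists_eigen_sum hψb (s : S ⧸ K)
      rw [hq] at hμ
      have h1 : τ (ψb (s : S ⧸ K)) = ψb (s : S ⧸ K) := by
        rw [hρb]; exact hψfix τ hτr s
      rw [← h1]
      conv_rhs => rw [← pow_one (s : S ⧸ K)]
      rw [h k, h 1, map_sum]
      refine Finset.sum_congr rfl fun i' _ => ?_
      rw [pow_one, hτ _ (by rw [hN, pow_mul, hμ i', one_pow]), pow_eq_pow_mod e (hμ i'),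
        show e % p ^ i = k % p ^ i from he1, ← pow_eq_pow_mod k (hμ i')])
    (n := n') (by rw [show ψb 1 = ψ 1 from hρb 1, hn'])
  -- compare the orders
  have hle : Q.index.factorization p ≤ (Nat.card (S ⧸ K)).factorization p := by
    let f : P' →* S ⧸ K := (QuotientGroup.mk' K).comp (Subgroup.inclusion le_sup_right)
    let g : P' →* G ⧸ Q := π.comp P'.subtype
    have hker : f.ker ≤ g.ker := by
      intro x hx
      refine hfaith' (x : G) x.2 fun y hy => ?_
      have hxK : (Subgroup.inclusion (le_sup_right : P' ≤ S) x) ∈ K := (QuotientGroup.eq_one_iff _).mp hx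
      set xs := Subgroup.inclusion (le_sup_right : P' ≤ S) x with hxs
      let ys : S := ⟨y, (le_sup_left : R ≤ S) hy⟩
      have hys : ys ∈ RS := hy
      have hc1 : xs * ys * xs⁻¹ * ys⁻¹ ∈ RS :=
        RS.mul_mem (hRSn.conj_mem _ hys xs) (RS.inv_mem hys)
      have hc2 : xs * ys * xs⁻¹ * ys⁻¹ ∈ K := by
        rw [show xs * ys * xs⁻¹ * ys⁻¹ = xs * (ys * xs⁻¹ * ys⁻¹) by group]
        exact K.mul_mem hxK ((charKernel_normal hψ).conj_mem _ (K.inv_mem hxK) ys)
      have h1 := congrArg Subtype.val (hKR ⟨_, hc1⟩ hc2)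
      have h2 : xs * ys = ys * xs := by
        have h3 : xs * ys * xs⁻¹ * ys⁻¹ = 1 := h1
        calc xs * ys = xs * ys * xs⁻¹ * ys⁻¹ * (ys * xs) := by group
          _ = ys * xs := by rw [h3, one_mul]
      exact congrArg Subtype.val h2
    have h1 : Nat.card g.range ∣ Nat.card f.range := by
      rw [← Subgroup.index_ker, ← Subgroup.index_ker]
      exact Subgroup.index_dvd_of_le hker
    have h2 : g.range = P'.map π := by
      rw [MonoidHom.range_comp, Subgroup.range_subtype]
    rw [h2, hv] at h1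
    exact (hp.pow_dvd_iff_le_factorization Nat.card_pos.ne').mp
      (h1.trans (Subgroup.card_subgroup_dvd_card _))
  exact hle.trans (hb.trans ((Finset.sum_le_sum fun i _ => Nat.div_le_div_right hn'n).trans
    (Finset.sum_le_sum_of_subset (Finset.range_subset_range.mpr (by omega)))))

end Cfsg.Agent.Lib.Characters
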