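import Cfsg.Agent.Lib.Blocks.SmallDegree
import Cfsg.Agent.Lib.Blocks.Exists
import Cfsg.Agent.Lib.Characters.BlichfeldtReduce
import Cfsg.Agent.Lib.Characters.PSolvableDegrees
import Cfsg.Agent.Lib.Transfer.AbelianSylow

/-!
# Groups all whose character degrees are below `p`
-/

set_option autoImplicit false
set_option linter.unusedSectionVars false
set_option linter.style.haveILetI false
set_option maxHeartbeats 1600000

namespace Cfsg.Agent.Lib.Characters

open Cfsg Cfsg.Agent.Lib.Blocks
open scoped ComplexConjugate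

universe u

namespace SmallDegreePrime

variable {G : Type u} [Group G] {p : ℕ} [hp : Fact p.Prime]

theorem sum_upow [Fintype G] {P O : Subgroup G} {u : G} (S : PrimeSplit p P O u)
    (χ : IrrCharacter G) :
    ∃ m : ℕ, ∑ i : ZMod p, (χ : G → ℂ) (upow u i) = (p : ℂ) * m := by
  classical
  haveI := Fintype.ofFinite P
  obtain ⟨m, hm⟩ := IsCharacter.exists_classInner_nat (IsCharacter.restrict (irr_isCharacter χ) P)
    (isCharacter_one (G := P))
  refine ⟨m, ?_⟩
  have hbij : Function.Bijective fun i : ZMod p => (⟨upow u i, upow_mem S.mem i⟩ : P) :=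
    ⟨fun a b h => upow_injective S.orderOf_u (congrArg Subtype.val h), fun x => by
      obtain ⟨i, hi⟩ := exists_upow_eq S.card_P S.mem S.ne_one x.2
      exact ⟨i, Subtype.ext hi⟩⟩
  rw [← hm, classInner_eq_sum_inv isCharacter_one, S.card_P, ← mul_assoc,
    mul_inv_cancel₀ (Nat.cast_ne_zero.2 hp.out.ne_zero), one_mul]
  refine Fintype.sum_bijective _ hbij _ _ fun i => ?_
  rw [mul_one]

theorem charDegree_natCast [Finite G] (χ : IrrCharacter G) :
    (χ : G → ℂ) 1 = (charDegree (χ : G → ℂ) : ℂ) := by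
  haveI := Fintype.ofFinite G
  exact (Blocks.charDegree_eq χ).symm

/-- The case of a prime order Sylow subgroup of a perfect group without faithless characters. -/
theorem false_of_card_prime [Fintype G] [IsSimpleGroup G] (hna : ¬ ∀ a b : G, a * b = b * a)
    (hp2 : p ≠ 2)
    (hd2 : ∀ χ : IrrCharacter G, χ ≠ trivIrr G → 2 ≤ charDegree (χ : G → ℂ))
    (hb : ∀ χ : IrrCharacter G, charDegree (χ : G → ℂ) < p)
    (χ₁ : IrrCharacter G) (hχ₁ : χ₁ ≠ trivIrr G) (hχ₁d : charDegree (χ₁ : G → ℂ) + 1 < p)
    (P : Sylow p G) (hpd : p ∣ Nat.card G) (hsq : ¬ p ^ 2 ∣ Nat.card G) : False := by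
  classical
  haveI := Fintype.ofFinite (IrrCharacter G)
  haveI : DecidableEq G := Classical.decEq G
  obtain ⟨M, hM⟩ := exists_isPModular hp.out
  haveI := isPrime_of_isPModular hM
  haveI : NeZero p := ⟨hp.out.ne_zero⟩
  have hfac : (Nat.card G).factorization p = 1 := by
    refine le_antisymm ?_ (hp.out.factorization_pos_of_dvd Nat.card_pos.ne' hpd)
    by_contra hlt
    exact hsq ((pow_dvd_pow p (by omega : 2 ≤ (Nat.card G).factorization p)).trans
      (Nat.ordProj_dvd _ _))
  have hPc : Nat.card (P : Subgroup G) = p := by rw [P.card_eq_multiplicity, hfac, pow_one]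
  obtain ⟨u, O, S⟩ := exists_primeSplit (P : Subgroup G) hPc hsq
  haveI := Fintype.ofFinite O
  haveI := Fintype.ofFinite (IrrCharacter O)
  haveI := Fintype.ofFinite (Subgroup.centralizer ((P : Subgroup G) : Set G))
  have hfaith : ∀ χ : IrrCharacter G, χ ≠ trivIrr G → ∀ g : G,
      (χ : G → ℂ) g = (χ : G → ℂ) 1 → g = 1 := fun χ hne g hg =>
    IsCharacter.eq_one_of_isSimpleGroup (irr_isCharacter χ)
      (IsIrrCharacter.exists_ne_apply_one χ.2 (fun h => hne (Subtype.ext h))) hg
  obtain ⟨t, r, n, e, D⟩ := S.exists_stabData (trivIrr O)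
  set E := n * e with hEdef
  have hEpos : 0 < E := Nat.mul_pos D.n_pos D.e_pos
  have hEd : E ∣ p - 1 := D.prim.dvd_of_pow_eq_one _
    (ZMod.pow_card_sub_one_eq_one (D.prim.ne_zero hEpos.ne'))
  have hp3 : 3 ≤ p := by have := hp.out.two_le; omega
  -- the index of the centralizer is not one
  have hE1 : E ≠ 1 := by
    intro h1
    refine hna ?_
    have hle : Subgroup.normalizer ((P : Subgroup G) : Set G) ≤
        Subgroup.centralizer ((P : Subgroup G) : Set G) :=
      Subgroup.relIndex_eq_one.1 (D.relIndex_N.trans h1)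
    have hpg := Transfer.isPGroup_of_simple
      (Transfer.hasNormalPComplement_of_normalizer_le_centralizer P hle) hpd
    haveI := hpg.isNilpotent
    exact fun a b => IsSimpleGroup.comm_iff_isSolvable.mpr inferInstance a b
  -- the index is not `p - 1`
  have hElt : E < p - 1 := by
    by_contra hge
    have hE : E = p - 1 := le_antisymm (Nat.le_of_dvd (by omega) hEd) (by omega)
    haveI : NeZero E := ⟨hEpos.ne'⟩
    have hconst : ∀ i : ZMod p, i ≠ 0 → (χ₁ : G → ℂ) (upow u i) = (χ₁ : G → ℂ) (upow u (1 : ZMod p)) := by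
      intro i hi
      obtain ⟨s, -, hs⟩ := D.prim.eq_pow_of_pow_eq_one
        (show i ^ E = 1 by rw [hE]; exact ZMod.pow_card_sub_one_eq_one hi)
      have h := D.conj_pow s 1
      rw [mul_one, hs] at h
      rw [← h]
      exact irr_isClassFunction χ₁ _ _
    obtain ⟨m, hm⟩ := sum_upow S χ₁
    set d := charDegree (χ₁ : G → ℂ) with hd
    set c := (χ₁ : G → ℂ) (upow u (1 : ZMod p)) with hc
    rw [← Finset.add_sum_erase _ _ (Finset.mem_univ (0 : ZMod p)), upow_zero,
      Finset.sum_congr rfl (fun i hi => hconst i (Finset.ne_of_mem_erase hi)), Finset.sum_const,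
      Finset.card_erase_of_mem (Finset.mem_univ _), Finset.card_univ, ZMod.card, nsmul_eq_mul,
      charDegree_natCast] at hm
    have hp1 : ((p - 1 : ℕ) : ℂ) = (p : ℂ) - 1 := by
      rw [Nat.cast_sub hp.out.one_le, Nat.cast_one]
    rw [hp1] at hm
    have hmle : m ≤ d := by
      have hre := congrArg Complex.re hm
      have hcre : c.re ≤ (d : ℝ) := by
        have h1 := IsCharacter.norm_le_re (irr_isCharacter χ₁) (upow u (1 : ZMod p))
        rw [charDegree_natCast, Complex.natCast_re] at h1
        exact (Complex.re_le_norm c).trans h1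
      simp only [Complex.add_re, Complex.mul_re, Complex.sub_re, Complex.natCast_re,
        Complex.one_re, Complex.sub_im, Complex.natCast_im, Complex.one_im, Complex.mul_re,
        sub_zero, zero_mul] at hre
      rw [← hd] at hre
      have hpr : (3 : ℝ) ≤ p := by exact_mod_cast hp3
      have : (m : ℝ) ≤ d := by nlinarith
      exact_mod_cast this
    have hint : IsIntegral ℤ (((p * (d - m) : ℕ) : ℂ) / ((p - 1 : ℕ) : ℂ)) := by
      have he : ((p * (d - m) : ℕ) : ℂ) / ((p - 1 : ℕ) : ℂ) = (d : ℂ) - c := by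
        rw [div_eq_iff (by exact_mod_cast (by omega : p - 1 ≠ 0)), hp1, Nat.cast_mul,
          Nat.cast_sub hmle]
        linear_combination hm
      rw [he]
      exact (show IsIntegral ℤ (d : ℂ) by simpa using (isIntegral_algebraMap (R := ℤ) (A := ℂ) (x := (d : ℤ)))).sub (IsCharacter.isIntegral (irr_isCharacter χ₁) _)
    have hdvd := dvd_of_isIntegral_div (by omega : p - 1 ≠ 0) hint
    have hcop : (p - 1).Coprime p := (hp.out.coprime_iff_not_dvd.2 fun h => by
      have := Nat.le_of_dvd (by omega) h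
      omega).symm
    have hdm : d = m := by
      rcases Nat.eq_zero_or_pos (d - m) with h0 | h0
      · omega
      · have := Nat.le_of_dvd h0 (hcop.dvd_of_dvd_mul_left hdvd)
        omega
    subst hdm
    have hcd : c = (d : ℂ) := by
      have hne : ((p : ℂ) - 1) ≠ 0 := by
        rw [← hp1]; exact_mod_cast (by omega : p - 1 ≠ 0)
      exact mul_left_cancel₀ hne (by linear_combination hm)
    have := hfaith χ₁ hχ₁ (upow u (1 : ZMod p)) (by rw [← hc, hcd, charDegree_natCast])
    rw [upow_eq_one_iff S.orderOf_u] at this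
    exact one_ne_zero this
  obtain ⟨SX, δ, hcard, htriv, hX, hout⟩ := S.principal_sections hM D.relIndex_N hElt
  have hE2 : 2 ≤ E := by omega
  -- the nontrivial non-exceptional characters have degree `p - 1` and sign `-1`
  have hneg : ∀ ψ ∈ SX, ψ ≠ trivIrr G → δ ψ = -1 ∧ charDegree (ψ : G → ℂ) = p - 1 := by
    intro ψ hψ hne
    obtain ⟨hδ, -, hmod, -⟩ := hX ψ hψ
    obtain ⟨k, hk⟩ := Int.modEq_iff_dvd.1 hmod.symm
    have h2 := hd2 ψ hne
    have h3 := hb ψ
    have hk0 : 0 < k := by
      by_contra hle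
      push Not at hle
      have : (p : ℤ) * k ≤ 0 := Int.mul_nonpos_of_nonneg_of_nonpos (by positivity) hle
      omega
    have hk1 : k < 2 := by
      by_contra hge
      push Not at hge
      have : (p : ℤ) * 2 ≤ p * k := by nlinarith
      omega
    obtain rfl : k = 1 := by omega
    omega
  -- the regular part of the centralizer is trivial
  have hO : ∀ y : O, y = 1 := by
    obtain ⟨ψ, hψ⟩ : (SX.erase (trivIrr G)).Nonempty := by
      rw [← Finset.card_pos, Finset.card_erase_of_mem htriv, hcard]; omega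
    obtain ⟨hne, hψX⟩ := Finset.mem_erase.1 hψ
    obtain ⟨hδ, hdeg⟩ := hneg ψ hψX hne
    have hsec := (hX ψ hψX).2.2.2
    have hj : ∀ j : ZMod p, j ≠ 0 → 1 ≤ S.secMult (trivIrr O) ψ j := by
      intro j hj
      have := S.secMult_of_const (trivIrr O) ψ (δ := δ ψ) hsec hj
      omega
    have h1 : p - 1 ≤ ∑ j, S.secMult (trivIrr O) ψ j := by
      refine le_trans ?_ (Finset.sum_le_sum_of_subset (Finset.erase_subset (0 : ZMod p) _))
      have := Finset.card_nsmul_le_sum ((Finset.univ : Finset (ZMod p)).erase 0)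
        (fun j => S.secMult (trivIrr O) ψ j) 1 (fun j h => hj j (Finset.ne_of_mem_erase h))
      rwa [Finset.card_erase_of_mem (Finset.mem_univ _), Finset.card_univ, ZMod.card, smul_eq_mul,
        mul_one] at this
    have htot := S.charDegree_eq_sum ψ
    rw [← Finset.add_sum_erase _ _ (Finset.mem_univ (trivIrr O)),
      show charDegree ((trivIrr O : IrrCharacter O) : O → ℂ) = 1 from
        Nat.cast_injective (R := ℂ) (by rw [Blocks.charDegree_eq, trivIrr_apply, Nat.cast_one]),
      mul_one, hdeg] at htot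
    have hz : ∀ η ∈ (Finset.univ : Finset (IrrCharacter O)).erase (trivIrr O),
        (∑ j, S.secMult η ψ j) = 0 := by
      intro η hη
      have h2 := Finset.single_le_sum (f := fun η : IrrCharacter O =>
        (∑ j, S.secMult η ψ j) * charDegree (η : O → ℂ)) (fun _ _ => Nat.zero_le _) hη
      have h3 := Nat.le_mul_of_pos_right (∑ j, S.secMult η ψ j) (charDegree_pos η)
      omega
    have htot' : (∑ j, S.secMult (trivIrr O) ψ j) = p - 1 := by omega
    intro y
    have hy := S.section_eq_sum ψ (0 : ZMod p) y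
    rw [upow_zero, one_mul, Finset.sum_eq_single (trivIrr O)
      (fun η _ hη => by
        rw [S.secCoeff_zero_eq, hz η (Finset.mem_erase.2 ⟨hη, Finset.mem_univ _⟩), Nat.cast_zero,
          zero_mul])
      (fun h => absurd (Finset.mem_univ _) h), trivIrr_apply, mul_one, S.secCoeff_zero_eq,
      htot', ← hdeg, ← charDegree_natCast] at hy
    exact Subtype.ext (hfaith ψ hne _ hy)
  have hval : ∀ (φ : IrrCharacter G) (i : ZMod p),
      secCoeff u ((trivIrr O : IrrCharacter O) : O → ℂ) φ i = (φ : G → ℂ) (upow u i) := by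
    intro φ i
    haveI : Unique O := ⟨⟨1⟩, hO⟩
    rw [secCoeff, Fintype.sum_unique, trivIrr_apply, mul_one, Nat.card_unique, Nat.cast_one,
      inv_one, one_mul, show ((default : O) : G) = 1 from congrArg Subtype.val (hO default), mul_one]
  -- the centralizer of a nontrivial power of `u` has order `p`
  have hC : ∀ i : ZMod p, i ≠ 0 →
      Subgroup.centralizer ({upow u i} : Set G) = (P : Subgroup G) := by
    intro i hi
    have hne : upow u i ≠ 1 := fun h => hi ((upow_eq_one_iff S.orderOf_u i).1 h)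
    ext c
    constructor
    · intro hc
      have hcP : c ∈ Subgroup.centralizer ((P : Subgroup G) : Set G) := by
        refine Subgroup.mem_centralizer_iff.2 fun a ha => ?_
        obtain ⟨j, rfl⟩ := exists_upow_eq S.card_P (upow_mem S.mem i) hne ha
        exact ((show Commute (upow u i) c from
          (Subgroup.mem_centralizer_singleton_iff.1 hc).symm).pow_left _).eq
      obtain ⟨j, y, hy, rfl⟩ := S.dec c hcP
      rw [show y = 1 from congrArg Subtype.val (hO ⟨y, hy⟩), mul_one]
      exact pow_mem S.mem j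
    · intro hc
      obtain ⟨j, rfl⟩ := exists_upow_eq S.card_P S.mem S.ne_one hc
      refine Subgroup.mem_centralizer_singleton_iff.2 ?_
      rw [← upow_add S.pow_u, ← upow_add S.pow_u, add_comm]
  -- the exceptional characters
  let T : ZMod p → ℂ := fun z => ∑ x ∈ rootsSet p E, ZMod.stdAddChar (z * x)
  have hroots0 : ∀ x ∈ rootsSet p E, x ≠ 0 := by
    intro x hx h0
    rw [mem_rootsSet, h0, zero_pow hEpos.ne'] at hx
    exact zero_ne_one hx
  have hcR : (rootsSet p E).card = E := card_rootsSet hEpos D.prim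
  have hTsum : ∀ k : ZMod p, k ≠ 0 →
      ∑ i ∈ (Finset.univ : Finset (ZMod p)).erase 0, T (i * k) = -(E : ℂ) := by
    intro k hk
    simp only [T, mul_assoc]
    rw [Finset.sum_comm, Finset.sum_congr rfl fun x hx =>
      sum_units_stdAddChar (mul_ne_zero hk (hroots0 x hx)), Finset.sum_const, hcR, nsmul_eq_mul,
      mul_neg, mul_one]
  have hTsq : ∀ k : ZMod p, k ≠ 0 →
      ∑ i ∈ (Finset.univ : Finset (ZMod p)).erase 0, T (i * k) * conj (T (i * k)) =
        (p : ℂ) * E - (E : ℂ) * E := by
    intro k hk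
    have hall : ∑ i : ZMod p, T (i * k) * conj (T (i * k)) = (p : ℂ) * E := by
      have h1 : ∀ i : ZMod p, T (i * k) * conj (T (i * k)) = ∑ x ∈ rootsSet p E,
          ∑ y ∈ rootsSet p E, ZMod.stdAddChar (i * (k * (x - y))) := by
        intro i
        simp only [T, map_sum, Finset.sum_mul_sum]
        refine Finset.sum_congr rfl fun x _ => Finset.sum_congr rfl fun y _ => ?_
        rw [← AddChar.map_neg_eq_conj, ← AddChar.map_add_eq_mul]
        congr 1
        ring
      rw [Finset.sum_congr rfl fun i _ => h1 i, Finset.sum_comm,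
        Finset.sum_congr rfl fun x _ => Finset.sum_comm,
        Finset.sum_congr rfl fun x hx => Finset.sum_congr rfl fun y _ => sum_stdAddChar_mul (k * (x - y))]
      have h2 : ∀ x ∈ rootsSet p E,
          (∑ y ∈ rootsSet p E, if k * (x - y) = 0 then (p : ℂ) else 0) = p := by
        intro x hx
        rw [Finset.sum_eq_single x
          (fun y _ hy => if_neg (mul_ne_zero hk (sub_ne_zero.2 hy.symm)))
          (fun h => absurd hx h), sub_self, mul_zero, if_pos rfl]
      rw [Finset.sum_congr rfl h2, Finset.sum_const, hcR, nsmul_eq_mul, mul_comm]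
    rw [Finset.sum_erase_eq_sub (Finset.mem_univ 0), hall]
    simp [T, hcR]
  have hother : ∀ φ : IrrCharacter G, φ ∉ SX → ∃ (ε : ℤ) (k : ZMod p), k ≠ 0 ∧ (ε = 1 ∨ ε = -1) ∧
      (∀ i : ZMod p, i ≠ 0 → (φ : G → ℂ) (upow u i) = (ε : ℂ) * T (i * k)) ∧
      (E : ℤ) - p ≤ ε * charDegree (φ : G → ℂ) ∧
      (ε * charDegree (φ : G → ℂ) = (E : ℤ) - p → charDegree (φ : G → ℂ) = p - E) := by
    intro φ hφ
    have hd0 := charDegree_pos φ
    have hdp := hb φ
    obtain ⟨m, hm⟩ := sum_upow S φ
    rw [← Finset.add_sum_erase _ _ (Finset.mem_univ (0 : ZMod p)), upow_zero,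
      charDegree_natCast] at hm
    rcases hout φ hφ with h0 | ⟨-, ε, k, hk, hε, hf⟩
    · exfalso
      rw [Finset.sum_eq_zero (fun i hi => by rw [← hval, h0 i (Finset.ne_of_mem_erase hi)]),
        add_zero] at hm
      have : charDegree (φ : G → ℂ) = p * m := by exact_mod_cast hm
      rcases Nat.eq_zero_or_pos m with rfl | hm0
      · omega
      · have := Nat.le_mul_of_pos_right p hm0
        omega
    have hf' : ∀ i : ZMod p, i ≠ 0 → (φ : G → ℂ) (upow u i) = (ε : ℂ) * T (i * k) :=
      fun i hi => by rw [← hval, hf i hi]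
    rw [Finset.sum_congr rfl (fun i hi => hf' i (Finset.ne_of_mem_erase hi)), ← Finset.mul_sum,
      hTsum k hk] at hm
    have hm' : (charDegree (φ : G → ℂ) : ℤ) - ε * E = p * m := by
      have : (((charDegree (φ : G → ℂ) : ℤ) - ε * E : ℤ) : ℂ) = (((p * m : ℕ) : ℤ) : ℂ) := by
        push_cast
        linear_combination hm
      exact_mod_cast this
    refine ⟨ε, k, hk, hε, hf', ?_⟩
    rcases hε with rfl | rfl
    · exact ⟨by omega, fun h => by omega⟩
    · have hm1 : (m : ℤ) = 1 := by
        have h1 : 0 < (p : ℤ) * m := by omega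
        have h2 : (p : ℤ) * m < p * 2 := by omega
        have h3 : 0 < (m : ℤ) := by nlinarith
        have h4 : (m : ℤ) < 2 := lt_of_mul_lt_mul_left h2 (by positivity)
        omega
      rw [hm1] at hm'
      exact ⟨by omega, fun h => by omega⟩
  choose! ε k hk hε hf hlow heq using hother
  set SY := (Finset.univ : Finset (IrrCharacter G)) \ SX with hSY
  have hYnot : ∀ φ ∈ SY, φ ∉ SX := fun φ h => (Finset.mem_sdiff.1 h).2
  -- the number of exceptional characters
  have hcount : SY.card * E = p - 1 := by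
    have hcol : ∀ i ∈ (Finset.univ : Finset (ZMod p)).erase 0,
        (∑ φ ∈ SY, T (i * k φ) * conj (T (i * k φ))) + (E : ℂ) = p := by
      intro i hi
      have hi0 := Finset.ne_of_mem_erase hi
      have h := sum_irr_mul_conj (upow u i) (upow u i)
      rw [if_pos (IsConj.refl _), hC i hi0, hPc,
        ← Finset.sum_sdiff (Finset.subset_univ SX), ← hSY] at h
      rw [← h]
      congr 1
      · refine Finset.sum_congr rfl fun φ hφ => ?_
        rw [hf φ (hYnot φ hφ) i hi0, map_mul, map_intCast]
        rcases hε φ (hYnot φ hφ) with e | e <;> simp [e]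
      · rw [show E = SX.card from hcard.symm, Finset.card_eq_sum_ones, Nat.cast_sum]
        refine Finset.sum_congr rfl fun ψ hψ => ?_
        rw [← hval, (hX ψ hψ).2.2.2 i hi0, map_intCast, Nat.cast_one]
        rcases (hX ψ hψ).1 with e | e <;> simp [e]
    have hs := Finset.sum_congr rfl hcol
    rw [Finset.sum_add_distrib, Finset.sum_comm,
      Finset.sum_congr rfl (fun φ hφ => hTsq (k φ) (hk φ (hYnot φ hφ))), Finset.sum_const,
      Finset.sum_const, Finset.sum_const, nsmul_eq_mul, nsmul_eq_mul, nsmul_eq_mul,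
      Finset.card_erase_of_mem (Finset.mem_univ _), Finset.card_univ, ZMod.card] at hs
    have hne : ((p : ℂ) - E) ≠ 0 := by
      rw [sub_ne_zero]; exact_mod_cast (by omega : p ≠ E)
    have : ((SY.card * E : ℕ) : ℂ) = ((p - 1 : ℕ) : ℂ) := by
      refine mul_right_cancel₀ hne ?_
      push_cast
      linear_combination hs
    exact_mod_cast this
  -- orthogonality to the degrees
  have horth : (∑ φ ∈ SY, ε φ * (charDegree (φ : G → ℂ) : ℤ)) * E =
      ((p - 1 : ℕ) : ℤ) * (1 - ((E : ℤ) - 1) * ((p - 1 : ℕ) : ℤ)) := by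
    have hi : ∀ i ∈ (Finset.univ : Finset (ZMod p)).erase 0,
        (∑ φ ∈ SY, (ε φ : ℂ) * T (i * k φ) * (charDegree (φ : G → ℂ) : ℂ)) +
          (1 - ((E : ℂ) - 1) * ((p - 1 : ℕ) : ℂ)) = 0 := by
      intro i hi
      have hi0 := Finset.ne_of_mem_erase hi
      have h := sum_irr_mul_conj (upow u i) (1 : G)
      rw [if_neg (fun hc => hi0 ((upow_eq_one_iff S.orderOf_u i).1 (isConj_one_left.1 hc))),
        ← Finset.sum_sdiff (Finset.subset_univ SX), ← hSY] at h
      rw [← h]
      congr 1
      · exact Finset.sum_congr rfl fun φ hφ => by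
          rw [hf φ (hYnot φ hφ) i hi0, charDegree_natCast, map_natCast]
      · rw [← Finset.add_sum_erase _ _ htriv, trivIrr_apply, trivIrr_apply, map_one, one_mul,
          Finset.sum_congr rfl (fun (ψ : IrrCharacter G) hψ => show (ψ : G → ℂ) (upow u i) * conj ((ψ : G → ℂ) 1) =
              -((p - 1 : ℕ) : ℂ) by
            obtain ⟨hne, hψX⟩ := Finset.mem_erase.1 hψ
            obtain ⟨h1, h2⟩ := hneg ψ hψX hne
            rw [← hval, (hX ψ hψX).2.2.2 i hi0, charDegree_natCast, map_natCast, h1, h2]
            push_cast; ring),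
          Finset.sum_const, Finset.card_erase_of_mem htriv, hcard, nsmul_eq_mul,
          Nat.cast_sub (by omega : 1 ≤ E), Nat.cast_one]
        ring
    have hs := Finset.sum_congr rfl hi
    rw [Finset.sum_add_distrib, Finset.sum_comm, Finset.sum_congr rfl (fun φ hφ => by
        rw [← Finset.sum_mul, ← Finset.mul_sum, hTsum (k φ) (hk φ (hYnot φ hφ))]),
      Finset.sum_const, nsmul_eq_mul, Finset.card_erase_of_mem (Finset.mem_univ _), Finset.card_univ,
      ZMod.card, Finset.sum_const_zero] at hs
    have : (((∑ φ ∈ SY, ε φ * (charDegree (φ : G → ℂ) : ℤ)) * E : ℤ) : ℂ) =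
        ((((p - 1 : ℕ) : ℤ) * (1 - ((E : ℤ) - 1) * ((p - 1 : ℕ) : ℤ)) : ℤ) : ℂ) := by
      push_cast
      have hpush : ∑ φ ∈ SY, (ε φ : ℂ) * (-(E : ℂ)) * (charDegree (φ : G → ℂ) : ℂ) =
          -((∑ φ ∈ SY, (ε φ : ℂ) * (charDegree (φ : G → ℂ) : ℂ)) * (E : ℂ)) := by
        rw [Finset.sum_mul, ← Finset.sum_neg_distrib]
        exact Finset.sum_congr rfl fun φ _ => by ring
      rw [hpush] at hs
      linear_combination -hs
    exact_mod_cast this
  have hge : (SY.card : ℤ) * ((E : ℤ) - p) ≤ ∑ φ ∈ SY, ε φ * (charDegree (φ : G → ℂ) : ℤ) := by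
    rw [← nsmul_eq_mul]
    exact Finset.card_nsmul_le_sum _ _ _ fun φ hφ => hlow φ (hYnot φ hφ)
  have hcount' : (SY.card : ℤ) * E = ((p - 1 : ℕ) : ℤ) := by exact_mod_cast hcount
  have hP0 : (0 : ℤ) < ((p - 1 : ℕ) : ℤ) := by omega
  have hpz : ((p - 1 : ℕ) : ℤ) = p - 1 := by omega
  have hX' : (E : ℤ) - p ≤ 1 - ((E : ℤ) - 1) * ((p - 1 : ℕ) : ℤ) := by
    refine le_of_mul_le_mul_left ?_ hP0
    rw [← horth]
    calc ((p - 1 : ℕ) : ℤ) * ((E : ℤ) - p) = (SY.card : ℤ) * ((E : ℤ) - p) * E := by
          rw [← hcount']; ring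
      _ ≤ _ := mul_le_mul_of_nonneg_right hge (by positivity)
  have hEeq : E = 2 := by
    rw [hpz] at hX'
    by_contra hne
    have h3 : (3 : ℤ) ≤ E := by omega
    nlinarith
  have hdY : ∀ φ ∈ SY, charDegree (φ : G → ℂ) = p - 2 := by
    intro φ hφ
    have hsum : ∑ φ ∈ SY, (ε φ * (charDegree (φ : G → ℂ) : ℤ) - ((E : ℤ) - p)) = 0 := by
      rw [Finset.sum_sub_distrib, Finset.sum_const, nsmul_eq_mul]
      have hE0 : (E : ℤ) ≠ 0 := by omega
      refine (mul_eq_zero.1 (?_ : _ * (E : ℤ) = 0)).resolve_right hE0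
      rw [sub_mul, horth, hEeq, hpz]
      push_cast
      have := hcount'
      rw [hEeq, hpz] at this
      push_cast at this
      linear_combination ((p : ℤ) - 2) * this
    have := (Finset.sum_eq_zero_iff_of_nonneg (fun φ hφ => by
      have := hlow φ (hYnot φ hφ); omega)).1 hsum φ hφ
    have h := heq φ (hYnot φ hφ) (by omega)
    omega
  have hY0 : SY.Nonempty := by
    rw [← Finset.card_pos]
    rcases Nat.eq_zero_or_pos SY.card with h | h
    · rw [h, zero_mul] at hcount; omega
    · exact h
  obtain ⟨φ₀, hφ₀⟩ := hY0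
  have hdvd : p - 2 ∣ Nat.card G := by
    obtain ⟨n', -, hn', hn''⟩ := IsIrrCharacter.exists_degree_dvd φ₀.2
    rw [charDegree_natCast, hdY φ₀ hφ₀] at hn'
    rwa [Nat.cast_inj.1 hn']
  have hord : Nat.card G = SY.card * (p - 2) ^ 2 + (1 + (p - 1) ^ 2) := by
    refine Nat.cast_injective (R := ℂ) ?_
    rw [← sum_degree_sq, ← Finset.sum_sdiff (Finset.subset_univ SX), ← hSY,
      ← Finset.add_sum_erase _ _ htriv, trivIrr_apply,
      Finset.sum_congr rfl (fun (φ : IrrCharacter G) hφ => show (φ : G → ℂ) 1 ^ 2 = (((p - 2) ^ 2 : ℕ) : ℂ) by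
        rw [charDegree_natCast, hdY φ hφ, Nat.cast_pow]),
      Finset.sum_congr rfl (fun (ψ : IrrCharacter G) hψ => show (ψ : G → ℂ) 1 ^ 2 = (((p - 1) ^ 2 : ℕ) : ℂ) by
        rw [charDegree_natCast, (hneg ψ (Finset.mem_erase.1 hψ).2 (Finset.mem_erase.1 hψ).1).2,
          Nat.cast_pow]),
      Finset.sum_const, Finset.sum_const, Finset.card_erase_of_mem htriv, hcard, show n * e = 2 from hEeq]
    simp
  obtain ⟨q, rfl⟩ : ∃ q, p = q + 2 := ⟨p - 2, by omega⟩
  rw [show q + 2 - 2 = q by omega, show q + 2 - 1 = q + 1 by omega] at hord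
  rw [show q + 2 - 2 = q by omega, hord] at hdvd
  have h2 : q ∣ 2 := by
    have h1 : q ∣ 1 + (q + 1) ^ 2 :=
      (Nat.dvd_add_right (Dvd.dvd.mul_left (dvd_pow_self q two_ne_zero) _)).1 hdvd
    rw [show 1 + (q + 1) ^ 2 = 2 + q * (q + 2) by ring] at h1
    exact (Nat.dvd_add_left (dvd_mul_right q (q + 2))).1 h1
  have := Nat.le_of_dvd (by norm_num) h2
  have hq : q = 1 ∨ q = 2 := by omega
  rcases hq with rfl | rfl
  · omega
  · exact absurd hp.out (by norm_num)

/-- The simple case. -/
theorem sylow_normal_of_simple [Finite G] [IsSimpleGroup G]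
    (hna : ¬ ∀ a b : G, a * b = b * a)
    (hb : ∀ χ : IrrCharacter G, charDegree (χ : G → ℂ) < p)
    (hsub : ∀ H : Subgroup G, H ≠ ⊤ → ∀ R : Sylow p H, (R : Subgroup H).Normal)
    (P : Sylow p G) : (P : Subgroup G).Normal := by
  classical
  haveI := Fintype.ofFinite G
  haveI := Fintype.ofFinite (IrrCharacter G)
  by_cases hpd : p ∣ Nat.card G
  swap
  · have h1 : (P : Subgroup G) = ⊥ := by
      rw [← Subgroup.card_eq_one, P.card_eq_multiplicity, Nat.factorization_eq_zero_of_not_dvd hpd,
        pow_zero]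
    rw [h1]; infer_instance
  exfalso
  have hd2 : ∀ χ : IrrCharacter G, χ ≠ trivIrr G → 2 ≤ charDegree (χ : G → ℂ) := by
    intro χ hne
    by_contra hlt
    have h1 : (χ : G → ℂ) 1 = 1 := by
      have := charDegree_pos χ
      rw [charDegree_natCast, show charDegree (χ : G → ℂ) = 1 by omega, Nat.cast_one]
    refine hna fun a b => ?_
    have hall : ∀ g : G, (χ : G → ℂ) g = (χ : G → ℂ) 1 → g = 1 := fun g hg =>
      IsCharacter.eq_one_of_isSimpleGroup (irr_isCharacter χ)
        (IsIrrCharacter.exists_ne_apply_one χ.2 (fun h => hne (Subtype.ext h))) hg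
    obtain ⟨l, hl⟩ := IsCharacter.exists_hom_of_apply_one (irr_isCharacter χ) h1
    have hinj : Function.Injective l := by
      rw [injective_iff_map_eq_one]
      exact fun g hg => hall g (by simp [hl, hg])
    exact hinj (by rw [map_mul, map_mul, mul_comm])
  have hnt : ∃ χ : IrrCharacter G, χ ≠ trivIrr G := by
    by_contra hall
    push Not at hall
    refine hna ((comm_iff_forall_irr_one).2 fun χ => ?_)
    rw [hall χ, trivIrr_apply]
  have hp3 : 3 ≤ p := by
    obtain ⟨χ, hχ⟩ := hnt
    have := hd2 χ hχ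
    have := hb χ
    omega
  obtain ⟨χ₁, hχ₁, hχ₁d⟩ : ∃ χ : IrrCharacter G, χ ≠ trivIrr G ∧ charDegree (χ : G → ℂ) + 1 < p := by
    by_contra hall
    push Not at hall
    obtain ⟨x, hx⟩ := exists_prime_orderOf_dvd_card' p hpd
    have hx1 : ¬ IsConj x (1 : G) := fun h => by
      rw [isConj_one_left.1 h, orderOf_one] at hx; omega
    have h := sum_irr_mul_conj x (1 : G)
    rw [if_neg hx1, ← Finset.add_sum_erase _ _ (Finset.mem_univ (trivIrr G)), trivIrr_apply,
      trivIrr_apply, map_one, one_mul, Finset.sum_congr rfl (fun (χ : IrrCharacter G) hχ => show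
        (χ : G → ℂ) x * conj ((χ : G → ℂ) 1) = (χ : G → ℂ) x * ((p - 1 : ℕ) : ℂ) by
          have := hall χ (Finset.ne_of_mem_erase hχ)
          have := hb χ
          rw [charDegree_natCast, map_natCast, show charDegree (χ : G → ℂ) = p - 1 by omega]),
      ← Finset.sum_mul] at h
    set z := ∑ χ ∈ (Finset.univ : Finset (IrrCharacter G)).erase (trivIrr G), (χ : G → ℂ) x
    have hz : IsIntegral ℤ z :=
      IsIntegral.sum _ fun χ _ => IsCharacter.isIntegral (irr_isCharacter χ) x
    have hne : ((p - 1 : ℕ) : ℂ) ≠ 0 := by exact_mod_cast (by omega : p - 1 ≠ 0)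
    have he : ((1 : ℕ) : ℂ) / ((p - 1 : ℕ) : ℂ) = -z := by
      rw [div_eq_iff hne, Nat.cast_one]
      linear_combination h
    have := Nat.le_of_dvd one_pos (dvd_of_isIntegral_div (by omega) (he ▸ hz.neg))
    omega
  have hsq : ¬ p ^ 2 ∣ Nat.card G := by
    intro hsq
    obtain ⟨n, ρ, hirr, hρ⟩ := χ₁.2
    haveI := hirr
    have hn : charDegree (χ₁ : G → ℂ) = n := by
      refine Nat.cast_injective (R := ℂ) ?_
      rw [← charDegree_natCast, ← hρ, ρ.char_one, Module.finrank_fin_fun]
    have hinj := rep_injective_of_isSimpleGroup ρ (fun h => hχ₁ (Subtype.ext (hρ ▸ h)))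
    have hP : (P : Subgroup G).Normal := normal_sylow_of_small_degree rfl n ρ hinj
      (Or.inr ⟨by omega, fun K hK => hsub K (fun h => hK (by rw [h, Subgroup.card_top]; exact hsq))⟩) P
    rcases hP.eq_bot_or_eq_top with h | h
    · have h1 := P.pow_dvd_card_of_pow_dvd_card hsq
      rw [h, Subgroup.card_bot, Nat.dvd_one, Nat.pow_eq_one] at h1
      omega
    · refine hna ?_
      have hpg : IsPGroup p G := fun g => by
        obtain ⟨k, hk⟩ := P.2 ⟨g, h ▸ Subgroup.mem_top g⟩
        exact ⟨k, congrArg Subtype.val hk⟩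
      haveI := hpg.isNilpotent
      exact fun a b => IsSimpleGroup.comm_iff_isSolvable.mpr inferInstance a b
  exact false_of_card_prime hna (by omega) hd2 hb χ₁ hχ₁ hχ₁d P hpd hsq

/-- Degrees of a subgroup are bounded by degrees of the group. -/
theorem exists_ge_degree [Finite G] (H : Subgroup G) (θ : IrrCharacter H) :
    ∃ χ : IrrCharacter G, charDegree (θ : H → ℂ) ≤ charDegree (χ : G → ℂ) := by
  classical
  haveI := Fintype.ofFinite G
  haveI := Fintype.ofFinite H
  have hne : indFun H (θ : H → ℂ) ≠ 0 := by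
    intro h
    have h1 := congrFun h 1
    rw [indFun_one, Pi.zero_apply, charDegree_natCast] at h1
    exact mul_ne_zero (Nat.cast_ne_zero.mpr Subgroup.index_ne_zero_of_finite)
      (Nat.cast_ne_zero.mpr (charDegree_pos θ).ne') h1
  obtain ⟨χ, hχ⟩ := IsCharacter.exists_constituent
    (IsCharacter.indFun H (irr_isCharacter θ)) hne
  have hres : classInner (fun n : H => (χ : G → ℂ) n) (θ : H → ℂ) ≠ 0 := by
    intro h0
    apply hχ
    rw [classInner_indFun H _ (irr_isClassFunction χ), ← classInner_conj_symm, h0, map_zero]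
  obtain ⟨ψ, hψ, he⟩ := IsCharacter.exists_add_of_classInner_ne_zero
    (IsCharacter.restrict (irr_isCharacter χ) H) θ.2 hres
  obtain ⟨j, hj⟩ := IsCharacter.exists_apply_one hψ
  refine ⟨χ, ?_⟩
  have h := congrFun he 1
  simp only [Pi.add_apply, hj, OneMemClass.coe_one, charDegree_natCast] at h
  have h' : charDegree (χ : G → ℂ) = charDegree (θ : H → ℂ) + j := by exact_mod_cast h
  omega

theorem normal_abelian_sylow : ∀ {m : ℕ} {G : Type u} [Group G] [Finite G] (_ : Nat.card G = m),
    (∀ χ : IrrCharacter G, charDegree (χ : G → ℂ) < p) → ∀ P : Sylow p G,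
      (P : Subgroup G).Normal ∧ ∀ x ∈ (P : Subgroup G), ∀ y ∈ (P : Subgroup G), x * y = y * x := by
  intro m
  induction m using Nat.strong_induction_on with
  | _ m ih =>
    intro G _ _ hm hb P
    classical
    haveI := Fintype.ofFinite G
    -- the Sylow subgroups are abelian
    have hab : ∀ x ∈ (P : Subgroup G), ∀ y ∈ (P : Subgroup G), x * y = y * x := by
      have hP : ∀ a b : (P : Subgroup G), a * b = b * a := by
        rw [comm_iff_forall_irr_one]
        intro θ
        obtain ⟨χ, hχ⟩ := exists_ge_degree (P : Subgroup G) θ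
        obtain ⟨n, hn0, hn, hdvd⟩ := IsIrrCharacter.exists_degree_dvd θ.2
        rw [P.card_eq_multiplicity, Nat.dvd_prime_pow hp.out] at hdvd
        obtain ⟨j, -, rfl⟩ := hdvd
        have hlt := lt_of_le_of_lt hχ (hb χ)
        rw [charDegree_natCast] at hn
        rw [Nat.cast_inj.1 hn] at hlt
        rcases j with _ | j
        · rw [charDegree_natCast, Nat.cast_inj.1 hn, pow_zero, Nat.cast_one]
        · have := Nat.le_self_pow (show j + 1 ≠ 0 by omega) p
          omega
      exact fun x hx y hy => congrArg Subtype.val (hP ⟨x, hx⟩ ⟨y, hy⟩)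
    refine ⟨?_, hab⟩
    have hsub : ∀ H : Subgroup G, H ≠ ⊤ → ∀ R : Sylow p H, (R : Subgroup H).Normal :=
      fun H hH R => (ih (Nat.card H) (hm ▸ lt_of_le_of_ne (Subgroup.card_le_card_group H)
        (fun he => hH (Subgroup.eq_top_of_card_eq H he))) rfl (fun θ => by
          obtain ⟨χ, hχ⟩ := exists_ge_degree H θ
          exact lt_of_le_of_lt hχ (hb χ)) R).1
    by_cases hcomm : ∀ a b : G, a * b = b * a
    · exact ⟨fun x hx g => by rwa [hcomm g x, mul_inv_cancel_right]⟩
    by_cases hs : ∃ N : Subgroup G, N.Normal ∧ N ≠ ⊥ ∧ N ≠ ⊤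
    · obtain ⟨N, hN, hNb, hNt⟩ := hs
      obtain ⟨Q⟩ : Nonempty (Sylow p N) := inferInstance
      haveI := hsub N hNt Q
      haveI : (Q : Subgroup N).Characteristic := Q.characteristic_of_normal ‹_›
      obtain ⟨R⟩ : Nonempty (Sylow p (G ⧸ N)) := inferInstance
      have hR : (R : Subgroup (G ⧸ N)).Normal := by
        refine (ih (Nat.card (G ⧸ N)) ?_ rfl (fun χ => ?_) R).1
        · rw [← hm, Subgroup.card_eq_card_quotient_mul_card_subgroup N]
          exact lt_mul_of_one_lt_right Nat.card_pos (N.one_lt_card_iff_ne_bot.mpr hNb)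
        · have := hb ⟨_, IsIrrCharacter.comp_surjective χ.2 (QuotientGroup.mk' N)
            (QuotientGroup.mk'_surjective N)⟩
          simpa [Cfsg.charDegree] using this
      haveI := hR
      have hsolv : IsPSolvable p G := by
        refine ⟨4, ![⊥, (Q : Subgroup N).map N.subtype, N,
          (R : Subgroup (G ⧸ N)).comap (QuotientGroup.mk' N), ⊤], rfl, rfl, ?_, ?_, ?_⟩
        · refine Fin.monotone_iff_le_succ.2 fun i => ?_
          fin_cases i
          · exact bot_le
          · exact Subgroup.map_subtype_le _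
          · intro x (hx : x ∈ N)
            refine Subgroup.mem_comap.2 ?_
            rw [show QuotientGroup.mk' N x = 1 from (QuotientGroup.eq_one_iff x).2 hx]
            exact one_mem _
          · exact le_top
        · intro i; fin_cases i
          · exact inferInstanceAs (⊥ : Subgroup G).Normal
          · exact inferInstanceAs ((Q : Subgroup N).map N.subtype).Normal
          · exact hN
          · exact hR.comap _
          · exact inferInstanceAs (⊤ : Subgroup G).Normal
        · intro i; fin_cases i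
          · refine Or.inl ?_
            obtain ⟨j, hj⟩ := Q.isPGroup'.exists_card_eq
            refine ⟨j, ?_⟩
            show (⊥ : Subgroup G).relIndex ((Q : Subgroup N).map N.subtype) = _
            rw [Subgroup.relIndex_bot_left, Subgroup.card_map_of_injective N.subtype_injective, hj]
          · refine Or.inr ?_
            show (((Q : Subgroup N).map N.subtype).relIndex N).Coprime p
            rw [Subgroup.relIndex, ← Subgroup.comap_subtype,
              Subgroup.comap_map_eq_self_of_injective N.subtype_injective]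
            exact (hp.out.coprime_iff_not_dvd.2 Q.not_dvd_index).symm
          · refine Or.inl ?_
            obtain ⟨j, hj⟩ := R.isPGroup'.exists_card_eq
            refine ⟨j, ?_⟩
            show N.relIndex ((R : Subgroup (G ⧸ N)).comap (QuotientGroup.mk' N)) = _
            rw [show N.relIndex ((R : Subgroup (G ⧸ N)).comap (QuotientGroup.mk' N)) =
                ((⊥ : Subgroup (G ⧸ N)).comap (QuotientGroup.mk' N)).relIndex
                  ((R : Subgroup (G ⧸ N)).comap (QuotientGroup.mk' N)) by
              rw [MonoidHom.comap_bot, QuotientGroup.ker_mk'],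
              Subgroup.relIndex_comap, Subgroup.map_comap_eq_self_of_surjective
              (QuotientGroup.mk'_surjective N), Subgroup.relIndex_bot_left, hj]
          · refine Or.inr ?_
            show (((R : Subgroup (G ⧸ N)).comap (QuotientGroup.mk' N)).relIndex ⊤).Coprime p
            rw [Subgroup.relIndex_top_right,
              Subgroup.index_comap_of_surjective _ (QuotientGroup.mk'_surjective N)]
            exact (hp.out.coprime_iff_not_dvd.2 R.not_dvd_index).symm
      refine (normal_abelian_sylow_of_degrees rfl hsolv (fun χ h => ?_) P).1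
      have := Nat.le_of_dvd (charDegree_pos χ) h
      have := hb χ
      omega
    · push Not at hs
      haveI : Nontrivial G := by
        by_contra h
        rw [not_nontrivial_iff_subsingleton] at h
        exact hcomm fun a b => Subsingleton.elim _ _
      haveI : IsSimpleGroup G := ⟨fun N hN => by
        by_cases h : N = ⊥
        · exact Or.inl h
        · exact Or.inr (hs N hN h)⟩
      exact sylow_normal_of_simple hcomm hb hsub P

end SmallDegreePrime

end Cfsg.Agent.Lib.Characters
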