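import Cfsg.Agent.Lib.Characters.Perm
import Cfsg.Agent.Lib.Characters.InducedMore
import Cfsg.Agent.S0870
import Mathlib.GroupTheory.Perm.Cycle.Type
import Mathlib.GroupTheory.Sylow
import Mathlib.FieldTheory.Finite.Basic

/-!
# Quasi-elementary subgroups and Solomon's induction theorem
-/

namespace Cfsg.Agent.Lib.Characters

set_option linter.unusedSectionVars false
set_option linter.unusedSimpArgs false
set_option linter.style.haveILetI false

universe u

variable {G : Type u} [Group G]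

/-- `H` is `p`-quasi-elementary: a cyclic normal `p'`-subgroup with `p`-power index. -/
def IsQuasiElem (p : ℕ) (H : Subgroup G) : Prop :=
  ∃ C : Subgroup G, C ≤ H ∧ H ≤ Subgroup.normalizer (C : Set G) ∧ IsCyclic C ∧
    Nat.Coprime (Nat.card C) p ∧ ∃ k : ℕ, C.relIndex H = p ^ k

theorem IsQuasiElem.subgroup [Finite G] {p : ℕ} (hp : p.Prime) {H U : Subgroup G}
    (h : IsQuasiElem p H) (hUH : U ≤ H) : IsQuasiElem p U := by
  obtain ⟨C, hCH, hHN, hcyc, hcop, k, hk⟩ := h
  refine ⟨C ⊓ U, inf_le_right, fun u hu => ?_, Subgroup.isCyclic_of_le inf_le_left,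
    Nat.Coprime.coprime_dvd_left (Subgroup.card_dvd_of_le inf_le_left) hcop, ?_⟩
  · have hC := Subgroup.mem_normalizer_iff.mp (hHN (hUH hu))
    refine Subgroup.mem_normalizer_iff.mpr fun x => ?_
    simp only [Subgroup.mem_inf]
    rw [← hC x, U.mul_mem_cancel_right (U.inv_mem hu), U.mul_mem_cancel_left hu]
  · haveI : (C.subgroupOf H).Normal := Subgroup.normal_subgroupOf_of_le_normalizer hHN
    have hdvd : C.relIndex U ∣ p ^ k := by
      rw [← hk, ← Subgroup.relIndex_subgroupOf hUH]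
      exact Subgroup.relIndex_dvd_index_of_normal _ _
    obtain ⟨j, -, hj⟩ := (Nat.dvd_prime_pow hp).mp hdvd
    exact ⟨j, (Subgroup.inf_relIndex_right C U).trans hj⟩

/-- A `p`-quasi-elementary subgroup with `p ∤ 1_H^G(x)`. -/
theorem exists_quasiElem_not_dvd [Fintype G] (x : G) {p : ℕ} (hp : p.Prime) :
    ∃ H : Subgroup G, IsQuasiElem p H ∧
      ∃ n : ℕ, Cfsg.indFun H (fun _ => 1) x = (n : ℂ) ∧ ¬ p ∣ n := by
  classical
  haveI := Fact.mk hp
  obtain ⟨e, m, hm, ho⟩ := Nat.exists_eq_pow_mul_and_not_dvd (orderOf_pos x).ne' p hp.ne_one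
  set y := x ^ p ^ e with hy
  have hoy : orderOf y = m := by
    rw [hy, orderOf_pow_of_dvd (pow_ne_zero _ hp.ne_zero) (ho ▸ dvd_mul_right _ _), ho,
      Nat.mul_div_cancel_left _ (pow_pos hp.pos _)]
  set C := Subgroup.zpowers y with hC
  have hcardC : Nat.card C = m := by rw [hC, Nat.card_zpowers, hoy]
  set N := Subgroup.normalizer (C : Set G) with hN
  have hxy : Commute x y := (Commute.refl x).pow_right _
  have hxc : ∀ c ∈ C, x * c * x⁻¹ = c := by
    intro c hc
    obtain ⟨j, rfl⟩ := Subgroup.mem_zpowers_iff.mp hc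
    rw [(hxy.zpow_right j).eq, mul_inv_cancel_right]
  have hxN : x ∈ N := by
    refine Subgroup.mem_normalizer_iff.mpr fun c => ⟨fun hc => by rw [hxc c hc]; exact hc, fun h => ?_⟩
    have h2 := hxc _ h
    rw [mul_left_inj, mul_right_inj] at h2
    exact h2 ▸ h
  have hCN : C ≤ N := Subgroup.le_normalizer
  let C' := C.subgroupOf N
  haveI : C'.Normal := Subgroup.normal_subgroupOf_of_le_normalizer le_rfl
  let S : Sylow p (N ⧸ C') := default
  let H' := (S : Subgroup (N ⧸ C')).comap (QuotientGroup.mk' C')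
  let H := H'.map N.subtype
  have hHN : H ≤ N := Subgroup.map_subtype_le _
  have hH' : H.subgroupOf N = H' := Subgroup.comap_map_eq_self_of_injective N.subtype_injective H'
  have hCH' : C' ≤ H' := fun c hc => by
    show QuotientGroup.mk' C' c ∈ (S : Subgroup (N ⧸ C'))
    rw [show QuotientGroup.mk' C' c = 1 from (QuotientGroup.eq_one_iff c).mpr hc]
    exact one_mem _
  have hCH : C ≤ H := fun c hc => ⟨⟨c, hCN hc⟩, hCH' (Subgroup.mem_subgroupOf.mpr hc), rfl⟩
  obtain ⟨k, hk⟩ := (IsPGroup.iff_card).mp S.2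
  have hrel : C.relIndex H = p ^ k := by
    rw [← Subgroup.relIndex_subgroupOf hHN, hH']
    have h1 := Subgroup.relIndex_mul_index hCH'
    rw [Subgroup.index_comap_of_surjective _ (QuotientGroup.mk'_surjective C'),
      Subgroup.index_eq_card C', ← Subgroup.card_mul_index (S : Subgroup (N ⧸ C')), hk] at h1
    exact Nat.eq_of_mul_eq_mul_right (Nat.pos_of_ne_zero Subgroup.index_ne_zero_of_finite) h1
  refine ⟨H, ⟨C, hCH, hHN, inferInstance,
    hcardC ▸ (hp.coprime_iff_not_dvd.mpr hm).symm, k, hrel⟩, ?_⟩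
  have hperm := congrFun (permChar_eq_indFun (G ⧸ H) ((1 : G) : G ⧸ H) (G := G)) x
  rw [MulAction.stabilizer_quotient] at hperm
  refine ⟨_, hperm.symm, ?_⟩
  -- the fixed cosets lie in `N / H`
  let Y := {q : G ⧸ H // ∃ g ∈ N, ((g : G) : G ⧸ H) = q}
  haveI := Fintype.ofFinite Y
  have hcardY : Nat.card Y = H'.index := by
    refine (Nat.card_eq_of_bijective (fun q : N ⧸ H' => Quotient.liftOn' q
      (fun g : N => (⟨((g : G) : G ⧸ H), g, g.2, rfl⟩ : Y)) (fun a b hab => Subtype.ext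
        (QuotientGroup.eq.mpr ⟨a⁻¹ * b, QuotientGroup.leftRel_apply.mp hab, rfl⟩))) ⟨?_, ?_⟩).symm
    · intro a b
      induction a using QuotientGroup.induction_on with
      | _ a =>
      induction b using QuotientGroup.induction_on with
      | _ b =>
      intro h
      obtain ⟨c, hc, hc'⟩ := QuotientGroup.eq.mp (congrArg Subtype.val h)
      refine QuotientGroup.eq.mpr ?_
      rwa [show a⁻¹ * b = c from Subtype.ext (by simpa using hc'.symm)]
    · rintro ⟨_, g, hg, rfl⟩
      exact ⟨((⟨g, hg⟩ : N) : N ⧸ H'), rfl⟩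
  have hfixY : ∀ q : G ⧸ H, x • q = q → ∃ g ∈ N, ((g : G) : G ⧸ H) = q := by
    intro q hq
    obtain ⟨g, rfl⟩ := QuotientGroup.mk_surjective q
    refine ⟨g, ?_, rfl⟩
    rw [MulAction.Quotient.smul_coe, QuotientGroup.eq, smul_eq_mul] at hq
    have h1 : g⁻¹ * x * g ∈ H := by
      have := H.inv_mem hq
      simpa [mul_assoc] using this
    have h2 : g⁻¹ * y * g ∈ H := by
      have := H.pow_mem h1 (p ^ e)
      rwa [show (g⁻¹ * x * g) ^ p ^ e = g⁻¹ * y * g by
        have := conj_pow (a := g⁻¹) (b := x) (i := p ^ e)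
        rw [inv_inv] at this
        exact this] at this
    obtain ⟨w, hw, hwy⟩ := h2
    have hwy' : (w : G) = g⁻¹ * y * g := hwy
    have hwC : w ∈ C' := by
      have ho1 : orderOf (QuotientGroup.mk' C' w) ∣ m := by
        refine (orderOf_map_dvd _ _).trans ?_
        rw [← Subgroup.orderOf_coe, hwy',
          show orderOf (g⁻¹ * y * g) = m by
            rw [← hoy]
            simpa using (MulAut.conj g⁻¹).orderOf_eq y]
      have ho2 : orderOf (QuotientGroup.mk' C' w) ∣ p ^ k := by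
        rw [← hk]
        exact Subgroup.orderOf_dvd_natCard _ hw
      refine (QuotientGroup.eq_one_iff w).mp (orderOf_eq_one_iff.mp ?_)
      exact Nat.eq_one_of_dvd_coprimes
        (((hp.coprime_iff_not_dvd.mpr hm).symm).pow_right k) ho1 ho2
    have hconj : ∀ c ∈ C, g⁻¹ * c * g ∈ C := by
      intro c hc
      obtain ⟨j, rfl⟩ := Subgroup.mem_zpowers_iff.mp hc
      have := C.zpow_mem (Subgroup.mem_subgroupOf.mp hwC) j
      rwa [hwy', show (g⁻¹ * y * g) ^ j = g⁻¹ * y ^ j * g by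
        have := conj_zpow (a := g⁻¹) (b := y) (i := j)
        rw [inv_inv] at this
        exact this] at this
    have hgN : g⁻¹ ∈ N := by
      refine Subgroup.mem_normalizer_iff.mpr fun c => ⟨fun hc => by simpa using hconj c hc, fun h => ?_⟩
      have hinj : Function.Injective (fun c : C => (⟨g⁻¹ * c * g, hconj c c.2⟩ : C)) :=
        fun a b hab => Subtype.ext (by simpa using congrArg Subtype.val hab)
      obtain ⟨⟨d, hd⟩, hdc⟩ := Finite.surjective_of_injective hinj ⟨_, by simpa using h⟩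
      have : d = c := by simpa using congrArg Subtype.val hdc
      exact this ▸ hd
    simpa using N.inv_mem hgN
  have hxY : ∀ q : Y, ∃ g ∈ N, ((g : G) : G ⧸ H) = x • (q : G ⧸ H) := by
    rintro ⟨_, g, hg, rfl⟩
    exact ⟨x * g, N.mul_mem hxN hg, rfl⟩
  let f : Function.End Y := fun q => ⟨x • (q : G ⧸ H), hxY q⟩
  have hfpow : ∀ i : ℕ, ∀ q : Y, ((f ^ i) q : Y).1 = x ^ i • (q : G ⧸ H) := by
    intro i
    induction i with
    | zero => intro q; rw [pow_zero, pow_zero, one_smul]; rfl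
    | succ i ih =>
      intro q
      rw [pow_succ, pow_succ, mul_smul]
      exact ih (f q)
  have hf : f ^ p ^ e = 1 := by
    funext q
    apply Subtype.ext
    rw [hfpow]
    obtain ⟨_, g, hg, rfl⟩ := q
    show y • ((g : G) : G ⧸ H) = ((g : G) : G ⧸ H)
    rw [MulAction.Quotient.smul_coe, QuotientGroup.eq, smul_eq_mul]
    refine hCH ?_
    have := (Subgroup.mem_normalizer_iff.mp (N.inv_mem hg) y⁻¹).mp
      (C.inv_mem (Subgroup.mem_zpowers y))
    simpa [mul_assoc] using this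
  have hmod := Equiv.Perm.card_fixedPoints_modEq hf
  have hfix : Nat.card (MulAction.fixedBy (G ⧸ H) x) = Fintype.card f.fixedPoints := by
    rw [← Nat.card_eq_fintype_card]
    exact Nat.card_congr
      { toFun := fun q => ⟨⟨q.1, hfixY q.1 q.2⟩, Subtype.ext q.2⟩
        invFun := fun q => ⟨q.1.1, congrArg Subtype.val q.2⟩
        left_inv := fun q => rfl
        right_inv := fun q => rfl }
  rw [hfix, ← Nat.modEq_zero_iff_dvd]
  intro h0
  have h1 := Nat.modEq_zero_iff_dvd.mp (hmod.trans h0)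
  rw [← Nat.card_eq_fintype_card, hcardY,
    Subgroup.index_comap_of_surjective _ (QuotientGroup.mk'_surjective C')] at h1
  exact S.not_dvd_index h1

/-- Solomon's induction theorem, local form. -/
theorem solomon [Fintype G] {p : ℕ} (hp : p.Prime) :
    ∃ (m : ℤ) (a : Subgroup G → ℤ), ¬ (p : ℤ) ∣ m ∧ (∀ H, a H ≠ 0 → IsQuasiElem p H) ∧
      (fun _ : G => (m : ℂ)) =
        ∑ H : Subgroup G, (a H : ℂ) • Cfsg.indFun H (fun _ => 1) := by
  classical
  haveI := Fact.mk hp
  let R : Set (G → ℂ) := {f | ∃ a : Subgroup G → ℤ, (∀ H, a H ≠ 0 → IsQuasiElem p H) ∧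
    f = ∑ H : Subgroup G, (a H : ℂ) • Cfsg.indFun H (fun _ => 1)}
  have hR0 : (0 : G → ℂ) ∈ R := ⟨0, fun H h => absurd rfl h, by simp⟩
  have hRadd : ∀ f g, f ∈ R → g ∈ R → f + g ∈ R := by
    rintro f g ⟨a, ha, rfl⟩ ⟨b, hb, rfl⟩
    refine ⟨a + b, fun H h => ?_, ?_⟩
    · by_cases h1 : a H = 0
      · exact hb H (by simpa [h1] using h)
      · exact ha H h1
    · rw [← Finset.sum_add_distrib]
      exact Finset.sum_congr rfl fun H _ => by simp [add_smul]
  have hRsmul : ∀ (c : ℤ) f, f ∈ R → (c : ℂ) • f ∈ R := by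
    rintro c f ⟨a, ha, rfl⟩
    refine ⟨c • a, fun H h => ha H (fun h0 => h (by simp [h0])), ?_⟩
    rw [Finset.smul_sum]
    exact Finset.sum_congr rfl fun H _ => by simp [smul_smul]
  have hRsum : ∀ {ι : Type u} (s : Finset ι) (f : ι → G → ℂ), (∀ i ∈ s, f i ∈ R) →
      ∑ i ∈ s, f i ∈ R := fun s f h => Finset.sum_induction f (· ∈ R) hRadd hR0 h
  have hRgen : ∀ H : Subgroup G, IsQuasiElem p H → Cfsg.indFun H (fun _ => 1) ∈ R := by
    intro H hH
    refine ⟨Pi.single H 1, fun U hU => ?_, ?_⟩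
    · by_cases h : U = H
      · exact h ▸ hH
      · exact absurd (Pi.single_eq_of_ne h _) hU
    · rw [Finset.sum_eq_single H (fun U _ h => by rw [Pi.single_eq_of_ne h]; simp) (by simp)]
      simp
  have hRmul : ∀ f g, f ∈ R → g ∈ R → f * g ∈ R := by
    rintro f g ⟨a, ha, rfl⟩ ⟨b, -, rfl⟩
    rw [Finset.sum_mul]
    refine hRsum _ _ fun H _ => ?_
    by_cases ha0 : a H = 0
    · simp [ha0, hR0]
    rw [smul_mul_assoc, Finset.mul_sum]
    refine hRsmul _ _ (hRsum _ _ fun K _ => ?_)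
    rw [mul_smul_comm]
    refine hRsmul _ _ ?_
    obtain ⟨c, hc, heq⟩ := Cfsg.Agent.S0870.result H K
    rw [heq]
    refine hRsum _ _ fun U _ => ?_
    by_cases hU : c U = 0
    · simp [hU, hR0]
    · have := hRsmul (c U : ℤ) _ (hRgen U ((ha H ha0).subgroup hp (hc U hU)))
      simpa using this
  have hint : ∀ f ∈ R, ∀ y, ∃ z : ℤ, f y = z := by
    rintro f ⟨a, ha, rfl⟩ y
    have hH : ∀ H : Subgroup G, ∃ n : ℕ, Cfsg.indFun H (fun _ => (1 : ℂ)) y = n := by
      intro H
      have h := congrFun (permChar_eq_indFun (G ⧸ H) ((1 : G) : G ⧸ H) (G := G)) y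
      rw [MulAction.stabilizer_quotient] at h
      exact ⟨_, h.symm⟩
    choose n hn using hH
    exact ⟨∑ H, a H * n H, by simp [Finset.sum_apply, hn]⟩
  -- a function in `R` congruent to `1` everywhere
  have hcover : ∀ s : Finset G, ∃ g ∈ R, ∀ y ∈ s, ∃ z : ℤ, g y = z ∧ (p : ℤ) ∣ z - 1 := by
    intro s
    induction s using Finset.induction_on with
    | empty => exact ⟨0, hR0, by simp⟩
    | insert x s _ ih =>
      obtain ⟨g, hg, hgs⟩ := ih
      obtain ⟨H, hH, n, hn, hpn⟩ := exists_quasiElem_not_dvd x hp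
      set h := Cfsg.indFun H (fun _ => (1 : ℂ)) ^ (p - 1) with hh
      have hpow : ∀ i, Cfsg.indFun H (fun _ => (1 : ℂ)) ^ (i + 1) ∈ R := by
        intro i
        induction i with
        | zero => rw [pow_one]; exact hRgen H hH
        | succ i ih => rw [pow_succ]; exact hRmul _ _ ih (hRgen H hH)
      have hhR : h ∈ R := by
        have := hpow (p - 1 - 1)
        rwa [Nat.sub_add_cancel (by have := hp.two_le; omega)] at this
      refine ⟨g + h + ((-1 : ℤ) : ℂ) • (g * h),
        hRadd _ _ (hRadd _ _ hg hhR) (hRsmul _ _ (hRmul _ _ hg hhR)), fun y hy => ?_⟩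
      obtain ⟨a, ha⟩ := hint g hg y
      obtain ⟨b, hb⟩ := hint h hhR y
      refine ⟨a + b - a * b, by simp [ha, hb, sub_eq_add_neg], ?_⟩
      rw [show a + b - a * b - 1 = -((a - 1) * (b - 1)) by ring, dvd_neg]
      rcases Finset.mem_insert.mp hy with rfl | hy
      · refine Dvd.dvd.mul_left ?_ _
        have hb' : b = (n : ℤ) ^ (p - 1) := by
          have : (b : ℂ) = (((n : ℤ) ^ (p - 1) : ℤ) : ℂ) := by
            rw [← hb, hh, Pi.pow_apply, hn]; simp
          exact_mod_cast this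
        rw [← ZMod.intCast_eq_intCast_iff_dvd_sub, hb']
        have hn0 : (n : ZMod p) ≠ 0 := by rwa [Ne, ZMod.natCast_eq_zero_iff]
        push_cast
        exact (ZMod.pow_card_sub_one_eq_one hn0).symm
      · obtain ⟨z, hz, hdvd⟩ := hgs y hy
        refine Dvd.dvd.mul_right ?_ _
        obtain rfl : a = z := by exact_mod_cast ha.symm.trans hz
        exact hdvd
  obtain ⟨g, hg, hgv⟩ := hcover Finset.univ
  choose v hv hvp using fun y => hgv y (Finset.mem_univ y)
  -- `∏ (g - v) = 0`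
  have hprod : ∀ s : Finset G, (∏ y ∈ s, (g - fun _ => (v y : ℂ))) -
      (fun _ => ((∏ y ∈ s, -v y : ℤ) : ℂ)) ∈ R := by
    intro s
    induction s using Finset.induction_on with
    | empty =>
      simp only [Finset.prod_empty, Int.cast_one]
      rw [show (fun _ : G => (1 : ℂ)) = 1 from rfl, sub_self]
      exact hR0
    | insert y s hy ih =>
      rw [Finset.prod_insert hy, Finset.prod_insert hy]
      set P := ∏ y ∈ s, (g - fun _ => (v y : ℂ))
      set c := ∏ y ∈ s, -v y
      have : (g - fun _ => (v y : ℂ)) * P - (fun _ => ((-v y * c : ℤ) : ℂ)) =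
          g * (P - fun _ => (c : ℂ)) + (c : ℂ) • g + ((-v y : ℤ) : ℂ) • (P - fun _ => (c : ℂ)) := by
        funext z
        simp
        ring
      rw [this]
      exact hRadd _ _ (hRadd _ _ (hRmul _ _ hg ih) (hRsmul _ _ hg)) (hRsmul _ _ ih)
  have hzero : ∏ y ∈ (Finset.univ : Finset G), (g - fun _ => (v y : ℂ)) = 0 := by
    funext z
    rw [Finset.prod_apply, Pi.zero_apply]
    exact Finset.prod_eq_zero (Finset.mem_univ z) (by simp [hv z])
  obtain ⟨a, ha, hsum⟩ := hprod Finset.univ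
  rw [hzero, zero_sub] at hsum
  refine ⟨∏ y, -v y, -a, fun hdvd => ?_, fun H hH => ha H (fun h => hH (by simp [h])), ?_⟩
  · obtain ⟨y, -, hy⟩ := (Prime.dvd_finsetProd_iff (Nat.prime_iff_prime_int.mp hp) _).mp hdvd
    have h1 : (p : ℤ) ∣ 1 := by
      have := dvd_sub (dvd_neg.mp hy) (hvp y)
      simpa using this
    exact hp.ne_one (Nat.dvd_one.mp (by exact_mod_cast h1))
  · rw [← neg_neg (fun _ : G => ((∏ y, -v y : ℤ) : ℂ)), hsum, ← Finset.sum_neg_distrib]
    exact Finset.sum_congr rfl fun H _ => by simp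

end Cfsg.Agent.Lib.Characters
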