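import Cfsg.Prelude.Def_Local
import Mathlib.GroupTheory.Solvable
import Mathlib.GroupTheory.Sylow
import Mathlib.GroupTheory.Nilpotent

/-!
# Solvable groups are `p`-solvable
-/

set_option autoImplicit false
set_option linter.style.haveILetI false

namespace Cfsg.Agent.Lib.Characters

open Cfsg

universe u

theorem exists_normal_ppow_or_coprime (p : ℕ) [Fact p.Prime] {G : Type u} [Group G] [Finite G]
    [Nontrivial G] [Group.IsSolvable G] :
    ∃ N : Subgroup G, N.Normal ∧ N ≠ ⊥ ∧
      ((∃ m : ℕ, Nat.card N = p ^ m) ∨ (Nat.card N).Coprime p) := by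
  classical
  have hne : ∃ n, derivedSeries G n = ⊥ := Group.IsSolvable.solvable
  set m := Nat.find hne with hm
  have hm0 : m ≠ 0 := by
    intro h
    have := Nat.find_spec hne
    rw [← hm, h, derivedSeries_zero] at this
    exact bot_ne_top this.symm
  set A := derivedSeries G (m - 1) with hA
  have hAne : A ≠ ⊥ := Nat.find_min hne (by omega)
  haveI : A.Characteristic := derivedSeries_characteristic G _
  have hab : ∀ a b : A, a * b = b * a := by
    intro a b
    have h1 : ⁅A, A⁆ = ⊥ := by
      have := Nat.find_spec hne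
      rwa [← hm, show m = m - 1 + 1 by omega, derivedSeries_succ] at this
    exact Subtype.ext ((Subgroup.commutator_eq_bot_iff_le_centralizer.1 h1 a.2) b b.2).symm
  obtain ⟨S⟩ : Nonempty (Sylow p A) := inferInstance
  haveI hSn : (S : Subgroup A).Normal :=
    ⟨fun x hx g => by rwa [show g * x * g⁻¹ = x by rw [hab g x, mul_inv_cancel_right]]⟩
  haveI : (S : Subgroup A).Characteristic := S.characteristic_of_normal hSn
  have hcard : Nat.card ((S : Subgroup A).map A.subtype) = Nat.card (S : Subgroup A) :=
    Subgroup.card_map_of_injective A.subtype_injective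
  obtain ⟨k, hk⟩ := S.isPGroup'.exists_card_eq
  by_cases hS : (S : Subgroup A) = ⊥
  · refine ⟨A, inferInstance, hAne, Or.inr (Nat.Coprime.symm ?_)⟩
    refine ((Fact.out : p.Prime).coprime_iff_not_dvd).2 ?_
    have h := S.not_dvd_index
    rwa [hS, Subgroup.index_bot] at h
  · refine ⟨(S : Subgroup A).map A.subtype, inferInstance, ?_, Or.inl ⟨k, hcard.trans hk⟩⟩
    rw [Ne, Subgroup.map_eq_bot_iff_of_injective _ A.subtype_injective]
    exact hS

theorem isPSolvable_of_isSolvable (p : ℕ) [Fact p.Prime] {G : Type u} [Group G] [Finite G]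
    [hG : Group.IsSolvable G] : IsPSolvable p G := by
  classical
  induction hn : Nat.card G using Nat.strong_induction_on generalizing G with
  | _ n ih =>
  subst hn
  rcases subsingleton_or_nontrivial G with hs | hnt
  · exact ⟨0, fun _ => ⊥, rfl, Subsingleton.elim _ _, monotone_const, fun _ => inferInstance,
      fun i => i.elim0⟩
  obtain ⟨N, hN, hNe, hNc⟩ := exists_normal_ppow_or_coprime p (G := G)
  haveI := hN
  have hlt : Nat.card (G ⧸ N) < Nat.card G := by
    rw [Subgroup.card_eq_card_quotient_mul_card_subgroup N]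
    exact lt_mul_of_one_lt_right Nat.card_pos (Subgroup.one_lt_card_iff_ne_bot N |>.2 hNe)
  obtain ⟨k, H, h0, hlast, hmono, hnorm, hfac⟩ := ih _ hlt rfl
  let π := QuotientGroup.mk' N
  let H' : Fin (k + 2) → Subgroup G := Fin.cons ⊥ (fun i => (H i).comap π)
  refine ⟨k + 1, H', rfl, ?_, ?_, ?_, ?_⟩
  · show H' (Fin.succ (Fin.last k)) = ⊤
    simp only [H', Fin.cons_succ, hlast, Subgroup.comap_top]
  · refine Fin.monotone_iff_le_succ.2 fun i => ?_
    induction i using Fin.cases with
    | zero => simp [H']
    | succ j =>
      simp only [H', ← Fin.succ_castSucc, Fin.cons_succ]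
      exact Subgroup.comap_mono (hmono (Fin.castSucc_le_succ j))
  · intro i
    induction i using Fin.cases with
    | zero => simp only [H', Fin.cons_zero]; infer_instance
    | succ j => simp only [H', Fin.cons_succ]; exact (hnorm j).comap π
  · intro i
    induction i using Fin.cases with
    | zero =>
      simp only [H', Fin.castSucc_zero, Fin.cons_zero, Fin.cons_succ, h0, MonoidHom.comap_bot,
        Subgroup.relIndex_bot_left, π, QuotientGroup.ker_mk']
      exact hNc
    | succ j =>
      simp only [H', ← Fin.succ_castSucc, Fin.cons_succ, Subgroup.relIndex_comap,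
        Subgroup.map_comap_eq_self_of_surjective (QuotientGroup.mk'_surjective N), π]
      exact hfac j

end Cfsg.Agent.Lib.Characters
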