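import Mathlib

/-!
# Double covers of the alternating groups

The lifts of permutations to the Clifford group, realized on the exterior basis `Finset (Fin n) → ℝ`.
-/

set_option linter.unusedSectionVars false

namespace Cfsg.Agent.Lib.Characters.SpinAlt

open Equiv
open scoped symmDiff commutatorElement

variable {n : ℕ}

/-- The space of the regular representation of the Clifford algebra. -/
abbrev V (n : ℕ) : Type := Finset (Fin n) → ℝ

/-- The sign attached to the elements of `S` satisfying `Q`. -/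
noncomputable def sgnQ (Q : Fin n → Prop) [DecidablePred Q] (S : Finset (Fin n)) : ℝ :=
  ∏ j : Fin n, if j ∈ S ∧ Q j then -1 else 1

theorem sgnQ_empty (Q : Fin n → Prop) [DecidablePred Q] : sgnQ Q (∅ : Finset (Fin n)) = 1 :=
  Finset.prod_eq_one fun j _ => by simp

theorem sgnQ_sq (Q : Fin n → Prop) [DecidablePred Q] (S : Finset (Fin n)) :
    sgnQ Q S * sgnQ Q S = 1 := by
  rw [sgnQ, ← Finset.prod_mul_distrib]
  exact Finset.prod_eq_one fun j _ => by split_ifs <;> norm_num

theorem sgnQ_toggle (Q : Fin n → Prop) [DecidablePred Q] (S : Finset (Fin n)) (i : Fin n) :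
    sgnQ Q (S ∆ {i}) = sgnQ Q S * if Q i then -1 else 1 := by
  rw [sgnQ, sgnQ, ← Fintype.prod_ite_eq i (fun j => if Q j then (-1 : ℝ) else 1),
    ← Finset.prod_mul_distrib]
  refine Finset.prod_congr rfl fun j _ => ?_
  by_cases hij : i = j
  · subst hij
    by_cases hS : i ∈ S <;> by_cases hQ : Q i <;> simp [Finset.mem_symmDiff, hS, hQ]
  · simp [Finset.mem_symmDiff, hij, Ne.symm hij]

/-- A signed translation of the basis. -/
noncomputable def op (Q : Fin n → Prop) [DecidablePred Q] (i : Fin n) : Module.End ℝ (V n) where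
  toFun f := fun S => sgnQ Q S * f (S ∆ {i})
  map_add' f g := funext fun S => mul_add _ _ _
  map_smul' c f := funext fun S => mul_left_comm _ _ _

/-- Left multiplication by the `i`-th generator. -/
noncomputable def lop (i : Fin n) : Module.End ℝ (V n) := op (fun j => j < i) i

/-- Right multiplication by the `i`-th generator. -/
noncomputable def rop (i : Fin n) : Module.End ℝ (V n) := op (fun j => i < j) i

/-- The grading. -/
noncomputable def par : Module.End ℝ (V n) where
  toFun f := fun S => sgnQ (fun _ => True) S * f S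
  map_add' f g := funext fun S => mul_add _ _ _
  map_smul' c f := funext fun S => mul_left_comm _ _ _

theorem lop_apply (i : Fin n) (f : V n) (S : Finset (Fin n)) :
    lop i f S = sgnQ (fun j => j < i) S * f (S ∆ {i}) := rfl

theorem rop_apply (i : Fin n) (f : V n) (S : Finset (Fin n)) :
    rop i f S = sgnQ (fun j => i < j) S * f (S ∆ {i}) := rfl

theorem par_apply (f : V n) (S : Finset (Fin n)) :
    par f S = sgnQ (fun _ => True) S * f S := rfl

theorem lop_sq (i : Fin n) : lop i * lop i = 1 := by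
  refine LinearMap.ext fun f => funext fun S => ?_
  rw [Module.End.mul_apply, lop_apply, lop_apply, sgnQ_toggle, symmDiff_symmDiff_cancel_right,
    if_neg (lt_irrefl i), mul_one, ← mul_assoc, sgnQ_sq, one_mul]
  rfl

theorem lop_anticomm {i j : Fin n} (hij : i ≠ j) : lop i * lop j = -(lop j * lop i) := by
  refine LinearMap.ext fun f => funext fun S => ?_
  rw [Module.End.mul_apply, LinearMap.neg_apply, Pi.neg_apply, Module.End.mul_apply, lop_apply,
    lop_apply, lop_apply, lop_apply, sgnQ_toggle, sgnQ_toggle, symmDiff_right_comm S {i} {j}]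
  rcases lt_or_gt_of_ne hij with h | h
  · rw [if_pos h, if_neg (lt_asymm h)]; ring
  · rw [if_neg (lt_asymm h), if_pos h]; ring

theorem lop_rop (i k : Fin n) : lop i * rop k = rop k * lop i := by
  refine LinearMap.ext fun f => funext fun S => ?_
  rw [Module.End.mul_apply, Module.End.mul_apply, lop_apply, rop_apply, rop_apply, lop_apply,
    sgnQ_toggle, sgnQ_toggle, symmDiff_right_comm S {i} {k}]
  ring

theorem lop_par (i : Fin n) : lop i * par = -(par * lop i) := by
  refine LinearMap.ext fun f => funext fun S => ?_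
  rw [Module.End.mul_apply, LinearMap.neg_apply, Pi.neg_apply, Module.End.mul_apply, lop_apply,
    par_apply, par_apply, lop_apply, sgnQ_toggle, if_pos trivial]
  ring

/-- `1 / √2`. -/
noncomputable def rt : ℝ := (Real.sqrt 2)⁻¹

theorem rt_sq : rt * rt = 1 / 2 := by
  rw [rt, ← mul_inv, Real.mul_self_sqrt (by norm_num), one_div]

/-- The lift of a transposition. -/
noncomputable def top2 (a b : Fin n) : Module.End ℝ (V n) := rt • (lop a - lop b)

theorem smul_congr_neg {c : ℝ} {X Y : Module.End ℝ (V n)} (h : X = -Y) : c • X = -(c • Y) := by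
  subst h
  module

theorem top2_lop {a b : Fin n} (hab : a ≠ b) (i : Fin n) :
    top2 a b * lop i = -(lop (swap a b i) * top2 a b) := by
  rcases eq_or_ne i a with rfl | hia
  · rw [swap_apply_left, top2, smul_mul_assoc, mul_smul_comm]
    refine smul_congr_neg ?_
    rw [sub_mul, mul_sub, lop_sq, lop_sq, neg_sub]
  rcases eq_or_ne i b with rfl | hib
  · rw [swap_apply_right, top2, smul_mul_assoc, mul_smul_comm]
    refine smul_congr_neg ?_
    rw [sub_mul, mul_sub, lop_sq, lop_sq, neg_sub]
  rw [swap_apply_of_ne_of_ne hia hib, top2, smul_mul_assoc, mul_smul_comm]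
  refine smul_congr_neg ?_
  rw [sub_mul, mul_sub, lop_anticomm hia.symm, lop_anticomm hib.symm, neg_sub, sub_neg_eq_add, neg_add_eq_sub]

theorem top2_sq {a b : Fin n} (hab : a ≠ b) : top2 a b * top2 a b = 1 := by
  rw [top2, smul_mul_smul_comm, sub_mul, mul_sub, mul_sub, lop_sq, lop_sq, lop_anticomm hab,
    rt_sq, show (1 : Module.End ℝ (V n)) - -(lop b * lop a) - (lop b * lop a - 1) = (2 : ℝ) • 1 by
      rw [two_smul]; abel, smul_smul]
  norm_num

theorem top2_rop (a b k : Fin n) : top2 a b * rop k = rop k * top2 a b := by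
  rw [top2, smul_mul_assoc, mul_smul_comm, sub_mul, mul_sub, lop_rop, lop_rop]

theorem top2_par (a b : Fin n) : top2 a b * par = -(par * top2 a b) := by
  rw [top2, smul_mul_assoc, mul_smul_comm]
  refine smul_congr_neg ?_
  rw [sub_mul, mul_sub, lop_par, lop_par, neg_sub,
    sub_neg_eq_add, neg_add_eq_sub]

theorem top2_anticomm {a b c d : Fin n} (hab : a ≠ b) (hca : c ≠ a) (hcb : c ≠ b) (hda : d ≠ a)
    (hdb : d ≠ b) : top2 a b * top2 c d = -(top2 c d * top2 a b) := by
  conv_lhs => arg 2; rw [top2]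
  conv_rhs => arg 1; arg 1; rw [top2]
  rw [mul_smul_comm, smul_mul_assoc]
  refine smul_congr_neg ?_
  rw [mul_sub, top2_lop hab, top2_lop hab,
    swap_apply_of_ne_of_ne hca hcb, swap_apply_of_ne_of_ne hda hdb, sub_mul, neg_sub,
    sub_neg_eq_add, neg_add_eq_sub]

/-- The sign as a real number. -/
noncomputable def rsgn (σ : Perm (Fin n)) : ℝ := ((Perm.sign σ : ℤ) : ℝ)

/-- `g` lifts the permutation `σ`. -/
structure Rel (g : Module.End ℝ (V n)) (σ : Perm (Fin n)) : Prop where
  hl : ∀ i, g * lop i = rsgn σ • (lop (σ i) * g)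
  hp : g * par = rsgn σ • (par * g)
  hr : ∀ i, g * rop i = rop i * g
  hd : LinearMap.det g * LinearMap.det g = 1

theorem rel_one : Rel (1 : Module.End ℝ (V n)) 1 where
  hl i := by simp [rsgn]
  hp := by simp [rsgn]
  hr i := by simp
  hd := by simp

theorem Rel.mul {g g' : Module.End ℝ (V n)} {σ τ : Perm (Fin n)} (h : Rel g σ) (h' : Rel g' τ) :
    Rel (g * g') (σ * τ) where
  hl i := by
    rw [mul_assoc, h'.hl, mul_smul_comm, ← mul_assoc, h.hl, smul_mul_assoc, mul_assoc, smul_smul]
    simp [rsgn, mul_comm]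
  hp := by
    rw [mul_assoc, h'.hp, mul_smul_comm, ← mul_assoc, h.hp, smul_mul_assoc, mul_assoc, smul_smul]
    simp [rsgn, mul_comm]
  hr i := by rw [mul_assoc, h'.hr, ← mul_assoc, h.hr, mul_assoc]
  hd := by rw [map_mul, mul_mul_mul_comm, h.hd, h'.hd, one_mul]

theorem rel_top2 {a b : Fin n} (hab : a ≠ b) : Rel (top2 a b) (swap a b) where
  hl i := by
    rw [top2_lop hab, rsgn, Perm.sign_swap hab]
    simp only [Units.val_neg, Units.val_one, Int.cast_neg, Int.cast_one]
    module
  hp := by
    rw [top2_par, rsgn, Perm.sign_swap hab]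
    simp only [Units.val_neg, Units.val_one, Int.cast_neg, Int.cast_one]
    module
  hr := top2_rop a b
  hd := by rw [← map_mul, top2_sq hab, map_one]

theorem rsgn_sq (σ : Perm (Fin n)) : rsgn σ * rsgn σ = 1 := by
  rw [rsgn]
  rcases Int.units_eq_one_or (Perm.sign σ) with h | h <;> simp [h]

theorem Rel.inv {g g' : Module.End ℝ (V n)} {σ : Perm (Fin n)} (h : Rel g σ) (h1 : g * g' = 1)
    (h2 : g' * g = 1) : Rel g' σ⁻¹ where
  hl i := by
    have h3 := congrArg (fun x => g' * x * g') (h.hl (σ⁻¹ i))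
    rw [show σ (σ⁻¹ i) = i from σ.apply_symm_apply i] at h3
    simp only [mul_smul_comm, smul_mul_assoc] at h3
    rw [← mul_assoc g' g, h2, one_mul, mul_assoc g' _ g', mul_assoc (lop i) g g', h1, mul_one] at h3
    rw [show rsgn σ⁻¹ = rsgn σ by simp [rsgn], h3, smul_smul, rsgn_sq, one_smul]
  hp := by
    have h3 := congrArg (fun x => g' * x * g') h.hp
    simp only [mul_smul_comm, smul_mul_assoc] at h3
    rw [← mul_assoc g' g, h2, one_mul, mul_assoc g' _ g', mul_assoc par g g', h1, mul_one] at h3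
    rw [show rsgn σ⁻¹ = rsgn σ by simp [rsgn], h3, smul_smul, rsgn_sq, one_smul]
  hr i := by
    have h3 := congrArg (fun x => g' * x * g') (h.hr i)
    rw [← mul_assoc g' g, h2, one_mul, mul_assoc g' _ g', mul_assoc (rop i) g g', h1, mul_one] at h3
    exact h3.symm
  hd := by
    have h3 : LinearMap.det g * LinearMap.det g' = 1 := by rw [← map_mul, h1, map_one]
    calc LinearMap.det g' * LinearMap.det g'
        = (LinearMap.det g * LinearMap.det g) * (LinearMap.det g' * LinearMap.det g') := by
          rw [h.hd, one_mul]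
      _ = 1 := by rw [mul_mul_mul_comm, h3, one_mul]

/-- The lifts of even permutations. -/
noncomputable def spinGrp (n : ℕ) : Subgroup (Module.End ℝ (V n))ˣ where
  carrier := {g | ∃ σ ∈ alternatingGroup (Fin n), Rel (g : Module.End ℝ (V n)) σ}
  one_mem' := ⟨1, one_mem _, rel_one⟩
  mul_mem' := fun {g g'} ⟨σ, hσ, h⟩ ⟨τ, hτ, h'⟩ => ⟨σ * τ, mul_mem hσ hτ, by
    rw [Units.val_mul]; exact h.mul h'⟩
  inv_mem' := fun {g} ⟨σ, hσ, h⟩ => ⟨σ⁻¹, inv_mem hσ, h.inv g.mul_inv g.inv_mul⟩

theorem single_toggle (i : Fin n) (S : Finset (Fin n)) :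
    lop i (Pi.single S 1) = sgnQ (fun j => j < i) S • Pi.single (S ∆ {i}) (1 : ℝ) := by
  funext T
  rw [lop_apply, Pi.smul_apply, smul_eq_mul]
  by_cases hT : T = S ∆ {i}
  · subst hT
    rw [symmDiff_symmDiff_cancel_right, sgnQ_toggle, if_neg (lt_irrefl i), mul_one, Pi.single_eq_same,
      Pi.single_eq_same]
  · rw [Pi.single_eq_of_ne hT, mul_zero, Pi.single_eq_of_ne, mul_zero]
    exact fun h => hT (by rw [← h, symmDiff_symmDiff_cancel_right])

theorem lop_empty (i : Fin n) : lop i (Pi.single ∅ 1) = Pi.single {i} (1 : ℝ) := by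
  rw [single_toggle, sgnQ_empty, one_smul, ← Finset.bot_eq_empty, bot_symmDiff]

theorem rop_empty (i : Fin n) : rop i (Pi.single ∅ 1) = Pi.single {i} (1 : ℝ) := by
  funext T
  rw [rop_apply]
  by_cases hT : T = {i}
  · subst hT
    rw [symmDiff_self, Finset.bot_eq_empty, Pi.single_eq_same, Pi.single_eq_same, mul_one]
    exact Finset.prod_eq_one fun j _ => if_neg fun h => by
      rw [Finset.mem_singleton.mp h.1] at h
      exact lt_irrefl i h.2
  · rw [Pi.single_eq_of_ne hT, Pi.single_eq_of_ne, mul_zero]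
    exact fun h => hT (symmDiff_eq_bot.mp (by rw [Finset.bot_eq_empty]; exact h))

theorem Rel.unit_ne_zero {g : (Module.End ℝ (V n))ˣ} {f : V n} (hf : f ≠ 0) :
    (g : Module.End ℝ (V n)) f ≠ 0 := fun h => hf <| by
  have h1 := congrArg ((g⁻¹ : (Module.End ℝ (V n))ˣ) : Module.End ℝ (V n)) h
  rwa [← Module.End.mul_apply, g.inv_mul, Module.End.one_apply, map_zero] at h1

theorem Rel.unique {g : (Module.End ℝ (V n))ˣ} {σ τ : Perm (Fin n)}
    (hσ : Rel (g : Module.End ℝ (V n)) σ) (hτ : Rel (g : Module.End ℝ (V n)) τ) : σ = τ := by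
  refine Equiv.ext fun i => ?_
  have h1 : rsgn σ • lop (σ i) = rsgn τ • lop (τ i) := by
    have h2 := congrArg (fun x => x * ((g⁻¹ : (Module.End ℝ (V n))ˣ) : Module.End ℝ (V n)))
      ((hσ.hl i).symm.trans (hτ.hl i))
    simpa only [smul_mul_assoc, mul_assoc, g.mul_inv, mul_one] using h2
  have h2 := congrFun (congrArg (fun x : Module.End ℝ (V n) => x (Pi.single ∅ 1)) h1) {σ i}
  simp only [LinearMap.smul_apply, lop_empty, Pi.smul_apply, smul_eq_mul, Pi.single_eq_same,
    mul_one] at h2
  by_contra hne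
  rw [Pi.single_eq_of_ne (by simpa using hne), mul_zero] at h2
  have := rsgn_sq σ
  rw [h2, mul_zero] at this
  exact zero_ne_one this

/-- The kernel consists of `±1`. -/
theorem rel_one_scalar {g : Module.End ℝ (V n)} (h : Rel g 1) : g = 1 ∨ g = -1 := by
  have hl : ∀ i, g * lop i = lop i * g := fun i => by simpa [rsgn] using h.hl i
  have hp : g * par = par * g := by simpa [rsgn] using h.hp
  set x := g (Pi.single ∅ 1) with hx
  have hpx : par x = x := by
    have h1 : par (Pi.single ∅ (1 : ℝ) : V n) = Pi.single ∅ 1 := by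
      funext S
      rw [par_apply]
      by_cases hS : S = ∅
      · subst hS; rw [sgnQ_empty, one_mul]
      · rw [Pi.single_eq_of_ne hS, mul_zero]
    rw [hx, ← Module.End.mul_apply, ← hp, Module.End.mul_apply, h1]
  have hlr : ∀ i, lop i x = rop i x := by
    intro i
    rw [hx, ← Module.End.mul_apply, ← hl i, ← Module.End.mul_apply, ← h.hr i, Module.End.mul_apply,
      Module.End.mul_apply, lop_empty, rop_empty]
  have hsupp : ∀ S, S ≠ ∅ → x S = 0 := by
    intro S hS
    by_contra hne
    obtain ⟨i, hi⟩ := Finset.nonempty_iff_ne_empty.mpr hS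
    have h1 := congrFun (hlr i) (S ∆ {i})
    rw [lop_apply, rop_apply, symmDiff_symmDiff_cancel_right, sgnQ_toggle, sgnQ_toggle,
      if_neg (lt_irrefl i), mul_one, mul_one] at h1
    have h2 := congrFun hpx S
    rw [par_apply, mul_eq_right₀ hne] at h2
    have h3 : sgnQ (fun j => j < i) S * sgnQ (fun j => i < j) S = -sgnQ (fun _ => True) S := by
      rw [sgnQ, sgnQ, sgnQ, ← Finset.prod_mul_distrib]
      refine Eq.trans ?_ (neg_one_mul _)
      conv_rhs => arg 1; rw [← Fintype.prod_ite_eq i (fun _ => (-1 : ℝ))]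
      rw [← Finset.prod_mul_distrib]
      refine Finset.prod_congr rfl fun j _ => ?_
      rcases lt_trichotomy j i with hj | rfl | hj
      · by_cases hjS : j ∈ S <;> simp [hjS, hj, lt_asymm hj, hj.ne']
      · simp [hi]
      · by_cases hjS : j ∈ S <;> simp [hjS, hj, lt_asymm hj, hj.ne]
    rw [h2, mul_right_cancel₀ hne h1, sgnQ_sq] at h3
    norm_num at h3
  have hsingle : ∀ S, g (Pi.single S 1) = x ∅ • Pi.single S 1 := by
    intro S
    induction S using Finset.induction_on with
    | empty =>
      funext T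
      rw [Pi.smul_apply, smul_eq_mul, ← hx]
      by_cases hT : T = ∅
      · subst hT; rw [Pi.single_eq_same, mul_one]
      · rw [Pi.single_eq_of_ne hT, mul_zero, hsupp T hT]
    | insert i S hi ih =>
      have h1 : (Pi.single (insert i S) 1 : V n) =
          sgnQ (fun j => j < i) S • lop i (Pi.single S 1) := by
        rw [single_toggle, smul_smul, sgnQ_sq, one_smul]
        congr 1
        ext j
        rcases eq_or_ne j i with rfl | hji
        · simp [Finset.mem_symmDiff, hi]
        · simp [Finset.mem_symmDiff, hji]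
      rw [h1, map_smul, ← Module.End.mul_apply, hl, Module.End.mul_apply, ih, map_smul, smul_comm]
  have hg : g = x ∅ • 1 := by
    refine LinearMap.pi_ext fun S c => ?_
    rw [show (Pi.single S c : V n) = c • Pi.single S 1 by rw [← Pi.single_smul, smul_eq_mul, mul_one],
      map_smul, map_smul, hsingle, LinearMap.smul_apply, Module.End.one_apply]
  have hd := h.hd
  rw [hg, LinearMap.det_smul, map_one, mul_one, ← mul_pow, ← pow_two, ← pow_mul] at hd
  have habs : |x ∅| = 1 := by
    have h1 := congrArg (|·|) hd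
    rw [abs_pow, abs_one] at h1
    exact (pow_eq_one_iff_of_nonneg (abs_nonneg _)
      (Nat.mul_ne_zero two_ne_zero (by rw [Module.finrank_fintype_fun_eq_card]; simp))).mp h1
  rcases abs_eq (zero_le_one' ℝ) |>.mp habs with h1 | h1
  · exact Or.inl (by rw [hg, h1, one_smul])
  · exact Or.inr (by rw [hg, h1]; module)

/-- The projection. -/
noncomputable def proj : spinGrp n →* alternatingGroup (Fin n) :=
  MonoidHom.mk' (fun g => ⟨g.2.choose, g.2.choose_spec.1⟩) fun g g' =>
    Subtype.ext ((g * g').2.choose_spec.2.unique (g.2.choose_spec.2.mul g'.2.choose_spec.2))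

theorem proj_eq (g : spinGrp n) {σ : Perm (Fin n)}
    (h : Rel ((g : (Module.End ℝ (V n))ˣ) : Module.End ℝ (V n)) σ) :
    (proj g : Perm (Fin n)) = σ :=
  g.2.choose_spec.2.unique h

theorem exists_lift (σ : Perm (Fin n)) :
    ∃ g : (Module.End ℝ (V n))ˣ, Rel (g : Module.End ℝ (V n)) σ := by
  induction σ using Perm.swap_induction_on with
  | one => exact ⟨1, rel_one⟩
  | swap_mul f a b hab ih =>
    obtain ⟨g, hg⟩ := ih
    exact ⟨⟨top2 a b, top2 a b, top2_sq hab, top2_sq hab⟩ * g, (rel_top2 hab).mul hg⟩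

theorem proj_surjective : Function.Surjective (proj (n := n)) := by
  intro σ
  obtain ⟨g, hg⟩ := exists_lift (σ : Perm (Fin n))
  exact ⟨⟨g, σ, σ.2, hg⟩, Subtype.ext (proj_eq ⟨g, σ, σ.2, hg⟩ hg)⟩

/-- Minus one. -/
noncomputable def negOne : spinGrp n :=
  ⟨-1, 1, one_mem _,
    { hl := fun i => by simp [rsgn]
      hp := by simp [rsgn]
      hr := fun i => by simp
      hd := by
        rw [Units.val_neg, Units.val_one, ← map_mul, neg_mul_neg, one_mul, map_one] }⟩

/-- For `n ≥ 4` the alternating group has a double cover with central involution in the derived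
group. -/
theorem exists_double_cover (hn : 4 ≤ n) : ∃ (Γ : Type) (_ : Group Γ) (_ : Finite Γ) (z : Γ)
    (_hz : z ∈ Subgroup.center Γ), orderOf z = 2 ∧ z ∈ commutator Γ ∧
      ∃ _ : (Subgroup.zpowers z).Normal,
        Nonempty (Γ ⧸ Subgroup.zpowers z ≃* alternatingGroup (Fin n)) := by
  have hne : (negOne : spinGrp n) ≠ 1 := fun h => by
    have h1 := congrArg (fun g : spinGrp n =>
      ((g : (Module.End ℝ (V n))ˣ) : Module.End ℝ (V n)) (Pi.single ∅ 1) ∅) h
    simp [negOne] at h1
    norm_num at h1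
  have hsq : (negOne : spinGrp n) ^ 2 = 1 := Subtype.ext (Units.ext (by simp [negOne]))
  have hord : orderOf (negOne : spinGrp n) = 2 := orderOf_eq_prime hsq hne
  have hker : (proj (n := n)).ker = Subgroup.zpowers negOne := by
    refine le_antisymm (fun g hg => ?_) (Subgroup.zpowers_le.mpr ?_)
    · have h1 := g.2.choose_spec.2
      rw [show g.2.choose = 1 from congrArg Subtype.val (MonoidHom.mem_ker.mp hg)] at h1
      rcases rel_one_scalar h1 with h2 | h2
      · rw [show g = 1 from Subtype.ext (Units.ext h2)]; exact one_mem _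
      · rw [show g = negOne from Subtype.ext (Units.ext (by rw [h2]; simp [negOne]))]
        exact Subgroup.mem_zpowers _
    · exact MonoidHom.mem_ker.mpr (Subtype.ext (proj_eq _ negOne.2.choose_spec.2 |>.trans
        (negOne.2.choose_spec.2.unique
          { hl := fun i => by simp [negOne, rsgn]
            hp := by simp [negOne, rsgn]
            hr := fun i => by simp [negOne]
            hd := by
              rw [show ((negOne : spinGrp n) : (Module.End ℝ (V n))ˣ) = -1 from rfl, Units.val_neg,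
                Units.val_one, ← map_mul, neg_mul_neg, one_mul, map_one] })))
  haveI hfin : Finite (spinGrp n) := by
    haveI : Finite (proj (n := n)).ker := by
      rw [hker]
      exact (isOfFinOrder_iff_pow_eq_one.mpr ⟨2, by norm_num, hsq⟩).finite_zpowers.to_subtype
    haveI : Finite (spinGrp n ⧸ (proj (n := n)).ker) :=
      Finite.of_equiv _ (QuotientGroup.quotientKerEquivOfSurjective _ proj_surjective).symm.toEquiv
    exact Finite.of_subgroup_quotient (proj (n := n)).ker
  haveI hnor : (Subgroup.zpowers (negOne : spinGrp n)).Normal := hker ▸ MonoidHom.normal_ker _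
  refine ⟨spinGrp n, inferInstance, hfin, negOne, Subgroup.mem_center_iff.mpr fun g =>
    Subtype.ext (Units.ext (by simp [negOne])), hord, ?_, hnor,
    ⟨(QuotientGroup.quotientMulEquivOfEq hker.symm).trans
      (QuotientGroup.quotientKerEquivOfSurjective _ proj_surjective)⟩⟩
  -- the commutator
  let p : Fin 4 → Fin n := fun i => Fin.castLE hn i
  have hp : ∀ i j : Fin 4, i ≠ j → p i ≠ p j := fun i j h =>
    (Fin.castLE_injective hn).ne h
  have h01 := hp 0 1 (by decide)
  have h02 := hp 0 2 (by decide)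
  have h03 := hp 0 3 (by decide)
  have h12 := hp 1 2 (by decide)
  have h13 := hp 1 3 (by decide)
  have h23 := hp 2 3 (by decide)
  let u : ∀ a b : Fin n, a ≠ b → (Module.End ℝ (V n))ˣ := fun a b hab =>
    ⟨top2 a b, top2 a b, top2_sq hab, top2_sq hab⟩
  have halt : ∀ a b c d : Fin n, a ≠ b → c ≠ d →
      swap a b * swap c d ∈ alternatingGroup (Fin n) := fun a b c d hab hcd => by
    rw [Perm.mem_alternatingGroup, map_mul, Perm.sign_swap hab, Perm.sign_swap hcd]
    rfl
  let A : spinGrp n := ⟨u _ _ h01 * u _ _ h23, _, halt _ _ _ _ h01 h23,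
    (rel_top2 h01).mul (rel_top2 h23)⟩
  let B : spinGrp n := ⟨u _ _ h02 * u _ _ h13, _, halt _ _ _ _ h02 h13,
    (rel_top2 h02).mul (rel_top2 h13)⟩
  have hA : Rel (top2 (p 0) (p 1) * top2 (p 2) (p 3)) (swap (p 0) (p 1) * swap (p 2) (p 3)) :=
    (rel_top2 h01).mul (rel_top2 h23)
  set τ := swap (p 0) (p 1) * swap (p 2) (p 3) with hτ
  have hsgn : rsgn τ = 1 := by
    rw [rsgn, hτ, map_mul, Perm.sign_swap h01, Perm.sign_swap h23]
    simp
  have hmove : ∀ a b, (top2 (p 0) (p 1) * top2 (p 2) (p 3)) * top2 a b =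
      top2 (τ a) (τ b) * (top2 (p 0) (p 1) * top2 (p 2) (p 3)) := by
    intro a b
    conv_lhs => arg 2; rw [top2]
    conv_rhs => arg 1; rw [top2]
    rw [mul_smul_comm, smul_mul_assoc, mul_sub, sub_mul, hA.hl, hA.hl, hsgn, one_smul, one_smul]
  have hτ0 : τ (p 0) = p 1 := by
    rw [hτ, Perm.mul_apply, swap_apply_of_ne_of_ne h02 h03, swap_apply_left]
  have hτ1 : τ (p 1) = p 0 := by
    rw [hτ, Perm.mul_apply, swap_apply_of_ne_of_ne h12 h13, swap_apply_right]
  have hτ2 : τ (p 2) = p 3 := by
    rw [hτ, Perm.mul_apply, swap_apply_left, swap_apply_of_ne_of_ne h03.symm h13.symm]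
  have hτ3 : τ (p 3) = p 2 := by
    rw [hτ, Perm.mul_apply, swap_apply_right, swap_apply_of_ne_of_ne h02.symm h12.symm]
  have hAB : A * B = negOne * B * A := by
    refine Subtype.ext (Units.ext ?_)
    show (top2 (p 0) (p 1) * top2 (p 2) (p 3)) * (top2 (p 0) (p 2) * top2 (p 1) (p 3)) =
      ((-1 : (Module.End ℝ (V n))ˣ) : Module.End ℝ (V n)) * (top2 (p 0) (p 2) * top2 (p 1) (p 3)) *
        (top2 (p 0) (p 1) * top2 (p 2) (p 3))
    rw [← mul_assoc (top2 (p 0) (p 1) * top2 (p 2) (p 3)), hmove, hτ0, hτ2, mul_assoc, hmove, hτ1,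
      hτ3, ← mul_assoc, Units.val_neg, Units.val_one, neg_one_mul,
      top2_anticomm h13 h01 h03 h12.symm h23]
  have hcomm : (negOne : spinGrp n) = ⁅A, B⁆ := by
    rw [commutatorElement_def, hAB]
    group
  rw [hcomm]
  exact Subgroup.commutator_mem_commutator (Subgroup.mem_top _) (Subgroup.mem_top _)

end Cfsg.Agent.Lib.Characters.SpinAlt
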