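import Cfsg.Agent.Lib.Characters.FrobeniusKernelChar
import Cfsg.Agent.Lib.Characters.Gram
import Cfsg.Agent.Lib.Characters.TI
import Mathlib.GroupTheory.Nilpotent

/-!
# The minimal-degree exceptional family of a TI subgroup with Frobenius normalizer
-/

namespace Cfsg.Agent.Lib.Characters

open scoped ComplexConjugate

set_option linter.unusedSectionVars false
set_option linter.style.haveILetI false

universe u

/-- A subgroup `K`, a TI set with Frobenius normalizer `M` of kernel `K`. -/
structure TIDatum (G : Type u) [Group G] where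
  K : Subgroup G
  M : Subgroup G
  le : K ≤ M
  normal : (K.subgroupOf M).Normal
  ti : ∀ g : G, g ∉ M → ∀ k ∈ K, g * k * g⁻¹ ∈ K → k = 1
  cent : ∀ k ∈ K, k ≠ 1 → Subgroup.centralizer ({k} : Set G) ≤ K

namespace TIDatum

variable {G : Type u} [Group G] (D : TIDatum G)

/-- The kernel as a subgroup of the normalizer. -/
abbrev K' : Subgroup D.M := D.K.subgroupOf D.M

instance : D.K'.Normal := D.normal

noncomputable instance [Finite G] : Fintype D.M := Fintype.ofFinite _
noncomputable instance [Finite G] : Fintype D.K' := Fintype.ofFinite _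
noncomputable instance [Finite G] : Fintype (IrrCharacter D.M) := Fintype.ofFinite _

/-- The index of the kernel. -/
noncomputable def e : ℕ := D.K'.index

theorem hC : ∀ k ∈ D.K', k ≠ 1 → ∀ x : D.M, x * k = k * x → x ∈ D.K' :=
  fun k hk h1 x hx => Subgroup.mem_subgroupOf.mpr (D.cent _ (Subgroup.mem_subgroupOf.mp hk)
    (fun h => h1 (Subtype.ext h))
    (Subgroup.mem_centralizer_singleton_iff.mpr (congrArg Subtype.val hx)))

/-- Membership in the family of relevant characters of least degree. -/
def InFam (χ : IrrCharacter D.M) : Prop :=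
  IsRelevant D.K' (χ : D.M → ℂ) ∧ (χ : D.M → ℂ) 1 = (D.e : ℂ)

/-- The family of relevant characters of least degree. -/
def Fam : Type u := {χ : IrrCharacter D.M // D.InFam χ}

variable [Fintype G]

noncomputable instance : Fintype D.Fam := by
  classical
  exact Subtype.fintype _

noncomputable instance : DecidableEq D.Fam := Classical.decEq _

/-- The size of the family. -/
noncomputable def n : ℕ := Fintype.card D.Fam

theorem card_M : Nat.card D.M = Nat.card D.K * D.e := by
  rw [← Nat.card_congr (Subgroup.subgroupOfEquivOfLe D.le).toEquiv]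
  exact D.K'.card_mul_index.symm

theorem e_pos : 0 < D.e := Nat.pos_of_ne_zero Subgroup.index_ne_zero_of_finite

/-- The character induced from the principal character of the kernel. -/
noncomputable def oneK : D.M → ℂ := indFun D.K' (fun _ => 1)

theorem oneK_apply {x : D.M} (hx : x ∈ D.K') : D.oneK x = (D.e : ℂ) := by
  have h1 : ∀ y : D.M, extendByZero D.K' (fun _ => (1 : ℂ)) (y⁻¹ * x * y) = 1 := fun y => by
    rw [extendByZero_of_mem]
    simpa using D.normal.conj_mem x hx y⁻¹
  rw [oneK, indFun_apply, Finset.sum_congr rfl fun y _ => h1 y, Finset.sum_const, Finset.card_univ,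
    nsmul_eq_mul, mul_one, ← Nat.card_eq_fintype_card, ← D.K'.card_mul_index, Nat.cast_mul,
    inv_mul_cancel_left₀ natCard_ne_zero_complex]
  rfl

theorem classInner_oneK_self : classInner D.oneK D.oneK = (D.e : ℂ) := by
  conv_lhs => rw [oneK, classInner_indFun D.K' _ (isClassFunction_indFun _ _)]
  rw [show (fun h : D.K' => indFun D.K' (fun _ => (1 : ℂ)) h) = fun _ : D.K' => (D.e : ℂ) from
      funext fun h => D.oneK_apply h.2,
    show (fun _ : D.K' => (D.e : ℂ)) = (D.e : ℂ) • fun _ : D.K' => (1 : ℂ) by funext h; simp,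
    classInner_smul_right, IsIrrCharacter.classInner_self isIrrCharacter_one, map_natCast, mul_one]

theorem classInner_oneK_fam (c : D.Fam) : classInner D.oneK (c.1 : D.M → ℂ) = 0 := by
  rw [oneK, classInner_indFun D.K' _ (irr_isClassFunction c.1), ← classInner_conj_symm]
  have h : classInner (fun h : D.K' => (c.1 : D.M → ℂ) h) (fun _ => 1) = 0 := by
    rw [← avgN_one, frob_avg_of_relevant D.K' c.1.2 c.2.1, Pi.zero_apply]
  rw [h, map_zero]

theorem classInner_oneK_one : classInner D.oneK (fun _ : D.M => (1 : ℂ)) = 1 := by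
  rw [oneK, classInner_indFun D.K' _ (fun _ _ => rfl)]
  exact IsIrrCharacter.classInner_self isIrrCharacter_one

theorem classInner_fam (c c' : D.Fam) :
    classInner (c.1 : D.M → ℂ) (c'.1 : D.M → ℂ) = if c = c' then 1 else 0 := by
  split_ifs with h
  · rw [h]; exact IsIrrCharacter.classInner_self c'.1.2
  · exact IsIrrCharacter.classInner_ne c.1.2 c'.1.2 fun he => h (Subtype.ext (Subtype.ext he))

/-- `1_K^M - χ`. -/
noncomputable def alpha (c : D.Fam) : D.M → ℂ := D.oneK - (c.1 : D.M → ℂ)

theorem classInner_alpha (c c' : D.Fam) :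
    classInner (D.alpha c) (D.alpha c') = (D.e : ℂ) + if c = c' then 1 else 0 := by
  have h2 : classInner (c.1 : D.M → ℂ) D.oneK = 0 := by
    rw [← classInner_conj_symm, D.classInner_oneK_fam, map_zero]
  rw [alpha, alpha, classInner_sub_left, classInner_sub_right, classInner_sub_right,
    D.classInner_oneK_self, D.classInner_oneK_fam, h2, D.classInner_fam]
  ring

theorem isGeneralizedCharacter_alpha (c : D.Fam) : IsGeneralizedCharacter D.M (D.alpha c) :=
  ⟨_, _, IsCharacter.indFun D.K' isCharacter_one, irr_isCharacter c.1, rfl⟩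

theorem alpha_apply_eq_zero (c : D.Fam) {x : D.M} (hx : (x : G) ∉ (D.K : Set G) \ {1}) :
    D.alpha c x = 0 := by
  by_cases hxK : (x : G) ∈ D.K
  · have h1 : (x : G) = 1 := by
      by_contra h
      exact hx ⟨hxK, h⟩
    have h1' : x = 1 := Subtype.ext h1
    rw [h1', alpha, Pi.sub_apply, D.oneK_apply D.K'.one_mem, c.2.2, sub_self]
  · rw [alpha, Pi.sub_apply, show D.oneK x = 0 from indFun_vanish D.K' _ hxK,
      frob_vanish D.K' D.hC c.1.2 c.2.1 hxK, sub_self]

theorem alpha_one (c : D.Fam) : D.alpha c 1 = 0 :=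
  D.alpha_apply_eq_zero c (by simp)

/-- The induced virtual character. -/
noncomputable def tau (c : D.Fam) : G → ℂ := indFun D.M (D.alpha c)

theorem isGeneralizedCharacter_tau (c : D.Fam) : IsGeneralizedCharacter G (D.tau c) :=
  IsGeneralizedCharacter.indFun D.M (D.isGeneralizedCharacter_alpha c)

theorem tau_one (c : D.Fam) : D.tau c 1 = 0 := by
  rw [tau, indFun_one, D.alpha_one, mul_zero]

theorem classInner_tau (c c' : D.Fam) :
    classInner (D.tau c) (D.tau c') = (D.e : ℂ) + if c = c' then 1 else 0 := by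
  rw [tau, tau, classInner_indFun_indFun_eq D.M ((D.K : Set G) \ {1})
    (IsGeneralizedCharacter.isClassFunction (D.isGeneralizedCharacter_alpha c'))
    (fun x hx => D.alpha_apply_eq_zero c' hx) ?_, D.classInner_alpha]
  intro t ht x hx hmem
  apply hx
  have htK : (t : G) ∈ D.K ∧ (t : G) ≠ 1 := by
    by_contra h
    exact ht (D.alpha_apply_eq_zero c h)
  by_contra hxM
  exact hmem.2 (D.ti x hxM _ hmem.1 (by simpa [mul_assoc] using htK.1))

theorem classInner_tau_one (c : D.Fam) : classInner (D.tau c) (fun _ : G => (1 : ℂ)) = 1 := by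
  rw [tau, classInner_indFun D.M _ (fun _ _ => rfl)]
  rw [alpha, classInner_sub_left, D.classInner_oneK_one]
  have hne : (c.1 : D.M → ℂ) ≠ fun _ => 1 := by
    obtain ⟨k, -, hk⟩ := c.2.1
    exact fun h => hk (by rw [h])
  rw [IsIrrCharacter.classInner_ne c.1.2 isIrrCharacter_one hne, sub_zero]

theorem tau_apply_eq_zero (c : D.Fam) {g : G}
    (hg : ∀ x : G, x⁻¹ * g * x ∈ D.K → x⁻¹ * g * x = 1) : D.tau c g = 0 := by
  rw [tau, indFun_apply, Finset.sum_eq_zero fun x _ => ?_, mul_zero]
  by_cases hm : x⁻¹ * g * x ∈ D.M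
  · rw [extendByZero_of_mem _ _ hm]
    exact D.alpha_apply_eq_zero c fun h => h.2 (hg x h.1)
  · exact extendByZero_of_not_mem _ _ hm

theorem classInner_tau_sub (c₁ c₂ c₃ c₄ : D.Fam) :
    classInner (D.tau c₂ - D.tau c₁) (D.tau c₄ - D.tau c₃) =
      classInner ((c₁.1 : D.M → ℂ) - (c₂.1 : D.M → ℂ)) ((c₃.1 : D.M → ℂ) - (c₄.1 : D.M → ℂ)) := by
  simp only [classInner_sub_left, classInner_sub_right, D.classInner_tau, D.classInner_fam]
  ring

theorem exists_theta :
    ∃ (ε : ℤ) (θ : D.Fam → IrrCharacter G), (ε = 1 ∨ ε = -1) ∧ Function.Injective θ ∧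
      ∀ c c', D.tau c' - D.tau c = (ε : ℂ) • ((θ c : G → ℂ) - (θ c' : G → ℂ)) := by
  classical
  cases isEmpty_or_nonempty D.Fam with
  | inl h => exact ⟨1, fun c => isEmptyElim c, Or.inl rfl, fun c => isEmptyElim c, fun c => isEmptyElim c⟩
  | inr h =>
    obtain ⟨c₀⟩ := h
    let E := Fintype.equivFin D.Fam
    have hne : ∀ i, i ≠ E c₀ → E.symm i ≠ c₀ :=
      fun i hi h => hi (by rw [← h, Equiv.apply_symm_apply])
    obtain ⟨ε, hε, μ, hμ, hμi, hτ⟩ := exists_sign_of_gram (Fintype.card D.Fam) (E c₀)
      (fun i => D.tau c₀ - D.tau (E.symm i)) (by simp)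
      (fun i => IsGeneralizedCharacter.sub (D.isGeneralizedCharacter_tau _)
        (D.isGeneralizedCharacter_tau _))
      (fun i => by simp [D.tau_one]) (fun i j hi hj => by
        rw [D.classInner_tau_sub, classInner_sub_left, classInner_sub_right, classInner_sub_right,
          D.classInner_fam, D.classInner_fam, D.classInner_fam, D.classInner_fam,
          if_neg (hne i hi), if_neg (hne j hj).symm, if_pos rfl]
        by_cases hij : i = j
        · rw [if_pos hij, if_pos (congrArg E.symm hij)]; norm_num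
        · rw [if_neg hij, if_neg fun h => hij (E.symm.injective h)]; norm_num)
    obtain ⟨η, hη, hη'⟩ : ∃ η : ℤ, (η = 1 ∨ η = -1) ∧ (η : ℂ) = ε := by
      rcases hε with h | h
      · exact ⟨1, Or.inl rfl, by simp [h]⟩
      · exact ⟨-1, Or.inr rfl, by simp [h]⟩
    refine ⟨η, fun c => ⟨μ (E c), hμ _⟩, hη, fun a b h => ?_, fun c c' => ?_⟩
    · exact E.injective (hμi (congrArg Subtype.val h))
    · have e1 := hτ (E c)
      have e2 := hτ (E c')
      simp only [Equiv.symm_apply_apply] at e1 e2
      rw [hη', ← sub_sub_sub_cancel_left _ _ (D.tau c₀), e1, e2, ← smul_sub,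
        sub_sub_sub_cancel_right]

/-- The common sign of the exceptional characters. -/
noncomputable def eps : ℤ := D.exists_theta.choose

/-- The exceptional characters. -/
noncomputable def theta : D.Fam → IrrCharacter G := D.exists_theta.choose_spec.choose

theorem eps_eq : D.eps = 1 ∨ D.eps = -1 := D.exists_theta.choose_spec.choose_spec.1

theorem theta_injective : Function.Injective D.theta := D.exists_theta.choose_spec.choose_spec.2.1

theorem tau_sub (c c' : D.Fam) :
    D.tau c' - D.tau c = (D.eps : ℂ) • ((D.theta c : G → ℂ) - (D.theta c' : G → ℂ)) :=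
  D.exists_theta.choose_spec.choose_spec.2.2 c c'

open scoped Classical in
/-- Lower bound for the norm of a class function on the non-identity elements of the kernel. -/
theorem sum_normSq_ge (ρ : D.M → ℂ) (v : D.Fam → ℝ)
    (hv : ∀ c, classInner ρ (D.alpha c) = (v c : ℂ)) :
    (Nat.card D.M : ℝ) *
        (∑ c, v c ^ 2 - (D.e : ℝ) / ((D.n : ℝ) * D.e + 1) * (∑ c, v c) ^ 2) ≤
      ∑ x ∈ Finset.univ.filter (fun x : D.M => x ∈ D.K' ∧ x ≠ 1), Complex.normSq (ρ x) := by
  classical
  set q : ℝ := (D.n : ℝ) * D.e + 1 with hq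
  have hq0 : q ≠ 0 := by positivity
  set T := ∑ c, v c with hT
  let a : D.Fam → ℝ := fun c => v c - (D.e : ℝ) / q * T
  let φ : D.M → ℂ := ∑ c, (a c : ℂ) • D.alpha c
  have hvan : ∀ x : D.M, x ∉ Finset.univ.filter (fun x : D.M => x ∈ D.K' ∧ x ≠ 1) → φ x = 0 := by
    intro x hx
    simp only [φ, Finset.sum_apply, Pi.smul_apply, smul_eq_mul]
    refine Finset.sum_eq_zero fun c _ => ?_
    rw [D.alpha_apply_eq_zero c, mul_zero]
    exact fun h => hx (Finset.mem_filter.mpr ⟨Finset.mem_univ _, h.1,
      fun h1 => h.2 (by rw [h1]; rfl)⟩)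
  set A := Finset.univ.filter (fun x : D.M => x ∈ D.K' ∧ x ≠ 1) with hA
  have hS : ∑ c, a c = T - (D.n : ℝ) * ((D.e : ℝ) / q * T) := by
    simp [a, Finset.sum_sub_distrib, hT, n]
  set N := ∑ c, v c ^ 2 - (D.e : ℝ) / q * T ^ 2 with hN
  have hB : classInner ρ φ = (N : ℂ) := by
    have h1 : classInner ρ φ = ((∑ c, a c * v c : ℝ) : ℂ) := by
      simp only [φ, classInner_sum_right, classInner_smul_right, Complex.conj_ofReal, hv]
      push_cast
      rfl
    rw [h1]
    congr 1
    simp only [a, sub_mul, Finset.sum_sub_distrib, hN, mul_assoc, ← Finset.mul_sum, ← hT]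
    simp only [sq]
  have hC : classInner φ φ = (N : ℂ) := by
    have h1 : classInner φ φ = (((D.e : ℝ) * (∑ c, a c) ^ 2 + ∑ c, a c ^ 2 : ℝ) : ℂ) := by
      simp only [φ, classInner_sum_left, classInner_sum_right, classInner_smul_left,
        classInner_smul_right, Complex.conj_ofReal, D.classInner_alpha, mul_add,
        Finset.sum_add_distrib, mul_ite, mul_one, mul_zero, Finset.sum_ite_eq, Finset.mem_univ,
        if_true]
      push_cast
      simp only [← sq, Finset.sum_mul, Finset.mul_sum]
      congr 1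
      · simp only [sq, Finset.sum_mul, Finset.mul_sum]
        exact Finset.sum_congr rfl fun x _ => Finset.sum_congr rfl fun y _ => by ring
      · refine Finset.sum_congr rfl fun x _ => ?_
        rw [← Finset.mul_sum, Finset.sum_ite_eq', if_pos (Finset.mem_univ _), sq]
    rw [h1]
    congr 1
    rw [hS]
    simp only [a, sub_sq, Finset.sum_add_distrib, Finset.sum_sub_distrib, Finset.sum_const,
      Finset.card_univ, nsmul_eq_mul, ← Finset.sum_mul, ← Finset.mul_sum, mul_assoc, hN, ← hT]
    have hqe : q = (D.n : ℝ) * D.e + 1 := hq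
    rw [show (Fintype.card D.Fam : ℝ) = (D.n : ℝ) from rfl]
    field_simp
    rw [hqe]
    ring
  have hBsum : ∑ x ∈ A, (ρ x * conj (φ x)).re = (Nat.card D.M : ℝ) * N := by
    have h1 : ∑ x ∈ A, ρ x * conj (φ x) = (Nat.card D.M : ℂ) * (N : ℂ) := by
      rw [← hB, classInner, ← mul_assoc, mul_inv_cancel₀ natCard_ne_zero_complex, one_mul]
      refine Finset.sum_subset (Finset.subset_univ A) fun x _ hx => ?_
      rw [hvan x hx, map_zero, mul_zero]
    rw [← Complex.re_sum, h1]
    simp
  have hCsum : ∑ x ∈ A, Complex.normSq (φ x) = (Nat.card D.M : ℝ) * N := by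
    have h1 : ((∑ x ∈ A, Complex.normSq (φ x) : ℝ) : ℂ) = (Nat.card D.M : ℂ) * (N : ℂ) := by
      rw [← hC, classInner, ← mul_assoc, mul_inv_cancel₀ natCard_ne_zero_complex, one_mul,
        Complex.ofReal_sum]
      rw [Finset.sum_congr rfl fun x _ => (Complex.mul_conj (φ x)).symm]
      refine Finset.sum_subset (Finset.subset_univ A) fun x _ hx => ?_
      rw [hvan x hx, zero_mul]
    exact_mod_cast h1
  have hnn : 0 ≤ ∑ x ∈ A, Complex.normSq (ρ x - φ x) :=
    Finset.sum_nonneg fun x _ => Complex.normSq_nonneg _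
  simp only [Complex.normSq_sub, Finset.sum_sub_distrib, Finset.sum_add_distrib,
    ← Finset.mul_sum, hBsum, hCsum] at hnn
  linarith

variable [Group.IsNilpotent D.K]

theorem n_mul_e_add_one : D.n * D.e + 1 = (commutator D.K').index := by
  classical
  haveI : Fintype (IrrCharacter D.K') := Fintype.ofFinite _
  have hlin := card_linear_irr (G := D.K')
  rw [Nat.card_eq_fintype_card, Fintype.card_subtype] at hlin
  set Lset := Finset.univ.filter fun lam : IrrCharacter D.K' => (lam : D.K' → ℂ) 1 = 1
  have htriv : trivIrr D.K' ∈ Lset := Finset.mem_filter.mpr ⟨Finset.mem_univ _, rfl⟩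
  set L' := Lset.erase (trivIrr D.K')
  have hL' : ∀ lam ∈ L', (lam : D.K' → ℂ) 1 = 1 ∧ (lam : D.K' → ℂ) ≠ fun _ => 1 := fun lam h =>
    ⟨(Finset.mem_filter.mp (Finset.mem_of_mem_erase h)).2,
      fun he => Finset.ne_of_mem_erase h (Subtype.ext he)⟩
  have hirr : ∀ lam ∈ L', IsIrrCharacter D.M (indFun D.K' (lam : D.K' → ℂ)) := by
    intro lam h
    refine isIrrCharacter_indFun_of_inertia D.K' lam.2 fun g hg => ?_
    have h1 := frob_inertia D.K' D.hC lam (hL' lam h).2
    exact h1 ▸ (mem_inertia_iff D.K').mpr hg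
  have hmem : ∀ lam (h : lam ∈ L'), D.InFam ⟨_, hirr lam h⟩ := by
    intro lam h
    refine ⟨?_, ?_⟩
    · by_contra hr
      have hc : classInner (indFun D.K' (lam : D.K' → ℂ)) (indFun D.K' (lam : D.K' → ℂ)) = 1 :=
        IsIrrCharacter.classInner_self (hirr lam h)
      conv_lhs at hc => rw [classInner_indFun D.K' _ (isClassFunction_indFun _ _)]
      have hd : ∀ k : D.K', indFun D.K' (lam : D.K' → ℂ) k = (D.e : ℂ) := by
        intro k
        have : indFun D.K' (lam : D.K' → ℂ) k = indFun D.K' (lam : D.K' → ℂ) 1 := by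
          by_contra hne
          exact hr ⟨k, k.2, hne⟩
        rw [this, indFun_one, (hL' lam h).1, mul_one]
        rfl
      rw [show (fun k : D.K' => indFun D.K' (lam : D.K' → ℂ) k) =
        (D.e : ℂ) • fun _ : D.K' => (1 : ℂ) from funext fun k => by simp [hd k],
        classInner_smul_right, IsIrrCharacter.classInner_ne lam.2 isIrrCharacter_one (hL' lam h).2,
        mul_zero] at hc
      exact zero_ne_one hc
    · show indFun D.K' (lam : D.K' → ℂ) 1 = _
      rw [indFun_one, (hL' lam h).1, mul_one]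
      rfl
  let f : {lam // lam ∈ L'} → D.Fam := fun lam => ⟨⟨_, hirr lam lam.2⟩, hmem lam lam.2⟩
  have hfib : ∀ c : D.Fam, (Finset.univ.filter fun lam => f lam = c).card = D.e := by
    intro c
    obtain ⟨θ, hθ⟩ := IsCharacter.exists_constituent (IsCharacter.restrict (irr_isCharacter c.1) D.K')
      (fun h => IsIrrCharacter.apply_one_ne_zero c.1.2 (congrFun h 1))
    have hθne : (θ : D.K' → ℂ) ≠ fun _ => 1 := by
      intro h1
      apply hθ
      rw [h1, ← avgN_one, frob_avg_of_relevant D.K' c.1.2 c.2.1, Pi.zero_apply]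
    have hI := frob_inertia D.K' D.hC θ hθne
    have hθ1 : (θ : D.K' → ℂ) 1 = 1 := by
      have h := degree_eq D.K' c.1.2 θ.2 hθ
      obtain ⟨m, hm⟩ := IsCharacter.exists_classInner_nat
        (IsCharacter.restrict (irr_isCharacter c.1) D.K') (irr_isCharacter θ)
      obtain ⟨t, ht, ht'⟩ := IsIrrCharacter.exists_apply_one θ.2
      rw [hI, c.2.2, hm, ht'] at h
      have h' : D.e = m * D.e * t := by
        simp only [e] at h ⊢
        exact_mod_cast h
      have hm0 : m ≠ 0 := fun h0 => hθ (by rw [hm, h0, Nat.cast_zero])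
      have : m * t = 1 := Nat.eq_of_mul_eq_mul_right D.e_pos (by linarith)
      rw [ht', Nat.eq_one_of_mul_eq_one_left this, Nat.cast_one]
    have hbij : Nat.card {lam : {lam // lam ∈ L'} // f lam = c} =
        Nat.card (Set.range fun g : D.M => conjFun D.K' g (θ : D.K' → ℂ)) := by
      refine Nat.card_eq_of_bijective
        (fun lam => ⟨(lam.1.1 : D.K' → ℂ), ?_⟩) ⟨fun a b hab => ?_, ?_⟩
      · have h1 : classInner (fun k : D.K' => (c.1 : D.M → ℂ) k) (lam.1.1 : D.K' → ℂ) ≠ 0 := by
          have he : indFun D.K' (lam.1.1 : D.K' → ℂ) = (c.1 : D.M → ℂ) :=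
            congrArg (fun c : D.Fam => (c.1 : D.M → ℂ)) lam.2
          have h2 := IsIrrCharacter.classInner_self c.1.2
          conv_lhs at h2 => arg 2; rw [← he]
          rw [classInner_indFun_right D.K' _ (irr_isClassFunction c.1)] at h2
          rw [h2]
          exact one_ne_zero
        exact exists_conjFun_eq D.K' c.1.2 θ.2 lam.1.1.2 hθ h1
      · have h := congrArg Subtype.val hab
        exact Subtype.ext (Subtype.ext (Subtype.ext h))
      · rintro ⟨_, g, rfl⟩
        let lam : IrrCharacter D.K' := ⟨_, IsIrrCharacter.conjFun D.K' θ.2 g⟩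
        have hl1 : (lam : D.K' → ℂ) 1 = 1 := (conjFun_apply_one D.K' g _).trans hθ1
        have hlne : (lam : D.K' → ℂ) ≠ fun _ => 1 := by
          intro he
          apply hθne
          funext k
          have := congrFun he ⟨g⁻¹ * k * g, by
            simpa using D.normal.conj_mem _ k.2 g⁻¹⟩
          refine Eq.trans ?_ this
          exact congrArg (θ : D.K' → ℂ) (Subtype.ext (by simp [mul_assoc]))
        have hlL : lam ∈ L' := Finset.mem_erase.mpr
          ⟨fun he => hlne (congrArg Subtype.val he), Finset.mem_filter.mpr ⟨Finset.mem_univ _, hl1⟩⟩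
        refine ⟨⟨⟨lam, hlL⟩, Subtype.ext (Subtype.ext ?_)⟩, rfl⟩
        show indFun D.K' (lam : D.K' → ℂ) = (c.1 : D.M → ℂ)
        have hcl : classInner (indFun D.K' (lam : D.K' → ℂ)) (c.1 : D.M → ℂ) ≠ 0 := by
          rw [classInner_indFun D.K' _ (irr_isClassFunction c.1), ← classInner_conj_symm]
          intro h0
          rw [map_eq_zero] at h0
          exact hθ ((classInner_restrict_conjFun D.K' (irr_isClassFunction c.1) g θ).symm.trans h0)
        by_contra hne'
        exact hcl (IsIrrCharacter.classInner_ne (hirr lam hlL) c.1.2 hne')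
    rw [← Fintype.card_subtype, ← Nat.card_eq_fintype_card, hbij, card_conjugates, hI]
    rfl
  have hcount : L'.card = D.n * D.e := by
    rw [← Fintype.card_coe L', ← Finset.card_univ,
      Finset.card_eq_sum_card_fiberwise (f := f) (t := Finset.univ) (fun _ _ => Finset.mem_univ _),
      Finset.sum_congr rfl fun c _ => hfib c, Finset.sum_const, Finset.card_univ, smul_eq_mul]
    rfl
  rw [← hlin, ← hcount, ← Finset.card_erase_add_one htriv]

end TIDatum

end Cfsg.Agent.Lib.Characters
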