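import Cfsg.Agent.Lib.Characters.TwoDegrees

/-!
# `p`-groups with the character degrees `1` and `p`

Such a group has an abelian subgroup of index `p` or a centre of index `p ^ 3`.
-/

set_option autoImplicit false
set_option linter.unusedSectionVars false
set_option linter.style.haveILetI false
set_option maxHeartbeats 1000000

namespace Cfsg.Agent.Lib.Characters

open Cfsg Cfsg.Agent.Lib.Blocks
open scoped ComplexConjugate commutatorElement

universe u

namespace TwoDegrees

variable {P : Type u} [Group P] [Finite P] {p : ℕ} [hp : Fact p.Prime]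

theorem sq_degree_mul_card_center_le {G : Type u} [Group G] [Finite G] (χ : IrrCharacter G) :
    charDegree (χ : G → ℂ) ^ 2 * Nat.card (Subgroup.center G) ≤ Nat.card G := by
  classical
  haveI := Fintype.ofFinite G
  set d := charDegree (χ : G → ℂ) with hd
  have hself := IsIrrCharacter.classInner_self χ.2
  have hsum : ∑ g, Complex.normSq ((χ : G → ℂ) g) = (Nat.card G : ℝ) := by
    have h : ((∑ g, Complex.normSq ((χ : G → ℂ) g) : ℝ) : ℂ) = (Nat.card G : ℂ) := by
      rw [classInner, inv_mul_eq_iff_eq_mul₀ natCard_ne_zero_complex, mul_one] at hself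
      rw [← hself, Complex.ofReal_sum]
      exact Finset.sum_congr rfl fun g _ => (Complex.mul_conj _).symm
    exact_mod_cast h
  have hz : ∀ z ∈ Subgroup.center G, Complex.normSq ((χ : G → ℂ) z) = (d : ℝ) ^ 2 := by
    intro z hz
    obtain ⟨n, ρ, hρ, hχ⟩ := χ.2
    obtain ⟨ω, hω⟩ := exists_smul_of_commute ρ (ρ z) fun g => by
      rw [← map_mul, ← map_mul, Subgroup.mem_center_iff.mp hz g]
    have hv : (χ : G → ℂ) z = ω * (d : ℂ) := by
      rw [hd, ← apply_one_eq, ← hχ, Representation.character, Representation.character, hω, map_one,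
        ← Module.End.one_eq_id, map_smul, smul_eq_mul]
    have hω1 : Complex.normSq ω = 1 := by
      have h1 := rep_pow_card ρ z
      rw [hω, ← Module.End.one_eq_id, smul_pow, one_pow] at h1
      have h2 := congrArg (LinearMap.trace ℂ (Fin n → ℂ)) h1
      rw [map_smul, LinearMap.trace_one, smul_eq_mul] at h2
      have hd' : ((Module.finrank ℂ (Fin n → ℂ) : ℕ) : ℂ) ≠ 0 :=
        Nat.cast_ne_zero.mpr (finrank_pos_of_isIrreducible ρ).ne'
      rw [Complex.normSq_eq_norm_sq,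
        norm_eq_one_of_pow_eq_one' Nat.card_pos.ne' (mul_eq_right₀ hd' |>.mp h2)]
      norm_num
    rw [hv, Complex.normSq_mul, hω1, one_mul, Complex.normSq_natCast, pow_two]
  have hle := Finset.sum_le_sum_of_subset_of_nonneg
    (f := fun g : G => Complex.normSq ((χ : G → ℂ) g))
    (Finset.subset_univ (Finset.univ.filter fun g : G => g ∈ Subgroup.center G))
    (fun g _ _ => Complex.normSq_nonneg _)
  rw [hsum, Finset.sum_congr rfl (fun g hg => hz g (Finset.mem_filter.1 hg).2), Finset.sum_const,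
    nsmul_eq_mul] at hle
  have hc : (Finset.univ.filter fun g : G => g ∈ Subgroup.center G).card =
      Nat.card (Subgroup.center G) := by
    rw [Nat.card_eq_fintype_card, Fintype.card_subtype]
  rw [hc, mul_comm] at hle
  exact_mod_cast hle

/-- Membership in the subgroup generated by two central elements. -/
theorem mem_span_pair {G : Type u} [Group G] {u v c : G} (hu : u ∈ Subgroup.center G)
    (hc : c ∈ Subgroup.zpowers u ⊔ Subgroup.zpowers v) : ∃ i j : ℤ, c = u ^ i * v ^ j := by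
  haveI : (Subgroup.zpowers u).Normal := ⟨fun x hx g => by
    obtain ⟨k, rfl⟩ := Subgroup.mem_zpowers_iff.1 hx
    rwa [Subgroup.mem_center_iff.1 (zpow_mem hu k) g, mul_inv_cancel_right]⟩
  obtain ⟨y, hy, z, hz, rfl⟩ := Subgroup.mem_sup_of_normal_left.1 hc
  obtain ⟨i, rfl⟩ := Subgroup.mem_zpowers_iff.1 hy
  obtain ⟨j, rfl⟩ := Subgroup.mem_zpowers_iff.1 hz
  exact ⟨i, j, rfl⟩

theorem mem_of_zpow_mem {G : Type u} [Group G] {S : Subgroup G} {w : G} (hw : w ^ p = 1) {k : ℤ}
    (hk : ¬ (p : ℤ) ∣ k) (h : w ^ k ∈ S) : w ∈ S := by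
  obtain ⟨a, b, hab⟩ : IsCoprime k (p : ℤ) :=
    ((Nat.prime_iff_prime_int.1 hp.out).coprime_iff_not_dvd.2 hk).symm
  have : w = (w ^ k) ^ a * (w ^ (p : ℤ)) ^ b := by
    rw [← zpow_mul, ← zpow_mul, ← zpow_add, mul_comm k a, mul_comm (p : ℤ) b, hab, zpow_one]
  rw [this, zpow_natCast, hw, one_zpow, mul_one]
  exact zpow_mem h a

theorem zpow_eq_one_of_dvd {G : Type u} [Group G] {w : G} (hw : w ^ p = 1) {k : ℤ}
    (hk : (p : ℤ) ∣ k) : w ^ k = 1 := by
  obtain ⟨c, rfl⟩ := hk
  rw [zpow_mul, zpow_natCast, hw, one_zpow]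

/-- `p`-groups with degrees `1` and `p`. -/
theorem index_center_or (hP : IsPGroup p P) (hcd : DegLE P p)
    (hna : ¬ ∀ a b : P, a * b = b * a) :
    (∃ B : Subgroup P, B.Normal ∧ (∀ a ∈ B, ∀ b ∈ B, a * b = b * a) ∧ B.index = p) ∨
      (Subgroup.center P).index = p ^ 3 := by
  classical
  haveI := Fintype.ofFinite P
  haveI := hP.isNilpotent
  -- a maximal abelian subgroup above the derived subgroup
  obtain ⟨A, hA0, hAmax⟩ := Finite.exists_le_maximal
    (p := fun A : Subgroup P => commutator P ≤ A ∧ ∀ a ∈ A, ∀ b ∈ A, a * b = b * a)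
    (a := commutator P) ⟨le_rfl, commutator_comm_of_nilpotent hcd⟩
  obtain ⟨hPA, hAab⟩ := hAmax.prop
  haveI hAn : A.Normal := ⟨fun x hx g => by
    have h1 := mul_mem (hPA (Subgroup.commutator_mem_commutator (Subgroup.mem_top g)
      (Subgroup.mem_top x))) hx
    rwa [commutatorElement_def, inv_mul_cancel_right] at h1⟩
  have hCA : ∀ x : P, (∀ a ∈ A, x * a = a * x) → x ∈ A := by
    intro x hx
    have hle : A ≤ A ⊔ Subgroup.zpowers x := le_sup_left
    refine (hAmax.eq_of_le ⟨hA0.trans hle, ?_⟩ hle).symm ▸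
      Subgroup.mem_sup_right (Subgroup.mem_zpowers x)
    intro a ha b hb
    obtain ⟨a0, ha0, y, hy, rfl⟩ := Subgroup.mem_sup_of_normal_left.1 ha
    obtain ⟨b0, hb0, z, hz, rfl⟩ := Subgroup.mem_sup_of_normal_left.1 hb
    obtain ⟨i, rfl⟩ := Subgroup.mem_zpowers_iff.1 hy
    obtain ⟨j, rfl⟩ := Subgroup.mem_zpowers_iff.1 hz
    have c1 : ∀ a ∈ A, ∀ k : ℤ, Commute (x ^ k) a := fun a ha k => (show Commute x a from hx a ha).zpow_left k
    exact ((show Commute a0 b0 from hAab a0 ha0 b0 hb0).mul_right (c1 a0 ha0 j).symm).mul_left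
      ((c1 b0 hb0 i).mul_right ((Commute.refl x).zpow_zpow i j))
  have hcenA : Subgroup.center P ≤ A := fun z hz => hCA z fun a _ =>
    (Subgroup.mem_center_iff.1 hz a).symm
  have hAtop : A ≠ ⊤ := fun h => hna fun a b =>
    hAab a (h ▸ Subgroup.mem_top a) b (h ▸ Subgroup.mem_top b)
  have hAi1 : A.index ≠ 1 := fun h => hAtop (Subgroup.index_eq_one.1 h)
  obtain ⟨k, hk⟩ := hP.index A
  by_cases hk1 : k ≤ 1
  · refine Or.inl ⟨A, hAn, hAab, ?_⟩
    interval_cases k
    · simp at hk; exact absurd hk hAtop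
    · simpa using hk
  push Not at hk1
  -- the stabilizers of the linear characters of `A`
  let S : (A →* ℂˣ) → Subgroup P := fun lam =>
    (stab A ⊤ lam).map (⊤ : Subgroup P).subtype
  have hSmem : ∀ lam x, x ∈ S lam ↔ act A x lam = lam := by
    intro lam x
    constructor
    · rintro ⟨y, hy, rfl⟩; exact hy
    · exact fun h => ⟨⟨x, Subgroup.mem_top x⟩, h, rfl⟩
  have hactA : ∀ lam, ∀ x ∈ A, act A x lam = lam := fun lam x hx => MonoidHom.ext fun a => by
    rw [act_apply]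
    exact congrArg lam (Subtype.ext (by
      rw [MulAut.conjNormal_apply, hAab x hx a a.2, mul_inv_cancel_right]))
  have hcomm : ∀ lam (x y : P), act A y (act A x lam) = act A x (act A y lam) := by
    intro lam x y
    have hc : ⁅x, y⁆ ∈ A :=
      hPA (Subgroup.commutator_mem_commutator (Subgroup.mem_top x) (Subgroup.mem_top y))
    rw [act_act, act_act, show x * y = ⁅x, y⁆ * (y * x) by simp [commutatorElement_def, mul_assoc],
      ← act_act A ⁅x, y⁆ (y * x), hactA lam _ hc]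
  have hAS : ∀ lam, A ≤ S lam := fun lam x hx => (hSmem lam x).2 (hactA lam x hx)
  have hSidx : ∀ lam, (S lam).index = 1 ∨ (S lam).index = p := by
    intro lam
    obtain ⟨χ, d, e, hd, hχ⟩ := InvChar.ItoMichler.exists_over A
      (⟨_, isIrrCharacter_unitsHom lam⟩ : IrrCharacter A)
    have hin : inertia A (fun a => (lam a : ℂ)) = S lam := by
      ext x
      rw [mem_inertia_iff, hSmem]
      exact ⟨fun h => MonoidHom.ext fun a => Units.ext (congrFun h a),
        fun h => funext fun a => congrArg Units.val (DFunLike.congr_fun h a)⟩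
    simp only [hin] at hχ
    have hdvd : (S lam).index ∣ charDegree (χ : P → ℂ) := by
      rw [InvChar.ItoMichler.charDegree_eq hχ]
      exact (Dvd.intro_left e rfl).mul_right d
    rcases hcd χ with h | h <;> rw [h] at hdvd
    · exact Or.inl (Nat.dvd_one.1 hdvd)
    · exact (Nat.dvd_prime hp.out).1 hdvd
  have hSn : ∀ lam, (S lam).Normal := fun lam => ⟨fun x hx g => by
    have h1 := mul_mem (hAS lam (hPA (Subgroup.commutator_mem_commutator (Subgroup.mem_top g)
      (Subgroup.mem_top x)))) hx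
    rwa [commutatorElement_def, inv_mul_cancel_right] at h1⟩
  let Δ : P → (A →* ℂˣ) → (A →* ℂˣ) := fun x lam => act A x lam / lam
  have hΔact : ∀ x lam, act A x lam = Δ x lam * lam := fun x lam =>
    (div_mul_cancel (act A x lam) lam).symm
  have hSΔ : ∀ lam x, x ∈ S lam ↔ Δ x lam = 1 := fun lam x => by
    rw [hSmem]; exact (div_eq_one (a := act A x lam) (b := lam)).symm
  have hmoved : ∀ lam, S lam ≠ ⊤ → (S lam).index = p := fun lam h =>
    (hSidx lam).resolve_left fun h1 => h (Subgroup.index_eq_one.1 h1)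
  have heqS : ∀ lam mu, S lam ≠ ⊤ → S mu ≠ ⊤ → S lam ≤ S mu → S lam = S mu := by
    intro lam mu h1 h2 hle
    refine Subgroup.eq_of_le_of_card_ge hle (le_of_eq ?_)
    have e1 := (S lam).card_mul_index
    have e2 := (S mu).card_mul_index
    rw [hmoved lam h1, ← e2, hmoved mu h2] at e1
    exact (Nat.eq_of_mul_eq_mul_right hp.out.pos e1).symm
  -- generation modulo a stabilizer
  have hgen : ∀ lam, S lam ≠ ⊤ → ∀ e, e ∉ S lam → ∀ x : P, ∃ n : ℕ, (e ^ n)⁻¹ * x ∈ S lam := by
    intro lam hl e he x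
    haveI := hSn lam
    have hc : Nat.card (P ⧸ S lam) = p := by rw [← Subgroup.index_eq_card, hmoved lam hl]
    obtain ⟨n, hn⟩ := Submonoid.mem_powers_iff _ _ |>.1 (mem_powers_of_prime_card hc
      (g := (e : P ⧸ S lam)) (fun h => he ((QuotientGroup.eq_one_iff e).1 h)) (g' := (x : P ⧸ S lam)))
    exact ⟨n, QuotientGroup.eq.1 (by rw [← hn, QuotientGroup.mk_pow])⟩
  -- two moved characters with different stabilizers have the same displacement
  have hkey : ∀ lam mu, S lam ≠ ⊤ → S mu ≠ ⊤ → S lam ≠ S mu →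
      ∃ v, v ≠ 1 ∧ v ^ p = 1 ∧ (∀ x, act A x v = v) ∧
        (∀ x, ∃ n : ℕ, Δ x lam = v ^ n) ∧ ∀ x, ∃ n : ℕ, Δ x mu = v ^ n := by
    intro lam mu hl hm hne
    obtain ⟨e, heS, heT⟩ : ∃ e ∈ S mu, e ∉ S lam := by
      by_contra h
      push Not at h
      exact hne (heqS mu lam hm hl h).symm
    obtain ⟨f, hfT, hfS⟩ : ∃ f ∈ S lam, f ∉ S mu := by
      by_contra h
      push Not at h
      exact hne (heqS lam mu hl hm h)
    have hW : S (lam * mu) ≠ ⊤ := by
      intro h
      refine heT ((hSmem _ _).2 ?_)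
      have h1 := (hSmem _ e).1 (h ▸ Subgroup.mem_top e : e ∈ S (lam * mu))
      rw [act_mul, (hSmem _ _).1 heS] at h1
      exact mul_right_cancel h1
    have heW : e ∉ S (lam * mu) := by
      intro h
      refine heT ((hSmem _ _).2 ?_)
      have h1 := (hSmem _ e).1 h
      rw [act_mul, (hSmem _ _).1 heS] at h1
      exact mul_right_cancel h1
    obtain ⟨n, hn⟩ := hgen _ hW e heW f
    have hen : act A (e ^ n) mu = mu := (hSmem _ _).1 (pow_mem heS n)
    have heq : act A f (lam * mu) = act A (e ^ n) (lam * mu) := by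
      have h1 : act A ((e ^ n)⁻¹ * f) (lam * mu) = lam * mu := (hSmem _ _).1 hn
      conv_rhs => rw [← h1]
      rw [hcomm, act_act]
      congr 1
      group
    rw [act_mul, act_mul, (hSmem _ _).1 hfT, hen, hΔact f mu, hΔact (e ^ n) lam] at heq
    have hvv : Δ f mu = Δ (e ^ n) lam := by
      refine MonoidHom.ext fun a => ?_
      have := DFunLike.congr_fun heq a
      simp only [MonoidHom.mul_apply] at this
      calc Δ f mu a = (lam a)⁻¹ * (lam a * (Δ f mu a * mu a)) * (mu a)⁻¹ := by group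
        _ = (lam a)⁻¹ * (Δ (e ^ n) lam a * lam a * mu a) * (mu a)⁻¹ := by rw [this]
        _ = Δ (e ^ n) lam a := by rw [mul_comm (Δ (e ^ n) lam a)]; group
    set v := Δ f mu with hv
    have hv1 : v ≠ 1 := fun h => hfS ((hSΔ _ _).2 h)
    have hfixmu : ∀ x ∈ S mu, act A x v = v := by
      intro x hx
      show act A x (act A f mu / mu) = act A f mu / mu
      refine MonoidHom.ext fun a => ?_
      have e1 := DFunLike.congr_fun (hcomm mu f x) a
      rw [(hSmem _ _).1 hx] at e1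
      have e2 := DFunLike.congr_fun ((hSmem _ _).1 hx) a
      simp only [act_apply, MonoidHom.div_apply] at e1 e2 ⊢
      rw [e1, e2]
    have hfixlam : ∀ x ∈ S lam, act A x v = v := by
      intro x hx
      rw [hvv]
      show act A x (act A (e ^ n) lam / lam) = act A (e ^ n) lam / lam
      refine MonoidHom.ext fun a => ?_
      have e1 := DFunLike.congr_fun (hcomm lam (e ^ n) x) a
      rw [(hSmem _ _).1 hx] at e1
      have e2 := DFunLike.congr_fun ((hSmem _ _).1 hx) a
      simp only [act_apply, MonoidHom.div_apply] at e1 e2 ⊢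
      rw [e1, e2]
    have hfix : ∀ x, act A x v = v := by
      intro x
      obtain ⟨j, hj⟩ := hgen lam hl e heT x
      have : x = e ^ j * ((e ^ j)⁻¹ * x) := by group
      rw [this, ← act_act, hfixmu _ (pow_mem heS j), hfixlam _ hj]
    have hmul : ∀ (w : A →* ℂˣ) (g : P), (∀ x, act A x (Δ g w) = Δ g w) → ∀ j : ℕ,
        Δ (g ^ j) w = Δ g w ^ j := by
      intro w g hg j
      induction j with
      | zero =>
        rw [pow_zero]
        exact MonoidHom.ext fun a => by simp [Δ, act_one]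
      | succ j ih =>
        refine MonoidHom.ext fun a => ?_
        show (act A (g ^ (j + 1)) w / w) a = (Δ g w ^ (j + 1)) a
        have e0 : act A (g ^ (j + 1)) w = Δ g w * act A (g ^ j) w := by
          rw [pow_succ', ← act_act, hΔact g w, act_mul, hg]
        have e1 := DFunLike.congr_fun ih a
        rw [MonoidHom.div_apply, e0, MonoidHom.mul_apply, MonoidHom.pow_apply, pow_succ',
          mul_div_assoc, ← MonoidHom.div_apply]
        exact congrArg _ e1
    have hfp : f ^ p ∈ S mu := by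
      haveI := hSn mu
      rw [← QuotientGroup.eq_one_iff, QuotientGroup.mk_pow, ← hmoved mu hm, Subgroup.index_eq_card]
      exact pow_card_eq_one'
    have hvp : v ^ p = 1 := by
      rw [hv, ← hmul mu f hfix p]
      exact (hSΔ _ _).1 hfp
    have hshift : ∀ (w : A →* ℂˣ) (x y : P), y ∈ S w → Δ (x * y) w = Δ x w := by
      intro w x y hy
      show act A (x * y) w / w = act A x w / w
      rw [← act_act, hcomm, (hSmem _ _).1 hy]
    refine ⟨v, hv1, hvp, hfix, fun x => ?_, fun x => ?_⟩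
    · have hne' : e ^ n ∉ S lam := fun h => hv1 (hvv.trans ((hSΔ _ _).1 h))
      obtain ⟨j, hj⟩ := hgen lam hl _ hne' x
      refine ⟨j, ?_⟩
      rw [hvv, ← hmul lam (e ^ n) (fun y => by rw [← hvv]; exact hfix y) j,
        ← hshift lam ((e ^ n) ^ j) _ hj, mul_inv_cancel_left]
    · obtain ⟨j, hj⟩ := hgen mu hm f hfS x
      refine ⟨j, ?_⟩
      rw [hv, ← hmul mu f hfix j, ← hshift mu (f ^ j) _ hj, mul_inv_cancel_left]
  -- characters separate
  have hsep : ∀ W : Subgroup P, ∀ c, c ∈ A → c ∉ W → ∃ lam : A →* ℂˣ,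
      (∀ w : A, (w : P) ∈ W → lam w = 1) ∧ ∀ hc : c ∈ A, lam ⟨c, hc⟩ ≠ 1 := by
    intro W c hcA hcW
    have hab : ∀ x y : A, x * y = y * x := fun x y => Subtype.ext (hAab x x.2 y y.2)
    haveI : (W.subgroupOf A).Normal := ⟨fun x hx g => by rwa [hab g x, mul_inv_cancel_right]⟩
    obtain ⟨χ, hχ⟩ := exists_irr_ne_apply_one
      (g := QuotientGroup.mk' (W.subgroupOf A) ⟨c, hcA⟩)
      (fun h => hcW (Subgroup.mem_subgroupOf.1 ((QuotientGroup.eq_one_iff _).1 h)))
    have hq1 : ∀ x y : A ⧸ W.subgroupOf A, x * y = y * x := by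
      intro x y
      induction x using QuotientGroup.induction_on with | _ x =>
      induction y using QuotientGroup.induction_on with | _ y =>
      rw [← QuotientGroup.mk_mul, ← QuotientGroup.mk_mul, hab]
    obtain ⟨l, hl⟩ := IsCharacter.exists_hom_of_apply_one (irr_isCharacter χ)
      (IsIrrCharacter.apply_one_of_comm hq1 χ.2)
    refine ⟨l.comp (QuotientGroup.mk' _), fun w hw => ?_, fun hc h => hχ ?_⟩
    · rw [MonoidHom.comp_apply, show QuotientGroup.mk' (W.subgroupOf A) w = 1 from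
        (QuotientGroup.eq_one_iff _).2 (Subgroup.mem_subgroupOf.2 hw), map_one]
    · rw [MonoidHom.comp_apply] at h
      rw [hl]
      simp only [map_one]
      exact congrArg Units.val h
  have hsep1 : ∀ c, c ∈ A → c ≠ 1 → ∃ lam : A →* ℂˣ, ∀ hc : c ∈ A, lam ⟨c, hc⟩ ≠ 1 := fun c hc h1 => by
    obtain ⟨lam, -, h⟩ := hsep ⊥ c hc (by simpa [Subgroup.mem_bot] using h1)
    exact ⟨lam, h⟩
  -- an element fixing all characters lies in `A`
  have hfixA : ∀ x : P, (∀ lam, x ∈ S lam) → x ∈ A := by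
    intro x hx
    refine hCA x fun b hb => ?_
    by_contra hne
    have hm : x * b * x⁻¹ * b⁻¹ ∈ A := mul_mem (hAn.conj_mem b hb x) (inv_mem hb)
    obtain ⟨lam, hlam⟩ := hsep1 _ hm (fun h => hne (by
      calc x * b = x * b * x⁻¹ * b⁻¹ * b * x := by group
        _ = b * x := by rw [h, one_mul]))
    refine hlam hm ?_
    have h := DFunLike.congr_fun ((hSmem _ _).1 (hx lam)) ⟨b, hb⟩
    rw [act_apply] at h
    rw [show (⟨x * b * x⁻¹ * b⁻¹, hm⟩ : A) = MulAut.conjNormal x (⟨b, hb⟩ : A) * (⟨b, hb⟩ : A)⁻¹ from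
      Subtype.ext (by simp), map_mul, h, map_inv, mul_inv_cancel]
  obtain ⟨lam₁, hl1⟩ : ∃ lam, S lam ≠ ⊤ := by
    by_contra hall
    push Not at hall
    exact hAtop ((Subgroup.eq_top_iff' A).2 fun x => hfixA x fun lam => hall lam ▸ Subgroup.mem_top x)
  obtain ⟨mu₁, hm1, hlm⟩ : ∃ mu, S mu ≠ ⊤ ∧ S lam₁ ≠ S mu := by
    by_contra hall
    push Not at hall
    have hle : S lam₁ ≤ A := fun x hx => hfixA x fun mu => by
      by_cases h : S mu = ⊤
      · rw [h]; exact Subgroup.mem_top x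
      · rw [← hall mu h]; exact hx
    have h := Subgroup.index_dvd_of_le hle
    rw [hmoved lam₁ hl1, hk] at h
    have := Nat.le_of_dvd hp.out.pos h
    have : p ^ 2 ≤ p ^ k := Nat.pow_le_pow_right hp.out.pos hk1
    have := hp.out.two_le
    nlinarith
  obtain ⟨v, hv1, hvp, hvfix, hv2, hv3⟩ := hkey lam₁ mu₁ hl1 hm1 hlm
  have hrange : ∀ lam x, ∃ j : ℤ, Δ x lam = v ^ j := by
    intro lam x
    by_cases hl : S lam = ⊤
    · exact ⟨0, ((hSΔ _ _).1 (hl ▸ Subgroup.mem_top x)).trans (MonoidHom.ext fun b => by simp)⟩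
    have hstep : ∀ nu, S nu ≠ ⊤ → (∀ x, ∃ n : ℕ, Δ x nu = v ^ n) → S nu ≠ S lam →
        ∃ j : ℤ, Δ x lam = v ^ j := by
      intro nu hnu hnv hne
      obtain ⟨w, hw1, hwp, -, hw2, hw3⟩ := hkey nu lam hnu hl hne
      obtain ⟨y, hy⟩ : ∃ y, y ∉ S nu := by
        by_contra h
        push Not at h
        exact hnu ((Subgroup.eq_top_iff' _).2 h)
      obtain ⟨n, hn⟩ := hw2 y
      obtain ⟨n', hn'⟩ := hnv y
      have hwv : w ∈ Subgroup.zpowers v := by
        refine mem_of_zpow_mem (p := p) hwp (k := (n : ℤ)) ?_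
          (by rw [zpow_natCast, ← hn, hn']; exact Subgroup.npow_mem_zpowers v n')
        intro hd
        refine hy ((hSΔ _ _).2 ?_)
        obtain ⟨c, rfl⟩ := Int.natCast_dvd_natCast.1 hd
        refine hn.trans (MonoidHom.ext fun b => ?_)
        rw [MonoidHom.pow_apply, pow_mul, ← MonoidHom.pow_apply, hwp, MonoidHom.one_apply, one_pow]
      obtain ⟨n'', hn''⟩ := hw3 x
      obtain ⟨j, hj⟩ := Subgroup.mem_zpowers_iff.1 hwv
      exact ⟨j * n'', MonoidHom.ext fun b => by rw [hn'', ← hj]; simp [zpow_mul]⟩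
    by_cases h : S lam₁ = S lam
    · exact hstep mu₁ hm1 hv3 (fun h' => hlm (h.trans h'.symm))
    · exact hstep lam₁ hl1 hv2 h
  -- the centre has index `p` in `A`
  set Z := Subgroup.center P with hZ
  have hvZ : ∀ b (hb : b ∈ A), v ⟨b, hb⟩ = 1 ↔ b ∈ Z := by
    intro b hb
    constructor
    · intro hvb
      rw [hZ, Subgroup.mem_center_iff]
      intro x
      by_contra hne
      have hm : x * b * x⁻¹ * b⁻¹ ∈ A := mul_mem (hAn.conj_mem b hb x) (inv_mem hb)
      obtain ⟨lam, hlam⟩ := hsep1 _ hm (fun h => hne (by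
        calc x * b = x * b * x⁻¹ * b⁻¹ * b * x := by group
          _ = b * x := by rw [h, one_mul]))
      refine hlam hm ?_
      obtain ⟨j, hj⟩ := hrange lam x
      have h := DFunLike.congr_fun hj ⟨b, hb⟩
      rw [show (⟨x * b * x⁻¹ * b⁻¹, hm⟩ : A) = MulAut.conjNormal x (⟨b, hb⟩ : A) * (⟨b, hb⟩ : A)⁻¹ from
        Subtype.ext (by simp), map_mul, map_inv, ← div_eq_mul_inv]
      rw [← act_apply]
      calc act A x lam ⟨b, hb⟩ / lam ⟨b, hb⟩ = Δ x lam ⟨b, hb⟩ := rfl
        _ = (v ^ j) ⟨b, hb⟩ := h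
        _ = 1 := by simp [hvb]
    · intro hbZ
      obtain ⟨y, hy⟩ : ∃ y, y ∉ S lam₁ := by
        by_contra h
        push Not at h
        exact hl1 ((Subgroup.eq_top_iff' _).2 h)
      obtain ⟨n, hn⟩ := hv2 y
      have hfixb : Δ y lam₁ ⟨b, hb⟩ = 1 := by
        show act A y lam₁ ⟨b, hb⟩ / lam₁ ⟨b, hb⟩ = 1
        rw [act_apply, show MulAut.conjNormal y (⟨b, hb⟩ : A) = ⟨b, hb⟩ from Subtype.ext (by
          rw [MulAut.conjNormal_apply]
          exact mul_inv_eq_iff_eq_mul.2 (Subgroup.mem_center_iff.1 hbZ y)), div_self']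
      rw [hn, MonoidHom.pow_apply] at hfixb
      have hpn : ¬ p ∣ n := by
        intro hd
        refine hy ((hSΔ _ _).2 ?_)
        obtain ⟨c, rfl⟩ := hd
        refine hn.trans (MonoidHom.ext fun b => ?_)
        rw [MonoidHom.pow_apply, pow_mul, ← MonoidHom.pow_apply, hvp, MonoidHom.one_apply, one_pow]
      refine eq_one_of_pow_eq_one hfixb ?_ ((hp.out.coprime_iff_not_dvd.2 hpn).symm)
      rw [← MonoidHom.pow_apply, hvp, MonoidHom.one_apply]
  have hZA : Z.relIndex A = p := by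
    have hker : Z.subgroupOf A = v.ker := by
      ext ⟨b, hb⟩
      rw [Subgroup.mem_subgroupOf, MonoidHom.mem_ker, hvZ b hb]
    rw [Subgroup.relIndex, hker, Subgroup.index_ker]
    have hle : v.range ≤ rootsOfUnity p ℂ := by
      rintro _ ⟨b, rfl⟩
      rw [mem_rootsOfUnity, ← MonoidHom.pow_apply, hvp, MonoidHom.one_apply]
    have h := Subgroup.card_dvd_of_le hle
    haveI : NeZero p := ⟨hp.out.ne_zero⟩
    rw [Complex.card_rootsOfUnity, Nat.dvd_prime hp.out] at h
    refine h.resolve_left fun h1 => hv1 (MonoidHom.ext fun b => ?_)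
    have : v b ∈ v.range := ⟨b, rfl⟩
    rw [Subgroup.card_eq_one.1 h1, Subgroup.mem_bot] at this
    exact this
  have hidx : Z.index = p * A.index := by
    rw [← Subgroup.relIndex_mul_index hcenA, hZA]
  by_cases hk2 : k = 2
  · exact Or.inr (by rw [hidx, hk, hk2]; ring)
  refine Or.inl ?_
  -- now the index of `A` is at least `p ^ 3`
  obtain ⟨a, haA, haZ⟩ : ∃ a ∈ A, a ∉ Z := by
    by_contra h
    push Not at h
    have := Subgroup.relIndex_eq_one.2 (show A ≤ Z from h)
    rw [hZA] at this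
    exact hp.out.ne_one this
  have hdec : ∀ b ∈ A, ∃ i : ℕ, (a ^ i)⁻¹ * b ∈ Z := by
    intro b hb
    haveI : (Z.subgroupOf A).Normal := inferInstance
    have hc : Nat.card (A ⧸ Z.subgroupOf A) = p := by rw [← Subgroup.index_eq_card]; exact hZA
    obtain ⟨n, hn⟩ := Submonoid.mem_powers_iff _ _ |>.1 (mem_powers_of_prime_card hc
      (g := ((⟨a, haA⟩ : A) : A ⧸ Z.subgroupOf A))
      (fun h => haZ (Subgroup.mem_subgroupOf.1 ((QuotientGroup.eq_one_iff _).1 h)))
      (g' := ((⟨b, hb⟩ : A) : A ⧸ Z.subgroupOf A)))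
    have h := QuotientGroup.eq.1 (show (((⟨a, haA⟩ : A) ^ n : A) : A ⧸ Z.subgroupOf A) =
      ((⟨b, hb⟩ : A) : A ⧸ Z.subgroupOf A) by rw [QuotientGroup.mk_pow]; exact hn)
    exact ⟨n, Subgroup.mem_subgroupOf.1 h⟩
  let φ : P → P := fun x => ⁅x, a⁆
  have hφA : ∀ x, φ x ∈ A := fun x =>
    hPA (Subgroup.commutator_mem_commutator (Subgroup.mem_top x) (Subgroup.mem_top a))
  have hφZ : ∀ x, φ x ∈ Z := by
    intro x
    rw [← hvZ _ (hφA x)]
    have h := DFunLike.congr_fun (hvfix x) ⟨a, haA⟩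
    rw [act_apply] at h
    rw [show (⟨φ x, hφA x⟩ : A) = MulAut.conjNormal x (⟨a, haA⟩ : A) * (⟨a, haA⟩ : A)⁻¹ from
      Subtype.ext (by simp [φ, commutatorElement_def, mul_assoc]), map_mul, h, map_inv, mul_inv_cancel]
  have hφc : ∀ x g, Commute (φ x) g := fun x g => (Subgroup.mem_center_iff.1 (hφZ x) g).symm
  have hconjpow : ∀ x (i : ℤ), x * a ^ i * x⁻¹ = φ x ^ i * a ^ i := by
    intro x i
    rw [← conj_zpow, ← (hφc x a).mul_zpow i]
    congr 1
    simp [φ, commutatorElement_def]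
  have hφmul : ∀ x y, φ (x * y) = φ x * φ y := by
    intro x y
    calc φ (x * y) = x * φ y * x⁻¹ * φ x := by simp [φ, commutatorElement_def, mul_assoc]
      _ = φ x * φ y := by rw [← (hφc y x).eq, mul_inv_cancel_right, (hφc y (φ x)).eq]
  let Φ : P →* P :=
    { toFun := φ
      map_one' := by simp [φ, commutatorElement_def]
      map_mul' := hφmul }
  have hφp : ∀ x, φ x ^ p = 1 := by
    intro x
    have hap : a ^ (p : ℤ) ∈ Z := by
      rw [zpow_natCast, ← hvZ _ (pow_mem haA p),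
        show (⟨a ^ p, pow_mem haA p⟩ : A) = (⟨a, haA⟩ : A) ^ p from rfl, map_pow,
        ← MonoidHom.pow_apply, hvp, MonoidHom.one_apply]
    have h := hconjpow x p
    rw [Subgroup.mem_center_iff.1 hap x, mul_inv_cancel_right] at h
    rw [← zpow_natCast]
    exact mul_eq_right.1 h.symm
  have hφker : ∀ x, φ x = 1 ↔ x ∈ A := by
    intro x
    constructor
    · intro h
      refine hCA x fun b hb => ?_
      obtain ⟨i, hi⟩ := hdec b hb
      have hxa : Commute x a := commutatorElement_eq_one_iff_commute.1 h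
      have hb' : b = a ^ i * ((a ^ i)⁻¹ * b) := (mul_inv_cancel_left _ _).symm
      rw [hb']
      exact ((hxa.pow_right i).mul_right (Subgroup.mem_center_iff.1 hi x)).eq
    · exact fun hx => commutatorElement_eq_one_iff_commute.2 (hAab x hx a haA)
  have hφ1 : ∀ i : ℤ, φ (a ^ i) = 1 := fun i => (hφker _).2 (zpow_mem haA i)
  have hφpow : ∀ x (i : ℤ), φ (x ^ i) = φ x ^ i := fun x i => map_zpow Φ x i
  -- the image is too big for two generators
  let span : P → P → Subgroup P := fun u w => Subgroup.zpowers u ⊔ Subgroup.zpowers w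
  have hordφ : ∀ x, Nat.card (Subgroup.zpowers (φ x)) ≤ p := fun x => by
    rw [Nat.card_zpowers]; exact orderOf_le_of_pow_eq_one hp.out.pos (hφp x)
  have hspancard : ∀ x y, Nat.card (span (φ x) (φ y)) ≤ p * p := by
    intro x y
    refine le_trans (Nat.card_le_card_of_surjective
      (fun q : Subgroup.zpowers (φ x) × Subgroup.zpowers (φ y) =>
        (⟨(q.1 : P) * q.2, mul_mem (Subgroup.mem_sup_left q.1.2) (Subgroup.mem_sup_right q.2.2)⟩ :
          span (φ x) (φ y))) ?_) (by rw [Nat.card_prod]; exact Nat.mul_le_mul (hordφ x) (hordφ y))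
    rintro ⟨c, hc⟩
    obtain ⟨i, j, rfl⟩ := mem_span_pair (hφZ x) hc
    exact ⟨(⟨_, zpow_mem (Subgroup.mem_zpowers _) i⟩, ⟨_, zpow_mem (Subgroup.mem_zpowers _) j⟩), rfl⟩
  have hout : ∀ x y, ∃ z, φ z ∉ span (φ x) (φ y) := by
    intro x y
    by_contra h
    push Not at h
    have hle : Φ.range ≤ span (φ x) (φ y) := by rintro _ ⟨z, rfl⟩; exact h z
    have h1 := Nat.card_le_card_of_injective _ (Subgroup.inclusion_injective hle)
    have hker : Φ.ker = A := by ext z; exact hφker z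
    rw [← Subgroup.index_ker, hker, hk] at h1
    have := h1.trans (hspancard x y)
    have h3 : p ^ 3 ≤ p ^ k := Nat.pow_le_pow_right hp.out.pos (by omega)
    have := hp.out.two_le
    nlinarith
  -- commutators lie in the span of the images
  have hK : ∀ x y, ⁅x, y⁆ ∈ span (φ x) (φ y) := by
    intro x y
    by_contra hc
    have hcA : ⁅x, y⁆ ∈ A :=
      hPA (Subgroup.commutator_mem_commutator (Subgroup.mem_top x) (Subgroup.mem_top y))
    obtain ⟨z, hz⟩ := hout x y
    obtain ⟨l1, hl1W, hl1c⟩ := hsep _ _ hcA hc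
    obtain ⟨l2, hl2W, hl2z⟩ := hsep _ _ (hφA z) hz
    obtain ⟨nu, hnW, hnc, hnz⟩ : ∃ nu : A →* ℂˣ, (∀ w : A, (w : P) ∈ span (φ x) (φ y) → nu w = 1) ∧
        nu ⟨_, hcA⟩ ≠ 1 ∧ nu ⟨φ z, hφA z⟩ ≠ 1 := by
      by_cases h1 : l1 ⟨φ z, hφA z⟩ = 1
      · by_cases h2 : l2 ⟨_, hcA⟩ = 1
        · refine ⟨l1 * l2, fun w hw => by simp [hl1W w hw, hl2W w hw], ?_, ?_⟩
          · simpa [h2] using hl1c hcA
          · simpa [h1] using hl2z (hφA z)
        · exact ⟨l2, hl2W, h2, hl2z (hφA z)⟩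
      · exact ⟨l1, hl1W, hl1c hcA, h1⟩
    have hfix : ∀ w, φ w ∈ span (φ x) (φ y) → w ∈ S nu := by
      intro w hw
      rw [hSmem]
      refine MonoidHom.ext fun b => ?_
      obtain ⟨i, hi⟩ := hdec b b.2
      rw [act_apply]
      have hb : MulAut.conjNormal w b = (⟨φ w, hφA w⟩ : A) ^ (i : ℤ) * b := by
        refine Subtype.ext ?_
        rw [MulAut.conjNormal_apply, Subgroup.coe_mul, SubgroupClass.coe_zpow]
        have hb' : (b : P) = a ^ (i : ℤ) * ((a ^ i)⁻¹ * b) := by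
          rw [zpow_natCast, mul_inv_cancel_left]
        calc w * (b : P) * w⁻¹ = (w * a ^ (i : ℤ) * w⁻¹) * (w * ((a ^ i)⁻¹ * b) * w⁻¹) := by
              conv_lhs => rw [hb']
              group
          _ = φ w ^ (i : ℤ) * b := by
              rw [Subgroup.mem_center_iff.1 hi w, mul_inv_cancel_right, hconjpow, mul_assoc, ← hb']
      rw [hb, map_mul, map_zpow, hnW ⟨φ w, hφA w⟩ hw, one_zpow, one_mul]
    have hxS : x ∈ S nu := hfix x (Subgroup.mem_sup_left (Subgroup.mem_zpowers _))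
    have hyS : y ∈ S nu := hfix y (Subgroup.mem_sup_right (Subgroup.mem_zpowers _))
    have hnutop : S nu ≠ ⊤ := by
      intro h
      refine hnz ?_
      have h1 := DFunLike.congr_fun ((hSmem _ _).1 (h ▸ Subgroup.mem_top z : z ∈ S nu)) ⟨a, haA⟩
      rw [act_apply] at h1
      rw [show (⟨φ z, hφA z⟩ : A) = MulAut.conjNormal z (⟨a, haA⟩ : A) * (⟨a, haA⟩ : A)⁻¹ from
        Subtype.ext (by simp [φ, commutatorElement_def, mul_assoc]), map_mul, h1, map_inv, mul_inv_cancel]
    -- a character over `nu` in which `nu` occurs once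
    haveI := Fintype.ofFinite A
    obtain ⟨χ, hres, -⟩ := exists_over_eq A (isIrrCharacter_unitsHom nu)
    obtain ⟨mult, hmult⟩ := IsCharacter.exists_classInner_nat
      (IsCharacter.restrict (irr_isCharacter χ) A)
      (IsIrrCharacter.isCharacter (isIrrCharacter_unitsHom nu))
    have hdeg := degree_eq A χ.2 (isIrrCharacter_unitsHom nu) hres
    have hin : inertia A (fun a => (nu a : ℂ)) = S nu := by
      ext g
      rw [mem_inertia_iff, hSmem]
      exact ⟨fun h => MonoidHom.ext fun b => Units.ext (congrFun h b),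
        fun h => funext fun b => congrArg Units.val (DFunLike.congr_fun h b)⟩
    rw [hmult, hin, hmoved nu hnutop, map_one, Units.val_one, mul_one, apply_one_eq, ← Nat.cast_mul,
      Nat.cast_inj] at hdeg
    have hone : mult = 1 := by
      rcases hcd χ with h | h <;> rw [h] at hdeg
      · exact absurd (Nat.eq_one_of_mul_eq_one_left hdeg.symm) hp.out.ne_one
      · exact (mul_eq_right₀ hp.out.ne_zero).1 hdeg.symm
    -- the projection to the isotypic component
    obtain ⟨dim, ρ, hρ, hρχ⟩ := χ.2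
    let E : Module.End ℂ (Fin dim → ℂ) :=
      (Nat.card A : ℂ)⁻¹ • ∑ b : A, ((nu b : ℂ)⁻¹) • ρ (b : P)
    have hA0 : (Nat.card A : ℂ) ≠ 0 := natCard_ne_zero_complex
    have hρE : ∀ c : A, ρ (c : P) * E = (nu c : ℂ) • E := by
      intro c
      simp only [E, Finset.mul_sum, mul_smul_comm, Finset.smul_sum, smul_smul, ← map_mul]
      refine Fintype.sum_equiv (Equiv.mulLeft c) _ _ fun b => ?_
      simp only [Equiv.coe_mulLeft, Subgroup.coe_mul, map_mul, Units.val_mul, mul_inv]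
      congr 1
      field_simp
    have hEE : E * E = E := by
      calc E * E = ((Nat.card A : ℂ)⁻¹ • ∑ b : A, ((nu b : ℂ)⁻¹) • ρ (b : P)) * E := rfl
        _ = (Nat.card A : ℂ)⁻¹ • ∑ b : A, E := by
            rw [smul_mul_assoc, Finset.sum_mul]
            refine congrArg _ (Finset.sum_congr rfl fun b _ => ?_)
            rw [smul_mul_assoc, hρE, smul_smul, inv_mul_cancel₀ (Units.ne_zero _), one_smul]
        _ = E := by
            rw [Finset.sum_const, Finset.card_univ, ← Nat.card_eq_fintype_card,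
              ← Nat.cast_smul_eq_nsmul ℂ, smul_smul, inv_mul_cancel₀ hA0, one_smul]
    have hproj : LinearMap.IsProj (LinearMap.range E) E :=
      ⟨fun w => LinearMap.mem_range_self E w, fun w hw => by
        obtain ⟨u, rfl⟩ := hw
        exact LinearMap.congr_fun hEE u⟩
    have hrank : Module.finrank ℂ (LinearMap.range E) = 1 := by
      have htr : LinearMap.trace ℂ _ E =
          classInner (fun b : A => (χ : P → ℂ) b) (fun b => (nu b : ℂ)) := by
        rw [classInner_eq_sum_inv (IsIrrCharacter.isCharacter (isIrrCharacter_unitsHom nu))]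
        simp only [E, map_smul, map_sum, smul_eq_mul]
        refine congrArg _ (Finset.sum_congr rfl fun b _ => ?_)
        rw [← hρχ, Representation.character, map_inv, Units.val_inv_eq_inv_val, mul_comm]
      rw [hproj.trace, hmult, hone, Nat.cast_one] at htr
      exact_mod_cast htr
    have hEcomm : ∀ w ∈ S nu, ρ w * E = E * ρ w := by
      intro w hw
      simp only [E, mul_smul_comm, smul_mul_assoc, Finset.mul_sum, Finset.sum_mul, ← map_mul]
      refine congrArg _ (Fintype.sum_equiv (MulAut.conjNormal w : MulAut A).toEquiv _ _ fun b => ?_)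
      have h1 := DFunLike.congr_fun ((hSmem _ _).1 hw) b
      rw [act_apply] at h1
      simp only [MulEquiv.toEquiv_eq_coe, EquivLike.coe_coe, h1, MulAut.conjNormal_apply]
      rw [inv_mul_cancel_right]
    obtain ⟨u0, hu0, hgen0⟩ := finrank_eq_one_iff'.1 hrank
    have hscal : ∀ w ∈ S nu, ∃ s : ℂ, ρ w (u0 : Fin dim → ℂ) = s • (u0 : Fin dim → ℂ) := by
      intro w hw
      have hEu : E (u0 : Fin dim → ℂ) = u0 := hproj.map_id _ u0.2
      have hm : ρ w (u0 : Fin dim → ℂ) ∈ LinearMap.range E :=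
        ⟨ρ w (u0 : Fin dim → ℂ), by
          have := LinearMap.congr_fun (hEcomm w hw) (u0 : Fin dim → ℂ)
          rw [Module.End.mul_apply, Module.End.mul_apply, hEu] at this
          exact this.symm⟩
      obtain ⟨s, hs⟩ := hgen0 ⟨_, hm⟩
      exact ⟨s, (congrArg Subtype.val hs).symm⟩
    obtain ⟨s, hs⟩ := hscal x hxS
    obtain ⟨s', hs'⟩ := hscal y hyS
    have hxy : ρ (x * y) (u0 : Fin dim → ℂ) = ρ (y * x) (u0 : Fin dim → ℂ) := by
      rw [map_mul, map_mul, Module.End.mul_apply, Module.End.mul_apply, hs, hs', map_smul,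
        map_smul, hs, hs', smul_comm]
    have hfixu : ρ ⁅x, y⁆ (u0 : Fin dim → ℂ) = u0 := by
      have hsolve : ⁅x, y⁆ = x * y * (y * x)⁻¹ := by simp [commutatorElement_def, mul_assoc]
      obtain ⟨s'', hs''⟩ := hscal _ (inv_mem (mul_mem hyS hxS))
      rw [hsolve, map_mul, Module.End.mul_apply, hs'', map_smul, hxy, ← map_smul, ← hs'',
        ← Module.End.mul_apply, ← map_mul, mul_inv_cancel, map_one, Module.End.one_apply]
    refine hnc (Units.ext ?_)
    have hact := LinearMap.congr_fun (hρE ⟨_, hcA⟩) (u0 : Fin dim → ℂ)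
    rw [Module.End.mul_apply, hproj.map_id _ u0.2, hfixu, LinearMap.smul_apply, hproj.map_id _ u0.2] at hact
    rw [Units.val_one]
    have hu0' : (u0 : Fin dim → ℂ) ≠ 0 := fun h => hu0 (Subtype.ext h)
    by_contra hne
    refine hu0' ?_
    have h2 : ((nu ⟨_, hcA⟩ : ℂ) - 1) • (u0 : Fin dim → ℂ) = 0 := by
      rw [sub_smul, one_smul, ← hact, sub_self]
    exact (smul_eq_zero.1 h2).resolve_left (sub_ne_zero.2 hne)
  -- independence
  have hindep : ∀ x y z, φ x ≠ 1 → φ y ∉ Subgroup.zpowers (φ x) → φ z ∉ span (φ x) (φ y) →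
      ∀ i j : ℤ, φ x ^ i * φ y ^ j ∈ Subgroup.zpowers (φ z) → (p : ℤ) ∣ i ∧ (p : ℤ) ∣ j := by
    intro x y z hx hy hz i j h
    obtain ⟨n, hn⟩ := Subgroup.mem_zpowers_iff.1 h
    by_cases hn' : (p : ℤ) ∣ n
    · rw [zpow_eq_one_of_dvd (hφp z) hn'] at hn
      by_cases hj : (p : ℤ) ∣ j
      · refine ⟨?_, hj⟩
        by_contra hi
        rw [zpow_eq_one_of_dvd (hφp y) hj, mul_one] at hn
        have h1 := mem_of_zpow_mem (hφp x) hi (S := ⊥) (Subgroup.mem_bot.2 hn.symm)
        exact hx (Subgroup.mem_bot.1 h1)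
      · refine absurd (mem_of_zpow_mem (hφp y) hj ?_) hy
        rw [show φ y ^ j = (φ x ^ i)⁻¹ from eq_inv_of_mul_eq_one_right hn.symm]
        exact inv_mem (zpow_mem (Subgroup.mem_zpowers _) i)
    · refine absurd (mem_of_zpow_mem (hφp z) hn' ?_) hz
      rw [hn]
      exact mul_mem (Subgroup.mem_sup_left (zpow_mem (Subgroup.mem_zpowers _) i))
        (Subgroup.mem_sup_right (zpow_mem (Subgroup.mem_zpowers _) j))
  -- commutators with shifted elements
  have hsR : ∀ g h (i : ℤ), Commute ⁅g, h⁆ a → ⁅g, h * a ^ i⁆ = ⁅g, h⁆ * φ g ^ i := by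
    intro g h i _
    have h1 : g * a ^ i * g⁻¹ * (a ^ i)⁻¹ = φ g ^ i := by rw [hconjpow, mul_inv_cancel_right]
    calc ⁅g, h * a ^ i⁆ = ⁅g, h⁆ * (h * (g * a ^ i * g⁻¹ * (a ^ i)⁻¹) * h⁻¹) := by
          simp [commutatorElement_def, mul_assoc]
      _ = ⁅g, h⁆ * φ g ^ i := by
          rw [h1, ← ((hφc g h).zpow_left i).eq, mul_inv_cancel_right]
  have hsL : ∀ g h (i : ℤ), ⁅g * a ^ i, h⁆ = φ h ^ (-i) * ⁅g, h⁆ := by
    intro g h i
    have h1 : h * a ^ i * h⁻¹ * (a ^ i)⁻¹ = φ h ^ i := by rw [hconjpow, mul_inv_cancel_right]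
    calc ⁅g * a ^ i, h⁆ = g * (h * a ^ i * h⁻¹ * (a ^ i)⁻¹)⁻¹ * g⁻¹ * ⁅g, h⁆ := by
          simp [commutatorElement_def, mul_assoc]
      _ = φ h ^ (-i) * ⁅g, h⁆ := by
          rw [h1, ← zpow_neg, ← ((hφc h g).zpow_left (-i)).eq, mul_inv_cancel_right]
  have hcentral : ∀ x y, ⁅x, y⁆ ∈ Z := fun x y => by
    have hle : span (φ x) (φ y) ≤ Z := sup_le (by rw [Subgroup.zpowers_le]; exact hφZ x)
      (by rw [Subgroup.zpowers_le]; exact hφZ y)
    exact hle (hK x y)
  have hcmul : ∀ x y w : P, ⁅x, y * w⁆ = ⁅x, y⁆ * ⁅x, w⁆ := fun x y w => by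
    calc ⁅x, y * w⁆ = ⁅x, y⁆ * (y * ⁅x, w⁆ * y⁻¹) := by simp [commutatorElement_def, mul_assoc]
      _ = _ := by rw [Subgroup.mem_center_iff.1 (hcentral x w) y, mul_inv_cancel_right]
  have hmulc : ∀ x y w : P, ⁅x * y, w⁆ = ⁅x, w⁆ * ⁅y, w⁆ := fun x y w => by
    calc ⁅x * y, w⁆ = x * ⁅y, w⁆ * x⁻¹ * ⁅x, w⁆ := by simp [commutatorElement_def, mul_assoc]
      _ = _ := by
        rw [Subgroup.mem_center_iff.1 (hcentral y w) x, mul_inv_cancel_right,
          Subgroup.mem_center_iff.1 (hcentral y w) ⁅x, w⁆]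
  -- a commuting independent pair
  obtain ⟨e0, he0⟩ := hout 1 1
  have he01 : φ e0 ≠ 1 := fun h => he0 (by rw [h]; exact one_mem _)
  obtain ⟨f0, hf0⟩ := hout e0 e0
  obtain ⟨i, j, hij⟩ := mem_span_pair (hφZ e0) (hK e0 f0)
  obtain ⟨e, he⟩ : ∃ e, e = e0 * a ^ j := ⟨_, rfl⟩
  obtain ⟨f, hf⟩ : ∃ f, f = f0 * a ^ (-i) := ⟨_, rfl⟩
  have hφe : φ e = φ e0 := by rw [he, hφmul, hφ1, mul_one]
  have hφf : φ f = φ f0 := by rw [hf, hφmul, hφ1, mul_one]
  have hef : ⁅e, f⁆ = 1 := by
    rw [hf, hsR _ _ _ (Subgroup.mem_center_iff.1 (hcentral e f0) a).symm, hφe, he, hsL, hij,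
      (((hφc f0 (φ e0)).zpow_left (-j)).zpow_right i).left_comm, mul_assoc, mul_assoc,
      ← mul_assoc (φ f0 ^ (-j)), zpow_neg, zpow_neg, inv_mul_cancel, one_mul, mul_inv_cancel]
  have he1 : φ e ≠ 1 := hφe ▸ he01
  have hf1 : φ f ∉ Subgroup.zpowers (φ e) := by
    rw [hφe, hφf]
    exact fun h => hf0 (Subgroup.mem_sup_left h)
  set C := Subgroup.centralizer ({e} : Set P) ⊓ Subgroup.centralizer ({f} : Set P) with hC
  have hCmem : ∀ g, g ∈ C ↔ ⁅e, g⁆ = 1 ∧ ⁅f, g⁆ = 1 := fun g => by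
    rw [hC, Subgroup.mem_inf, Subgroup.mem_centralizer_singleton_iff,
      Subgroup.mem_centralizer_singleton_iff, commutatorElement_eq_one_iff_mul_comm,
      commutatorElement_eq_one_iff_mul_comm]
    exact and_congr eq_comm eq_comm
  have heC : e ∈ C := (hCmem e).2 ⟨commutatorElement_eq_one_iff_commute.2 (Commute.refl e),
    commutatorElement_eq_one_iff_commute.2 (commutatorElement_eq_one_iff_commute.1 hef).symm⟩
  have hfC : f ∈ C := (hCmem f).2 ⟨hef, commutatorElement_eq_one_iff_commute.2 (Commute.refl f)⟩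
  have hcover : ∀ g, ∃ c ∈ C, c⁻¹ * g ∈ A := by
    intro g
    by_cases hg : φ g ∈ span (φ e) (φ f)
    · obtain ⟨m, n, hmn⟩ := mem_span_pair (hφZ e) hg
      refine ⟨e ^ m * f ^ n, mul_mem (zpow_mem heC m) (zpow_mem hfC n), (hφker _).1 ?_⟩
      show Φ ((e ^ m * f ^ n)⁻¹ * g) = 1
      rw [map_mul, map_inv, map_mul, map_zpow, map_zpow]
      show (φ e ^ m * φ f ^ n)⁻¹ * φ g = 1
      rw [hmn, inv_mul_cancel]
    obtain ⟨i1, j1, h1⟩ := mem_span_pair (hφZ e) (hK e g)
    obtain ⟨k1, l1, h2⟩ := mem_span_pair (hφZ f) (hK f g)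
    obtain ⟨m, n, h3⟩ := mem_span_pair (hφZ (e * f)) (hK (e * f) g)
    have hcomm' : ∀ x y, Commute (φ x) (φ y) := fun x y => hφc x (φ y)
    have hik : φ f ^ k1 = φ f ^ i1 := by
      have hmem : φ e ^ (i1 - m) * φ f ^ (k1 - m) ∈ Subgroup.zpowers (φ g) := by
        rw [hmulc, h1, h2, hφmul, (hcomm' e f).mul_zpow] at h3
        refine Subgroup.mem_zpowers_iff.2 ⟨n - l1 - j1, ?_⟩
        have c1 := hφc g (φ e ^ i1)
        have c2 := hφc g (φ f ^ k1)
        have h4 : φ e ^ i1 * φ f ^ k1 * (φ g ^ j1 * φ g ^ l1) = φ e ^ m * φ f ^ m * φ g ^ n := by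
          rw [← h3, mul_assoc (φ e ^ i1), mul_assoc (φ e ^ i1), ← mul_assoc (φ f ^ k1),
            ← ((hφc g (φ f ^ k1)).zpow_left j1).eq, mul_assoc]
        rw [zpow_sub, zpow_sub, zpow_sub, zpow_sub]
        have h5 : φ g ^ n * (φ g ^ l1)⁻¹ * (φ g ^ j1)⁻¹ =
            (φ e ^ m * φ f ^ m)⁻¹ * (φ e ^ i1 * φ f ^ k1) := by
          rw [eq_inv_mul_iff_mul_eq, ← mul_assoc, ← mul_assoc, ← h4]
          group
        rw [h5, mul_inv_rev]
        have c3 : Commute (φ e ^ i1) ((φ f ^ m)⁻¹) := ((hcomm' e f).zpow_zpow i1 m).inv_right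
        have c4 : Commute ((φ e ^ m)⁻¹) ((φ f ^ m)⁻¹) := (((hcomm' e f).zpow_zpow m m).inv_inv)
        rw [← c4.eq, mul_assoc, ← mul_assoc ((φ f ^ m)⁻¹), ← c3.eq]
        have c5 : Commute (φ e ^ i1) ((φ e ^ m)⁻¹) := ((Commute.refl (φ e)).zpow_zpow i1 m).inv_right
        have c6 : Commute (φ f ^ k1) ((φ f ^ m)⁻¹) := ((Commute.refl (φ f)).zpow_zpow k1 m).inv_right
        rw [← mul_assoc, ← mul_assoc, ← c5.eq, mul_assoc, mul_assoc, ← c6.eq]
        simp only [mul_assoc]
      obtain ⟨hi, hk'⟩ := hindep e f g he1 hf1 hg _ _ hmem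
      have hd : (p : ℤ) ∣ k1 - i1 := by
        have := dvd_sub hk' hi
        simpa using this
      have := zpow_eq_one_of_dvd (hφp f) hd
      rwa [zpow_sub, mul_inv_eq_one] at this
    set g' := g * a ^ (-i1) with hg'
    have hφg' : φ g' = φ g := by rw [hg', hφmul, hφ1, mul_one]
    have heg' : ⁅e, g'⁆ = φ g ^ j1 := by
      rw [hg', hsR _ _ _ (Subgroup.mem_center_iff.1 (hcentral e g) a).symm, h1, zpow_neg,
        ← ((hφc g (φ e ^ i1)).zpow_left j1).eq, mul_inv_cancel_right]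
    have hfg' : ⁅f, g'⁆ = φ g ^ l1 := by
      rw [hg', hsR _ _ _ (Subgroup.mem_center_iff.1 (hcentral f g) a).symm, h2, zpow_neg, hik,
        ← ((hφc g (φ f ^ i1)).zpow_left l1).eq, mul_inv_cancel_right]
    have hzero : ∀ x y, φ x ≠ 1 → φ y ∉ Subgroup.zpowers (φ x) → φ g ∉ span (φ x) (φ y) →
        ⁅x, y⁆ = 1 → ∀ q : ℤ, ⁅x, g'⁆ = φ g ^ q → φ g ^ q = 1 := by
      intro x y hx hy hz hxy q hq
      obtain ⟨m', n', h'⟩ := mem_span_pair (hφZ x) (hK x (y * g'))
      rw [hcmul, hxy, one_mul, hq, hφmul, hφg', (hcomm' y g).mul_zpow, ← mul_assoc] at h'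
      have hmem : φ x ^ m' * φ y ^ n' ∈ Subgroup.zpowers (φ g) := by
        refine Subgroup.mem_zpowers_iff.2 ⟨q - n', ?_⟩
        rw [zpow_sub, h', mul_inv_cancel_right]
      obtain ⟨hm', hn'⟩ := hindep x y g hx hy hz _ _ hmem
      rw [h', zpow_eq_one_of_dvd (hφp x) hm', zpow_eq_one_of_dvd (hφp y) hn',
        zpow_eq_one_of_dvd (hφp g) hn', one_mul, one_mul]
    refine ⟨g', (hCmem _).2 ⟨?_, ?_⟩, (hφker _).1 ?_⟩
    · rw [heg']; exact hzero e f he1 hf1 hg hef j1 heg'
    · rw [hfg']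
      refine hzero f e (fun h => hf1 (by rw [h]; exact one_mem _)) ?_ (by rwa [show span (φ f) (φ e) =
        span (φ e) (φ f) from sup_comm _ _]) ((hCmem e).1 heC).2 l1 hfg'
      intro h
      obtain ⟨n', hn'⟩ := Subgroup.mem_zpowers_iff.1 h
      by_cases hd : (p : ℤ) ∣ n'
      · rw [zpow_eq_one_of_dvd (hφp f) hd] at hn'; exact he1 hn'.symm
      · exact hf1 (mem_of_zpow_mem (hφp f) hd (hn' ▸ Subgroup.mem_zpowers _))
    · show Φ (g'⁻¹ * g) = 1
      rw [map_mul, map_inv]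
      show (φ g')⁻¹ * φ g = 1
      rw [hφg', inv_mul_cancel]
  have hCA' : ∀ b ∈ C, b ∈ A → b ∈ Z := by
    intro b hbC hbA
    obtain ⟨i', hi'⟩ := hdec b hbA
    have hb : b = a ^ (i' : ℤ) * ((a ^ i')⁻¹ * b) := by rw [zpow_natCast, mul_inv_cancel_left]
    have h1 : φ e ^ (i' : ℤ) = 1 := by
      have h := ((hCmem b).1 hbC).1
      have he2 : e * a ^ (i' : ℤ) = a ^ (i' : ℤ) * e := by
        have h2 : e * b = b * e := commutatorElement_eq_one_iff_mul_comm.1 h
        rw [hb] at h2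
        rw [← mul_assoc, mul_assoc (a ^ (i' : ℤ)), ← Subgroup.mem_center_iff.1 hi' e,
          ← mul_assoc (a ^ (i' : ℤ))] at h2
        exact mul_right_cancel h2
      have h3 := hconjpow e i'
      rw [he2, mul_inv_cancel_right] at h3
      exact mul_eq_right.1 h3.symm
    have hd : (p : ℤ) ∣ (i' : ℤ) := by
      by_contra hd
      have h5 := mem_of_zpow_mem (hφp e) hd (S := ⊥) (Subgroup.mem_bot.2 h1)
      exact he1 (Subgroup.mem_bot.1 h5)
    rw [hb]
    refine mul_mem ?_ hi'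
    obtain ⟨c, hc⟩ := hd
    rw [hc, zpow_mul, zpow_natCast]
    refine zpow_mem ?_ c
    rw [← hvZ _ (pow_mem haA p), show (⟨a ^ p, pow_mem haA p⟩ : A) = (⟨a, haA⟩ : A) ^ p from rfl,
      map_pow, ← MonoidHom.pow_apply, hvp, MonoidHom.one_apply]
  have hCab : ∀ g ∈ C, ∀ h ∈ C, g * h = h * g := by
    intro g hg h hh
    have hsame : ∀ u ∈ C, φ h = φ u → Commute g u → Commute g h := by
      intro u hu he' hgu
      have hb : u⁻¹ * h ∈ A := (hφker _).1 (by
        show Φ (u⁻¹ * h) = 1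
        rw [map_mul, map_inv]
        show (φ u)⁻¹ * φ h = 1
        rw [he', inv_mul_cancel])
      have := Subgroup.mem_center_iff.1 (hCA' _ (mul_mem (inv_mem hu) hh) hb) g
      rw [show h = u * (u⁻¹ * h) by group]
      exact hgu.mul_right this
    by_cases hg1 : φ g = 1
    · exact (Subgroup.mem_center_iff.1 (hCA' g hg ((hφker g).1 hg1)) h).symm
    by_cases hh1 : φ h ∈ Subgroup.zpowers (φ g)
    · obtain ⟨q, hq⟩ := Subgroup.mem_zpowers_iff.1 hh1
      exact hsame (g ^ q) (zpow_mem hg q) (by rw [hφpow, hq]) ((Commute.refl g).zpow_right q)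
    have hgef : ∀ u ∈ C, ⁅g, u⁆ = 1 → ⁅h, u⁆ = 1 → φ u ∉ span (φ g) (φ h) → ⁅g, h⁆ = 1 := by
      intro u _ hgu hhu hu
      obtain ⟨i', j', h1⟩ := mem_span_pair (hφZ g) (hK g h)
      obtain ⟨m, n, h2⟩ := mem_span_pair (hφZ g) (hK g (h * u))
      rw [hcmul, hgu, mul_one, h1, hφmul, (show Commute (φ h) (φ u) from hφc h (φ u)).mul_zpow,
        ← mul_assoc] at h2
      have hmem : φ g ^ (i' - m) * φ h ^ (j' - n) ∈ Subgroup.zpowers (φ u) := by
        refine Subgroup.mem_zpowers_iff.2 ⟨n, ?_⟩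
        rw [zpow_sub, zpow_sub]
        have c1 : Commute (φ h ^ j') ((φ g ^ m)⁻¹) := ((hφc h (φ g)).zpow_zpow j' m).inv_right
        have c2 : Commute (φ g ^ i') ((φ g ^ m)⁻¹) := ((Commute.refl (φ g)).zpow_zpow i' m).inv_right
        calc φ u ^ n = (φ h ^ n)⁻¹ * (φ g ^ m)⁻¹ * (φ g ^ i' * φ h ^ j') := by rw [h2]; group
          _ = φ g ^ i' * (φ g ^ m)⁻¹ * (φ h ^ j' * (φ h ^ n)⁻¹) := by
            have c3 : Commute ((φ h ^ n)⁻¹) ((φ g ^ m)⁻¹) := ((hφc h (φ g)).zpow_zpow n m).inv_inv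
            have c4 : Commute ((φ h ^ n)⁻¹) (φ g ^ i' * φ h ^ j') :=
              ((((hφc h (φ g)).zpow_zpow n i').mul_right
                ((Commute.refl (φ h)).zpow_zpow n j'))).inv_left
            rw [c3.eq, mul_assoc, c4.eq, ← mul_assoc, ← mul_assoc, ← c2.eq, mul_assoc, mul_assoc]
      obtain ⟨-, hn⟩ := hindep g h u hg1 hh1 hu _ _ hmem
      -- the same with the roles exchanged
      obtain ⟨m', n', h3⟩ := mem_span_pair (hφZ (g * u)) (hK (g * u) h)
      rw [hmulc, show ⁅u, h⁆ = 1 from commutatorElement_eq_one_iff_commute.2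
          (commutatorElement_eq_one_iff_commute.1 hhu).symm, mul_one, h1, hφmul,
        (show Commute (φ g) (φ u) from hφc g (φ u)).mul_zpow] at h3
      have hmem' : φ g ^ (i' - m') * φ h ^ (j' - n') ∈ Subgroup.zpowers (φ u) := by
        refine Subgroup.mem_zpowers_iff.2 ⟨m', ?_⟩
        rw [zpow_sub, zpow_sub]
        have c2 : Commute (φ g ^ i') ((φ g ^ m')⁻¹) := ((Commute.refl (φ g)).zpow_zpow i' m').inv_right
        calc φ u ^ m' = (φ g ^ m')⁻¹ * (φ g ^ i' * φ h ^ j') * (φ h ^ n')⁻¹ := by rw [h3]; group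
          _ = _ := by rw [← mul_assoc, ← c2.eq, mul_assoc]
      obtain ⟨hi, hj⟩ := hindep g h u hg1 hh1 hu _ _ hmem'
      have hun : φ h ^ j' = φ h ^ n := by
        have := zpow_eq_one_of_dvd (hφp h) hn
        rwa [zpow_sub, mul_inv_eq_one] at this
      have hun' : φ g ^ i' = φ g ^ m' := by
        have := zpow_eq_one_of_dvd (hφp g) hi
        rwa [zpow_sub, mul_inv_eq_one] at this
      have hn0 : (p : ℤ) ∣ n := by
        by_contra hd
        refine hu (mem_of_zpow_mem (hφp u) hd ?_)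
        have : φ u ^ n = (φ h ^ n)⁻¹ * (φ g ^ m)⁻¹ * (φ g ^ i' * φ h ^ j') := by rw [h2]; group
        rw [this]
        exact mul_mem (mul_mem (inv_mem (Subgroup.mem_sup_right (zpow_mem (Subgroup.mem_zpowers _) _)))
          (inv_mem (Subgroup.mem_sup_left (zpow_mem (Subgroup.mem_zpowers _) _))))
          (mul_mem (Subgroup.mem_sup_left (zpow_mem (Subgroup.mem_zpowers _) _))
            (Subgroup.mem_sup_right (zpow_mem (Subgroup.mem_zpowers _) _)))
      have hm0 : (p : ℤ) ∣ m' := by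
        by_contra hd
        refine hu (mem_of_zpow_mem (hφp u) hd ?_)
        have : φ u ^ m' = (φ g ^ m')⁻¹ * (φ g ^ i' * φ h ^ j') * (φ h ^ n')⁻¹ := by rw [h3]; group
        rw [this]
        exact mul_mem (mul_mem (inv_mem (Subgroup.mem_sup_left (zpow_mem (Subgroup.mem_zpowers _) _)))
          (mul_mem (Subgroup.mem_sup_left (zpow_mem (Subgroup.mem_zpowers _) _))
            (Subgroup.mem_sup_right (zpow_mem (Subgroup.mem_zpowers _) _))))
          (inv_mem (Subgroup.mem_sup_right (zpow_mem (Subgroup.mem_zpowers _) _)))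
      rw [h1, hun, hun', zpow_eq_one_of_dvd (hφp g) hm0, zpow_eq_one_of_dvd (hφp h) hn0, mul_one]
    have hcm : ∀ u v' : P, u ∈ C → ⁅v', u⁆ = 1 → ⁅u, v'⁆ = 1 := fun u v' _ h' =>
      commutatorElement_eq_one_iff_commute.2 (commutatorElement_eq_one_iff_commute.1 h').symm
    by_cases hue : φ e ∈ span (φ g) (φ h)
    swap
    · exact commutatorElement_eq_one_iff_mul_comm.1 (hgef e heC
        (hcm g e hg ((hCmem g).1 hg).1) (hcm h e hh ((hCmem h).1 hh).1) hue)
    by_cases huf : φ f ∈ span (φ g) (φ h)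
    swap
    · exact commutatorElement_eq_one_iff_mul_comm.1 (hgef f hfC
        (hcm g f hg ((hCmem g).1 hg).2) (hcm h f hh ((hCmem h).1 hh).2) huf)
    have hle : span (φ e) (φ f) ≤ span (φ g) (φ h) :=
      sup_le (by rw [Subgroup.zpowers_le]; exact hue) (by rw [Subgroup.zpowers_le]; exact huf)
    have hcard : p * p ≤ Nat.card (span (φ e) (φ f)) := by
      have hspanp : IsPGroup p (span (φ e) (φ f)) := hP.to_subgroup _
      obtain ⟨m, hm⟩ := hspanp.exists_card_eq
      have hlt : Nat.card (Subgroup.zpowers (φ e)) < Nat.card (span (φ e) (φ f)) := by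
        refine lt_of_le_of_ne (Subgroup.card_le_of_le le_sup_left) fun h' => hf1 ?_
        rw [Subgroup.eq_of_le_of_card_ge le_sup_left h'.ge]
        exact Subgroup.mem_sup_right (Subgroup.mem_zpowers _)
      rw [Nat.card_zpowers, orderOf_eq_prime (hφp e) he1, hm] at hlt
      have hm2 : 2 ≤ m := by
        by_contra hlt2
        have := Nat.pow_le_pow_right hp.out.pos (show m ≤ 1 by omega)
        simp at this
        omega
      rw [hm, ← pow_two]
      exact Nat.pow_le_pow_right hp.out.pos hm2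
    have heq := Subgroup.eq_of_le_of_card_ge hle ((hspancard g h).trans hcard)
    have hh2 : φ h ∈ span (φ e) (φ f) := heq ▸ Subgroup.mem_sup_right (Subgroup.mem_zpowers _)
    obtain ⟨m, n, hmn⟩ := mem_span_pair (hφZ e) hh2
    refine hsame (e ^ m * f ^ n) (mul_mem (zpow_mem heC m) (zpow_mem hfC n)) ?_ ?_
    · rw [hmn, hφmul, hφpow, hφpow]
    · exact ((commutatorElement_eq_one_iff_commute.1 ((hCmem g).1 hg).1).symm.zpow_right m).mul_right
        ((commutatorElement_eq_one_iff_commute.1 ((hCmem g).1 hg).2).symm.zpow_right n)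
  have hCidx : C.index = p := by
    have htop : C ⊔ A = ⊤ := (Subgroup.eq_top_iff' _).2 fun g => by
      obtain ⟨c, hc, hca⟩ := hcover g
      rw [show g = c * (c⁻¹ * g) by group]
      exact Subgroup.mul_mem_sup hc hca
    have hinf : C ⊓ A = Z := le_antisymm (fun b hb => hCA' b hb.1 hb.2) (le_inf (fun b hb => by
      rw [hC, Subgroup.mem_inf, Subgroup.mem_centralizer_singleton_iff,
        Subgroup.mem_centralizer_singleton_iff]
      exact ⟨(Subgroup.mem_center_iff.1 hb e).symm, (Subgroup.mem_center_iff.1 hb f).symm⟩) hcenA)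
    have e2 : (C ⊓ A).relIndex C = A.relIndex ⊤ := by
      rw [inf_comm, Subgroup.inf_relIndex_right, ← htop, sup_comm, Subgroup.relIndex_sup_left]
    have e3 := Subgroup.relIndex_mul_index (show Z ≤ C from hinf ▸ inf_le_left)
    rw [← hinf, e2, Subgroup.relIndex_top_right, hinf, hidx, mul_comm p] at e3
    exact Nat.eq_of_mul_eq_mul_left (Nat.pos_of_ne_zero Subgroup.index_ne_zero_of_finite) e3
  refine ⟨C, ?_, hCab, hCidx⟩
  refine Subgroup.normal_of_index_eq_minFac_card ?_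
  obtain ⟨N, hN⟩ := hP.exists_card_eq
  have hN0 : N ≠ 0 := by
    rintro rfl
    have h := C.card_mul_index
    rw [hN, hCidx, pow_zero] at h
    exact hp.out.ne_one (Nat.eq_one_of_mul_eq_one_left h)
  rw [hCidx, hN, Nat.pow_minFac hN0, hp.out.minFac_eq]

end TwoDegrees

end Cfsg.Agent.Lib.Characters
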