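import Cfsg.Agent.Lib.InvChar.SmallTIFinal
import Cfsg.Agent.Lib.Characters.BlichfeldtReduce
import Cfsg.Agent.Lib.Transfer.Frobenius
import Cfsg.Prelude.Def_Blocks

/-!
# Small irreducible characters when all `p`-elements of a Sylow subgroup have one centraliser
-/

namespace Cfsg.Agent.Lib.Characters

open scoped Pointwise

set_option linter.unusedSectionVars false
set_option linter.unusedSimpArgs false
set_option linter.style.haveILetI false

universe u

variable {G : Type u} [Group G] [Finite G] {p : ℕ} [Fact p.Prime]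

/-- An irreducible character trivial on `K`, with `G = KP` and `P` abelian, is linear. -/
theorem apply_one_of_sup_eq_top {χ : G → ℂ} (hχ : Cfsg.IsIrrCharacter G χ) (K P : Subgroup G)
    [K.Normal] (hK : ∀ k ∈ K, χ k = χ 1) (hPc : ∀ x ∈ P, ∀ y ∈ P, x * y = y * x)
    (htop : P ⊔ K = ⊤) : χ 1 = 1 := by
  obtain ⟨ψ, hψ, rfl⟩ := IsIrrCharacter.exists_quotient hχ K hK
  show ψ (QuotientGroup.mk' K 1) = 1
  rw [map_one]
  refine IsIrrCharacter.apply_one_of_comm (fun a b => ?_) hψ
  have hlift : ∀ a : G ⧸ K, ∃ x ∈ P, QuotientGroup.mk' K x = a := fun a => by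
    refine QuotientGroup.induction_on a fun g => ?_
    obtain ⟨x, hx, k, hk, rfl⟩ := Subgroup.mem_sup_of_normal_right.mp (htop ▸ Subgroup.mem_top g)
    exact ⟨x, hx, (QuotientGroup.mk_mul_of_mem x hk).symm⟩
  obtain ⟨x, hx, rfl⟩ := hlift a
  obtain ⟨y, hy, rfl⟩ := hlift b
  rw [← map_mul, ← map_mul, hPc x hx y hy]

/-- The uniform centraliser hypothesis. -/
def UniformCentralizer (P : Subgroup G) : Prop :=
  ∀ x ∈ P, x ≠ 1 → Subgroup.centralizer ({x} : Set G) = Subgroup.centralizer (P : Set G)

theorem UniformCentralizer.comm {P : Subgroup G} (h : UniformCentralizer P) :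
    ∀ x ∈ P, ∀ y ∈ P, x * y = y * x := by
  intro x hx y hy
  by_cases hx1 : x = 1
  · simp [hx1]
  · have : x ∈ Subgroup.centralizer (P : Set G) :=
      h x hx hx1 ▸ Subgroup.mem_centralizer_singleton_iff.mpr rfl
    exact (Subgroup.mem_centralizer_iff.mp this y hy).symm

theorem UniformCentralizer.smul {P : Sylow p G} (h : UniformCentralizer (P : Subgroup G)) (g : G) :
    UniformCentralizer ((g • P : Sylow p G) : Subgroup G) := by
  intro x hx hx1
  rw [Sylow.coe_subgroup_smul, Subgroup.mem_pointwise_smul_iff_inv_smul_mem] at hx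
  set x' := (MulAut.conj g)⁻¹ • x with hx'
  have hx'1 : x' ≠ 1 := fun he => hx1 (by
    have he' : g⁻¹ * x * g = 1 := by simpa [hx', MulAut.smul_def] using he
    calc x = g * (g⁻¹ * x * g) * g⁻¹ := by group
      _ = 1 := by rw [he']; group)
  ext a
  have hc := SetLike.ext_iff.mp (h x' hx hx'1) (g⁻¹ * a * g)
  rw [Subgroup.mem_centralizer_singleton_iff, Subgroup.mem_centralizer_iff] at hc
  rw [Subgroup.mem_centralizer_singleton_iff, Subgroup.mem_centralizer_iff]
  have hx'v : x' = g⁻¹ * x * g := by simp [hx', MulAut.smul_def]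
  constructor
  · intro ha y hy
    rw [Sylow.coe_subgroup_smul, SetLike.mem_coe, Subgroup.mem_pointwise_smul_iff_inv_smul_mem]
      at hy
    have h2 := hc.mp (by rw [hx'v]; calc g⁻¹ * a * g * (g⁻¹ * x * g) = g⁻¹ * (a * x) * g := by group
          _ = g⁻¹ * (x * a) * g := by rw [ha]
          _ = _ := by group) _ hy
    have hyv : (MulAut.conj g)⁻¹ • y = g⁻¹ * y * g := by simp [MulAut.smul_def]
    rw [hyv] at h2
    calc y * a = g * (g⁻¹ * y * g * (g⁻¹ * a * g)) * g⁻¹ := by group
      _ = g * (g⁻¹ * a * g * (g⁻¹ * y * g)) * g⁻¹ := by rw [h2]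
      _ = a * y := by group
  · intro ha
    have h2 := ha x (by
      rw [Sylow.coe_subgroup_smul, SetLike.mem_coe, Subgroup.mem_pointwise_smul_iff_inv_smul_mem]
      exact hx)
    exact h2.symm

/-- A small nonprincipal irreducible character forces a normal subgroup. -/
theorem alternative_of_small_irreducible (P : Sylow p G)
    (hstar : UniformCentralizer (P : Subgroup G)) (χ : Cfsg.IrrCharacter G)
    (h1 : (χ : G → ℂ) ≠ fun _ => 1)
    (hdeg : Cfsg.charDegree (χ : G → ℂ) ^ 2 + 1 < Nat.card P) :
    (∃ K : Subgroup G, K.Normal ∧ K ≠ ⊤ ∧ (P : Subgroup G) ≤ K) ∨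
      ((∃ N : Subgroup G, N.Normal ∧ N.index = Nat.card P) ∧
        Cfsg.charDegree (χ : G → ℂ) = 1) := by
  classical
  by_cases hex : ∃ K : Subgroup G, K.Normal ∧ K ≠ ⊤ ∧ (P : Subgroup G) ≤ K
  · exact Or.inl hex
  right
  push Not at hex
  have hfull : ∀ K : Subgroup G, K.Normal → (P : Subgroup G) ≤ K → K = ⊤ := fun K hK hPK => by
    by_contra hne
    exact hex K hK hne hPK
  have hfull' : ∀ K : Subgroup G, K.Normal → ∀ Q : Sylow p G, (Q : Subgroup G) ≤ K → K = ⊤ := by
    intro K hK Q hQK
    refine hfull K hK fun y hy => ?_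
    obtain ⟨g, rfl⟩ := MulAction.exists_smul_eq G P Q
    have hy' : g * y * g⁻¹ ∈ K := hQK (by
      rw [Sylow.coe_subgroup_smul, Subgroup.mem_pointwise_smul_iff_inv_smul_mem]
      simpa [MulAut.smul_def, mul_assoc] using hy)
    simpa [mul_assoc] using hK.conj_mem _ hy' g⁻¹
  have hPc := hstar.comm
  obtain ⟨d, hd, hd'⟩ := IsIrrCharacter.exists_apply_one χ.2
  have hdeg' : Cfsg.charDegree (χ : G → ℂ) = d := by
    rw [Cfsg.charDegree, hd', Complex.natCast_re, Nat.floor_natCast]
  rw [hdeg'] at hdeg ⊢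
  have hχc := irr_isCharacter χ
  set K := charKernel hχc with hKdef
  have hKmem : ∀ k ∈ K, (χ : G → ℂ) k = (χ : G → ℂ) 1 := fun k hk => (mem_charKernel hχc).mp hk
  -- `χ` is linear
  have hlin : d = 1 := by
    by_contra hd1
    have hnot : ¬ (P : Subgroup G) ⊔ K = ⊤ := fun htop => hd1 (by
      have h2 := apply_one_of_sup_eq_top χ.2 K (P : Subgroup G) hKmem hPc htop
      rw [hd'] at h2
      exact_mod_cast h2)
    obtain ⟨S⟩ : Nonempty (Sylow p K) := inferInstance
    obtain ⟨Q, hQ⟩ := (S.2.map K.subtype).exists_le_sylow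
    by_cases hS : (S : Subgroup K) = ⊥
    · -- `P ∩ K = 1`
      have hPK : ∀ x ∈ (P : Subgroup G), x ∈ K → x = 1 := by
        intro x hx hxK
        have hxp : IsPGroup p (Subgroup.zpowers (⟨x, hxK⟩ : K)) := by
          obtain ⟨j, hj⟩ := IsPGroup.iff_orderOf.mp P.2 ⟨x, hx⟩
          refine IsPGroup.of_card (n := j) ?_
          rw [Nat.card_zpowers, ← Subgroup.orderOf_coe, ← hj, ← Subgroup.orderOf_coe]
        obtain ⟨T, hT⟩ := hxp.exists_le_sylow
        obtain ⟨k, rfl⟩ := MulAction.exists_smul_eq K S T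
        have h3 := hT (Subgroup.mem_zpowers (⟨x, hxK⟩ : K))
        rw [Sylow.coe_subgroup_smul, hS, Subgroup.smul_bot, Subgroup.mem_bot] at h3
        exact congrArg Subtype.val h3
      obtain ⟨m, ρ, hρirr, hρχ⟩ := χ.2
      have hKρ : K ≤ ρ.ker := fun k hk => by
        have h2 := hKmem k hk
        rw [← hρχ, ρ.char_one, char_eq_finrank_iff] at h2
        exact MonoidHom.mem_ker.mpr h2
      let σ : Representation ℂ (G ⧸ K) (Fin m → ℂ) := QuotientGroup.lift K ρ hKρ
      set f := QuotientGroup.mk' K with hf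
      let Pb : Sylow p (G ⧸ K) := P.mapSurjective (QuotientGroup.mk'_surjective K)
      have hPbcard : Nat.card Pb = Nat.card P := by
        let φ : (P : Subgroup G) →* G ⧸ K := f.comp (P : Subgroup G).subtype
        have hφ : Function.Injective φ := by
          rw [injective_iff_map_eq_one]
          intro x hx
          exact Subtype.ext (hPK _ x.2 ((QuotientGroup.eq_one_iff _).mp hx))
        have hr : (Pb : Subgroup (G ⧸ K)) = φ.range := by
          rw [MonoidHom.range_comp, Subgroup.range_subtype]; rfl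
        show Nat.card (Pb : Subgroup (G ⧸ K)) = Nat.card (P : Subgroup G)
        rw [hr]
        exact Nat.card_congr (MonoidHom.ofInjective hφ).toEquiv.symm
      have hstarb : ∀ a ∈ (Pb : Subgroup (G ⧸ K)), a ≠ 1 →
          Subgroup.centralizer ({a} : Set (G ⧸ K)) =
            Subgroup.centralizer ((Pb : Subgroup (G ⧸ K)) : Set (G ⧸ K)) := by
        rintro _ ⟨x, hx, rfl⟩ ha1
        have hx1 : x ≠ 1 := fun h => ha1 (by rw [h, map_one])
        refine le_antisymm (fun b hb => ?_) (Subgroup.centralizer_le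
          (Set.singleton_subset_iff.mpr ⟨x, hx, rfl⟩))
        obtain ⟨g, rfl⟩ := QuotientGroup.mk'_surjective K b
        rw [Subgroup.mem_centralizer_singleton_iff, ← map_mul, ← map_mul] at hb
        set M := (P : Subgroup G) ⊔ K
        have hgx : g * x * g⁻¹ ∈ M := by
          have h2 : (x * g)⁻¹ * (g * x) ∈ K := QuotientGroup.eq.mp hb.symm
          have h3 : g * x * g⁻¹ = x * (g * ((x * g)⁻¹ * (g * x)) * g⁻¹) := by group
          rw [h3]
          exact M.mul_mem (Subgroup.mem_sup_left hx)
            (Subgroup.mem_sup_right (Subgroup.Normal.conj_mem inferInstance _ h2 g))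
        let PM : Sylow p M := P.subtype le_sup_left
        have hzp : IsPGroup p (Subgroup.zpowers (⟨g * x * g⁻¹, hgx⟩ : M)) := by
          obtain ⟨j, hj⟩ := IsPGroup.iff_orderOf.mp P.2 ⟨x, hx⟩
          refine IsPGroup.of_card (n := j) ?_
          rw [Nat.card_zpowers, ← Subgroup.orderOf_coe,
            show ((⟨g * x * g⁻¹, hgx⟩ : M) : G) = MulAut.conj g x from rfl,
            MulEquiv.orderOf_eq, ← hj, ← Subgroup.orderOf_coe]
        obtain ⟨T, hT⟩ := hzp.exists_le_sylow
        obtain ⟨w, rfl⟩ := MulAction.exists_smul_eq M PM T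
        have h4 := hT (Subgroup.mem_zpowers _)
        rw [Sylow.coe_subgroup_smul, Subgroup.mem_pointwise_smul_iff_inv_smul_mem] at h4
        have h5 : (w : G)⁻¹ * (g * x * g⁻¹) * w ∈ (P : Subgroup G) := by
          simpa [PM, MulAut.smul_def, Subgroup.mem_subgroupOf, mul_assoc] using h4
        have hw : (w : G) ∈ K ⊔ (P : Subgroup G) := by rw [sup_comm]; exact w.2
        obtain ⟨y, hy, k, hk, hyk⟩ := Subgroup.mem_sup_of_normal_left.mp hw
        -- `w = y * k` with `y ∈ K`, `k ∈ P`
        have h6 : y⁻¹ * (g * x * g⁻¹) * y ∈ (P : Subgroup G) := by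
          have h7 := (P : Subgroup G).mul_mem ((P : Subgroup G).mul_mem hk h5)
            ((P : Subgroup G).inv_mem hk)
          rw [← hyk] at h7
          simpa [mul_assoc] using h7
        have h8 : y⁻¹ * (g * x * g⁻¹) * y = x := by
          have h9 : x⁻¹ * (y⁻¹ * (g * x * g⁻¹) * y) ∈ K := by
            rw [← QuotientGroup.eq_one_iff]
            show f _ = 1
            have hy1 : f y = 1 := (QuotientGroup.eq_one_iff y).mpr hy
            simp only [map_mul, map_inv]
            rw [hy1, show f g * f x = f x * f g from hb]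
            group
          have h10 := hPK _ ((P : Subgroup G).mul_mem ((P : Subgroup G).inv_mem hx) h6) h9
          exact (inv_mul_eq_one.mp h10).symm
        have h11 : y⁻¹ * g ∈ Subgroup.centralizer ((P : Subgroup G) : Set G) := by
          rw [← hstar x hx hx1, Subgroup.mem_centralizer_singleton_iff]
          calc y⁻¹ * g * x = y⁻¹ * (g * x * g⁻¹) * y * (y⁻¹ * g) := by group
            _ = x * (y⁻¹ * g) := by rw [h8]
        rw [Subgroup.mem_centralizer_iff]
        rintro _ ⟨z, hz, rfl⟩
        have h12 := congrArg f (Subgroup.mem_centralizer_iff.mp h11 z hz)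
        have hy1 : f y = 1 := (QuotientGroup.eq_one_iff y).mpr hy
        simp only [map_mul, map_inv, hy1, inv_one, one_mul] at h12
        exact h12
      have hdm : m = d := by
        have h2 : (χ : G → ℂ) 1 = (m : ℂ) := by
          rw [← hρχ, ρ.char_one, Module.finrank_fin_fun]
        exact_mod_cast h2.symm.trans hd'
      have hnormal := Cfsg.Agent.Lib.InvChar.SmallTI.normal_of_small_faithful Pb hstarb
        (χ := σ.character) (isCharacter_of_rep σ) (fun a ha => by
          revert ha
          refine QuotientGroup.induction_on a fun g ha => ?_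
          refine (QuotientGroup.eq_one_iff g).mpr ((mem_charKernel hχc).mpr ?_)
          rw [← hρχ]
          exact ha)
        (by
          have hc : Cfsg.charDegree σ.character = d := by
            unfold Cfsg.charDegree
            rw [σ.char_one, Module.finrank_fin_fun, Complex.natCast_re, Nat.floor_natCast, hdm]
          rw [hPbcard, show Cfsg.Agent.Lib.InvChar.SmallTI.deg σ.character = d from hc]
          exact hdeg)
      refine hnot (hfull _ ?_ le_sup_left)
      have hMeq : (P : Subgroup G) ⊔ K = ((P : Subgroup G).map f).comap f := by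
        rw [Subgroup.comap_map_eq, QuotientGroup.ker_mk']
      rw [hMeq]
      exact hnormal.comap f
    · -- Frattini: `G = N(Q)K`
      obtain ⟨g, hg⟩ := MulAction.exists_smul_eq G P Q
      have hstarQ : UniformCentralizer (Q : Subgroup G) := hg ▸ hstar.smul g
      obtain ⟨⟨y, hyK⟩, hy, hy1⟩ := (Subgroup.bot_or_exists_ne_one _).resolve_left hS
      have hy1' : y ≠ 1 := fun h => hy1 (Subtype.ext h)
      have hNS : Subgroup.normalizer ((S : Subgroup K).map K.subtype : Set G) ≤
          Subgroup.normalizer ((Q : Subgroup G) : Set G) := by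
        intro a ha
        have hyS : y ∈ (S : Subgroup K).map K.subtype := ⟨⟨y, hyK⟩, hy, rfl⟩
        have hay : a * y * a⁻¹ ∈ (S : Subgroup K).map K.subtype :=
          (Subgroup.mem_normalizer_iff.mp ha y).mp hyS
        have hle : ((a • Q : Sylow p G) : Subgroup G) ≤
            Subgroup.normalizer ((Q : Subgroup G) : Set G) := by
          intro z hz
          rw [Sylow.coe_subgroup_smul, Subgroup.mem_pointwise_smul_iff_inv_smul_mem] at hz
          have hz' : a⁻¹ * z * a ∈ (Q : Subgroup G) := by simpa [MulAut.smul_def] using hz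
          have h2 := hstarQ.comm _ hz' _ (hQ hyS)
          have h3 : z ∈ Subgroup.centralizer ({a * y * a⁻¹} : Set G) := by
            rw [Subgroup.mem_centralizer_singleton_iff]
            calc z * (a * y * a⁻¹) = a * (a⁻¹ * z * a * y) * a⁻¹ := by group
              _ = a * (y * (a⁻¹ * z * a)) * a⁻¹ := by rw [h2]
              _ = a * y * a⁻¹ * z := by group
          rw [hstarQ _ (hQ hay) (fun h => hy1' (conj_eq_one_iff.mp h))] at h3
          exact Subgroup.centralizer_le_normalizer _ h3
        refine Sylow.smul_eq_iff_mem_normalizer.mp (Sylow.ext ?_)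
        refine (a • Q).3 Q.2 ?_ |>.symm
        intro z hz
        exact ((IsPGroup.inf_normalizer_sylow (a • Q).2 Q).le ⟨hz, hle hz⟩).2
      have htop : Subgroup.normalizer ((S : Subgroup K).map K.subtype : Set G) ⊔ K = ⊤ :=
        Sylow.normalizer_sup_eq_top S
      have hQK : ((Q : Subgroup G) ⊔ K).Normal := by
        refine ⟨fun z hz g => ?_⟩
        obtain ⟨a, ha, k, hk, rfl⟩ := Subgroup.mem_sup_of_normal_right.mp
          (htop ▸ Subgroup.mem_top g : g ∈ _ ⊔ K)
        have h6 : k * z * k⁻¹ ∈ (Q : Subgroup G) ⊔ K :=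
          Subgroup.mul_mem _ (Subgroup.mul_mem _ (Subgroup.mem_sup_right hk) hz)
            (Subgroup.inv_mem _ (Subgroup.mem_sup_right hk))
        obtain ⟨q, hq, l, hl, hql⟩ := Subgroup.mem_sup_of_normal_right.mp h6
        rw [show a * k * z * (a * k)⁻¹ = a * (k * z * k⁻¹) * a⁻¹ by group, ← hql,
          show a * (q * l) * a⁻¹ = (a * q * a⁻¹) * (a * l * a⁻¹) by group]
        exact Subgroup.mul_mem _
          (Subgroup.mem_sup_left ((Subgroup.mem_normalizer_iff.mp (hNS ha) q).mp hq))
          (Subgroup.mem_sup_right (Subgroup.Normal.conj_mem inferInstance l hl a))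
      have h5 := hfull' _ hQK Q le_sup_left
      exact hd1 (by
        have h2 := apply_one_of_sup_eq_top χ.2 K (Q : Subgroup G) hKmem hstarQ.comm h5
        rw [hd'] at h2
        exact_mod_cast h2)
  refine ⟨?_, hlin⟩
  have hGne : commutator G ≠ ⊤ := by
    intro htop
    refine h1 (funext fun g => ?_)
    exact IsCharacter.apply_of_mem_commutator hχc (by rw [hd', hlin, Nat.cast_one])
      (htop ▸ Subgroup.mem_top g)
  have hNC : Subgroup.normalizer ((P : Subgroup G) : Set G) ≤
      Subgroup.centralizer ((P : Subgroup G) : Set G) := by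
    intro g hg
    by_contra hgC
    refine hGne (hfull _ inferInstance fun y hy => ?_)
    let φ : ↥(P : Subgroup G) → ↥(P : Subgroup G) := fun z =>
      ⟨g * z * g⁻¹ * (z : G)⁻¹, (P : Subgroup G).mul_mem
        ((Subgroup.mem_normalizer_iff.mp hg z).mp z.2) ((P : Subgroup G).inv_mem z.2)⟩
    have hinj : Function.Injective φ := by
      intro a b hab
      have h2 : g * (a : G) * g⁻¹ * (a : G)⁻¹ = g * (b : G) * g⁻¹ * (b : G)⁻¹ :=
        congrArg Subtype.val hab
      have hbga : g * (b : G) * g⁻¹ ∈ (P : Subgroup G) :=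
        (Subgroup.mem_normalizer_iff.mp hg b).mp b.2
      have h3 : g * ((b : G)⁻¹ * a) * g⁻¹ = (b : G)⁻¹ * a := by
        calc g * ((b : G)⁻¹ * a) * g⁻¹
            = (g * (b : G) * g⁻¹)⁻¹ * (g * (a : G) * g⁻¹ * (a : G)⁻¹) * a := by group
          _ = (g * (b : G) * g⁻¹)⁻¹ * (g * (b : G) * g⁻¹ * (b : G)⁻¹) * a := by rw [h2]
          _ = (b : G)⁻¹ * a := by group
      by_contra hne
      refine hgC ?_
      rw [← hstar _ ((P : Subgroup G).mul_mem ((P : Subgroup G).inv_mem b.2) a.2)
        (fun he => hne (Subtype.ext (inv_mul_eq_one.mp he).symm)),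
        Subgroup.mem_centralizer_singleton_iff]
      exact mul_inv_eq_iff_eq_mul.mp h3
    obtain ⟨z, hz⟩ := hinj.bijective_of_finite.2 ⟨y, hy⟩
    have hz' : g * (z : G) * g⁻¹ * (z : G)⁻¹ = y := congrArg Subtype.val hz
    rw [← hz']
    exact Subgroup.commutator_mem_commutator (Subgroup.mem_top g) (Subgroup.mem_top (z : G))
  obtain ⟨P0, N, hNn, hNc⟩ := Transfer.hasNormalPComplement_of_normalizer_le_centralizer P hNC
  refine ⟨N, hNn, ?_⟩
  have h2 := hNc.card_mul_card
  rw [← N.card_mul_index] at h2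
  have h3 := Nat.eq_of_mul_eq_mul_left Nat.card_pos h2
  rw [← h3, P0.card_eq_multiplicity, P.card_eq_multiplicity]

end Cfsg.Agent.Lib.Characters
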