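import Cfsg.Agent.Lib.Characters.Clifford
import Cfsg.Agent.Lib.Characters.InducedMore
import Cfsg.Agent.Lib.Characters.Kernel
import Cfsg.Agent.Lib.Characters.RelativeM
import Mathlib.GroupTheory.RegularWreathProduct

/-!
# Wreath products of monomial groups with groups of prime order

Irreducible characters of a finite power are products; a regular wreath product of an M-group
with a group of prime order is an M-group, and every finite group with a normal subgroup embeds
in the regular wreath product of the subgroup by the quotient.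
-/

set_option autoImplicit false
set_option linter.unusedSectionVars false
set_option linter.style.haveILetI false

namespace Cfsg.Agent.Lib.Characters

open Cfsg
open scoped ComplexConjugate

universe u v

/-- Every irreducible character is induced from a linear one. -/
def IsMonomialGrp (G : Type u) [Group G] [Fintype G] : Prop :=
  ∀ χ : G → ℂ, IsIrrCharacter G χ →
    ∃ (H : Subgroup G) (lam : H →* ℂˣ), χ = indFun H (fun h => (lam h : ℂ))

theorem isMonomialGrp_of_subsingleton (G : Type u) [Group G] [Fintype G] [Subsingleton G] :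
    IsMonomialGrp G := by
  intro χ hχ
  have h1 : χ 1 = 1 := IsIrrCharacter.apply_one_of_comm (fun a b => Subsingleton.elim _ _) hχ
  obtain ⟨lam, hlam⟩ := IsCharacter.exists_hom_of_apply_one (IsIrrCharacter.isCharacter hχ) h1
  refine ⟨⊤, lam.comp (⊤ : Subgroup G).subtype, ?_⟩
  refine (indFun_top (IsCharacter.isClassFunction (IsIrrCharacter.isCharacter hχ))).symm.trans
    (congrArg _ (funext fun x => ?_))
  exact congrFun hlam x

theorem IsMonomialGrp.of_equiv {G : Type u} [Group G] [Fintype G] {K : Type v} [Group K] [Fintype K]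
    (e : G ≃* K) (hK : IsMonomialGrp K) : IsMonomialGrp G := by
  intro χ hχ
  obtain ⟨U, lam, hlam⟩ := hK _ (IsIrrCharacter.comp_equiv hχ e.symm)
  refine ⟨U.comap e.toMonoidHom, lam.comp
    { toFun := fun x => ⟨e x, x.2⟩
      map_one' := Subtype.ext (map_one e)
      map_mul' := fun a b => Subtype.ext (map_mul e (a : G) b) }, ?_⟩
  refine Eq.trans ?_ (indFun_comap e.toMonoidHom e.surjective U (fun u => (lam u : ℂ))).symm
  rw [← hlam]
  funext g
  exact congrArg χ (e.symm_apply_apply g).symm

/-- A character with irreducible restriction has only one constituent. -/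
theorem eq_of_restrict_irr_of_constituent {G : Type u} [Group G] [Fintype G] (N : Subgroup G)
    [Fintype N] {Ψ χ : G → ℂ} (hΨ : IsCharacter G Ψ) (hN : IsIrrCharacter N fun n : N => Ψ n)
    (hχ : IsIrrCharacter G χ) (hc : classInner Ψ χ ≠ 0) : Ψ = χ := by
  classical
  obtain ⟨r, hr, hΨr⟩ : ∃ r, IsCharacter G r ∧ Ψ = χ + r := by
    haveI := Fintype.ofFinite (IrrCharacter G)
    obtain ⟨m, hm, hm'⟩ := IsCharacter.exists_nat_decomp hΨ
    set χ₀ : IrrCharacter G := ⟨χ, hχ⟩ with hχ₀
    have hm1 : m χ₀ ≠ 0 := fun h => hc (by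
      have := hm' χ₀
      rw [h, Nat.cast_zero] at this
      exact this)
    refine ⟨_, isCharacter_nat_sum (fun η => if η = χ₀ then m η - 1 else m η), ?_⟩
    rw [hm, ← Finset.add_sum_erase _ _ (Finset.mem_univ χ₀),
      ← Finset.add_sum_erase (f := fun η => (((if η = χ₀ then m η - 1 else m η : ℕ)) : ℂ) •
        (η : G → ℂ)) _ (Finset.mem_univ χ₀), if_pos rfl, ← add_assoc]
    congr 1
    · rw [Nat.cast_sub (Nat.one_le_iff_ne_zero.2 hm1), Nat.cast_one, sub_smul, one_smul,
        add_sub_cancel]
    · exact Finset.sum_congr rfl fun η hη => by rw [if_neg (Finset.ne_of_mem_erase hη)]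
  haveI := Fintype.ofFinite (IrrCharacter N)
  set θ : IrrCharacter N := ⟨_, hN⟩ with hθ
  have hχN : IsCharacter N fun n : N => χ n :=
    IsCharacter.restrict (IsIrrCharacter.isCharacter hχ) N
  have hrN : IsCharacter N fun n : N => r n := IsCharacter.restrict hr N
  choose a ha using fun η : IrrCharacter N =>
    IsCharacter.exists_classInner_nat hχN (irr_isCharacter η)
  choose b hb using fun η : IrrCharacter N =>
    IsCharacter.exists_classInner_nat hrN (irr_isCharacter η)
  have hab : ∀ η : IrrCharacter N, a η + b η = if θ = η then 1 else 0 := fun η => by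
    have h := classInner_add_left (fun n : N => χ n) (fun n : N => r n) (η : N → ℂ)
    rw [show ((fun n : N => χ n) + fun n : N => r n) = (θ : N → ℂ) from
      funext fun n => (congrFun hΨr n).symm, ha, hb, classInner_irr] at h
    split_ifs at h ⊢ with hθη
    · exact_mod_cast h.symm
    · exact_mod_cast h.symm
  have hbz : b θ = 0 := by
    by_contra hbne
    have haz : ∀ η, a η = 0 := fun η => by
      have h := hab η
      split_ifs at h with hθη
      · subst hθη; omega
      · omega
    refine IsIrrCharacter.apply_one_ne_zero hχ ?_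
    have h := congrFun (eq_sum_classInner (IsCharacter.isClassFunction hχN)) 1
    rw [show (χ 1 : ℂ) = χ ((1 : N) : G) from rfl, h]
    simp [ha, haz]
  have hr0 : r 1 = 0 := by
    have h := congrFun (eq_sum_classInner (IsCharacter.isClassFunction hrN)) 1
    rw [show (r 1 : ℂ) = r ((1 : N) : G) from rfl, h]
    have : ∀ η, b η = 0 := fun η => by
      have h' := hab η
      split_ifs at h' with hθη
      · exact hθη ▸ hbz
      · omega
    simp [hb, this]
  rw [hΨr, IsCharacter.eq_zero_of_apply_one_relM hr hr0, add_zero]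

/-! ### Finite powers -/

section Pi

variable {ι : Type v} [Fintype ι] {M : Type u} [Group M] [Fintype M]

/-- The product of functions on the coordinates. -/
noncomputable def piFun (θ : ι → M → ℂ) : (ι → M) → ℂ := fun f => ∏ i, θ i (f i)

theorem isCharacter_piFun {θ : ι → M → ℂ} (hθ : ∀ i, IsCharacter M (θ i)) :
    IsCharacter (ι → M) (piFun θ) := by
  classical
  have h : ∀ s : Finset ι, IsCharacter (ι → M) (fun f => ∏ i ∈ s, θ i (f i)) := by
    intro s
    induction s using Finset.induction_on with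
    | empty => simpa using isCharacter_one
    | insert a s ha ih =>
      have h2 : (fun f : ι → M => ∏ i ∈ insert a s, θ i (f i)) =
          (θ a ∘ Pi.evalMonoidHom (fun _ => M) a) * fun f => ∏ i ∈ s, θ i (f i) := by
        funext f
        simp [Finset.prod_insert ha]
      rw [h2]
      exact IsCharacter.mul (IsCharacter.comp (hθ a) _) ih
  exact h Finset.univ

theorem classInner_piFun [DecidableEq ι] (θ θ' : ι → M → ℂ) :
    classInner (piFun θ) (piFun θ') = ∏ i, classInner (θ i) (θ' i) := by
  simp only [classInner, piFun, map_prod, ← Finset.prod_mul_distrib]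
  rw [← Fintype.prod_sum (fun i m => θ i m * conj (θ' i m)), Finset.prod_mul_distrib,
    Finset.prod_const, Nat.card_fun, Finset.card_univ, Nat.card_eq_fintype_card (α := ι)]
  push_cast
  rw [inv_pow]

theorem isIrrCharacter_piFun [DecidableEq ι] (θ : ι → IrrCharacter M) :
    IsIrrCharacter (ι → M) (piFun fun i => (θ i : M → ℂ)) := by
  rw [IsCharacter.isIrr_iff (isCharacter_piFun fun i => irr_isCharacter (θ i)), classInner_piFun]
  exact Finset.prod_eq_one fun i _ => IsIrrCharacter.classInner_self (θ i).2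

/-- **The irreducible characters of a finite power.** -/
theorem exists_piFun_eq [DecidableEq ι] {χ : (ι → M) → ℂ} (hχ : IsIrrCharacter (ι → M) χ) :
    ∃ θ : ι → IrrCharacter M, χ = piFun fun i => (θ i : M → ℂ) := by
  classical
  haveI := Fintype.ofFinite (IrrCharacter M)
  by_contra hno
  simp only [not_exists] at hno
  have hz : ∑ θ : ι → IrrCharacter M, piFun (fun i => (θ i : M → ℂ)) 1 *
      classInner χ (piFun fun i => (θ i : M → ℂ)) = 0 := Finset.sum_eq_zero fun θ _ => by
    rw [IsIrrCharacter.classInner_ne hχ (isIrrCharacter_piFun θ) (hno θ), mul_zero]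
  refine IsIrrCharacter.apply_one_ne_zero hχ ?_
  have hdeg : ∀ m : M, ∑ ψ : IrrCharacter M, (ψ : M → ℂ) 1 * conj ((ψ : M → ℂ) m) =
      if m = 1 then (Nat.card M : ℂ) else 0 := fun m => by
    have h := congrArg conj (sum_degree_mul m)
    rw [map_sum, apply_ite conj, map_natCast, map_zero] at h
    rw [← h]
    refine Finset.sum_congr rfl fun ψ _ => ?_
    obtain ⟨n, -, hn⟩ := IsIrrCharacter.exists_apply_one ψ.2
    rw [map_mul, hn, map_natCast]
  have hprod : ∀ f : ι → M, ∑ θ : ι → IrrCharacter M, piFun (fun i => (θ i : M → ℂ)) 1 *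
      conj (piFun (fun i => (θ i : M → ℂ)) f) =
        if f = 1 then (Nat.card (ι → M) : ℂ) else 0 := by
    intro f
    simp only [piFun, map_prod, Pi.one_apply, ← Finset.prod_mul_distrib]
    rw [← Fintype.prod_sum (fun i (ψ : IrrCharacter M) =>
      (ψ : M → ℂ) 1 * conj ((ψ : M → ℂ) (f i))), Finset.prod_congr rfl fun i _ => hdeg (f i)]
    split_ifs with hf
    · subst hf
      simp [Nat.card_eq_fintype_card]
    · obtain ⟨i, hi⟩ := Function.ne_iff.1 hf
      exact Finset.prod_eq_zero (Finset.mem_univ i) (if_neg hi)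
  simp only [classInner, Finset.mul_sum] at hz
  rw [Finset.sum_comm] at hz
  have h2 : ∀ f : ι → M, ∑ θ : ι → IrrCharacter M, piFun (fun i => (θ i : M → ℂ)) 1 *
      ((Nat.card (ι → M) : ℂ)⁻¹ * (χ f * conj (piFun (fun i => (θ i : M → ℂ)) f))) =
      if f = 1 then χ 1 else 0 := by
    intro f
    rw [Finset.sum_congr rfl fun θ _ => show _ = (Nat.card (ι → M) : ℂ)⁻¹ * χ f *
      (piFun (fun i => (θ i : M → ℂ)) 1 * conj (piFun (fun i => (θ i : M → ℂ)) f)) by ring,
      ← Finset.mul_sum, hprod f]
    split_ifs with hf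
    · subst hf
      rw [mul_right_comm, inv_mul_cancel₀ natCard_ne_zero_complex, one_mul]
    · rw [mul_zero]
  rwa [Finset.sum_congr rfl fun f _ => h2 f, Finset.sum_ite_eq', if_pos (Finset.mem_univ _)] at hz

/-- The product of induced functions is induced from the product subgroup. -/
theorem piFun_indFun [DecidableEq ι] (H : ι → Subgroup M) (lam : ∀ i, H i →* ℂˣ) :
    piFun (fun i => indFun (H i) (fun h => (lam i h : ℂ))) =
      indFun (Subgroup.pi Set.univ H)
        (fun f => ∏ i, (lam i ⟨(f : ι → M) i, f.2 i trivial⟩ : ℂ)) := by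
  classical
  funext f
  have hcard : Nat.card (Subgroup.pi Set.univ H) = ∏ i, Nat.card (H i) := by
    rw [← Nat.card_pi]
    exact Nat.card_congr
      { toFun := fun g i => ⟨(g : ι → M) i, g.2 i trivial⟩
        invFun := fun g => ⟨fun i => (g i : M), fun i _ => (g i).2⟩
        left_inv := fun g => rfl
        right_inv := fun g => rfl }
  simp only [piFun, indFun_apply]
  rw [hcard, Finset.prod_mul_distrib, Nat.cast_prod, ← Finset.prod_inv_distrib,
    Fintype.prod_sum (fun i m => extendByZero (H i) (fun h => (lam i h : ℂ)) (m⁻¹ * f i * m))]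
  congr 1
  refine Finset.sum_congr rfl fun x _ => ?_
  by_cases h : x⁻¹ * f * x ∈ Subgroup.pi Set.univ H
  · rw [extendByZero_of_mem _ _ h]
    exact Finset.prod_congr rfl fun i _ => by
      rw [extendByZero_of_mem _ _ (show (x i)⁻¹ * f i * x i ∈ H i from h i trivial)]; rfl
  · rw [extendByZero_of_not_mem _ _ h]
    obtain ⟨i, hi⟩ : ∃ i, (x i)⁻¹ * f i * x i ∉ H i := by
      by_contra h'
      simp only [not_exists, not_not] at h'
      exact h fun i _ => h' i
    exact Finset.prod_eq_zero (Finset.mem_univ i) (extendByZero_of_not_mem _ _ hi)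

theorem IsMonomialGrp.pi [DecidableEq ι] (hM : IsMonomialGrp M) : IsMonomialGrp (ι → M) := by
  intro χ hχ
  obtain ⟨θ, rfl⟩ := exists_piFun_eq hχ
  choose H lam hlam using fun i => hM _ (θ i).2
  refine ⟨Subgroup.pi Set.univ H, ∏ i, (lam i).comp
    { toFun := fun f => (⟨(f.1 : ι → M) i, f.2 i trivial⟩ : H i)
      map_one' := rfl
      map_mul' := fun _ _ => rfl }, ?_⟩
  simp only [hlam, piFun_indFun]
  congr 1
  funext f
  simp

end Pi

/-! ### The wreath product -/

section Wreath

variable {M : Type u} [Group M] [Fintype M] {Q : Type u} [Group Q] [Fintype Q]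

/-- The base group. -/
abbrev wrBase (M : Type u) (Q : Type u) [Group M] [Group Q] : Subgroup (M ≀ᵣ Q) :=
  (RegularWreathProduct.rightHom : M ≀ᵣ Q →* Q).ker

/-- The base group is the power. -/
def baseEquiv (M : Type u) (Q : Type u) [Group M] [Group Q] : wrBase M Q ≃* (Q → M) where
  toFun b := b.1.left
  invFun f := ⟨⟨f, 1⟩, rfl⟩
  left_inv b := Subtype.ext (RegularWreathProduct.ext rfl (b.2 : b.1.right = 1).symm)
  right_inv f := rfl
  map_mul' a b := by
    funext x
    simp [show a.1.right = 1 from a.2]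

/-- The subgroup of the wreath product over a subgroup. -/
def wrSub (H : Subgroup M) (Q : Type u) [Group Q] : Subgroup (M ≀ᵣ Q) where
  carrier := {w | ∀ x, w.left x ∈ H}
  one_mem' := fun _ => H.one_mem
  mul_mem' := fun {a b} ha hb x => H.mul_mem (ha x) (hb _)
  inv_mem' := fun {a} ha x => H.inv_mem (ha _)

/-- The product of a linear character over the coordinates. -/
noncomputable def wrLin (H : Subgroup M) (lam : H →* ℂˣ) (Q : Type u) [Group Q] [Fintype Q] :
    wrSub H Q →* ℂˣ where
  toFun w := ∏ x, lam ⟨w.1.left x, w.2 x⟩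
  map_one' := Finset.prod_eq_one fun x _ => map_one lam
  map_mul' a b := by
    rw [← Equiv.prod_comp (Equiv.mulLeft a.1.right⁻¹) fun x => lam ⟨b.1.left x, b.2 x⟩,
      ← Finset.prod_mul_distrib]
    exact Finset.prod_congr rfl fun x _ => map_mul lam ⟨a.1.left x, a.2 x⟩ ⟨b.1.left _, b.2 _⟩

theorem indFun_wrLin_base [Fintype (M ≀ᵣ Q)] (H : Subgroup M) (lam : H →* ℂˣ) (f : Q → M) :
    indFun (wrSub H Q) (fun w => (wrLin H lam Q w : ℂ)) ⟨f, 1⟩ =
      ∏ x, indFun H (fun h => (lam h : ℂ)) (f x) := by
  classical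
  have hcard : Nat.card (wrSub H Q) = Nat.card H ^ Nat.card Q * Nat.card Q := by
    rw [← Nat.card_fun, ← Nat.card_prod]
    exact Nat.card_congr
      { toFun := fun w => (fun x => ⟨w.1.left x, w.2 x⟩, w.1.right)
        invFun := fun p => ⟨⟨fun x => (p.1 x : M), p.2⟩, fun x => (p.1 x).2⟩
        left_inv := fun w => rfl
        right_inv := fun p => rfl }
  set E : M → ℂ := extendByZero H (fun h => (lam h : ℂ)) with hE
  have hterm : ∀ w : M ≀ᵣ Q,
      extendByZero (wrSub H Q) (fun w => (wrLin H lam Q w : ℂ)) (w⁻¹ * ⟨f, 1⟩ * w) =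
        ∏ x, E ((w.left x)⁻¹ * f x * w.left x) := by
    intro w
    have hl : ∀ x, (w⁻¹ * ⟨f, 1⟩ * w).left x =
        (w.left (w.right * x))⁻¹ * f (w.right * x) * w.left (w.right * x) := fun x => by
      simp [mul_assoc]
    rw [← Equiv.prod_comp (Equiv.mulLeft w.right) fun x => E ((w.left x)⁻¹ * f x * w.left x)]
    simp only [Equiv.coe_mulLeft, ← hl]
    generalize w⁻¹ * ⟨f, 1⟩ * w = c
    by_cases h : c ∈ wrSub H Q
    · rw [extendByZero_of_mem _ _ h]
      simp only [wrLin, MonoidHom.coe_mk, OneHom.coe_mk, Units.coe_prod]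
      exact Finset.prod_congr rfl fun x _ =>
        (extendByZero_of_mem H (fun h => (lam h : ℂ)) (h x)).symm
    · rw [extendByZero_of_not_mem _ _ h]
      obtain ⟨i, hi⟩ : ∃ i, c.left i ∉ H := by
        by_contra h'
        simp only [not_exists, not_not] at h'
        exact h h'
      exact (Finset.prod_eq_zero (Finset.mem_univ i)
        (extendByZero_of_not_mem H (fun h => (lam h : ℂ)) hi)).symm
  rw [indFun_apply, Finset.sum_congr rfl fun w _ => hterm w,
    Fintype.sum_equiv (RegularWreathProduct.equivProd M Q)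
      (fun w => ∏ x, E ((w.left x)⁻¹ * f x * w.left x))
      (fun p => ∏ x, E ((p.1 x)⁻¹ * f x * p.1 x)) fun w => rfl,
    Fintype.sum_prod_type]
  simp only [Finset.sum_const, Finset.card_univ, nsmul_eq_mul]
  rw [← Finset.mul_sum, ← Fintype.prod_sum (fun x m => E (m⁻¹ * f x * m)), hcard]
  simp only [indFun_apply, Finset.prod_mul_distrib, Finset.prod_const, Finset.card_univ,
    ← Nat.card_eq_fintype_card]
  have hQ : (Nat.card Q : ℂ) ≠ 0 := natCard_ne_zero_complex
  push_cast
  rw [mul_inv, mul_assoc, inv_mul_cancel_left₀ hQ, inv_pow]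

set_option maxHeartbeats 1600000 in
/-- **The regular wreath product of an M-group with a group of prime order is an M-group.** -/
theorem IsMonomialGrp.wreath [Fintype (M ≀ᵣ Q)] (hM : IsMonomialGrp M)
    (hQ : (Nat.card Q).Prime) : IsMonomialGrp (M ≀ᵣ Q) := by
  classical
  intro χ hχ
  haveI := Fact.mk hQ
  haveI : IsCyclic Q := isCyclic_of_prime_card rfl
  have hQc : ∀ a b : Q, a * b = b * a := IsCyclic.commGroup.mul_comm
  set B := wrBase M Q with hBdef
  haveI : Fintype B := Fintype.ofFinite _
  have hBidx : B.index = Nat.card Q := by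
    rw [hBdef, Subgroup.index_ker]
    exact Nat.card_congr ((Equiv.subtypeUnivEquiv fun q => show q ∈ RegularWreathProduct.rightHom.range from
      ⟨RegularWreathProduct.inl q, rfl⟩))
  obtain ⟨θ₀, hcθ⟩ := IsCharacter.exists_constituent
    (IsCharacter.restrict (IsIrrCharacter.isCharacter hχ) B) (fun h =>
      IsIrrCharacter.apply_one_ne_zero hχ (congrFun h 1))
  obtain ⟨θ, hθ⟩ := θ₀
  have hBmono : IsMonomialGrp B := IsMonomialGrp.of_equiv (baseEquiv M Q) (IsMonomialGrp.pi hM)
  have hle := le_inertia B (IsCharacter.isClassFunction (IsIrrCharacter.isCharacter hθ))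
  have hdvd : (inertia B θ).index ∣ Nat.card Q := hBidx ▸ Subgroup.index_dvd_of_le hle
  rcases (Nat.dvd_prime hQ).1 hdvd with h1 | h1
  swap
  · -- the inertia group is the base
    have hT : inertia B θ = B := by
      refine (Subgroup.eq_of_le_of_card_ge hle ?_).symm
      have e1 := B.card_mul_index
      have e2 := (inertia B θ).card_mul_index
      rw [h1] at e2; rw [hBidx] at e1
      exact (Nat.eq_of_mul_eq_mul_right hQ.pos (e2.trans e1.symm)).le
    obtain ⟨ψ, hψ, hind, -⟩ := exists_clifford_correspondent B hχ hθ hcθ B hT le_rfl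
    obtain ⟨U, lam, rfl⟩ := hBmono ψ hψ
    exact ⟨U.map B.subtype,
      lam.comp (U.equivMapOfInjective B.subtype B.subtype_injective).symm.toMonoidHom,
      hind.symm.trans (indFun_indFun B U _)⟩
  -- the character of the base is invariant
  have hinv : ∀ g, conjFun B g θ = θ := fun g => by
    have : g ∈ inertia B θ := by rw [Subgroup.index_eq_one.1 h1]; trivial
    exact this
  obtain ⟨th, hth⟩ := exists_piFun_eq (IsIrrCharacter.comp_equiv hθ (baseEquiv M Q).symm)
  have hθf : ∀ f : Q → M, θ ((baseEquiv M Q).symm f) = ∏ x, (th x : M → ℂ) (f x) := congrFun hth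
  have hshift : ∀ (q : Q) (f : Q → M),
      ∏ x, (th x : M → ℂ) (f (q⁻¹ * x)) = ∏ x, (th x : M → ℂ) (f x) := fun q f => by
    rw [← hθf, ← hθf, ← congrFun (hinv (RegularWreathProduct.inl q)) ((baseEquiv M Q).symm f)]
    refine congrArg θ (Subtype.ext (RegularWreathProduct.ext (funext fun x => ?_) ?_))
    · simp [baseEquiv]
    · simp [baseEquiv]
  set ψ := th 1 with hψdef
  have hall : ∀ x, th x = ψ := by
    intro y
    set P1 := ∏ x, (th x : M → ℂ) 1 with hP1
    have hP1ne : P1 ≠ 0 := Finset.prod_ne_zero_iff.2 fun x _ =>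
      IsIrrCharacter.apply_one_ne_zero (th x).2
    have hsingle : ∀ (a : Q) (m : M), (∏ x, (th x : M → ℂ) ((Pi.mulSingle a m : Q → M) x)) * (th a : M → ℂ) 1 =
        P1 * (th a : M → ℂ) m := fun a m => by
      rw [← Finset.prod_erase_mul _ _ (Finset.mem_univ a), hP1,
        ← Finset.prod_erase_mul _ (fun x => (th x : M → ℂ) 1) (Finset.mem_univ a),
        Pi.mulSingle_eq_same, Finset.prod_congr rfl fun x hx => by
          rw [Pi.mulSingle_eq_of_ne (Finset.ne_of_mem_erase hx)]]
      ring
    have hy : ∀ m, (th y : M → ℂ) m * (ψ : M → ℂ) 1 = (ψ : M → ℂ) m * (th y : M → ℂ) 1 := by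
      intro m
      have hs := hshift y (Pi.mulSingle 1 m)
      have e : (fun x => (Pi.mulSingle 1 m : Q → M) (y⁻¹ * x)) = Pi.mulSingle y m := by
        funext x
        by_cases hx : x = y
        · subst hx; simp
        · rw [Pi.mulSingle_eq_of_ne hx, Pi.mulSingle_eq_of_ne]
          simpa [inv_mul_eq_one, eq_comm] using hx
      rw [Finset.prod_congr rfl fun x _ => show (th x : M → ℂ) ((Pi.mulSingle 1 m : Q → M) (y⁻¹ * x)) =
        (th x : M → ℂ) ((Pi.mulSingle y m : Q → M) x) by rw [← congrFun e x]] at hs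
      refine mul_left_cancel₀ hP1ne ?_
      rw [← mul_assoc, ← mul_assoc, ← hsingle y m, hψdef, ← hsingle 1 m, hs]
      ring
    by_contra hne
    have h := IsIrrCharacter.classInner_ne (th y).2 ψ.2 fun h => hne (Subtype.ext h)
    have h2 : classInner ((ψ : M → ℂ) 1 • (th y : M → ℂ)) (ψ : M → ℂ) =
        classInner ((th y : M → ℂ) 1 • (ψ : M → ℂ)) (ψ : M → ℂ) := by
      congr 1
      funext m
      simp only [Pi.smul_apply, smul_eq_mul]
      linear_combination hy m
    rw [classInner_smul_left, classInner_smul_left, h, IsIrrCharacter.classInner_self ψ.2,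
      mul_zero, mul_one] at h2
    exact IsIrrCharacter.apply_one_ne_zero (th y).2 h2.symm
  obtain ⟨H, lam, hlam⟩ := hM _ ψ.2
  set Ξ := indFun (wrSub H Q) (fun w => (wrLin H lam Q w : ℂ)) with hΞ
  have hΞc : IsCharacter (M ≀ᵣ Q) Ξ :=
    IsCharacter.indFun _ (IsIrrCharacter.isCharacter (isIrrCharacter_unitsHom _))
  have hres : (fun b : B => Ξ b) = θ := funext fun b => by
    rw [show (b : M ≀ᵣ Q) = ⟨(baseEquiv M Q) b, 1⟩ from
      RegularWreathProduct.ext rfl (b.2 : b.1.right = 1), hΞ, indFun_wrLin_base, ← hlam]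
    conv_rhs => rw [← (baseEquiv M Q).symm_apply_apply b, hθf]
    exact Finset.prod_congr rfl fun x _ => by rw [hall x]
  haveI := Fintype.ofFinite (IrrCharacter Q)
  have hμsum : ∀ q : Q, ∑ μ : IrrCharacter Q, conj ((μ : Q → ℂ) q) =
      if q = 1 then (Nat.card Q : ℂ) else 0 := fun q => by
    have h := congrArg conj (sum_degree_mul q)
    rw [map_sum, apply_ite conj, map_natCast, map_zero] at h
    rw [← h]
    refine Finset.sum_congr rfl fun μ _ => ?_
    rw [IsIrrCharacter.apply_one_of_comm hQc μ.2, one_mul]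
  obtain ⟨μ, hμ⟩ : ∃ μ : IrrCharacter Q,
      classInner χ (Ξ * fun w : M ≀ᵣ Q => (μ : Q → ℂ) w.right) ≠ 0 := by
    by_contra hno
    simp only [not_exists, not_not] at hno
    refine hcθ ?_
    have hs := Finset.sum_eq_zero (s := (Finset.univ : Finset (IrrCharacter Q))) fun μ _ => hno μ
    simp only [classInner, ← Finset.mul_sum, Pi.mul_apply, map_mul] at hs
    rw [Finset.sum_comm] at hs
    simp only [← mul_assoc, ← Finset.mul_sum, hμsum, mul_ite, mul_zero] at hs
    rw [← Finset.sum_filter, ← Finset.sum_subtype_eq_sum_filter] at hs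
    have hs' : (Nat.card (M ≀ᵣ Q) : ℂ)⁻¹ * ((Nat.card Q : ℂ) *
        ∑ b : B, χ b * conj (θ b)) = 0 := by
      rw [← hs]
      congr 1
      rw [Finset.mul_sum]
      refine Finset.sum_bij (fun b _ => ⟨(b : M ≀ᵣ Q), b.2⟩) (fun b _ => by simp)
        (fun a _ b _ h => Subtype.ext (Subtype.ext_iff.1 h))
        (fun c _ => ⟨⟨c.1, c.2⟩, Finset.mem_univ _, rfl⟩) fun b _ => ?_
      rw [← congrFun hres b]
      ring
    rw [classInner]
    refine mul_eq_zero_of_right _ ?_
    exact ((mul_eq_zero.1 hs').resolve_left (inv_ne_zero natCard_ne_zero_complex) |>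
      mul_eq_zero.1).resolve_left natCard_ne_zero_complex
  have hμc : IsCharacter (M ≀ᵣ Q) (fun w : M ≀ᵣ Q => (μ : Q → ℂ) w.right) :=
    IsCharacter.comp (irr_isCharacter μ) RegularWreathProduct.rightHom
  have hres' : (fun b : B => (Ξ * fun w : M ≀ᵣ Q => (μ : Q → ℂ) w.right) b) = θ := funext fun b => by
    rw [← congrFun hres b, Pi.mul_apply, show (b : M ≀ᵣ Q).right = 1 from b.2,
      IsIrrCharacter.apply_one_of_comm hQc μ.2, mul_one]
  have heq : (Ξ * fun w : M ≀ᵣ Q => (μ : Q → ℂ) w.right) = χ := by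
    refine eq_of_restrict_irr_of_constituent B (IsCharacter.mul hΞc hμc) (hres'.symm ▸ hθ) hχ ?_
    rw [← classInner_conj_symm]
    exact fun h => hμ ((map_eq_zero _).1 h)
  obtain ⟨l, hl⟩ := IsCharacter.exists_hom_of_apply_one (irr_isCharacter μ)
    (IsIrrCharacter.apply_one_of_comm hQc μ.2)
  refine ⟨wrSub H Q, wrLin H lam Q * l.comp (RegularWreathProduct.rightHom.comp (wrSub H Q).subtype),
    ?_⟩
  rw [← heq, hΞ, ← indFun_mul_restrict _ _ (IsCharacter.isClassFunction hμc)]
  congr 1
  funext w
  simp only [Pi.mul_apply, hl, MonoidHom.mul_apply, Units.val_mul, MonoidHom.coe_comp,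
    Function.comp_apply, Subgroup.coe_subtype]
  rfl

/-- The map on wreath products of a map on the bottom group. -/
def wrMap {M' : Type u} [Group M'] (f : M →* M') : M ≀ᵣ Q →* M' ≀ᵣ Q where
  toFun w := ⟨fun x => f (w.left x), w.right⟩
  map_one' := by ext <;> simp
  map_mul' a b := by ext <;> simp

theorem wrMap_injective {M' : Type u} [Group M'] {f : M →* M'} (hf : Function.Injective f) :
    Function.Injective (wrMap (Q := Q) f) := fun a b h => by
  refine RegularWreathProduct.ext (funext fun x => hf ?_) (congrArg RegularWreathProduct.right h :)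
  exact congrFun (congrArg RegularWreathProduct.left h) x

end Wreath

/-- **Kaloujnine–Krasner.** -/
theorem exists_wreath_embedding {G : Type u} [Group G] (N : Subgroup G) [N.Normal] :
    ∃ f : G →* N ≀ᵣ (G ⧸ N), Function.Injective f := by
  let s : G ⧸ N → G := Quotient.out
  have hs : ∀ x : G ⧸ N, (s x : G ⧸ N) = x := fun x => QuotientGroup.out_eq' x
  let φ : G → N ≀ᵣ (G ⧸ N) := fun g =>
    ⟨fun x => ⟨(s x)⁻¹ * g * s ((g : G ⧸ N)⁻¹ * x), by
      rw [← QuotientGroup.eq_one_iff]
      simp [hs]⟩, (g : G ⧸ N)⟩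
  refine ⟨MonoidHom.mk' φ fun a b => ?_, fun a b h => ?_⟩
  · refine RegularWreathProduct.ext (funext fun x => Subtype.ext ?_) ?_
    · simp [φ, mul_assoc]
    · simp [φ]
  · have h2 : (a : G ⧸ N) = (b : G ⧸ N) := congrArg RegularWreathProduct.right h
    have h1 := congrArg Subtype.val (congrFun (congrArg RegularWreathProduct.left h) 1)
    simp only [φ, MonoidHom.mk'_apply, h2] at h1
    simpa using h1

end Cfsg.Agent.Lib.Characters
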